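import Mathlib.RingTheory.Henselian
import Mathlib.RingTheory.AdicCompletion.Basic

/-!
# Local rings with nil maximal ideal are henselian (helper69)
-/

set_option autoImplicit false
universe u
open Polynomial IsLocalRing

namespace Groth.Agent.H69.NilHensel

/-- a ring is adically complete with respect to a nilpotent ideal -/
theorem isAdicComplete_of_pow_eq_bot {R : Type*} [CommRing R] (I : Ideal R) (N : ℕ)
    (hN : I ^ N = ⊥) : IsAdicComplete I R := by
  have hN' : (I ^ N • ⊤ : Submodule R R) = ⊥ := by
    rw [hN]; simp
  refine { toIsHausdorff := ⟨fun x hx => ?_⟩, toIsPrecomplete := ⟨fun f hf => ?_⟩ }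
  · have := hx N
    rw [hN', SModEq.bot] at this
    exact this
  · refine ⟨f N, fun n => ?_⟩
    rcases le_total n N with h | h
    · exact hf h
    · have h1 := hf h
      rw [hN', SModEq.bot] at h1
      rw [h1]

/-- A local ring all of whose non-units are nilpotent is henselian. -/
theorem henselianLocalRing_of_nil (A : Type*) [CommRing A] [IsLocalRing A]
    (h : ∀ x ∈ maximalIdeal A, IsNilpotent x) : HenselianLocalRing A := by
  refine { is_henselian := fun f hf a₀ h₁ h₂ => ?_ }
  obtain ⟨N, hN⟩ := h _ h₁
  let I : Ideal A := Ideal.span {f.eval a₀}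
  have hI : I ^ N = ⊥ := by
    rw [Ideal.span_singleton_pow, hN]
    simp
  have : IsAdicComplete I A := isAdicComplete_of_pow_eq_bot I N hI
  have hle : I ≤ maximalIdeal A := by
    rw [Ideal.span_singleton_le_iff_mem]
    exact h₁
  obtain ⟨a, ha, haa⟩ := HenselianRing.is_henselian (I := I) f hf a₀
    (Ideal.subset_span rfl) (h₂.map _)
  exact ⟨a, ha, hle haa⟩

end Groth.Agent.H69.NilHensel
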