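import Groth.Agent.H69.EtCartan

/-!
# Étale cohomology of a qcqs scheme commutes with filtered colimits (helper69)
-/

set_option autoImplicit false
set_option backward.isDefEq.respectTransparency.types false
universe u
open CategoryTheory CategoryTheory.Limits AlgebraicGeometry Opposite

namespace Groth.Agent.H69.EtColimH

open Groth.Agent.H60.CechDeltaF Groth.Agent.H60.QCEtale Groth.Agent.H69.EtCartan
  Groth.Agent.H69.EtSecExact Groth.Agent.H60.ExtColim

variable {X : Scheme.{u}} {Λ : Type (u + 1)} [SmallCategory Λ] [IsFiltered Λ]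

/-- the class `Ac` is stable under filtered colimits -/
theorem ac_colimit (D : Λ ⥤ EtCoh.Ab X) (hD : ∀ i, Ac (D.obj i)) : Ac (colimit D) := by
  intro U hU ι _ Y hY p
  have hP := Groth.Agent.H60.QCCech.preservesColimitsOfShape_cechH U hU Y hY (p + 1) Λ
  let G := sheafToPresheaf X.smallEtaleTopology AddCommGrpCat.{u + 1} ⋙
    EtCech.cechHFunctor Y (p + 1)
  have hc : IsColimit (G.mapCocone (colimit.cocone D)) :=
    isColimitOfPreserves G (colimit.isColimit D)
  have hz : IsZero (G.obj (colimit D)) := by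
    rw [IsZero.iff_id_eq_zero]
    apply hc.hom_ext
    intro i
    have hi : IsZero (G.obj (D.obj i)) := hD i U hU ι Y hY p
    exact hi.eq_of_src _ _
  exact hz

/-- the constant sheaf `ℤ` -/
noncomputable abbrev ZZ (X : Scheme.{u}) : EtCoh.Ab X :=
  (constantSheaf X.smallEtaleTopology AddCommGrpCat.{u + 1}).obj
    (AddCommGrpCat.of (ULift.{u + 1} ℤ))

/-- global sections -/
noncomputable abbrev Gam (X : Scheme.{u}) : EtCoh.Ab X ⥤ AddCommGrpCat.{u + 1} :=
  sheafToPresheaf X.smallEtaleTopology AddCommGrpCat.{u + 1} ⋙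
    (evaluation X.Etaleᵒᵖ AddCommGrpCat.{u + 1}).obj (op (EtCoh.top X))

theorem surj0_inj0 (hX : QC (EtCoh.top X)) (D : Λ ⥤ EtCoh.Ab X) :
    Surj0 (ZZ X) D ∧ Inj0 (ZZ X) D := by
  have hΓ : PreservesColimitsOfShape Λ (Gam X) :=
    Groth.Agent.H60.QCColim.preservesColimitsOfShape_sections (J := X.smallEtaleTopology)
      (D := AddCommGrpCat.{u + 1}) Λ (qcClass X) (EtCoh.top X) hX
  have hc : IsColimit ((Gam X).mapCocone (colimit.cocone D)) :=
    isColimitOfPreserves (Gam X) (colimit.isColimit D)
  have hc' : IsColimit ((forget AddCommGrpCat.{u + 1}).mapCocone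
      ((Gam X).mapCocone (colimit.cocone D))) :=
    isColimitOfPreserves (forget AddCommGrpCat.{u + 1}) hc
  constructor
  · intro φ
    obtain ⟨i, xi, hxi⟩ := Types.jointly_surjective_of_isColimit hc'
      (homEquivGsec X (colimit D) φ)
    refine ⟨i, (homEquivGsec X (D.obj i)).symm xi, ?_⟩
    apply (homEquivGsec X (colimit D)).injective
    rw [homEquivGsec_comp, AddEquiv.apply_symm_apply]
    exact hxi
  · intro i φi h
    have h1 : ((colimit.ι D i).hom.app (op (EtCoh.top X))).hom (homEquivGsec X (D.obj i) φi) =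
        ((colimit.ι D i).hom.app (op (EtCoh.top X))).hom 0 := by
      rw [← homEquivGsec_comp, h, map_zero, map_zero]
    obtain ⟨k, f, g, hfg⟩ := (Types.FilteredColimit.isColimit_eq_iff _ hc').1 h1
    refine ⟨k, f, ?_⟩
    apply (homEquivGsec X (D.obj k)).injective
    rw [homEquivGsec_comp, map_zero]
    refine Eq.trans hfg ?_
    exact map_zero ((D.map g).hom.app (op (EtCoh.top X))).hom

theorem preservesColimitsOfShape_ext (hX : QC (EtCoh.top X)) (n : ℕ) :
    PreservesColimitsOfShape Λ ((Abelian.extFunctor.{u + 1} n).obj (op (ZZ X))) := by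
  apply preservesColimitsOfShape_extFunctor (ZZ X) n
  exact surj_inj (ZZ X)
    (fun D => ⟨surj_zero_of (surj0_inj0 hX D).1, inj_zero_of (surj0_inj0 hX D).2⟩)
    (fun D hD q x => ext_eq_zero hX q (colimit D)
      (ac_colimit D (fun i => ac_of_injective (D.obj i))) x) n

/-- `HF X n` is the `Ext` functor out of the constant sheaf -/
noncomputable def hfIso (X : Scheme.{u}) (n : ℕ) :
    EtCoh.HF X n ≅ (Abelian.extFunctor.{u + 1} n).obj (op (ZZ X)) :=
  NatIso.ofComponents (fun _ => Iso.refl _) (fun f =>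
    (Category.comp_id ((EtCoh.HF X n).map f)).trans (Category.id_comp ((EtCoh.HF X n).map f)).symm)

theorem preservesColimitsOfShape_HF (X : Scheme.{u}) [CompactSpace X] [QuasiSeparatedSpace X]
    (n : ℕ) : PreservesColimitsOfShape Λ (EtCoh.HF X n) := by
  have hX : QC (EtCoh.top X) :=
    ⟨inferInstanceAs (CompactSpace X), inferInstanceAs (QuasiSeparatedSpace X)⟩
  have := preservesColimitsOfShape_ext (Λ := Λ) hX n
  exact preservesColimitsOfShape_of_natIso (hfIso X n).symm

/-- version for index categories in the universe of `X` -/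
theorem preservesColimitsOfShape_HF' (X : Scheme.{u}) [CompactSpace X] [QuasiSeparatedSpace X]
    (n : ℕ) (J : Type u) [SmallCategory J] [IsFiltered J] :
    PreservesColimitsOfShape J (EtCoh.HF X n) := by
  let e : J ≌ AsSmall.{u + 1} J := AsSmall.equiv
  have : IsFiltered (AsSmall.{u + 1} J) := IsFiltered.of_equivalence e
  have := preservesColimitsOfShape_HF (Λ := AsSmall.{u + 1} J) X n
  exact preservesColimitsOfShape_of_equiv e.symm (EtCoh.HF X n)

end Groth.Agent.H69.EtColimH
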