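import Mathlib.AlgebraicGeometry.AffineScheme
import Mathlib.AlgebraicGeometry.Stalk
import Mathlib.RingTheory.Spectrum.Prime.ConstructibleSet
import Mathlib.Topology.Connected.TotallyDisconnected
import Groth.Agent.H69.NilHensel

/-!
# Affine schemes all of whose points are closed (helper69)

* basic opens are clopen, the space is totally separated (hence profinite);
* the local rings have nil maximal ideal, hence are henselian.
-/

set_option autoImplicit false
universe u
open CategoryTheory AlgebraicGeometry TopologicalSpace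

namespace Groth.Agent.H69.ZeroDimTop

lemma isClosed_basicOpen_primeSpectrum (R : Type*) [CommRing R]
    (h : ∀ x : PrimeSpectrum R, IsClosed ({x} : Set (PrimeSpectrum R))) (f : R) :
    IsClosed (PrimeSpectrum.basicOpen f : Set (PrimeSpectrum R)) := by
  apply PrimeSpectrum.isClosed_of_stableUnderSpecialization_of_isConstructible
  · intro x y hxy hx
    have h1 : y ∈ closure ({x} : Set (PrimeSpectrum R)) := hxy.mem_closure
    rw [(h x).closure_eq] at h1
    obtain rfl : y = x := h1
    exact hx
  · exact PrimeSpectrum.isConstructible_basicOpen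

variable (S : Scheme.{u}) [IsAffine S] (h1 : ∀ s : S, IsClosed ({s} : Set S))

include h1 in
lemma isClosed_basicOpen (f : Γ(S, ⊤)) : IsClosed (S.basicOpen f : Set S) := by
  have hcl : ∀ x : PrimeSpectrum Γ(S, ⊤), IsClosed ({x} : Set (PrimeSpectrum Γ(S, ⊤))) := by
    intro x
    let e : S ≃ₜ PrimeSpectrum Γ(S, ⊤) := Scheme.homeoOfIso S.isoSpec
    have : ({x} : Set (PrimeSpectrum Γ(S, ⊤))) = e '' {e.symm x} := by simp
    rw [this]
    exact e.isClosedMap _ (h1 _)
  have h2 := isClosed_basicOpen_primeSpectrum _ hcl f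
  have h3 : (S.basicOpen f : Set S) =
      S.toSpecΓ ⁻¹' (SetLike.coe (PrimeSpectrum.basicOpen f)) := by
    rw [← Scheme.toSpecΓ_preimage_basicOpen]
    rfl
  rw [h3]
  exact IsClosed.preimage S.toSpecΓ.continuous h2

include h1 in
lemma totallySeparatedSpace : TotallySeparatedSpace S := by
  rw [totallySeparatedSpace_iff_exists_isClopen]
  intro x y hxy
  have hopen : IsOpen ({y}ᶜ : Set S) := (h1 y).isOpen_compl
  have hb : ∀ {U : Opens S} {x : S}, x ∈ U → ∃ U' ∈ Set.range S.basicOpen, x ∈ U' ∧ U' ≤ U :=
    Opens.isBasis_iff_nbhd.1 (isBasis_basicOpen S)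
  obtain ⟨_, ⟨f, rfl⟩, hxf, hfy⟩ := @hb ⟨_, hopen⟩ x hxy
  refine ⟨S.basicOpen f, ⟨isClosed_basicOpen S h1 f, (S.basicOpen f).2⟩, hxf, ?_⟩
  intro hy
  exact hfy hy rfl

omit [IsAffine S] in
include h1 in
/-- the local rings of `S` have nil maximal ideal -/
lemma isNilpotent_of_mem_maximalIdeal (s : S) (x : S.presheaf.stalk s)
    (hx : x ∈ IsLocalRing.maximalIdeal (S.presheaf.stalk s)) : IsNilpotent x := by
  rw [← mem_nilradical, nilradical_eq_sInf, Ideal.mem_sInf]
  intro p hp
  have hp' : p.IsPrime := hp
  -- the point of `Spec O_{S,s}` corresponding to `p` maps to a generization of `s`, hence to `s`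
  let P : Spec (S.presheaf.stalk s) := ⟨p, hp'⟩
  have hP : (S.fromSpecStalk s) P ⤳ s := by
    have : (S.fromSpecStalk s) P ∈ Set.range (S.fromSpecStalk s) := ⟨P, rfl⟩
    rw [Scheme.range_fromSpecStalk] at this
    exact this
  have hPs : (S.fromSpecStalk s) P = s := by
    have h2 : s ∈ closure ({(S.fromSpecStalk s) P} : Set S) := hP.mem_closure
    rw [(h1 _).closure_eq] at h2
    exact h2.symm
  have hcl : (S.fromSpecStalk s) (IsLocalRing.closedPoint _) = s :=
    Scheme.fromSpecStalk_closedPoint
  have hinj : Function.Injective (S.fromSpecStalk s) :=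
    (S.fromSpecStalk s).isEmbedding.injective
  have hPc : P = IsLocalRing.closedPoint _ := hinj (hPs.trans hcl.symm)
  have : p = IsLocalRing.maximalIdeal _ := congrArg PrimeSpectrum.asIdeal hPc
  rw [this]
  exact hx

omit [IsAffine S] in
include h1 in
lemma henselianLocalRing_stalk (s : S) : HenselianLocalRing (S.presheaf.stalk s) :=
  NilHensel.henselianLocalRing_of_nil _ (isNilpotent_of_mem_maximalIdeal S h1 s)

end Groth.Agent.H69.ZeroDimTop
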