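import Groth.Agent.H69.EtSecGlue
import Groth.Agent.H69.ZeroDimTop
import Groth.Agent.H7.StrictHenselSection
import Groth.Agent.H46.SpreadFP
import Mathlib.Topology.Separation.DisjointCover

/-!
# Exactness of global sections on profinite schemes with strictly henselian local rings (helper69)
-/

set_option autoImplicit false
universe u
open CategoryTheory CategoryTheory.Limits AlgebraicGeometry Opposite TopologicalSpace

namespace Groth.Agent.H69.EtSecExact

/-- the morphism of the small étale site induced by an inclusion of opens -/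
noncomputable abbrev opensHomOfLE {X : Scheme.{u}} {V' V : X.Opens} (h : V' ≤ V) :
    opensObj V' ⟶ opensObj V :=
  MorphismProperty.Over.homMk (X.homOfLE h) (X.homOfLE_ι h)

lemma sieve_opensHom_of_le {X : Scheme.{u}} (R : Sieve (EtCoh.top X)) {V' V : X.Opens}
    (h : V' ≤ V) (hV : R (opensHom V)) : R (opensHom V') := by
  have := R.downward_closed hV (opensHomOfLE h)
  have e : opensHomOfLE h ≫ opensHom V = opensHom V' := (EtCore.topIsTerminal X).hom_ext _ _
  rwa [e] at this

/-- On a profinite scheme, if every covering sieve of the terminal object contains a Zariski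
neighbourhood of every point, then global sections send epimorphisms to surjections. -/
theorem gsec_surjective_of_profinite (X : Scheme.{u}) [CompactSpace X] [T2Space X]
    [TotallyDisconnectedSpace X]
    (hloc : ∀ R : Sieve (EtCoh.top X), R ∈ X.smallEtaleTopology (EtCoh.top X) →
      ∀ x : X, ∃ V : X.Opens, x ∈ V ∧ R (opensHom V))
    {G H : EtCoh.Ab X} (q : G ⟶ H) [Epi q] :
    Function.Surjective ((q.hom.app (op (EtCoh.top X))).hom) := by
  refine gsec_surjective_of_disjoint_cover X ?_ q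
  intro R hR
  let ι := {V : X.Opens // R (opensHom V)}
  let U : ι → X.Opens := fun V => V.1
  have hU : IsOpenCover U := by
    rw [IsOpenCover, eq_top_iff]
    intro x _
    obtain ⟨V, hxV, hV⟩ := hloc R hR x
    rw [Opens.mem_iSup]
    exact ⟨⟨V, hV⟩, hxV⟩
  obtain ⟨n, W, hW₁, hW₂, hW₃⟩ := hU.exists_finite_nonempty_disjoint_clopen_cover
  refine ⟨n, fun j => (W j).toOpens, ?_, ?_, ?_⟩
  · intro i j hij
    have hd := hW₃ hij
    rw [Function.onFun, disjoint_iff] at hd ⊢
    ext x
    simp only [Opens.coe_inf, Opens.coe_bot, Set.mem_inter_iff, Set.mem_empty_iff_false,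
      iff_false, not_and]
    intro hxi hxj
    have : x ∈ ((W i ⊓ W j : Clopens X) : Set X) := ⟨hxi, hxj⟩
    rw [hd] at this
    exact this
  · rw [eq_top_iff]
    intro x _
    obtain ⟨j, hj⟩ := Set.mem_iUnion.1 (hW₂ (Set.mem_univ x))
    rw [Opens.mem_iSup]
    exact ⟨j, hj⟩
  · intro j
    obtain ⟨⟨V, hV⟩, hjV⟩ := (hW₁ j).2
    exact sieve_opensHom_of_le R (V := V) hjV hV

set_option backward.isDefEq.respectTransparency.types false in
/-- Local sections: if the local ring of `X` at `x` is strictly henselian then every covering sieve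
of the terminal object contains a Zariski neighbourhood of `x`. -/
theorem exists_opens_of_strictlyHenselian_stalk (X : Scheme.{u}) (x : X)
    [HenselianLocalRing (X.presheaf.stalk x)]
    [IsSepClosed (IsLocalRing.ResidueField (X.presheaf.stalk x))]
    (R : Sieve (EtCoh.top X)) (hR : R ∈ X.smallEtaleTopology (EtCoh.top X)) :
    ∃ V : X.Opens, x ∈ V ∧ R (opensHom V) := by
  obtain ⟨𝒰, h, hP, le⟩ := (Scheme.mem_smallGrothendieckTopology _ _).1 hR
  obtain ⟨i, y, hy⟩ := 𝒰.exists_eq x
  have het : Etale (𝒰.f i) := 𝒰.map_prop i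
  have hsec := (Groth.Agent.H7.henselian_and_isSepClosed_iff_etale_sections
    (X.presheaf.stalk x)).1 ⟨inferInstance, inferInstance⟩
  obtain ⟨x', hx'1, hx'2⟩ := Scheme.Pullback.exists_preimage_pullback (f := 𝒰.f i)
    (g := X.fromSpecStalk x) y (IsLocalRing.closedPoint (X.presheaf.stalk x))
    (hy.trans Scheme.fromSpecStalk_closedPoint.symm)
  obtain ⟨σ, hσ, -⟩ := hsec (pullback (𝒰.f i) (X.fromSpecStalk x)) (pullback.snd _ _)
    inferInstance x' hx'2
  have hφ : (σ ≫ pullback.fst (𝒰.f i) (X.fromSpecStalk x)) ≫ 𝒰.f i = X.fromSpecStalk x ≫ 𝟙 X := by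
    rw [Category.assoc, pullback.condition, ← Category.assoc, hσ]
    simp
  obtain ⟨V, hxV, g, -, hg⟩ := Groth.Agent.H46.spread_out_of_locallyOfFinitePresentation'
    (𝟙 X) (𝒰.f i) (σ ≫ pullback.fst (𝒰.f i) (X.fromSpecStalk x)) hφ
  refine ⟨V, hxV, ?_⟩
  have hover : 𝒰.f i ≫ (EtCoh.top X).hom = 𝒰.X i ↘ X :=
    HomIsOver.comp_over (f := 𝒰.f i) (S := X)
  have hRi : R (MorphismProperty.Over.homMk (𝒰.f i) hover :
      (𝒰.X i).asOverProp X (hP i) ⟶ EtCoh.top X) := le _ _ ⟨i⟩
  have key : ∀ {A B : Scheme.{u}} (a : A ⟶ B) (b c : B ⟶ X) (d : A ⟶ X) (e : X ⟶ X),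
      a ≫ b = d ≫ e → b ≫ e = c → e = 𝟙 X → a ≫ c = d := by
    intro A B a b c d e h1 h2 h3
    subst h2 h3
    simpa using h1
  have hgo : g ≫ ((𝒰.X i).asOverProp X (hP i)).hom = (opensObj V).hom :=
    key g (𝒰.f i) _ V.ι (𝟙 X) hg hover rfl
  have := R.downward_closed hRi (MorphismProperty.Over.homMk g hgo :
    opensObj V ⟶ (𝒰.X i).asOverProp X (hP i))
  have e : (MorphismProperty.Over.homMk g hgo : opensObj V ⟶ (𝒰.X i).asOverProp X (hP i)) ≫
      (MorphismProperty.Over.homMk (𝒰.f i) hover) = opensHom V :=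
    (EtCore.topIsTerminal X).hom_ext _ _
  exact e ▸ this

end Groth.Agent.H69.EtSecExact
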