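import Groth.Agent.H69.FiniteHensel
import Groth.Agent.H69.EtSecZeroDim
import Mathlib.AlgebraicGeometry.Morphisms.Finite

/-!
# Étale cohomology of schemes finite over a strictly henselian local ring (helper69)

If `X` is finite over `Spec R`, `R` strictly henselian local, then `X` is a finite disjoint union of
spectra of strictly henselian local rings, every étale covering of `X` is refined by this Zariski
covering, and so `H^j(X_et, F) = 0` for `j ≥ 1`.
-/

set_option autoImplicit false
set_option backward.isDefEq.respectTransparency.types false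
universe u
open CategoryTheory CategoryTheory.Limits AlgebraicGeometry Opposite

namespace Groth.Agent.H69.EtFiniteHensel

section Affine

variable (X : Scheme.{u}) [IsAffine X]

/-- the prime ideal of global functions vanishing at a point of an affine scheme -/
noncomputable def pr (x : X) : Ideal Γ(X, ⊤) :=
  ((isAffineOpen_top X).primeIdealOf ⟨x, trivial⟩).asIdeal

instance (x : X) : (pr X x).IsPrime := by
  unfold pr; infer_instance

lemma mem_pr_iff (x : X) (g : Γ(X, ⊤)) : g ∈ pr X x ↔ x ∉ X.basicOpen g := by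
  rw [pr, IsAffineOpen.primeIdealOf_eq_map_closedPoint, Scheme.mem_basicOpen_top]
  change (X.presheaf.germ ⊤ x trivial).hom g ∈ IsLocalRing.maximalIdeal _ ↔ _
  rw [IsLocalRing.mem_maximalIdeal, mem_nonunits_iff]

lemma pr_injective {x y : X} (h : pr X x = pr X y) : x = y := by
  have h1 : (isAffineOpen_top X).primeIdealOf ⟨x, trivial⟩ =
      (isAffineOpen_top X).primeIdealOf ⟨y, trivial⟩ := PrimeSpectrum.ext h
  have hinj : Function.Injective (isAffineOpen_top X).isoSpec.hom.base :=
    (ConcreteCategory.bijective_of_isIso (isAffineOpen_top X).isoSpec.hom.base).1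
  have h2 := hinj h1
  exact congrArg Subtype.val h2

lemma pr_isMaximal (x : X) (hx : IsClosed ({x} : Set X)) : (pr X x).IsMaximal :=
  (isAffineOpen_top X).primeIdealOf_isMaximal_of_isClosed ⟨x, trivial⟩ hx

instance stalk_isLocalization (x : X) :
    @IsLocalization.AtPrime Γ(X, ⊤) _ (X.presheaf.stalk x) _
      (TopCat.Presheaf.algebra_section_stalk X.presheaf (⟨x, trivial⟩ : (⊤ : X.Opens)))
      (pr X x) _ :=
  (isAffineOpen_top X).isLocalization_stalk ⟨x, trivial⟩

end Affine

section Finite

open Groth.Agent.H69.EtSecExact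

variable (R : Type u) [CommRing R] [HenselianLocalRing R]
  [IsSepClosed (IsLocalRing.ResidueField R)]
  (X : Scheme.{u}) [IsAffine X] [Algebra R Γ(X, ⊤)] [Module.Finite R Γ(X, ⊤)]

include R in
/-- stalks at closed points are strictly henselian -/
theorem stalk_henselian (x : X) (hx : IsClosed ({x} : Set X)) :
    HenselianLocalRing (X.presheaf.stalk x) ∧
      IsSepClosed (IsLocalRing.ResidueField (X.presheaf.stalk x)) := by
  have := pr_isMaximal X x hx
  let _ : Algebra Γ(X, ⊤) (X.presheaf.stalk x) :=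
    TopCat.Presheaf.algebra_section_stalk X.presheaf (⟨x, trivial⟩ : (⊤ : X.Opens))
  have hsurj := FiniteHensel.surjective_algebraMap_atPrime R Γ(X, ⊤) (pr X x)
    (X.presheaf.stalk x)
  let _ : Algebra R (X.presheaf.stalk x) :=
    ((algebraMap Γ(X, ⊤) (X.presheaf.stalk x)).comp (algebraMap R Γ(X, ⊤))).toAlgebra
  have : IsScalarTower R Γ(X, ⊤) (X.presheaf.stalk x) :=
    IsScalarTower.of_algebraMap_eq fun _ => rfl
  have : Module.Finite R (X.presheaf.stalk x) :=
    Module.Finite.of_surjective
      (IsScalarTower.toAlgHom R Γ(X, ⊤) (X.presheaf.stalk x)).toLinearMap hsurj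
  exact FiniteHensel.henselian_isSepClosed_of_finite R (X.presheaf.stalk x)

lemma mem_prime_iff_of_idempotent {B : Type*} [CommRing B] (P : Ideal B) [P.IsPrime] {e : B}
    (he : IsIdempotentElem e) : e ∈ P ↔ 1 - e ∉ P := by
  constructor
  · intro h h'
    apply Ideal.IsPrime.ne_top (I := P) inferInstance
    rw [Ideal.eq_top_iff_one]
    have := P.add_mem h h'
    rwa [add_sub_cancel] at this
  · intro h
    have h0 : e * (1 - e) ∈ P := by
      have : e * (1 - e) = 0 := by rw [mul_sub, mul_one, he.eq, sub_self]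
      rw [this]; exact P.zero_mem
    exact (Ideal.IsPrime.mem_or_mem inferInstance h0).resolve_right h

include R in
omit [IsSepClosed (IsLocalRing.ResidueField R)] in
/-- the clopen neighbourhood of a closed point which is the spectrum of its local ring -/
theorem exists_clopen (x : X) (hx : IsClosed ({x} : Set X)) :
    ∃ D : X.Opens, x ∈ D ∧ IsClosed (D : Set X) ∧ (∀ V : X.Opens, x ∈ V → D ≤ V) ∧
      (∀ z ∈ D, IsClosed ({z} : Set X) → z = x) := by
  have := pr_isMaximal X x hx
  obtain ⟨e, he, heq, hle⟩ := FiniteHensel.exists_idempotent R Γ(X, ⊤) (pr X x)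
  refine ⟨X.basicOpen e, ?_, ?_, ?_, ?_⟩
  · by_contra h
    exact heq ((mem_pr_iff X x e).2 h)
  · have hc : ((X.basicOpen e : X.Opens) : Set X)ᶜ = (X.basicOpen (1 - e) : X.Opens) := by
      ext y
      simp only [Set.mem_compl_iff, SetLike.mem_coe]
      rw [← mem_pr_iff, mem_prime_iff_of_idempotent (pr X y) he, mem_pr_iff, not_not]
    rw [← isOpen_compl_iff, hc]
    exact (X.basicOpen (1 - e)).isOpen
  · intro V hxV y hy
    obtain ⟨g, hgV, hxg⟩ := (isAffineOpen_top X).exists_basicOpen_le ⟨x, hxV⟩ trivial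
    apply hgV
    have h1 : e ∉ pr X y := fun h => ((mem_pr_iff X y e).1 h) hy
    have h2 := hle (pr X y) inferInstance h1
    by_contra hyg
    exact ((mem_pr_iff X x g).1 (h2 ((mem_pr_iff X y g).2 hyg))) hxg
  · intro z hz hzc
    have h1 : e ∉ pr X z := fun h => ((mem_pr_iff X z e).1 h) hz
    have h2 := hle (pr X z) inferInstance h1
    have := pr_isMaximal X z hzc
    exact pr_injective X
      (Ideal.IsMaximal.eq_of_le inferInstance (Ideal.IsPrime.ne_top inferInstance) h2)

include R in
/-- every étale covering of `X` is refined by a finite disjoint Zariski covering -/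
theorem exists_disjoint_cover (S : Sieve (EtCoh.top X))
    (hS : S ∈ X.smallEtaleTopology (EtCoh.top X)) :
    ∃ (n : ℕ) (V : Fin n → X.Opens), Pairwise (Function.onFun Disjoint V) ∧ (⨆ j, V j = ⊤) ∧
      ∀ j, S (opensHom (V j)) := by
  classical
  choose D hD1 hD2 hD3 hD4 using
    fun x : {x : X // IsClosed ({x} : Set X)} => exists_clopen R X x.1 x.2
  -- every point lies in some `D x`
  have hcov : ∀ y : X, ∃ x, y ∈ D x := by
    intro y
    obtain ⟨z, hz, hzc⟩ := IsClosed.exists_closed_singleton (isClosed_closure (s := ({y} : Set X)))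
      ⟨y, subset_closure rfl⟩
    have hsp : y ⤳ z := specializes_iff_mem_closure.2 hz
    exact ⟨⟨z, hzc⟩, hsp.mem_open (D ⟨z, hzc⟩).isOpen (hD1 ⟨z, hzc⟩)⟩
  obtain ⟨t, ht⟩ := isCompact_univ.elim_finite_subcover (fun x => (D x : Set X))
    (fun x => (D x).isOpen) (by
      intro y _
      obtain ⟨x, hx⟩ := hcov y
      exact Set.mem_iUnion.2 ⟨x, hx⟩)
  have hcov' : ∀ y : X, ∃ x ∈ t, y ∈ D x := by
    intro y
    have := ht (Set.mem_univ y)
    simp only [Set.mem_iUnion] at this
    obtain ⟨x, hxt, hx⟩ := this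
    exact ⟨x, hxt, hx⟩
  have hdisj : ∀ x x', x ≠ x' → Disjoint (D x) (D x') := by
    intro x x' hne
    rw [disjoint_iff_inf_le]
    intro y hy
    exfalso
    obtain ⟨z, hz, hzc⟩ := IsClosed.exists_closed_singleton (isClosed_closure (s := ({y} : Set X)))
      ⟨y, subset_closure rfl⟩
    have h1 : z ∈ D x := (hD2 x).closure_subset_iff.2 (Set.singleton_subset_iff.2 hy.1) hz
    have h2 : z ∈ D x' := (hD2 x').closure_subset_iff.2 (Set.singleton_subset_iff.2 hy.2) hz
    apply hne
    apply Subtype.ext
    rw [← hD4 x z h1 hzc, ← hD4 x' z h2 hzc]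
  refine ⟨t.card, fun j => D (t.equivFin.symm j).1, ?_, ?_, ?_⟩
  · intro j j' hjj'
    apply hdisj
    intro h
    apply hjj'
    exact t.equivFin.symm.injective (Subtype.ext h)
  · rw [eq_top_iff]
    intro y _
    obtain ⟨x, hxt, hx⟩ := hcov' y
    rw [TopologicalSpace.Opens.mem_iSup]
    refine ⟨t.equivFin ⟨x, hxt⟩, ?_⟩
    change y ∈ D (t.equivFin.symm (t.equivFin ⟨x, hxt⟩)).1
    rw [Equiv.symm_apply_apply]
    exact hx
  · intro j
    obtain ⟨x, hx⟩ : ∃ x, x = (t.equivFin.symm j).1 := ⟨_, rfl⟩
    change S.arrows (opensHom (D (t.equivFin.symm j).1))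
    rw [← hx]
    obtain ⟨h1, h2⟩ := stalk_henselian R X x.1 x.2
    obtain ⟨V0, hxV0, hSV0⟩ := exists_opens_of_strictlyHenselian_stalk X x.1 S hS
    exact sieve_opensHom_of_le S (hD3 x V0 hxV0) hSV0

end Finite

/-- `H^j(X_et, F) = 0` for `X` finite over a strictly henselian local ring. -/
theorem H_subsingleton (R : Type u) [CommRing R] [HenselianLocalRing R]
    [IsSepClosed (IsLocalRing.ResidueField R)] (X : Scheme.{u})
    (f : X ⟶ Spec (CommRingCat.of R)) [IsFinite f]
    (F : EtCoh.Ab X) (j : ℕ) (hj : 1 ≤ j) : Subsingleton (EtCoh.H X F j) := by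
  have : IsAffine X := isAffine_of_isAffineHom f
  let φ : R →+* Γ(X, ⊤) := ((Scheme.ΓSpecIso (CommRingCat.of R)).inv ≫ f.appTop).hom
  have hφ : φ.Finite := by
    have h1 : f.appTop.hom.Finite := f.finite_appTop
    have h2 : (Scheme.ΓSpecIso (CommRingCat.of R)).inv.hom.Finite :=
      RingHom.Finite.of_surjective _
        (ConcreteCategory.bijective_of_isIso (Scheme.ΓSpecIso (CommRingCat.of R)).inv).2
    exact h1.comp h2
  let _ : Algebra R Γ(X, ⊤) := φ.toAlgebra
  have : Module.Finite R Γ(X, ⊤) := hφ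
  refine Groth.Agent.H69.EtSecExact.H_subsingleton_of_gsec_surjective X ?_ F j hj
  intro G H q hq
  exact Groth.Agent.H69.EtSecExact.gsec_surjective_of_disjoint_cover X
    (fun S hS => exists_disjoint_cover R X S hS) q

end Groth.Agent.H69.EtFiniteHensel
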