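import Mathlib.RingTheory.Discriminant
import Mathlib.RingTheory.OrderOfVanishing.Basic
import Mathlib.LinearAlgebra.FreeModule.Finite.Quotient
import Mathlib.RingTheory.Length

set_option autoImplicit false
set_option linter.unusedSectionVars false

namespace Groth.Agent.H69

open Module

section

variable {R : Type*} [CommRing R] [IsDomain R]

theorem ord_prod {ι : Type*} (s : Finset ι) (f : ι → R) (hf : ∀ i ∈ s, f i ≠ 0) :
    Ring.ord R (∏ i ∈ s, f i) = ∑ i ∈ s, Ring.ord R (f i) := by
  classical
  induction s using Finset.induction_on with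
  | empty => simp
  | insert i s hi ih =>
    rw [Finset.prod_insert hi, Finset.sum_insert hi, Ring.ord_mul' R
      (mem_nonZeroDivisors_of_ne_zero (hf i (Finset.mem_insert_self _ _))),
      ih (fun j hj => hf j (Finset.mem_insert_of_mem hj))]

variable [IsPrincipalIdealRing R] {St : Type*} [CommRing St] [Algebra R St]

/-- For a submodule `N` of full rank in a finite free module over a PID, the length of the quotient
is the order of the product of the Smith coefficients. -/
theorem length_quotient_eq_ord {ι : Type*} [Fintype ι] {M : Type*} [AddCommGroup M] [Module R M]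
    (N : Submodule R M) (bt : Basis ι R M) (h : finrank R N = finrank R M) :
    Module.length R (M ⧸ N) = Ring.ord R (∏ i, Submodule.smithNormalFormCoeffs bt h i) := by
  rw [(Submodule.quotientEquivPiSpan N bt h).length_eq, Module.length_pi_of_fintype,
    ord_prod _ _ (fun i _ => Submodule.smithNormalFormCoeffs_ne_zero bt h i)]
  rfl

section Disc

variable {ι : Type*} [Fintype ι] [DecidableEq ι]

/-- Change of basis multiplies the discriminant by the square of a unit. -/
theorem discr_basis_change {B : Type*} [CommRing B] [Algebra R B] (b b' : Basis ι R B) :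
    ∃ u : R, IsUnit u ∧ Algebra.discr R b' = u ^ 2 * Algebra.discr R b := by
  refine ⟨(b.toMatrix b').det, ?_, ?_⟩
  · have := b.isUnit_det b'
    rwa [Basis.det_apply] at this
  · have := Algebra.discr_of_matrix_vecMul (A := R) (⇑b) (b.toMatrix b')
    rwa [Basis.toMatrix_map_vecMul] at this

/-- Diagonal rescaling multiplies the discriminant by the square of the product. -/
theorem discr_smul_basis {B : Type*} [CommRing B] [Algebra R B] (b : ι → B) (a : ι → R) :
    Algebra.discr R (fun i => a i • b i) = (∏ i, a i) ^ 2 * Algebra.discr R b := by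
  have := Algebra.discr_of_matrix_vecMul (A := R) b (Matrix.diagonal a)
  rw [Matrix.det_diagonal] at this
  rw [← this]
  congr 1
  funext j
  simp only [Matrix.vecMul, dotProduct, Matrix.map_apply, Matrix.diagonal_apply]
  rw [Finset.sum_eq_single j]
  · simp [Algebra.smul_def, mul_comm]
  · intro i _ hij
    simp [hij]
  · intro hj
    exact absurd (Finset.mem_univ j) hj

variable (S : Subalgebra R St) (b' : Basis ι R St) (ab : Basis ι R S) (a : ι → R)
  (ha0 : ∀ i, a i ≠ 0) (hab : ∀ i, (ab i : St) = a i • b' i)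

include hab in
theorem repr_coe (y : S) (i : ι) : b'.repr (y : St) i = ab.repr y i * a i := by
  have hy : (y : St) = ∑ j, (ab.repr y j * a j) • b' j := by
    conv_lhs => rw [← ab.sum_repr y]
    rw [AddSubmonoidClass.coe_finsetSum]
    refine Finset.sum_congr rfl (fun j _ => ?_)
    rw [Subalgebra.coe_smul, hab j, smul_smul]
  rw [hy, b'.repr_sum_self]

include ha0 hab in
theorem trace_coe (x : S) : Algebra.trace R S x = Algebra.trace R St (x : St) := by
  rw [Algebra.trace_eq_matrix_trace ab, Algebra.trace_eq_matrix_trace b']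
  simp only [Matrix.trace, Matrix.diag_apply, Algebra.leftMulMatrix_eq_repr_mul]
  refine Finset.sum_congr rfl (fun j _ => ?_)
  have h1 := repr_coe S b' ab a hab (x * ab j) j
  have h2 : ((x * ab j : S) : St) = a j • ((x : St) * b' j) := by
    rw [Subalgebra.coe_mul, hab j, mul_smul_comm]
  rw [h2, map_smul, Finsupp.smul_apply, smul_eq_mul, mul_comm] at h1
  exact (mul_right_cancel₀ (ha0 j) h1).symm

include ha0 hab in
theorem discr_coe : Algebra.discr R ab = (∏ i, a i) ^ 2 * Algebra.discr R b' := by
  rw [← discr_smul_basis]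
  rw [Algebra.discr_def, Algebra.discr_def]
  congr 1
  ext i j
  simp only [Algebra.traceMatrix_apply, Algebra.traceForm_apply]
  rw [trace_coe S b' ab a ha0 hab, Subalgebra.coe_mul, hab i, hab j]

end Disc

theorem discr_length (ϖ : R) (hϖ : Irreducible ϖ) (d a b : ℕ)
    (bt : Basis (Fin d) R St) (ha : Ideal.span {Algebra.discr R ⇑bt} = Ideal.span {ϖ ^ a})
    (S : Subalgebra R St) (bS : Basis (Fin d) R S)
    (hb : Ideal.span {Algebra.discr R ⇑bS} = Ideal.span {ϖ ^ b}) :
    (∀ q : St ⧸ Subalgebra.toSubmodule S, (ϖ ^ b) • q = 0) ∧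
    2 * Module.length R (St ⧸ Subalgebra.toSubmodule S) + (a : ℕ∞) = (b : ℕ∞) := by
  classical
  let bN : Basis (Fin d) R (Subalgebra.toSubmodule S) := bS.map S.toSubmoduleEquiv.symm
  have h : finrank R (Subalgebra.toSubmodule S) = finrank R St := by
    rw [finrank_eq_card_basis bN, finrank_eq_card_basis bt]
  obtain ⟨c, hc⟩ : ∃ c, c = Submodule.smithNormalFormCoeffs bt h := ⟨_, rfl⟩
  obtain ⟨b', hb'⟩ : ∃ b', b' = Submodule.smithNormalFormTopBasis bt h := ⟨_, rfl⟩
  let ab : Basis (Fin d) R S := (Submodule.smithNormalFormBotBasis bt h).map S.toSubmoduleEquiv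
  have hab : ∀ i, (ab i : St) = c i • b' i := by
    intro i
    rw [hc, hb']
    exact Submodule.smithNormalFormBotBasis_def bt h i
  have hc0 : ∀ i, c i ≠ 0 := by
    intro i; rw [hc]; exact Submodule.smithNormalFormCoeffs_ne_zero bt h i
  have hlen : Module.length R (St ⧸ Subalgebra.toSubmodule S) = Ring.ord R (∏ i, c i) := by
    rw [hc]; exact length_quotient_eq_ord _ bt h
  obtain ⟨u₁, hu₁, h1⟩ := discr_basis_change bt b'
  obtain ⟨u₂, hu₂, h2⟩ := discr_basis_change ab bS
  have h3 := discr_coe S b' ab c hc0 hab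
  have hAa : Associated (Algebra.discr R ⇑bt) (ϖ ^ a) :=
    Ideal.span_singleton_eq_span_singleton.1 ha
  have hAb : Associated (Algebra.discr R ⇑bS) (ϖ ^ b) :=
    Ideal.span_singleton_eq_span_singleton.1 hb
  have hassoc : Associated (ϖ ^ b) ((∏ i, c i) ^ 2 * ϖ ^ a) := by
    refine hAb.symm.trans ?_
    rw [h2, h3, h1]
    have : u₂ ^ 2 * ((∏ i, c i) ^ 2 * (u₁ ^ 2 * Algebra.discr R ⇑bt)) =
        (u₂ ^ 2 * u₁ ^ 2) * ((∏ i, c i) ^ 2 * Algebra.discr R ⇑bt) := by ring
    rw [this]
    refine (associated_isUnit_mul_left_iff ((hu₂.pow 2).mul (hu₁.pow 2))).2 ?_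
    exact Associated.mul_left _ hAa
  have hϖ0 : ϖ ≠ 0 := hϖ.ne_zero
  have hϖnz : ϖ ∈ nonZeroDivisors R := mem_nonZeroDivisors_of_ne_zero hϖ0
  have hprod0 : (∏ i, c i) ≠ 0 := Finset.prod_ne_zero_iff.2 (fun i _ => hc0 i)
  have hord := Ring.ord_eq_of_associated hassoc
  rw [Ring.ord_mul R (pow_mem hϖnz a), Ring.ord_pow hϖnz, Ring.ord_pow hϖnz,
    Ring.ord_pow (mem_nonZeroDivisors_of_ne_zero hprod0), Ring.ord_of_irreducible hϖ] at hord
  constructor
  · intro q
    obtain ⟨x, rfl⟩ := Submodule.mkQ_surjective _ q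
    rw [← map_smul, Submodule.mkQ_apply, Submodule.Quotient.mk_eq_zero]
    obtain ⟨e, he⟩ : (∏ i, c i) ∣ ϖ ^ b := by
      obtain ⟨u, hu⟩ := hassoc.symm
      exact ⟨(∏ i, c i) * ϖ ^ a * u, by rw [← hu]; ring⟩
    have hx : (∏ i, c i) • x ∈ Subalgebra.toSubmodule S := by
      have hsum : (∏ i, c i) • x = ∑ i, b'.repr x i • ((∏ i, c i) • b' i) := by
        conv_lhs => rw [← b'.sum_repr x]
        rw [Finset.smul_sum]
        exact Finset.sum_congr rfl (fun i _ => smul_comm _ _ _)
      rw [hsum]
      refine Submodule.sum_mem _ (fun i _ => ?_)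
      refine Submodule.smul_mem _ _ ?_
      rw [← Finset.mul_prod_erase Finset.univ c (Finset.mem_univ i), mul_comm, mul_smul, ← hab i]
      exact Submodule.smul_mem _ _ (ab i).2
    rw [he, mul_comm, mul_smul]
    exact Submodule.smul_mem _ _ hx
  · rw [hlen]
    simp only [nsmul_eq_mul, mul_one, Nat.cast_ofNat] at hord
    exact hord.symm

end

end Groth.Agent.H69
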