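import Mathlib.Algebra.Homology.DerivedCategory.Ext.ExactSequences
import Mathlib.Algebra.Homology.DerivedCategory.Ext.EnoughInjectives
import Mathlib.CategoryTheory.Abelian.Injective.Basic

/-!
# An abstract vanishing criterion for `Ext` via "covering" endofunctors (helper69)

Let `Z` be an object of an abelian category `𝒜` with enough injectives, `G f` a family of exact
endofunctors with natural monomorphisms `η f : 𝟭 ⟶ G f`, and `𝒦` a class of objects stable under the
`G f` and under cokernels of monomorphisms between members. If morphisms `Z ⟶ K`, `K ∈ 𝒦`, die in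
some `G f K` and morphisms `Z ⟶ C` lift along epimorphisms `I ⟶ C` after passing to some `G f`, then
`Ext^n(Z, K) = 0` for all `n` and `K ∈ 𝒦`.
-/

set_option autoImplicit false
set_option backward.isDefEq.respectTransparency.types false
open CategoryTheory CategoryTheory.Limits Abelian

namespace Groth.Agent.H69.AbsKill

universe w v u t

variable {𝒜 : Type u} [Category.{v} 𝒜] [Abelian 𝒜] [HasExt.{w} 𝒜] [EnoughInjectives 𝒜]
variable (Z : 𝒜) {ι : Type t} (G : ι → 𝒜 ⥤ 𝒜) [∀ f, (G f).Additive]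
  [∀ f, PreservesFiniteLimits (G f)] [∀ f, PreservesFiniteColimits (G f)]
  (η : ∀ f, 𝟭 𝒜 ⟶ G f)

/-- the morphism of short complexes induced by a natural transformation `𝟭 ⟶ G` -/
def natSC {G : 𝒜 ⥤ 𝒜} [G.PreservesZeroMorphisms] (η : 𝟭 𝒜 ⟶ G) (T : ShortComplex 𝒜) :
    T ⟶ T.map G where
  τ₁ := η.app T.X₁
  τ₂ := η.app T.X₂
  τ₃ := η.app T.X₃
  comm₁₂ := (η.naturality T.f).symm
  comm₂₃ := (η.naturality T.g).symm

/-- naturality of the connecting map with respect to `η : 𝟭 ⟶ G` -/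
lemma step {G : 𝒜 ⥤ 𝒜} [G.Additive] [PreservesFiniteLimits G] [PreservesFiniteColimits G]
    (η : 𝟭 𝒜 ⟶ G) (T : ShortComplex 𝒜) (hT : T.ShortExact) {n : ℕ} (x₃ : Ext Z T.X₃ n) :
    (x₃.comp hT.extClass rfl).comp (Ext.mk₀ (natSC η T).τ₁) (add_zero (n + 1)) =
      (x₃.comp (Ext.mk₀ (natSC η T).τ₃) (add_zero n)).comp (hT.map_of_exact G).extClass rfl := by
  have hnat := ShortComplex.ShortExact.extClass_naturality hT (hT.map_of_exact G) (natSC η T)
  rw [Ext.comp_assoc _ _ _ rfl (add_zero 1) (by omega), hnat,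
    ← Ext.comp_assoc _ _ _ (add_zero n) (zero_add 1) (by omega)]

include η in
/-- classes of positive degree die in some `G f K` -/
theorem kill
    (L1 : ∀ {I C : 𝒜} (p : I ⟶ C), Epi p → ∀ (c : Z ⟶ C),
      ∃ (f : ι) (t : Z ⟶ (G f).obj I), t ≫ (G f).map p = c ≫ (η f).app C) :
    ∀ (n : ℕ) (K : 𝒜) (α : Ext Z K (n + 1)),
      ∃ f : ι, α.comp (Ext.mk₀ ((η f).app K)) (add_zero _) = 0 := by
  intro n
  induction n with
  | zero =>
    intro K α
    let T : ShortComplex 𝒜 := ShortComplex.mk (Injective.ι K) (cokernel.π (Injective.ι K))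
      (cokernel.condition _)
    have hT : T.ShortExact :=
      { exact := ShortComplex.exact_cokernel (Injective.ι K)
        mono_f := (inferInstance : Mono (Injective.ι K))
        epi_g := (inferInstance : Epi (cokernel.π (Injective.ι K))) }
    have : Injective T.X₂ := (inferInstance : Injective (Injective.under K))
    obtain ⟨x₃, hx₃⟩ := Ext.covariant_sequence_exact₁ Z hT (n₁ := 0 + 1) α
      (Ext.eq_zero_of_injective _) (n₀ := 0) rfl
    obtain ⟨c, rfl⟩ := (Ext.mk₀_bijective _ _).surjective x₃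
    obtain ⟨f, t, ht⟩ := L1 T.g hT.epi_g c
    refine ⟨f, ?_⟩
    have hst := step Z (η f) T hT (Ext.mk₀ c)
    have e1 : α.comp (Ext.mk₀ ((η f).app K)) (add_zero _) =
        ((Ext.mk₀ c).comp hT.extClass rfl).comp (Ext.mk₀ (natSC (η f) T).τ₁)
          (add_zero (0 + 1)) := by
      rw [hx₃]; rfl
    have e2 : (Ext.mk₀ c).comp (Ext.mk₀ (natSC (η f) T).τ₃) (add_zero 0) =
        (Ext.mk₀ (show Z ⟶ (T.map (G f)).X₂ from t)).comp (Ext.mk₀ (T.map (G f)).g)
          (add_zero 0) := by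
      rw [Ext.mk₀_comp_mk₀, Ext.mk₀_comp_mk₀]
      exact congrArg Ext.mk₀ ht.symm
    rw [e1, hst, e2, Ext.comp_assoc _ _ _ (add_zero 0) (zero_add 1) (by omega),
      (hT.map_of_exact (G f)).comp_extClass, Ext.comp_zero]
    rfl
  | succ n ih =>
    intro K α
    let T : ShortComplex 𝒜 := ShortComplex.mk (Injective.ι K) (cokernel.π (Injective.ι K))
      (cokernel.condition _)
    have hT : T.ShortExact :=
      { exact := ShortComplex.exact_cokernel (Injective.ι K)
        mono_f := (inferInstance : Mono (Injective.ι K))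
        epi_g := (inferInstance : Epi (cokernel.π (Injective.ι K))) }
    have : Injective T.X₂ := (inferInstance : Injective (Injective.under K))
    obtain ⟨x₃, hx₃⟩ := Ext.covariant_sequence_exact₁ Z hT (n₁ := n + 1 + 1) α
      (Ext.eq_zero_of_injective _) (n₀ := n + 1) rfl
    obtain ⟨f, hf⟩ := ih T.X₃ x₃
    refine ⟨f, ?_⟩
    have hst := step Z (η f) T hT x₃
    have e1 : α.comp (Ext.mk₀ ((η f).app K)) (add_zero _) =
        (x₃.comp hT.extClass rfl).comp (Ext.mk₀ (natSC (η f) T).τ₁) (add_zero (n + 1 + 1)) := by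
      rw [hx₃]; rfl
    have e2 : x₃.comp (Ext.mk₀ (natSC (η f) T).τ₃) (add_zero (n + 1)) = 0 := hf
    rw [e1, hst, e2, Ext.zero_comp]
    rfl

include η in
/-- the abstract vanishing theorem -/
theorem ext_eq_zero (hη : ∀ f K, Mono ((η f).app K))
    (𝒦 : 𝒜 → Prop) (hG : ∀ f K, 𝒦 K → 𝒦 ((G f).obj K))
    (hQ : ∀ S : ShortComplex 𝒜, S.ShortExact → 𝒦 S.X₁ → 𝒦 S.X₂ → 𝒦 S.X₃)
    (L0 : ∀ K, 𝒦 K → ∀ s : Z ⟶ K, ∃ f : ι, s ≫ (η f).app K = 0)
    (L1 : ∀ {I C : 𝒜} (p : I ⟶ C), Epi p → ∀ (c : Z ⟶ C),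
      ∃ (f : ι) (t : Z ⟶ (G f).obj I), t ≫ (G f).map p = c ≫ (η f).app C) :
    ∀ (n : ℕ) (K : 𝒜), 𝒦 K → ∀ α : Ext Z K n, α = 0 := by
  intro n
  induction n with
  | zero =>
    intro K hK α
    obtain ⟨s, rfl⟩ := (Ext.mk₀_bijective _ _).surjective α
    obtain ⟨f, hf⟩ := L0 K hK s
    have := hη f K
    have hs : s = 0 := by
      rw [← cancel_mono ((η f).app K), hf, zero_comp]
    rw [hs, Ext.mk₀_zero]
  | succ n ih =>
    intro K hK α
    obtain ⟨f, hf⟩ := kill Z G η L1 n K α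
    have := hη f K
    let S : ShortComplex 𝒜 := ShortComplex.mk ((η f).app K) (cokernel.π ((η f).app K))
      (cokernel.condition _)
    have hS : S.ShortExact :=
      { exact := ShortComplex.exact_cokernel ((η f).app K)
        mono_f := hη f K
        epi_g := (inferInstance : Epi (cokernel.π ((η f).app K))) }
    obtain ⟨q, hq⟩ := Ext.covariant_sequence_exact₁ Z hS (n₁ := n + 1) α hf (n₀ := n) rfl
    have hQ' : 𝒦 S.X₃ := hQ S hS hK (hG f K hK)
    rw [← hq, ih S.X₃ hQ' q, Ext.zero_comp]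

end Groth.Agent.H69.AbsKill
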