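import Groth.Agent.H4.ExtAdjL

/-!
# Low-degree Leray for an adjunction with exact left adjoint (helper69)

For `L ⊣ R` with `L` exact and `psi : Ext^n(A, R B) → Ext^n(L A, B)` (helper4's comparison map):
* `psi_one_injective`: `psi` is injective in degree one;
* `psi_two_injective`: `psi` is injective in degree two on `B = S.X₁` as soon as `R` keeps the
  injective presentation `S : 0 → B → I → Q → 0` short exact (i.e. `R¹R(B) = 0`).
-/

set_option autoImplicit false

namespace Groth.Agent.H69.AdjExtLow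

open CategoryTheory Limits Abelian Groth.Agent.H4.ExtAdjL

universe w w' v v' u u'

variable {C : Type u} [Category.{v} C] [Abelian C] {D : Type u'} [Category.{v'} D] [Abelian D]
variable {L : C ⥤ D} {R : D ⥤ C} (adj : L ⊣ R)
variable [L.Additive] [PreservesFiniteLimits L] [PreservesFiniteColimits L] [R.Additive]
variable [HasExt.{w} C] [HasExt.{w'} D]

/-- low-degree Leray: `Ext¹(A, R B) → Ext¹(L A, B)` is injective -/
theorem psi_one_injective [EnoughInjectives D] (A : C) (B : D) :
    Function.Injective (psi adj A B 1) := by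
  have hlim : PreservesLimits R := adj.rightAdjoint_preservesLimits
  let I : InjectivePresentation B := Classical.arbitrary _
  let S : ShortComplex D := ShortComplex.mk I.f (cokernel.π I.f) (cokernel.condition I.f)
  have hI : Injective S.X₂ := I.injective
  have hS : S.ShortExact := { exact := ShortComplex.exact_cokernel I.f }
  have hmonof : Mono S.f := hS.mono_f
  have hinj : Injective (R.obj S.X₂) := adj.map_injective _ I.injective
  have hmono : Mono (R.map S.f) := inferInstance
  have hex : (S.map R).Exact := hS.exact.map_of_mono_of_preservesKernel R hS.mono_f inferInstance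
  let T : ShortComplex C :=
    ShortComplex.mk (R.map S.f) (cokernel.π (R.map S.f)) (cokernel.condition (R.map S.f))
  have hT : T.ShortExact :=
    { exact := ShortComplex.exact_cokernel (R.map S.f)
      mono_f := hmono
      epi_g := inferInstanceAs (Epi (cokernel.π (R.map S.f))) }
  let d : T.X₃ ⟶ R.obj S.X₃ := cokernel.desc (S.map R).f (S.map R).g (S.map R).zero
  have hd : T.g ≫ d = R.map S.g := cokernel.π_desc _ _ _
  have hdmono : Mono d := (S.map R).exact_iff_mono_cokernel_desc.1 hex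
  let φ : T.map L ⟶ S :=
    { τ₁ := adj.counit.app S.X₁
      τ₂ := adj.counit.app S.X₂
      τ₃ := L.map d ≫ adj.counit.app S.X₃
      comm₁₂ := (adj.counit.naturality S.f).symm
      comm₂₃ := by
        change adj.counit.app S.X₂ ≫ S.g = L.map T.g ≫ L.map d ≫ adj.counit.app S.X₃
        rw [← L.map_comp_assoc, hd]
        exact (adj.counit.naturality S.g).symm }
  rw [injective_iff_map_eq_zero]
  intro x hx
  have hx0 : x.comp (Ext.mk₀ T.f) (add_zero 1) = 0 := Ext.eq_zero_of_injective _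
  obtain ⟨e, he⟩ := Ext.covariant_sequence_exact₁ A hT x hx0 (zero_add 1)
  obtain ⟨ε, rfl⟩ := (Ext.mk₀_bijective _ _).2 e
  -- compute `psi x`
  have h1 := map_extClass_comp (L := L) hT hS φ
  have h2 : psi adj A S.X₁ 1 x = (Ext.mk₀ (L.map ε ≫ φ.τ₃)).comp hS.extClass (zero_add 1) := by
    have a1 := psi_apply adj A S.X₁ 1 ((Ext.mk₀ ε).comp hT.extClass (zero_add 1))
    have a2 := Ext.mapExactFunctor_comp L (Ext.mk₀ ε) hT.extClass (zero_add 1)
    rw [Ext.mapExactFunctor_mk₀] at a2
    have a3 := Ext.comp_assoc (Ext.mk₀ (L.map ε)) (hT.extClass.mapExactFunctor L)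
      (Ext.mk₀ φ.τ₁) (zero_add 1) (add_zero 1) (by omega : 0 + 1 + 0 = 1)
    have a4 := Ext.comp_assoc (Ext.mk₀ (L.map ε)) (Ext.mk₀ φ.τ₃) hS.extClass
      (zero_add 0) (zero_add 1) (by omega : 0 + 0 + 1 = 1)
    have a5 : (Ext.mk₀ (L.map ε)).comp (Ext.mk₀ φ.τ₃) (zero_add 0) =
        Ext.mk₀ (L.map ε ≫ φ.τ₃) := Ext.mk₀_comp_mk₀ _ _
    rw [← he]
    refine a1.trans ?_
    refine (congrArg (fun t => Ext.comp t (Ext.mk₀ (adj.counit.app S.X₁)) (add_zero 1)) a2).trans ?_
    refine a3.trans ?_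
    refine (congrArg (fun t => Ext.comp (Ext.mk₀ (L.map ε)) t (zero_add 1)) h1).trans ?_
    refine a4.symm.trans ?_
    exact congrArg (fun t => Ext.comp t hS.extClass (zero_add 1)) a5
  rw [h2] at hx
  obtain ⟨y, hy⟩ := Ext.covariant_sequence_exact₃ (L.obj A) hS _ (zero_add 1) hx
  obtain ⟨ψ', rfl⟩ := (Ext.mk₀_bijective _ _).2 y
  rw [Ext.mk₀_comp_mk₀] at hy
  have hψ' : ψ' ≫ S.g = L.map ε ≫ φ.τ₃ := (Ext.mk₀_bijective _ _).1 hy
  let ψ'' : A ⟶ R.obj S.X₂ := adj.homEquiv A _ ψ'
  have key : (ψ'' ≫ T.g) ≫ d = ε ≫ d := by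
    rw [Category.assoc, hd]
    have hnat : adj.homEquiv A _ (ψ' ≫ S.g) = ψ'' ≫ R.map S.g :=
      adj.homEquiv_naturality_right ψ' _
    rw [← hnat, hψ']
    change adj.homEquiv A _ (L.map ε ≫ L.map d ≫ adj.counit.app S.X₃) = ε ≫ d
    have h3 : (adj.homEquiv A S.X₃).symm (ε ≫ d) = L.map (ε ≫ d) ≫ adj.counit.app S.X₃ :=
      Adjunction.homEquiv_counit _ _ _ _
    rw [← L.map_comp_assoc, ← h3]
    exact Equiv.apply_symm_apply _ _
  have hε : ψ'' ≫ T.g = ε := (cancel_mono d).1 key
  rw [← he, ← hε, ← Ext.mk₀_comp_mk₀, Ext.comp_assoc_of_second_deg_zero, hT.comp_extClass,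
    Ext.comp_zero]

/-- `Ext²(A, R B) → Ext²(L A, B)` is injective when `R` keeps an injective presentation of `B`
short exact. -/
theorem psi_two_injective [EnoughInjectives D] (A : C) {S : ShortComplex D} (hS : S.ShortExact)
    (hI : Injective S.X₂) (hRS : (S.map R).ShortExact) :
    Function.Injective (psi adj A S.X₁ 2) := by
  have hinj : Injective (S.map R).X₂ := adj.map_injective _ hI
  rw [injective_iff_map_eq_zero]
  intro x hx
  have hx0 : x.comp (Ext.mk₀ (S.map R).f) (add_zero 2) = 0 := Ext.eq_zero_of_injective _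
  obtain ⟨e, he⟩ := Ext.covariant_sequence_exact₁ A hRS x hx0 (rfl : 1 + 1 = 2)
  have h1 := psi_comp_extClass adj A hS hRS e
  rw [he] at h1
  rw [h1] at hx
  obtain ⟨y, hy⟩ := Ext.covariant_sequence_exact₃ (L.obj A) hS _ rfl hx
  have hy0 : y = 0 := Ext.eq_zero_of_injective _
  rw [hy0, Ext.zero_comp] at hy
  have he0 : e = 0 :=
    psi_one_injective adj A S.X₃ (hy.symm.trans (map_zero (psi adj A S.X₃ 1)).symm)
  rw [← he, he0]
  exact Ext.zero_comp A 1 hRS.extClass 2 rfl

end Groth.Agent.H69.AdjExtLow
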