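import Mathlib.RingTheory.TensorProduct.IncludeLeftSubRight
import Mathlib.RingTheory.Flat.Equalizer
import Mathlib.RingTheory.Flat.FaithfullyFlat.Algebra

/-!
# Hilbert 90 for faithfully flat ring maps, local form (helper69)

Let `A → B` be faithfully flat and `u` a unit of `B ⊗_A B` satisfying the cocycle condition in
`B ⊗_A (B ⊗_A B)`.  Then for every prime `p` of `A` there are `g ∉ p` and `m, n : B` with `m n = g` and
`u (m ⊗ 1) = 1 ⊗ m`: the cocycle becomes a coboundary over `D(g)`.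
-/

set_option autoImplicit false
universe u
open TensorProduct Algebra.TensorProduct

namespace Groth.Agent.H69.AlgH90

variable (A B : Type u) [CommRing A] [CommRing B] [Algebra A B]

/-- `x ⊗ y ↦ 1 ⊗ (x ⊗ y)` -/
noncomputable def d0 : B ⊗[A] B →ₐ[A] B ⊗[A] (B ⊗[A] B) := includeRight

/-- `x ⊗ y ↦ x ⊗ (1 ⊗ y)` -/
noncomputable def d1 : B ⊗[A] B →ₐ[A] B ⊗[A] (B ⊗[A] B) :=
  Algebra.TensorProduct.map (AlgHom.id A B) includeRight

/-- `x ⊗ y ↦ x ⊗ (y ⊗ 1)` -/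
noncomputable def d2 : B ⊗[A] B →ₐ[A] B ⊗[A] (B ⊗[A] B) :=
  Algebra.TensorProduct.map (AlgHom.id A B) includeLeft

variable {A B}

@[simp] lemma d0_apply (w : B ⊗[A] B) : d0 A B w = (1 : B) ⊗ₜ[A] w := rfl
@[simp] lemma d1_tmul (x y : B) : d1 A B (x ⊗ₜ[A] y) = x ⊗ₜ[A] ((1 : B) ⊗ₜ[A] y) := by simp [d1]
@[simp] lemma d2_tmul (x y : B) : d2 A B (x ⊗ₜ[A] y) = x ⊗ₜ[A] (y ⊗ₜ[A] (1 : B)) := by simp [d2]

/-- the twisted difference `b ↦ u (b ⊗ 1) - 1 ⊗ b` -/
noncomputable def δ (u : B ⊗[A] B) : B →ₗ[A] B ⊗[A] B :=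
  (LinearMap.mulLeft A u) ∘ₗ includeLeft.toLinearMap - includeRight.toLinearMap

@[simp] lemma δ_apply (u : B ⊗[A] B) (b : B) : δ u b = u * (b ⊗ₜ[A] 1) - 1 ⊗ₜ[A] b := rfl

/-- the descended module -/
noncomputable def M (u : B ⊗[A] B) : Submodule A B := LinearMap.ker (δ u)

lemma mem_M {u : B ⊗[A] B} {b : B} : b ∈ M u ↔ u * (b ⊗ₜ[A] 1) = 1 ⊗ₜ[A] b := by
  rw [M, LinearMap.mem_ker, δ_apply, sub_eq_zero]

lemma lTensor_δ (u w : B ⊗[A] B) :
    (δ u).lTensor B w = d0 A B u * d2 A B w - d1 A B w := by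
  induction w using TensorProduct.induction_on with
  | zero => simp
  | add x y hx hy => rw [map_add, map_add, map_add, hx, hy, mul_add]; abel
  | tmul x y =>
    rw [LinearMap.lTensor_tmul, δ_apply, tmul_sub, d2_tmul, d1_tmul, d0_apply]
    congr 1
    induction u using TensorProduct.induction_on with
    | zero => simp
    | add a b ha hb => rw [add_mul, tmul_add, ha, hb, tmul_add, add_mul]
    | tmul a b => simp

/-- full multiplication `B ⊗ (B ⊗ B) → B` -/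
noncomputable def e3 : B ⊗[A] (B ⊗[A] B) →ₐ[A] B :=
  (lmul' A).comp (Algebra.TensorProduct.map (AlgHom.id A B) (lmul' A))

lemma e3_d0 (w : B ⊗[A] B) : e3 (d0 A B w) = lmul' A w := by
  induction w using TensorProduct.induction_on with
  | zero => simp
  | add x y hx hy => rw [map_add, map_add, map_add, hx, hy]
  | tmul x y => simp [e3]

lemma e3_d1 (w : B ⊗[A] B) : e3 (d1 A B w) = lmul' A w := by
  induction w using TensorProduct.induction_on with
  | zero => simp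
  | add x y hx hy => rw [map_add, map_add, map_add, hx, hy]
  | tmul x y => simp [e3]

lemma e3_d2 (w : B ⊗[A] B) : e3 (d2 A B w) = lmul' A w := by
  induction w using TensorProduct.induction_on with
  | zero => simp
  | add x y hx hy => rw [map_add, map_add, map_add, hx, hy]
  | tmul x y => simp [e3]

/-- a cocycle restricts to `1` on the diagonal -/
lemma lmul_cocycle (u : (B ⊗[A] B)ˣ)
    (hu : d0 A B (u : B ⊗[A] B) * d2 A B u = d1 A B u) : lmul' A (u : B ⊗[A] B) = 1 := by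
  have h := congrArg (e3 (A := A) (B := B)) hu
  rw [map_mul, e3_d0, e3_d1, e3_d2] at h
  have hunit : IsUnit (lmul' A (u : B ⊗[A] B)) := u.isUnit.map (lmul' A (S := B))
  exact (hunit.mul_right_inj).mp (h.trans (mul_one _).symm)

section Flat

variable [Module.Flat A B]

/-- the ideal generated by the descended module is the unit ideal -/
theorem one_mem_span_M (u : (B ⊗[A] B)ˣ)
    (hu : d0 A B (u : B ⊗[A] B) * d2 A B u = d1 A B u) :
    (1 : B) ∈ Ideal.span (M (u : B ⊗[A] B) : Set B) := by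
  have hker : (u : B ⊗[A] B) ∈ LinearMap.ker ((δ (u : B ⊗[A] B)).lTensor B) := by
    rw [LinearMap.mem_ker, lTensor_δ, hu, sub_self]
  have hrange : (u : B ⊗[A] B) ∈
      LinearMap.range ((M (u : B ⊗[A] B)).subtype.lTensor B) := by
    have := Module.Flat.ker_lTensor_eq (R := A) A B (δ (u : B ⊗[A] B))
    have h2 : (u : B ⊗[A] B) ∈ LinearMap.ker
        (TensorProduct.AlgebraTensorModule.lTensor A B (δ (u : B ⊗[A] B))) := hker
    rw [this] at h2
    exact h2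
  obtain ⟨z, hz⟩ := hrange
  have key : ∀ z : B ⊗[A] (M (u : B ⊗[A] B)),
      lmul' A ((M (u : B ⊗[A] B)).subtype.lTensor B z) ∈
        Ideal.span (M (u : B ⊗[A] B) : Set B) := by
    intro z
    induction z using TensorProduct.induction_on with
    | zero => simp
    | add x y hx hy => rw [map_add, map_add]; exact Ideal.add_mem _ hx hy
    | tmul b m =>
      rw [LinearMap.lTensor_tmul, lmul'_apply_tmul]
      exact Ideal.mul_mem_left _ _ (Ideal.subset_span m.2)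
  have := key z
  rwa [hz, lmul_cocycle u hu] at this

end Flat

/-- the inverse of a cocycle is a cocycle -/
lemma cocycle_inv (u : (B ⊗[A] B)ˣ)
    (hu : d0 A B (u : B ⊗[A] B) * d2 A B u = d1 A B u) :
    d0 A B ((u⁻¹ : (B ⊗[A] B)ˣ) : B ⊗[A] B) * d2 A B ((u⁻¹ : (B ⊗[A] B)ˣ) : B ⊗[A] B) =
      d1 A B ((u⁻¹ : (B ⊗[A] B)ˣ) : B ⊗[A] B) := by
  have h0 : d0 A B ((u⁻¹ : (B ⊗[A] B)ˣ) : B ⊗[A] B) * d0 A B (u : B ⊗[A] B) = 1 := by
    rw [← map_mul, Units.inv_mul, map_one]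
  have h1 : d1 A B ((u⁻¹ : (B ⊗[A] B)ˣ) : B ⊗[A] B) * d1 A B (u : B ⊗[A] B) = 1 := by
    rw [← map_mul, Units.inv_mul, map_one]
  have h2 : d2 A B ((u⁻¹ : (B ⊗[A] B)ˣ) : B ⊗[A] B) * d2 A B (u : B ⊗[A] B) = 1 := by
    rw [← map_mul, Units.inv_mul, map_one]
  calc d0 A B ((u⁻¹ : (B ⊗[A] B)ˣ) : B ⊗[A] B) * d2 A B ((u⁻¹ : (B ⊗[A] B)ˣ) : B ⊗[A] B)
      = d0 A B ((u⁻¹ : (B ⊗[A] B)ˣ) : B ⊗[A] B) * d2 A B ((u⁻¹ : (B ⊗[A] B)ˣ) : B ⊗[A] B) *
          (d1 A B (u : B ⊗[A] B) * d1 A B ((u⁻¹ : (B ⊗[A] B)ˣ) : B ⊗[A] B)) := by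
        rw [mul_comm (d1 A B (u : B ⊗[A] B)), h1, mul_one]
    _ = (d0 A B ((u⁻¹ : (B ⊗[A] B)ˣ) : B ⊗[A] B) * d0 A B (u : B ⊗[A] B)) *
          (d2 A B ((u⁻¹ : (B ⊗[A] B)ˣ) : B ⊗[A] B) * d2 A B (u : B ⊗[A] B)) *
          d1 A B ((u⁻¹ : (B ⊗[A] B)ˣ) : B ⊗[A] B) := by
        rw [← hu]; ring
    _ = d1 A B ((u⁻¹ : (B ⊗[A] B)ˣ) : B ⊗[A] B) := by rw [h0, h2, one_mul, one_mul]

variable [Module.FaithfullyFlat A B]

/-- products of elements of the descended modules of `u` and `u⁻¹` come from `A` -/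
lemma mul_mem_range (u : (B ⊗[A] B)ˣ) {m n : B} (hm : m ∈ M (u : B ⊗[A] B))
    (hn : n ∈ M ((u⁻¹ : (B ⊗[A] B)ˣ) : B ⊗[A] B)) : m * n ∈ Set.range (algebraMap A B) := by
  rw [mem_M] at hm hn
  have h : (m * n) ⊗ₜ[A] (1 : B) = (1 : B) ⊗ₜ[A] (m * n) := by
    calc (m * n) ⊗ₜ[A] (1 : B) = ((u : B ⊗[A] B) * (m ⊗ₜ[A] 1)) *
          (((u⁻¹ : (B ⊗[A] B)ˣ) : B ⊗[A] B) * (n ⊗ₜ[A] 1)) := by
          rw [mul_mul_mul_comm, Units.mul_inv, one_mul, tmul_mul_tmul, mul_one]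
      _ = (1 : B) ⊗ₜ[A] (m * n) := by rw [hm, hn, tmul_mul_tmul, one_mul]
  have heff := Algebra.IsEffective.of_faithfullyFlat A B
  rw [← heff.eqLocus_includeLeft_includeRight]
  exact h

/-- **Hilbert 90, local form**: a cocycle for a faithfully flat ring map is a coboundary after
inverting a suitable element outside any given prime. -/
theorem exists_local_coboundary (u : (B ⊗[A] B)ˣ)
    (hu : d0 A B (u : B ⊗[A] B) * d2 A B u = d1 A B u) (p : Ideal A) [p.IsPrime] :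
    ∃ (g : A) (m n : B), g ∉ p ∧ m * n = algebraMap A B g ∧
      (u : B ⊗[A] B) * (m ⊗ₜ[A] 1) = 1 ⊗ₜ[A] m := by
  let Sset : Set A := {a | ∃ m ∈ M (u : B ⊗[A] B), ∃ n ∈ M ((u⁻¹ : (B ⊗[A] B)ˣ) : B ⊗[A] B),
    m * n = algebraMap A B a}
  have h1 := one_mem_span_M u hu
  have h2 := one_mem_span_M u⁻¹ (cocycle_inv u hu)
  have hmap : (Ideal.span Sset).map (algebraMap A B) = ⊤ := by
    rw [Ideal.eq_top_iff_one]
    have hmul : (1 : B) ∈ Ideal.span (M (u : B ⊗[A] B) : Set B) *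
        Ideal.span (M ((u⁻¹ : (B ⊗[A] B)ˣ) : B ⊗[A] B) : Set B) := by
      have := Ideal.mul_mem_mul h1 h2
      rwa [one_mul] at this
    rw [Ideal.span_mul_span'] at hmul
    refine (Ideal.span_le.mpr ?_) hmul
    rintro _ ⟨m, hm, n, hn, rfl⟩
    obtain ⟨a, ha⟩ := mul_mem_range u hm hn
    change m * n ∈ _
    rw [← ha]
    exact Ideal.mem_map_of_mem _ (Ideal.subset_span ⟨m, hm, n, hn, ha.symm⟩)
  have htop : Ideal.span Sset = ⊤ := by
    have := Ideal.comap_map_eq_self_of_faithfullyFlat (B := B) (Ideal.span Sset)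
    rw [hmap, Ideal.comap_top] at this
    exact this.symm
  have hnot : ¬ Sset ⊆ (p : Set A) := by
    intro hsub
    have : Ideal.span Sset ≤ p := Ideal.span_le.mpr hsub
    rw [htop] at this
    exact (inferInstance : p.IsPrime).ne_top (top_le_iff.mp this)
  obtain ⟨g, ⟨m, hm, n, _, hmn⟩, hg⟩ := Set.not_subset.mp hnot
  exact ⟨g, m, n, hg, hmn, mem_M.mp hm⟩

end Groth.Agent.H69.AlgH90
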