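import Groth.Prelude.Def_W4c1hurwitzcptBd
import Mathlib.RingTheory.FiniteType
import Mathlib.RingTheory.Ideal.Quotient.Operations
import Mathlib.Algebra.MvPolynomial.Eval

/-!
# Representability of based algebra structures (helper69)
-/

set_option autoImplicit false
universe u

namespace Groth.Agent.H69.BasedAlgRep

open W4c1hurwitzcpt MvPolynomial

variable (K : Type u) [CommRing K] (d : ℕ)

/-- The variables: structure constants and unit coordinates. -/
abbrev Vars (d : ℕ) := (Fin d × Fin d × Fin d) ⊕ Fin d

/-- The variable `c i j k`. -/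
noncomputable def cX (i j k : Fin d) : MvPolynomial (Vars d) K := X (Sum.inl (i, j, k))

/-- The variable `u i`. -/
noncomputable def uX (i : Fin d) : MvPolynomial (Vars d) K := X (Sum.inr i)

/-- The relations. -/
def rels : Set (MvPolynomial (Vars d) K) :=
  {p | ∃ i j k, p = cX K d i j k - cX K d j i k} ∪
  {p | ∃ i j l m, p = (∑ k, cX K d i j k * cX K d k l m) - ∑ k, cX K d j l k * cX K d i k m} ∪
  {p | ∃ j m, p = (∑ i, uX K d i * cX K d i j m) - if j = m then 1 else 0}

/-- The representing algebra. -/
abbrev Rep := MvPolynomial (Vars d) K ⧸ Ideal.span (rels K d)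

variable {K d}

section

variable {A : Type u} [CommRing A] [Algebra K A]

/-- The assignment of variables attached to a based algebra. -/
def assign (s : BasedAlg d A) : Vars d → A
  | Sum.inl (i, j, k) => s.c i j k
  | Sum.inr i => s.u i

lemma aeval_cX (s : BasedAlg d A) (i j k : Fin d) : aeval (assign s) (cX K d i j k) = s.c i j k := by
  simp [cX, assign]

lemma aeval_uX (s : BasedAlg d A) (i : Fin d) : aeval (assign s) (uX K d i) = s.u i := by
  simp [uX, assign]

lemma aeval_rels (s : BasedAlg d A) : ∀ p ∈ rels K d, aeval (R := K) (assign s) p = 0 := by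
  rintro p ((⟨i, j, k, rfl⟩ | ⟨i, j, l, m, rfl⟩) | ⟨j, m, rfl⟩)
  · rw [map_sub, aeval_cX, aeval_cX, s.comm, sub_self]
  · simp only [map_sub, map_sum, map_mul, aeval_cX]
    rw [s.assoc, sub_self]
  · simp only [map_sub, map_sum, map_mul, aeval_cX, aeval_uX]
    rw [s.unit]
    split <;> simp

/-- The algebra map attached to a based algebra. -/
noncomputable def toHom (s : BasedAlg d A) : Rep K d →ₐ[K] A :=
  Ideal.Quotient.liftₐ (Ideal.span (rels K d)) (aeval (assign s)) (by
    intro p hp
    have hle : Ideal.span (rels K d) ≤ RingHom.ker (aeval (R := K) (assign s)).toRingHom := by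
      rw [Ideal.span_le]
      intro q hq
      exact aeval_rels s q hq
    exact hle hp)

lemma toHom_mk (s : BasedAlg d A) (p : MvPolynomial (Vars d) K) :
    toHom s (Ideal.Quotient.mk _ p) = aeval (assign s) p := rfl

lemma mk_rel_eq_zero {p : MvPolynomial (Vars d) K} (hp : p ∈ rels K d) :
    (Ideal.Quotient.mk (Ideal.span (rels K d)) p) = 0 :=
  Ideal.Quotient.eq_zero_iff_mem.2 (Ideal.subset_span hp)

/-- The based algebra attached to an algebra map. -/
noncomputable def ofHom (φ : Rep K d →ₐ[K] A) : BasedAlg d A where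
  c i j k := φ (Ideal.Quotient.mk _ (cX K d i j k))
  u i := φ (Ideal.Quotient.mk _ (uX K d i))
  comm i j k := by
    have h : (Ideal.Quotient.mk (Ideal.span (rels K d)) (cX K d i j k - cX K d j i k)) = 0 :=
      mk_rel_eq_zero (Or.inl (Or.inl ⟨i, j, k, rfl⟩))
    rw [map_sub, sub_eq_zero] at h
    rw [h]
  assoc i j l m := by
    have h := mk_rel_eq_zero (K := K) (d := d) (Or.inl (Or.inr ⟨i, j, l, m, rfl⟩))
    rw [map_sub, sub_eq_zero] at h
    have h2 := congrArg φ h
    simpa only [map_sum, map_mul] using h2
  unit j m := by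
    have h := mk_rel_eq_zero (K := K) (d := d) (Or.inr ⟨j, m, rfl⟩)
    rw [map_sub, sub_eq_zero] at h
    have h2 := congrArg φ h
    simp only [map_sum, map_mul] at h2
    rw [h2]
    split <;> simp

/-- The bijection between algebra maps out of the representing algebra and based algebras. -/
noncomputable def equiv (A : Type u) [CommRing A] [Algebra K A] :
    (Rep K d →ₐ[K] A) ≃ BasedAlg d A where
  toFun := ofHom
  invFun := toHom
  left_inv φ := by
    apply Ideal.Quotient.algHom_ext
    apply MvPolynomial.algHom_ext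
    rintro (⟨i, j, k⟩ | i)
    · show toHom (ofHom φ) (Ideal.Quotient.mk _ (X (Sum.inl (i, j, k)))) = _
      rw [toHom_mk, aeval_X]
      rfl
    · show toHom (ofHom φ) (Ideal.Quotient.mk _ (X (Sum.inr i))) = _
      rw [toHom_mk, aeval_X]
      rfl
  right_inv s := by
    ext i j k
    · show toHom s (Ideal.Quotient.mk _ (cX K d i j k)) = _
      rw [toHom_mk, aeval_cX]
    · rename_i i
      show toHom s (Ideal.Quotient.mk _ (uX K d i)) = _
      rw [toHom_mk, aeval_uX]

end

lemma equiv_natural (A A' : Type u) [CommRing A] [Algebra K A] [CommRing A'] [Algebra K A']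
    (f : A →ₐ[K] A') (g : Rep K d →ₐ[K] A) :
    equiv A' (f.comp g) = (equiv A g).map f.toRingHom := rfl

instance finiteType_rep : Algebra.FiniteType K (Rep K d) :=
  Algebra.FiniteType.of_surjective (Ideal.Quotient.mkₐ K _) (Ideal.Quotient.mkₐ_surjective K _)

end Groth.Agent.H69.BasedAlgRep
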