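import Groth.Agent.H60.CechDeltaF

/-!
# Čech complexes in low degrees, elementwise (universe-general)

Complements to helper60's `CechFree`/`CechDeltaF`: evaluation of cochains at points is natural in the
presheaf, the differential in terms of evaluations, the augmentation `P(X) → Č⁰`, the cocycle condition in
degree `0`, a by-hand snake lemma in degree `0`, vanishing of the cokernel's Čech cohomology, and
invariance under maps that are bijective on the terms of the Čech nerve.  (helper69)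
-/

set_option autoImplicit false
set_option backward.isDefEq.respectTransparency.types false
universe w v u
open CategoryTheory Limits Opposite Simplicial

namespace Groth.Agent.H69.CechZero

open Groth.Agent.H43.CechPts Groth.Agent.H60.CechFree Groth.Agent.H60.CechDeltaF

variable {C : Type u} [Category.{v} C] {X : C} [HasFiniteProducts (Over X)] {ι : Type w}
  (Y : ι → Over X)

/-- the differential of the Čech complex -/
lemma CC_d (P : Cᵒᵖ ⥤ AddCommGrpCat.{w}) (n : ℕ) :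
    ((CC Y).obj P).d n (n + 1) = AlgebraicTopology.AlternatingCofaceMapComplex.objD (Ξ Y P) n :=
  CochainComplex.of_d (fun n => (Ξ Y P).obj ⦋n⦌)
    (AlgebraicTopology.AlternatingCofaceMapComplex.objD (Ξ Y P)) n

/-- cochains of degree `n` -/
noncomputable abbrev Co (P : Cᵒᵖ ⥤ AddCommGrpCat.{w}) (n : ℕ) : AddCommGrpCat.{w} :=
  ((CC Y).obj P).X n

/-- the differential, as an additive map -/
noncomputable abbrev dd (P : Cᵒᵖ ⥤ AddCommGrpCat.{w}) (n : ℕ) : Co Y P n →+ Co Y P (n + 1) :=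
  (((CC Y).obj P).d n (n + 1)).hom

/-- the map induced on cochains, as an additive map -/
noncomputable abbrev mp {P P' : Cᵒᵖ ⥤ AddCommGrpCat.{w}} (φ : P ⟶ P') (n : ℕ) :
    Co Y P n →+ Co Y P' n :=
  (((CC Y).map φ).f n).hom

/-- evaluation at a point, as an additive map -/
noncomputable abbrev ee (P : Cᵒᵖ ⥤ AddCommGrpCat.{w}) {n : ℕ} {W : C} (p : A Y (Fin (n + 1)) W) :
    Co Y P n →+ P.obj (op W) :=
  (E Y P p).hom

lemma mp_dd {P P' : Cᵒᵖ ⥤ AddCommGrpCat.{w}} (φ : P ⟶ P') (n : ℕ) (c : Co Y P n) :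
    mp Y φ (n + 1) (dd Y P n c) = dd Y P' n (mp Y φ n c) :=
  ConcreteCategory.congr_hom (((CC Y).map φ).comm n (n + 1)).symm c

lemma dd_dd (P : Cᵒᵖ ⥤ AddCommGrpCat.{w}) (n : ℕ) (c : Co Y P n) :
    dd Y P (n + 1) (dd Y P n c) = 0 :=
  ConcreteCategory.congr_hom (((CC Y).obj P).d_comp_d n (n + 1) (n + 2)) c

lemma mp_comp {P P' P'' : Cᵒᵖ ⥤ AddCommGrpCat.{w}} (φ : P ⟶ P') (ψ : P' ⟶ P'') (n : ℕ)
    (c : Co Y P n) : mp Y (φ ≫ ψ) n c = mp Y ψ n (mp Y φ n c) := by
  have : ((CC Y).map (φ ≫ ψ)).f n = ((CC Y).map φ).f n ≫ ((CC Y).map ψ).f n := by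
    rw [Functor.map_comp]; rfl
  exact ConcreteCategory.congr_hom this c

/-- evaluation at points is natural in the presheaf -/
lemma ee_mp {P P' : Cᵒᵖ ⥤ AddCommGrpCat.{w}} (φ : P ⟶ P') {n : ℕ} {W : C}
    (p : A Y (Fin (n + 1)) W) (c : Co Y P n) :
    ee Y P' p (mp Y φ n c) = (φ.app (op W)).hom (ee Y P p c) := by
  have h : Limits.Pi.map (fun x : Fin (n + 1) → ι => φ.app (op (∏ᶜ (Y ∘ x)).left)) ≫
      (Pi.π (fun x : Fin (n + 1) → ι => P'.obj (op (∏ᶜ (Y ∘ x)).left)) p.1 ≫ P'.map p.2.op) =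
      (Pi.π (fun x : Fin (n + 1) → ι => P.obj (op (∏ᶜ (Y ∘ x)).left)) p.1 ≫ P.map p.2.op) ≫
        φ.app (op W) := by
    rw [← Category.assoc, Limits.Pi.map_π, Category.assoc, Category.assoc, φ.naturality]
  exact ConcreteCategory.congr_hom h c

/-- evaluations of the differential -/
lemma ee_dd (P : Cᵒᵖ ⥤ AddCommGrpCat.{w}) {n : ℕ} {W : C} (p : A Y (Fin (n + 2)) W)
    (c : Co Y P n) :
    ee Y P p (dd Y P n c) =
      ∑ i : Fin (n + 2), (-1 : ℤ) ^ (i : ℕ) • ee Y P (p.reindex (Fin.succAbove i)) c := by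
  have h1 : AlgebraicTopology.AlternatingCofaceMapComplex.objD (Ξ Y P) n ≫ E Y P p =
      ∑ i : Fin (n + 2), (-1 : ℤ) ^ (i : ℕ) • E Y P (p.reindex (Fin.succAbove i)) := by
    dsimp only [AlgebraicTopology.AlternatingCofaceMapComplex.objD]
    rw [Preadditive.sum_comp]
    refine Finset.sum_congr rfl (fun i _ => ?_)
    rw [Preadditive.zsmul_comp, δ_E]
  have h0 : (E Y P p).hom ((((CC Y).obj P).d n (n + 1)).hom c) =
      (E Y P p).hom ((AlgebraicTopology.AlternatingCofaceMapComplex.objD (Ξ Y P) n).hom c) := by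
    rw [CC_d]
    rfl
  refine h0.trans ?_
  have h2 : (E Y P p).hom ((AlgebraicTopology.AlternatingCofaceMapComplex.objD (Ξ Y P) n).hom c) =
      (∑ i : Fin (n + 2), (-1 : ℤ) ^ (i : ℕ) • E Y P (p.reindex (Fin.succAbove i))).hom c :=
    ConcreteCategory.congr_hom h1 c
  refine h2.trans ?_
  rw [hom_sum_apply]
  rfl

/-- a cochain is determined by its evaluations -/
lemma co_ext (P : Cᵒᵖ ⥤ AddCommGrpCat.{w}) {n : ℕ} {c c' : Co Y P n}
    (h : ∀ (W : C) (p : A Y (Fin (n + 1)) W), ee Y P p c = ee Y P p c') : c = c' := by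
  apply pi_ext (A₁ := fun x : Fin (n + 1) → ι => P.obj (op (∏ᶜ (Y ∘ x)).left))
  intro x
  have h1 := h _ (⟨x, 𝟙 _⟩ : A Y (Fin (n + 1)) (∏ᶜ (Y ∘ x)).left)
  dsimp only [ee, E] at h1
  rw [op_id, P.map_id, Category.comp_id] at h1
  exact h1

/-! ### points of degree `0` and `1` -/

/-- the structure map of a point -/
noncomputable def str {T : Type} [Finite T] {W : C} (p : A Y T W) : W ⟶ X :=
  p.2 ≫ (∏ᶜ (Y ∘ p.1)).hom

lemma str_eq {T : Type} [Finite T] {W : C} (p : A Y T W) : str Y p = (toB p).1.1 := rfl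

lemma str_reindex {T T' : Type} [Finite T] [Finite T'] (θ : T' → T) {W : C} (p : A Y T W) :
    str Y (p.reindex θ) = str Y p := by
  rw [str_eq, str_eq, toB_reindex]
  rfl

lemma str_toA {T : Type} [Finite T] {W : C} (b : B Y T W) : str Y (toA b) = b.1.1 := by
  rw [str_eq, toB_toA]

/-- the degree `0` point attached to `g : W ⟶ (Y i).left` -/
noncomputable def pt0 (i : ι) {W : C} (g : W ⟶ (Y i).left) : A Y (Fin 1) W :=
  toA ⟨(g ≫ (Y i).hom, fun _ => ⟨i, g⟩), fun _ => rfl⟩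

lemma str_pt0 (i : ι) {W : C} (g : W ⟶ (Y i).left) : str Y (pt0 Y i g) = g ≫ (Y i).hom :=
  str_toA Y _

lemma pt0_precomp (i : ι) {W W' : C} (k : W' ⟶ W) (g : W ⟶ (Y i).left) :
    (pt0 Y i g).precomp k = pt0 Y i (k ≫ g) := by
  rw [pt0, toA_precomp, pt0]
  congr 1
  ext
  · exact (Category.assoc _ _ _).symm
  · rfl

/-- the degree `1` point attached to a pair of maps over `X` -/
noncomputable def pt1 (i j : ι) {W : C} (g : W ⟶ (Y i).left) (h : W ⟶ (Y j).left)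
    (w : g ≫ (Y i).hom = h ≫ (Y j).hom) : A Y (Fin 2) W :=
  toA ⟨(g ≫ (Y i).hom, ![⟨i, g⟩, ⟨j, h⟩]), fun a => by
    refine Fin.cases rfl (fun b => ?_) a
    refine Fin.cases ?_ (fun c => c.elim0) b
    exact w.symm⟩

lemma pt1_reindex_zero (i j : ι) {W : C} (g : W ⟶ (Y i).left) (h : W ⟶ (Y j).left)
    (w : g ≫ (Y i).hom = h ≫ (Y j).hom) :
    (pt1 Y i j g h w).reindex (Fin.succAbove 0) = pt0 Y j h := by
  rw [pt1, toA_reindex, pt0]
  congr 1
  ext a
  · exact w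
  · dsimp [B.reindex]
    have : a = 0 := Subsingleton.elim _ _
    subst this
    rfl

lemma pt1_reindex_one (i j : ι) {W : C} (g : W ⟶ (Y i).left) (h : W ⟶ (Y j).left)
    (w : g ≫ (Y i).hom = h ≫ (Y j).hom) :
    (pt1 Y i j g h w).reindex (Fin.succAbove 1) = pt0 Y i g := by
  rw [pt1, toA_reindex, pt0]
  congr 1
  ext a
  · rfl
  · dsimp [B.reindex]
    have : a = 0 := Subsingleton.elim _ _
    subst this
    rfl

/-- the cocycle condition in degree `0` -/
lemma ee_eq_of_cocycle (P : Cᵒᵖ ⥤ AddCommGrpCat.{w}) (c : Co Y P 0) (hc : dd Y P 0 c = 0)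
    (i j : ι) {W : C} (g : W ⟶ (Y i).left) (h : W ⟶ (Y j).left)
    (w : g ≫ (Y i).hom = h ≫ (Y j).hom) :
    ee Y P (pt0 Y i g) c = ee Y P (pt0 Y j h) c := by
  have h1 := ee_dd Y P (pt1 Y i j g h w) c
  rw [hc, map_zero, Fin.sum_univ_two, pt1_reindex_zero, pt1_reindex_one] at h1
  simp only [Fin.val_zero, pow_zero, one_smul, Fin.val_one, pow_one, neg_smul] at h1
  exact (sub_eq_zero.1 (by rw [sub_eq_add_neg]; exact h1.symm)).symm

/-! ### the augmentation -/

/-- the augmentation `P(X) → Č⁰(Y, P)` -/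
noncomputable def aug (P : Cᵒᵖ ⥤ AddCommGrpCat.{w}) (n : ℕ) (s : P.obj (op X)) : Co Y P n :=
  (Concrete.productEquiv (fun x : Fin (n + 1) → ι => P.obj (op (∏ᶜ (Y ∘ x)).left))).symm
    (fun x => (P.map (∏ᶜ (Y ∘ x)).hom.op).hom s)

lemma ee_aug (P : Cᵒᵖ ⥤ AddCommGrpCat.{w}) {n : ℕ} (s : P.obj (op X)) {W : C}
    (p : A Y (Fin (n + 1)) W) :
    ee Y P p (aug Y P n s) = (P.map (str Y p).op).hom s := by
  obtain ⟨x, g⟩ := p
  change (P.map g.op).hom ((Pi.π (fun x : Fin (n + 1) → ι => P.obj (op (∏ᶜ (Y ∘ x)).left)) x).hom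
    (aug Y P n s)) = _
  rw [aug, Concrete.productEquiv_symm_apply_π]
  dsimp only [str]
  rw [op_comp, P.map_comp]
  rfl

lemma dd_aug (P : Cᵒᵖ ⥤ AddCommGrpCat.{w}) (s : P.obj (op X)) :
    dd Y P 0 (aug Y P 0 s) = 0 := by
  apply co_ext
  intro W p
  rw [ee_dd, map_zero, Fin.sum_univ_two, ee_aug, ee_aug, str_reindex, str_reindex]
  simp

/-! ### exactness statements -/

/-- vanishing of Čech cohomology in degree `n + 1` as an elementwise statement -/
lemma exists_dd_eq (P : Cᵒᵖ ⥤ AddCommGrpCat.{w}) (n : ℕ)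
    (h : IsZero (((CC Y).obj P).homology (n + 1))) (a : Co Y P (n + 1))
    (ha : dd Y P (n + 1) a = 0) : ∃ a0 : Co Y P n, dd Y P n a0 = a := by
  rw [← HomologicalComplex.exactAt_iff_isZero_homology,
    HomologicalComplex.exactAt_iff' _ n (n + 1) (n + 2) (by simp) (by simp),
    ShortComplex.ab_exact_iff] at h
  exact h a ha

section SES

variable {S : ShortComplex (Cᵒᵖ ⥤ AddCommGrpCat.{w})} (hS : S.ShortExact)

include hS in
lemma degreewise_shortExact (n : ℕ) :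
    (ShortComplex.mk
      (Limits.Pi.map (fun x : Fin (n + 1) → ι => S.f.app (op (∏ᶜ (Y ∘ x)).left)))
      (Limits.Pi.map (fun x : Fin (n + 1) → ι => S.g.app (op (∏ᶜ (Y ∘ x)).left))) (by
        apply Pi.hom_ext
        intro x
        have hz : S.f.app (op (∏ᶜ (Y ∘ x)).left) ≫ S.g.app (op (∏ᶜ (Y ∘ x)).left) = 0 :=
          congrArg (fun m => m.app (op (∏ᶜ (Y ∘ x)).left)) S.zero
        rw [Category.assoc, Limits.Pi.map_π, Limits.Pi.map_π_assoc, hz, comp_zero,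
          zero_comp])).ShortExact :=
  pi_shortExact (fun x : Fin (n + 1) → ι => S.f.app (op (∏ᶜ (Y ∘ x)).left))
    (fun x => S.g.app (op (∏ᶜ (Y ∘ x)).left)) _
    (fun x => shortExact_app hS (op (∏ᶜ (Y ∘ x)).left))

include hS in
lemma mp_g_surjective (n : ℕ) : Function.Surjective (mp Y S.g n) :=
  (AddCommGrpCat.epi_iff_surjective _).1 (degreewise_shortExact Y hS n).epi_g

include hS in
lemma mp_f_injective (n : ℕ) : Function.Injective (mp Y S.f n) :=
  (AddCommGrpCat.mono_iff_injective _).1 (degreewise_shortExact Y hS n).mono_f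

include hS in
lemma mp_exact (n : ℕ) (c : Co Y S.X₂ n) (hc : mp Y S.g n c = 0) :
    ∃ a : Co Y S.X₁ n, mp Y S.f n a = c :=
  (ShortComplex.ab_exact_iff _).1 (degreewise_shortExact Y hS n).exact c hc

lemma mp_g_f (n : ℕ) (a : Co Y S.X₁ n) : mp Y S.g n (mp Y S.f n a) = 0 := by
  rw [← mp_comp, S.zero]
  have : ((CC Y).map (0 : S.X₁ ⟶ S.X₃)).f n = 0 := by rw [Functor.map_zero]; rfl
  exact ConcreteCategory.congr_hom this a

include hS in
/-- the snake lemma in degree `0`, by hand -/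
theorem exists_cocycle_lift (h1 : IsZero (((CC Y).obj S.X₁).homology 1)) (c₃ : Co Y S.X₃ 0)
    (hc₃ : dd Y S.X₃ 0 c₃ = 0) :
    ∃ c₂ : Co Y S.X₂ 0, dd Y S.X₂ 0 c₂ = 0 ∧ mp Y S.g 0 c₂ = c₃ := by
  obtain ⟨b, hb⟩ := mp_g_surjective Y hS 0 c₃
  obtain ⟨a, ha⟩ := mp_exact Y hS 1 (dd Y S.X₂ 0 b) (by rw [mp_dd, hb, hc₃])
  have hda : dd Y S.X₁ 1 a = 0 := by
    apply mp_f_injective Y hS 2
    rw [mp_dd, ha, dd_dd, map_zero]
  obtain ⟨a0, ha0⟩ := exists_dd_eq Y S.X₁ 0 h1 a hda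
  refine ⟨b - mp Y S.f 0 a0, ?_, ?_⟩
  · rw [map_sub, ← mp_dd, ha0, ha, sub_self]
  · rw [map_sub, hb, mp_g_f, sub_zero]

include hS in
/-- vanishing of the Čech cohomology of the cokernel -/
theorem isZero_homology_X₃ (p : ℕ) (h₂ : IsZero (((CC Y).obj S.X₂).homology (p + 1)))
    (h₁ : IsZero (((CC Y).obj S.X₁).homology (p + 2))) :
    IsZero (((CC Y).obj S.X₃).homology (p + 1)) :=
  ((shortExact_map_CC Y hS).homology_exact₃ (p + 1) (p + 2) rfl).isZero_X₂
    (h₂.eq_of_src _ _) (h₁.eq_of_tgt _ _)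

end SES

/-- Čech cohomology only depends on the values on the terms of the Čech nerve -/
theorem isZero_homology_iff_of_isIso {P P' : Cᵒᵖ ⥤ AddCommGrpCat.{w}} (φ : P ⟶ P')
    (hφ : ∀ (n : ℕ) (x : Fin (n + 1) → ι), IsIso (φ.app (op (∏ᶜ (Y ∘ x)).left))) (p : ℕ) :
    IsZero (((CC Y).obj P).homology p) ↔ IsZero (((CC Y).obj P').homology p) := by
  have h1 : ∀ n, IsIso (((CC Y).map φ).f n) := by
    intro n
    rw [CC_map_f]
    have := hφ n
    exact Limits.Pi.map_isIso (fun x : Fin (n + 1) → ι => φ.app (op (∏ᶜ (Y ∘ x)).left))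
  have h2 : IsIso ((CC Y).map φ) := HomologicalComplex.Hom.isIso_of_components _
  exact (asIso (HomologicalComplex.homologyMap ((CC Y).map φ) p)).isZero_iff

end Groth.Agent.H69.CechZero
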