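import Groth.Agent.H69.SemiNormal
import Mathlib.Algebra.CharP.Lemmas
import Mathlib.Algebra.CharP.Frobenius

/-!
# The `p`-power conductor lemma (helper69)

For a finite map `g : C → D` of rings of characteristic `p` which is injective on spectra and
has purely inseparable residue field extensions, every element of `D` has a `p`-power in the
image.
-/

set_option autoImplicit false
universe u

namespace Groth.Agent.H69.CharPConductor

open Groth.Agent.H69

variable {C D : Type u} [CommRing C] [CommRing D]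

theorem exists_pow_mem_range (g : C →+* D) (p : ℕ) [hp : Fact p.Prime] [CharP D p]
    (hfin : g.Finite)
    (hspec : Function.Injective (PrimeSpectrum.comap g))
    (hres : ∀ (P : PrimeSpectrum D) (x : D),
      ∃ (n : ℕ) (c s : C), g s ∉ P.asIdeal ∧ g s * x ^ p ^ n - g c ∈ P.asIdeal) :
    ∀ x : D, ∃ n : ℕ, x ^ p ^ n ∈ g.range := by
  classical
  algebraize [g]
  -- the `p`-closure of the image
  let C' : Subalgebra C D :=
    { carrier := {y | ∃ n : ℕ, y ^ p ^ n ∈ g.range}
      mul_mem' := by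
        rintro a b ⟨n, ha⟩ ⟨m, hb⟩
        refine ⟨n + m, ?_⟩
        rw [mul_pow, pow_add, pow_mul, pow_mul']
        exact mul_mem (pow_mem ha _) (pow_mem hb _)
      add_mem' := by
        rintro a b ⟨n, ha⟩ ⟨m, hb⟩
        refine ⟨n + m, ?_⟩
        rw [add_pow_char_pow, pow_add, pow_mul, pow_mul']
        exact add_mem (pow_mem ha _) (pow_mem hb _)
      algebraMap_mem' := by
        intro c
        exact ⟨0, by simpa using ⟨c, rfl⟩⟩ }
  have hC' : ∀ y : D, y ∈ C' ↔ ∃ n : ℕ, y ^ p ^ n ∈ g.range := fun y => Iff.rfl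
  suffices h : (C' : Subalgebra C D) = ⊤ by
    intro x
    have : x ∈ C' := by rw [h]; trivial
    exact (hC' x).1 this
  have hrangeC' : ∀ y ∈ g.range, y ∈ C' := fun y hy => ⟨0, by simpa using hy⟩
  have hclosed : ∀ (y : D) (n : ℕ), y ^ p ^ n ∈ C' → y ∈ C' := by
    rintro y n ⟨m, hm⟩
    exact ⟨n + m, by rw [pow_add, pow_mul]; exact hm⟩
  have hradC : ∀ (y : D) (N : ℕ), (∀ m, N ≤ m → y ^ m ∈ C') → y ∈ C' := by
    intro y N hy
    exact hclosed y N (hy _ (Nat.lt_pow_self hp.out.one_lt).le)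
  -- finiteness over `C'`
  haveI : Module.Finite C D := hfin
  haveI : Module.Finite C' D := Module.Finite.of_restrictScalars_finite C C' D
  have hint : Algebra.IsIntegral C' D := Algebra.IsIntegral.of_finite C' D
  -- spectra
  have hspec' : ∀ Q₁ Q₂ : Ideal D, Q₁.IsPrime → Q₂.IsPrime →
      Q₁.comap (algebraMap C' D) = Q₂.comap (algebraMap C' D) → Q₁ = Q₂ := by
    intro Q₁ Q₂ h₁ h₂ h
    have := @hspec ⟨Q₁, h₁⟩ ⟨Q₂, h₂⟩ (by
      apply PrimeSpectrum.ext
      show Q₁.comap g = Q₂.comap g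
      ext c
      have hc := Ideal.ext_iff.1 h (algebraMap C C' c)
      exact hc)
    exact congrArg PrimeSpectrum.asIdeal this
  -- the conductor
  let J : Ideal D :=
    { carrier := {y | ∀ x : D, y * x ∈ C'}
      add_mem' := by
        intro a b ha hb x
        rw [add_mul]
        exact add_mem (ha x) (hb x)
      zero_mem' := by
        intro x
        rw [zero_mul]
        exact zero_mem _
      smul_mem' := by
        intro c a ha x
        rw [smul_eq_mul, mul_comm c a, mul_assoc]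
        exact ha _ }
  have hJC' : ∀ y ∈ J, y ∈ C' := fun y hy => by simpa using hy 1
  have hJrad : ∀ (y : D) (n : ℕ), y ^ n ∈ J → y ∈ J := by
    intro y n hy x
    apply hradC (y * x) n
    intro m hm
    rw [mul_pow]
    have : y ^ m = y ^ n * y ^ (m - n) := by rw [← pow_add]; congr 1; omega
    rw [this, mul_assoc]
    exact hy _
  by_contra hne
  have h1J : (1 : D) ∉ J := by
    intro h1
    apply hne
    rw [eq_top_iff]
    intro x _
    have := h1 x
    rwa [one_mul] at this
  let I : Ideal C' := J.comap (algebraMap C' D)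
  have hIne : I ≠ ⊤ := by
    intro h
    apply h1J
    have : (1 : C') ∈ I := by rw [h]; trivial
    simpa [I] using this
  obtain ⟨m, hm, hIm⟩ := Ideal.exists_le_maximal I hIne
  obtain ⟨𝔭, h𝔭, -⟩ := Ideal.exists_minimalPrimes_le hIm
  have h𝔭prime : 𝔭.IsPrime := h𝔭.1.1
  obtain ⟨P, hJP, hPprime, hP𝔭⟩ := Ideal.exists_ideal_over_prime_of_isIntegral 𝔭 J h𝔭.1.2
  have huniq : ∀ Q : Ideal D, Q.IsPrime → Q.comap (algebraMap C' D) = 𝔭 → Q = P := by
    intro Q hQ hQ𝔭
    exact hspec' Q P hQ hPprime (hQ𝔭.trans hP𝔭.symm)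
  have hPmin : P ∈ J.minimalPrimes := by
    refine ⟨⟨hPprime, hJP⟩, ?_⟩
    rintro Q ⟨hQprime, hJQ⟩ hQP
    have h1 : Q.comap (algebraMap C' D) = 𝔭 := by
      apply le_antisymm
      · rw [← hP𝔭]; exact Ideal.comap_mono hQP
      · exact h𝔭.2 ⟨Ideal.comap_isPrime _ _, Ideal.comap_mono hJQ⟩
          (by rw [← hP𝔭]; exact Ideal.comap_mono hQP)
    rw [huniq Q hQprime h1]
  have key : ∀ u ∈ P, ∃ c : C', c ∉ 𝔭 ∧ (c : D) * u ∈ J := by
    intro u hu
    obtain ⟨t, htP, n, htn⟩ := exists_notMem_mul_pow_mem hPmin hu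
    have htu : t * u ∈ J := by
      apply hJrad (t * u) (n + 1)
      have : (t * u) ^ (n + 1) = (t ^ n * u) * (t * u ^ n) := by ring
      rw [this]
      exact J.mul_mem_left _ htn
    let J' : Ideal D :=
      { carrier := {d | d * u ∈ J}
        add_mem' := by
          intro a b ha hb
          show (a + b) * u ∈ J
          rw [add_mul]; exact J.add_mem ha hb
        zero_mem' := by
          show (0 : D) * u ∈ J
          rw [zero_mul]; exact J.zero_mem
        smul_mem' := by
          intro c a ha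
          show (c • a) * u ∈ J
          rw [smul_eq_mul, mul_assoc]; exact J.mul_mem_left _ ha }
    by_contra hcon
    push Not at hcon
    have hle : J'.comap (algebraMap C' D) ≤ 𝔭 := by
      intro c hc
      by_contra hcp
      exact hcon c hcp hc
    obtain ⟨Q, hJQ, hQprime, hQp⟩ := Ideal.exists_ideal_over_prime_of_isIntegral 𝔭 J' hle
    have hQP := huniq Q hQprime hQp
    apply htP
    rw [← hQP]
    exact hJQ htu
  obtain ⟨S, hS⟩ := (Module.Finite.fg_top : (⊤ : Submodule C' D).FG)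
  have hgen : ∀ d ∈ S, ∃ r : C', r ∉ 𝔭 ∧ (r : D) * d ∈ C' := by
    intro d _
    obtain ⟨n, c, s, hs, hsc⟩ := hres ⟨P, hPprime⟩ d
    obtain ⟨t, ht𝔭, ht⟩ := key _ hsc
    let s' : C' := ⟨g s, hrangeC' _ ⟨s, rfl⟩⟩
    have hs𝔭 : s' ∉ 𝔭 := by
      intro hsp
      apply hs
      have : s' ∈ P.comap (algebraMap C' D) := by rw [hP𝔭]; exact hsp
      exact this
    refine ⟨t * s', fun h => (h𝔭prime.mem_or_mem h).elim ht𝔭 hs𝔭, ?_⟩
    have h1 : (t : D) * (g s * d ^ p ^ n - g c) ∈ C' := hJC' _ ht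
    have h2 : ((t * s' : C') : D) * d ^ p ^ n ∈ C' := by
      have : ((t * s' : C') : D) * d ^ p ^ n = (t : D) * (g s * d ^ p ^ n - g c) + (t : D) * g c := by
        show ((t : D) * g s) * d ^ p ^ n = _
        ring
      rw [this]
      exact add_mem h1 (mul_mem t.2 (hrangeC' _ ⟨c, rfl⟩))
    apply hclosed _ n
    have hpos : 0 < p ^ n := pow_pos hp.out.pos n
    have : (((t * s' : C') : D) * d) ^ p ^ n =
        ((t * s' : C') : D) ^ (p ^ n - 1) * (((t * s' : C') : D) * d ^ p ^ n) := by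
      rw [mul_pow, ← mul_assoc, ← pow_succ, Nat.sub_add_cancel hpos]
    rw [this]
    exact mul_mem (pow_mem (t * s').2 _) h2
  choose! r hr𝔭 hr using hgen
  let r₀ : C' := ∏ d ∈ S, r d
  have hr₀𝔭 : r₀ ∉ 𝔭 := by
    intro h
    obtain ⟨d, hd, hd𝔭⟩ := (h𝔭prime.prod_mem_iff).1 h
    exact hr𝔭 d hd hd𝔭
  have hr₀ : (r₀ : D) ∈ J := by
    intro x
    have hx : x ∈ Submodule.span C' (S : Set D) := by rw [hS]; trivial
    induction hx using Submodule.span_induction with
    | mem d hd =>
      have hdvd : r d ∣ r₀ := Finset.dvd_prod_of_mem r hd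
      obtain ⟨e, he⟩ := hdvd
      have : (r₀ : D) * d = (e : D) * ((r d : D) * d) := by
        rw [he]
        show ((r d : D) * (e : D)) * d = _
        ring
      rw [this]
      exact mul_mem e.2 (hr d hd)
    | zero => rw [mul_zero]; exact zero_mem _
    | add a b _ _ ha hb => rw [mul_add]; exact add_mem ha hb
    | smul c a _ ha =>
      rw [Algebra.smul_def, mul_left_comm]
      exact mul_mem c.2 ha
  exact hr₀𝔭 (h𝔭.1.2 hr₀)

end Groth.Agent.H69.CharPConductor
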