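import Groth.Agent.H69.EtaScheme
import Mathlib.FieldTheory.PurelyInseparable.Basic

set_option autoImplicit false
universe u

namespace Groth.Agent.H69

open CategoryTheory AlgebraicGeometry

section RingHom

variable {A B : Type u} [CommRing A] [CommRing B] (φ : A →+* B)

/-- Field-valued points of a universal homeomorphism are determined by their restriction. -/
theorem ringHom_ext_of_isUnivHomeo
    (h : FlatMor.IsUnivHomeo (Spec.map (CommRingCat.ofHom φ)))
    {L : Type u} [Field L] (α β : B →+* L) (hαβ : α.comp φ = β.comp φ) : α = β := by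
  have hUI : UniversallyInjective (Spec.map (CommRingCat.ofHom φ)) := by
    rw [universallyInjective_eq]
    refine MorphismProperty.universally_mono ?_ _ h
    intro X Y f hf
    exact (hf : IsHomeomorph f).injective
  have h2' : ∀ (K : Type u) [Field K], Function.Injective
      (fun g : Spec (.of K) ⟶ Spec (.of B) ↦ g ≫ Spec.map (CommRingCat.ofHom φ)) :=
    ((tfae_universallyInjective (Spec.map (CommRingCat.ofHom φ))).out 0 1).1 hUI
  have h2 := h2' L
  have h3 : Spec.map (CommRingCat.ofHom α) ≫ Spec.map (CommRingCat.ofHom φ) =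
      Spec.map (CommRingCat.ofHom β) ≫ Spec.map (CommRingCat.ofHom φ) := by
    rw [← Spec.map_comp, ← Spec.map_comp, ← CommRingCat.ofHom_comp, ← CommRingCat.ofHom_comp, hαβ]
  have h4 := Spec.map_injective (h2 h3)
  exact congrArg CommRingCat.Hom.hom h4

/-- If field-valued points are determined by their restriction along `φ`, the residue field
extensions of `φ` are purely inseparable. -/
theorem exists_pow_mem_range_of_ringHom_ext
    (hext : ∀ (L : Type u) [Field L] (α β : B →+* L), α.comp φ = β.comp φ → α = β)
    (Q : PrimeSpectrum B) (z : Q.asIdeal.ResidueField) :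
    ∃ n : ℕ, z ^ ringExpChar (PrimeSpectrum.comap φ Q).asIdeal.ResidueField ^ n ∈
      Set.range (Ideal.ResidueField.map (PrimeSpectrum.comap φ Q).asIdeal Q.asIdeal φ rfl) := by
  let _ : Algebra (PrimeSpectrum.comap φ Q).asIdeal.ResidueField Q.asIdeal.ResidueField :=
    (Ideal.ResidueField.map (PrimeSpectrum.comap φ Q).asIdeal Q.asIdeal φ rfl).toAlgebra
  have hpi : IsPurelyInseparable (PrimeSpectrum.comap φ Q).asIdeal.ResidueField
      Q.asIdeal.ResidueField := by
    rw [isPurelyInseparable_iff_subsingleton_emb, subsingleton_iff]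
    intro σ₁ σ₂
    apply AlgHom.coe_ringHom_injective
    apply Ideal.ResidueField.ringHom_ext
    apply hext
    apply RingHom.ext
    intro a
    show σ₁ (algebraMap B _ (φ a)) = σ₂ (algebraMap B _ (φ a))
    rw [← Ideal.ResidueField.map_algebraMap (PrimeSpectrum.comap φ Q).asIdeal Q.asIdeal φ rfl a]
    exact (σ₁.commutes _).trans (σ₂.commutes _).symm
  have : ExpChar (PrimeSpectrum.comap φ Q).asIdeal.ResidueField
      (ringExpChar (PrimeSpectrum.comap φ Q).asIdeal.ResidueField) := ringExpChar.expChar _
  obtain ⟨n, c, hc⟩ := IsPurelyInseparable.pow_mem (PrimeSpectrum.comap φ Q).asIdeal.ResidueField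
    (ringExpChar (PrimeSpectrum.comap φ Q).asIdeal.ResidueField) z
  exact ⟨n, c, hc⟩

end RingHom

end Groth.Agent.H69
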