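import Groth.Agent.H69.PGroupSum
import Mathlib.FieldTheory.PurelyInseparable.Basic
import Mathlib.LinearAlgebra.PiTensorProduct.Basis
import Mathlib.RingTheory.PiTensorProduct
import Mathlib.Data.ZMod.Basic

set_option autoImplicit false
universe u v

namespace Groth.Agent.H69

open scoped TensorProduct
open Module

section PI

variable (k : Type u) (K : Type v) [Field k] [Field K] [Algebra k K] [FiniteDimensional k K]
  [IsPurelyInseparable k K]

/-- In a finite purely inseparable extension the `[K : k]`-th power of every element lies in `k`. -/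
theorem pow_finrank_mem_range (x : K) : x ^ finrank k K ∈ (algebraMap k K).range := by
  have hq : ExpChar k (ringExpChar k) := ringExpChar.expChar k
  set q := ringExpChar k with hqdef
  obtain ⟨e, he⟩ := IsPurelyInseparable.finrank_eq_pow (F := k) K q
  obtain ⟨n, y, hy⟩ := IsPurelyInseparable.minpoly_eq_X_pow_sub_C k q x
  have hint : IsIntegral k x := Algebra.IsIntegral.isIntegral x
  have hdvd := minpoly.degree_dvd (K := k) (L := K) hint
  have hq1 : 1 ≤ q := by
    rcases expChar_is_prime_or_one k q with h | h
    · exact h.one_lt.le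
    · exact h.ge
  have hdeg : (minpoly k x).natDegree = q ^ n := by
    rw [hy, Polynomial.natDegree_X_pow_sub_C]
  have hxy : x ^ q ^ n = algebraMap k K y := by
    have := minpoly.aeval k x
    rw [hy] at this
    simpa [sub_eq_zero] using this
  rw [hdeg, he] at hdvd
  obtain ⟨c, hc⟩ := hdvd
  rw [he, hc, pow_mul, hxy, ← map_pow]
  exact ⟨_, rfl⟩

end PI

/-- The shift action of `ZMod Q` on functions on `ZMod Q × α`. -/
@[reducible] def shiftAction (Q : ℕ) (α : Type*) (ι : Type*) :
    MulAction (Multiplicative (ZMod Q)) (ZMod Q × α → ι) where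
  smul g h := fun j => h (j.1 + Multiplicative.toAdd g, j.2)
  one_smul h := by
    funext j
    show h (j.1 + Multiplicative.toAdd (1 : Multiplicative (ZMod Q)), j.2) = h j
    rw [toAdd_one, add_zero]
  mul_smul g g' h := by
    funext j
    show h (j.1 + Multiplicative.toAdd (g * g'), j.2) =
      h (j.1 + Multiplicative.toAdd g + Multiplicative.toAdd g', j.2)
    rw [toAdd_mul, add_assoc]

section Main

variable {k : Type u} {K : Type v} [Field k] [Field K] [Algebra k K]

theorem repr_reindex {ι : Type*} (b : Basis ι k K) (d : ℕ) (σ : Equiv.Perm (Fin d))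
    (y : ⨂[k] _ : Fin d, K) (f : Fin d → ι) :
    (Basis.piTensorProduct (fun _ : Fin d => b)).repr
        (PiTensorProduct.reindex k (fun _ : Fin d => K) σ y) f =
      (Basis.piTensorProduct (fun _ : Fin d => b)).repr y (f ∘ σ) := by
  induction y using PiTensorProduct.induction_on with
  | smul_tprod r x =>
    rw [map_smul, map_smul, map_smul, PiTensorProduct.reindex_tprod]
    rw [Finsupp.smul_apply, Finsupp.smul_apply]
    congr 1
    rw [Basis.piTensorProduct_repr_tprod_apply, Basis.piTensorProduct_repr_tprod_apply]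
    rw [← Equiv.prod_comp σ]
    refine Finset.prod_congr rfl (fun i _ => ?_)
    rw [Equiv.symm_apply_apply]
    rfl
  | add x y hx hy =>
    rw [map_add, map_add, map_add, Finsupp.add_apply, Finsupp.add_apply, hx, hy]

theorem lift_mkPiAlgebra_basis {ι : Type*} (b : Basis ι k K) (d : ℕ) (f : Fin d → ι) :
    PiTensorProduct.lift (MultilinearMap.mkPiAlgebra k (Fin d) K)
      (Basis.piTensorProduct (fun _ : Fin d => b) f) = ∏ i, b (f i) := by
  rw [Basis.piTensorProduct_apply, PiTensorProduct.lift.tprod, MultilinearMap.mkPiAlgebra_apply]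

/-- For a finite purely inseparable extension `K / k` whose degree divides `d`, the multiplication
map sends symmetric tensors in `K ⊗ ⋯ ⊗ K` (`d` factors) into `k`. -/
theorem lift_mkPiAlgebra_mem_range_of_symmetric [FiniteDimensional k K] [IsPurelyInseparable k K]
    (d : ℕ) (hd : finrank k K ∣ d) (y : ⨂[k] _ : Fin d, K)
    (hy : ∀ σ : Equiv.Perm (Fin d), PiTensorProduct.reindex k (fun _ : Fin d => K) σ y = y) :
    PiTensorProduct.lift (MultilinearMap.mkPiAlgebra k (Fin d) K) y ∈ (algebraMap k K).range := by
  classical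
  obtain ⟨p, hp⟩ : ∃ q, ExpChar k q := ⟨_, ringExpChar.expChar k⟩
  cases hp with
  | zero =>
    have := IsPurelyInseparable.surjective_algebraMap_of_isSeparable k K
    exact this _
  | prime hprime =>
    have : Fact p.Prime := ⟨hprime⟩
    have : CharP K p := charP_of_injective_algebraMap (algebraMap k K).injective p
    have : ExpChar k p := ExpChar.prime hprime
    set Q := finrank k K with hQ
    have hQpos : 0 < Q := Module.finrank_pos
    have : NeZero Q := ⟨hQpos.ne'⟩
    obtain ⟨e, he⟩ := IsPurelyInseparable.finrank_eq_pow (F := k) K p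
    obtain ⟨m, hm⟩ := hd
    -- the basis
    let b : Basis (Fin Q) k K := Module.finBasis k K
    let bT := Basis.piTensorProduct (fun _ : Fin d => b)
    let c : (Fin d → Fin Q) → k := fun f => bT.repr y f
    have hc : ∀ (σ : Equiv.Perm (Fin d)) (f : Fin d → Fin Q), c (f ∘ σ) = c f := by
      intro σ f
      show bT.repr y (f ∘ σ) = bT.repr y f
      rw [← repr_reindex b d σ y f, hy σ]
    let F : (Fin d → Fin Q) → K := fun f => c f • ∏ i, b (f i)
    have hF : ∀ (σ : Equiv.Perm (Fin d)) (f : Fin d → Fin Q), F (f ∘ σ) = F f := by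
      intro σ f
      show c (f ∘ σ) • ∏ i, b ((f ∘ σ) i) = c f • ∏ i, b (f i)
      rw [hc σ f]
      congr 1
      exact Equiv.prod_comp σ (fun i => b (f i))
    have hsum : PiTensorProduct.lift (MultilinearMap.mkPiAlgebra k (Fin d) K) y = ∑ f, F f := by
      conv_lhs => rw [← bT.sum_repr y]
      rw [map_sum]
      refine Finset.sum_congr rfl (fun f _ => ?_)
      rw [map_smul, lift_mkPiAlgebra_basis]
    rw [hsum]
    -- reindex by `ZMod Q × Fin m`
    have hcard : Fintype.card (Fin d) = Fintype.card (ZMod Q × Fin m) := by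
      rw [Fintype.card_fin, Fintype.card_prod, ZMod.card, Fintype.card_fin, hm]
    let e₀ : Fin d ≃ ZMod Q × Fin m := Fintype.equivOfCardEq hcard
    let F' : (ZMod Q × Fin m → Fin Q) → K := fun h => F (h ∘ e₀)
    have hsum' : ∑ f, F f = ∑ h, F' h := by
      refine Fintype.sum_equiv (Equiv.arrowCongr e₀ (Equiv.refl _)) F F' (fun f => ?_)
      show F f = F ((fun j => f (e₀.symm j)) ∘ e₀)
      congr 1
      funext i
      simp
    rw [hsum']
    let _ : MulAction (Multiplicative (ZMod Q)) (ZMod Q × Fin m → Fin Q) :=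
      shiftAction Q (Fin m) (Fin Q)
    have hG : IsPGroup p (Multiplicative (ZMod Q)) := by
      apply IsPGroup.of_card (n := e)
      rw [Nat.card_congr Multiplicative.toAdd, Nat.card_zmod, ← he]
    have hM : ∀ x : K, p • x = 0 := by
      intro x
      rw [nsmul_eq_mul, CharP.cast_eq_zero K p, zero_mul]
    have hF' : ∀ (g : Multiplicative (ZMod Q)) (h : ZMod Q × Fin m → Fin Q),
        F' (g • h) = F' h := by
      intro g h
      let s : Equiv.Perm (ZMod Q × Fin m) :=
        Equiv.prodCongr (Equiv.addRight (Multiplicative.toAdd g)) (Equiv.refl _)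
      have h1 : (g • h) ∘ e₀ = (h ∘ e₀) ∘ (e₀.trans (s.trans e₀.symm)) := by
        funext i
        show h ((e₀ i).1 + Multiplicative.toAdd g, (e₀ i).2) = h (e₀ (e₀.symm (s (e₀ i))))
        rw [Equiv.apply_symm_apply]
        rfl
      show F ((g • h) ∘ e₀) = F (h ∘ e₀)
      rw [h1, hF]
    rw [sum_eq_sum_fixedPoints p hG hM F' hF']
    refine Subring.sum_mem _ (fun h _ => ?_)
    split_ifs with hfix
    · -- fixed points
      have hconst : ∀ (cc : ZMod Q) (a : Fin m), h (cc, a) = h (0, a) := by
        intro cc a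
        have := congrFun (hfix (Multiplicative.ofAdd cc)) (0, a)
        rw [← this]
        show h (cc, a) = h ((0 : ZMod Q) + cc, a)
        rw [zero_add]
      show c (h ∘ e₀) • ∏ i, b ((h ∘ e₀) i) ∈ (algebraMap k K).range
      have hprod : ∏ i, b ((h ∘ e₀) i) = (∏ a : Fin m, b (h (0, a))) ^ Q := by
        have h0 : ∏ i, b ((h ∘ e₀) i) = ∏ j, b (h j) := Equiv.prod_comp e₀ (fun j => b (h j))
        rw [h0, Fintype.prod_prod_type]
        rw [Finset.prod_congr rfl (fun cc _ => Finset.prod_congr rfl (fun a _ => by rw [hconst cc a]))]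
        rw [Finset.prod_const, Finset.card_univ, ZMod.card]
      rw [hprod, Algebra.smul_def]
      exact Subring.mul_mem _ ⟨_, rfl⟩ (pow_finrank_mem_range k K _)
    · exact Subring.zero_mem _

end Main

end Groth.Agent.H69
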