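import Mathlib.RingTheory.PiTensorProduct
import Mathlib.LinearAlgebra.PiTensorProduct.Basic

set_option autoImplicit false

namespace Groth.Agent.H69

open scoped TensorProduct

section

variable {A B k K : Type*} [CommRing A] [CommRing B] [Algebra A B] [CommRing k] [CommRing K]
  [Algebra k K] (ι : A →+* k) (ψ : B →+* K)
  (hψ : ∀ a, ψ (algebraMap A B a) = algebraMap k K (ι a)) (d : ℕ)

include hψ in
theorem psi_smul (a : A) (b : B) : ψ (a • b) = ι a • ψ b := by
  rw [Algebra.smul_def, map_mul, hψ, Algebra.smul_def]

/-- The semilinear comparison map between tensor powers over different base rings. -/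
noncomputable def tensorBC : (⨂[A] _ : Fin d, B) →+ (⨂[k] _ : Fin d, K) :=
  PiTensorProduct.liftAddHom
    (fun p : A × (Fin d → B) => ι p.1 • PiTensorProduct.tprod k (fun i => ψ (p.2 i)))
    (fun r f i hf => by
      have : PiTensorProduct.tprod k (fun i => ψ (f i)) = 0 :=
        MultilinearMap.map_coord_zero _ i (by simp [hf])
      simp [this])
    (fun f => by simp)
    (fun r f i m₁ m₂ => by
      have h : ∀ m : B, (fun j => ψ (Function.update f i m j)) =
          Function.update (fun j => ψ (f j)) i (ψ m) := by
        intro m
        funext j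
        by_cases hj : j = i
        · subst hj; simp
        · simp [Function.update_of_ne hj]
      simp only [h, map_add, MultilinearMap.map_update_add, smul_add])
    (fun r r' f => by simp only [map_add, add_smul])
    (fun r f i r' => by
      have h : (fun j => ψ (Function.update f i (r' • f i) j)) =
          Function.update (fun j => ψ (f j)) i (ι r' • ψ (f i)) := by
        funext j
        by_cases hj : j = i
        · subst hj; simp [psi_smul ι ψ hψ]
        · simp [Function.update_of_ne hj]
      simp only [h, MultilinearMap.map_update_smul, Function.update_eq_self, map_mul, smul_smul,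
        mul_comm])

theorem tensorBC_smul_tprod (a : A) (x : Fin d → B) :
    tensorBC ι ψ hψ d (a • PiTensorProduct.tprod A x) =
      ι a • PiTensorProduct.tprod k (fun i => ψ (x i)) := by
  rw [← PiTensorProduct.tprodCoeff_eq_smul_tprod]
  rfl

theorem tensorBC_reindex (σ : Equiv.Perm (Fin d)) (t : ⨂[A] _ : Fin d, B) :
    tensorBC ι ψ hψ d (PiTensorProduct.reindex A (fun _ : Fin d => B) σ t) =
      PiTensorProduct.reindex k (fun _ : Fin d => K) σ (tensorBC ι ψ hψ d t) := by
  induction t using PiTensorProduct.induction_on with
  | smul_tprod a x =>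
    rw [map_smul, PiTensorProduct.reindex_tprod, tensorBC_smul_tprod, tensorBC_smul_tprod,
      map_smul, PiTensorProduct.reindex_tprod]
  | add x y hx hy => rw [map_add, map_add, map_add, map_add, hx, hy]

theorem tensorBC_lift (t : ⨂[A] _ : Fin d, B) :
    PiTensorProduct.lift (MultilinearMap.mkPiAlgebra k (Fin d) K) (tensorBC ι ψ hψ d t) =
      ψ (PiTensorProduct.lift (MultilinearMap.mkPiAlgebra A (Fin d) B) t) := by
  induction t using PiTensorProduct.induction_on with
  | smul_tprod a x =>
    rw [tensorBC_smul_tprod, map_smul, map_smul, PiTensorProduct.lift.tprod,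
      PiTensorProduct.lift.tprod, MultilinearMap.mkPiAlgebra_apply,
      MultilinearMap.mkPiAlgebra_apply, psi_smul ι ψ hψ, map_prod]
  | add x y hx hy => rw [map_add, map_add, map_add, map_add, hx, hy]

end

end Groth.Agent.H69
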