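import Groth.Agent.H69.SemiNormal
import Groth.Agent.H69.SymField
import Groth.Agent.H69.TensorBC
import Groth.Agent.H69.EtaScheme2
import Groth.Prelude.Def_SymTen

set_option autoImplicit false
universe u

namespace Groth.Agent.H69

open scoped TensorProduct
open CategoryTheory AlgebraicGeometry

section Res

variable {C : Type*} [CommRing C]

theorem exists_mul_eq_of_residueField (p : Ideal C) [p.IsPrime] (z : p.ResidueField) :
    ∃ c s : C, s ∉ p ∧ algebraMap C p.ResidueField s * z = algebraMap C p.ResidueField c := by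
  obtain ⟨x, y, hy, rfl⟩ := IsFractionRing.div_surjective (A := C ⧸ p) z
  obtain ⟨c, rfl⟩ := Ideal.Quotient.mk_surjective x
  obtain ⟨s, rfl⟩ := Ideal.Quotient.mk_surjective y
  have hs : s ∉ p := by
    intro hs
    have h0 : Ideal.Quotient.mk p s = 0 := Ideal.Quotient.eq_zero_iff_mem.2 hs
    exact nonZeroDivisors.ne_zero hy h0
  refine ⟨c, s, hs, ?_⟩
  have e1 : algebraMap (C ⧸ p) p.ResidueField (Ideal.Quotient.mk p c) =
      algebraMap C p.ResidueField c := Ideal.algebraMap_quotient_residueField_mk p c
  have e2 : algebraMap (C ⧸ p) p.ResidueField (Ideal.Quotient.mk p s) =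
      algebraMap C p.ResidueField s := Ideal.algebraMap_quotient_residueField_mk p s
  rw [e1, e2]
  have hne : algebraMap C p.ResidueField s ≠ 0 := by
    rw [Ne, Ideal.algebraMap_residueField_eq_zero]
    exact hs
  field_simp

end Res

section PI

variable {A B : Type u} [CommRing A] [CommRing B] (φ : A →+* B)

/-- If field-valued points are determined by their restriction along `φ`, the residue field
extensions of `φ` are purely inseparable. -/
theorem isPurelyInseparable_of_ringHom_ext
    (hext : ∀ (L : Type u) [Field L] (α β : B →+* L), α.comp φ = β.comp φ → α = β)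
    (Q : PrimeSpectrum B) :
    @IsPurelyInseparable (PrimeSpectrum.comap φ Q).asIdeal.ResidueField Q.asIdeal.ResidueField _ _
      (Ideal.ResidueField.map (PrimeSpectrum.comap φ Q).asIdeal Q.asIdeal φ rfl).toAlgebra := by
  let _ : Algebra (PrimeSpectrum.comap φ Q).asIdeal.ResidueField Q.asIdeal.ResidueField :=
    (Ideal.ResidueField.map (PrimeSpectrum.comap φ Q).asIdeal Q.asIdeal φ rfl).toAlgebra
  rw [isPurelyInseparable_iff_subsingleton_emb, subsingleton_iff]
  intro σ₁ σ₂
  apply AlgHom.coe_ringHom_injective
  apply Ideal.ResidueField.ringHom_ext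
  apply hext
  apply RingHom.ext
  intro a
  show σ₁ (algebraMap B _ (φ a)) = σ₂ (algebraMap B _ (φ a))
  rw [← Ideal.ResidueField.map_algebraMap (PrimeSpectrum.comap φ Q).asIdeal Q.asIdeal φ rfl a]
  exact (σ₁.commutes _).trans (σ₂.commutes _).symm

end PI

section Main

theorem chow_mem_range (A C C' B : Type u) [CommRing A] [CommRing C] [CommRing C'] [CommRing B]
    [Algebra A C] [Algebra A C'] [Algebra A B] [IsNoetherianRing C] (hC : HTop.IsSeminormalRing C)
    (g : C →ₐ[A] C') [IsReduced C'] (hfin : g.toRingHom.Finite)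
    (hg : FlatMor.IsUnivHomeo (Spec.map (CommRingCat.ofHom g.toRingHom)))
    (d : ℕ) (hd : 0 < d)
    (hdeg : ∀ q : PrimeSpectrum C',
      @Module.finrank (PrimeSpectrum.comap g.toRingHom q).asIdeal.ResidueField q.asIdeal.ResidueField _ _
          (Ideal.ResidueField.map (PrimeSpectrum.comap g.toRingHom q).asIdeal q.asIdeal g.toRingHom
            rfl).toAlgebra.toModule ∣ d)
    (φ : B →ₐ[A] C') (x : ⨂[A] _ : Fin d, B) (hx : x ∈ SymTen.TS A B d) :
    φ (PiTensorProduct.lift (MultilinearMap.mkPiAlgebra A (Fin d) B) x) ∈ g.range := by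
  have hhomeo := isHomeomorph_of_isUnivHomeo g.toRingHom hg
  have hbij : Function.Bijective (PrimeSpectrum.comap g.toRingHom) := hhomeo.bijective
  have hext : ∀ (L : Type u) [Field L] (α β : C' →+* L),
      α.comp g.toRingHom = β.comp g.toRingHom → α = β :=
    fun L _ α β h => ringHom_ext_of_isUnivHomeo g.toRingHom hg α β h
  obtain ⟨x', hx'def⟩ : ∃ x', x' = φ (PiTensorProduct.lift (MultilinearMap.mkPiAlgebra A (Fin d) B) x) :=
    ⟨_, rfl⟩
  rw [← hx'def]
  have key : x' ∈ g.toRingHom.range := by
    apply mem_range_of_pointwise g.toRingHom hC hfin hbij x'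
    intro P'
    obtain ⟨p, hp⟩ : ∃ p, p = PrimeSpectrum.comap g.toRingHom P' := ⟨_, rfl⟩
    have hpc : p.asIdeal = P'.asIdeal.comap g.toRingHom := by rw [hp]; rfl
    let _ : Algebra p.asIdeal.ResidueField P'.asIdeal.ResidueField :=
      (Ideal.ResidueField.map p.asIdeal P'.asIdeal g.toRingHom hpc).toAlgebra
    have hpi : IsPurelyInseparable p.asIdeal.ResidueField P'.asIdeal.ResidueField := by
      subst hp
      exact isPurelyInseparable_of_ringHom_ext g.toRingHom hext P'
    have hdvd : Module.finrank p.asIdeal.ResidueField P'.asIdeal.ResidueField ∣ d := by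
      subst hp
      exact hdeg P'
    have hfd : FiniteDimensional p.asIdeal.ResidueField P'.asIdeal.ResidueField := by
      apply Module.finite_of_finrank_pos
      rcases Nat.eq_zero_or_pos
        (Module.finrank p.asIdeal.ResidueField P'.asIdeal.ResidueField) with h0 | h
      · rw [h0, zero_dvd_iff] at hdvd
        omega
      · exact h
    let ι : A →+* p.asIdeal.ResidueField :=
      (algebraMap C p.asIdeal.ResidueField).comp (algebraMap A C)
    let ψ : B →+* P'.asIdeal.ResidueField :=
      (algebraMap C' P'.asIdeal.ResidueField).comp φ.toRingHom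
    have hmap : ∀ c : C, algebraMap p.asIdeal.ResidueField P'.asIdeal.ResidueField
        (algebraMap C p.asIdeal.ResidueField c) =
        algebraMap C' P'.asIdeal.ResidueField (g c) := fun c =>
      Ideal.ResidueField.map_algebraMap p.asIdeal P'.asIdeal g.toRingHom hpc c
    have hψ : ∀ a, ψ (algebraMap A B a) =
        algebraMap p.asIdeal.ResidueField P'.asIdeal.ResidueField (ι a) := by
      intro a
      show algebraMap C' P'.asIdeal.ResidueField (φ (algebraMap A B a)) =
        algebraMap p.asIdeal.ResidueField P'.asIdeal.ResidueField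
          (algebraMap C p.asIdeal.ResidueField (algebraMap A C a))
      rw [hmap, φ.commutes, g.commutes]
    have hy : ∀ σ : Equiv.Perm (Fin d),
        PiTensorProduct.reindex p.asIdeal.ResidueField (fun _ : Fin d => P'.asIdeal.ResidueField) σ
          (tensorBC ι ψ hψ d x) = tensorBC ι ψ hψ d x := by
      intro σ
      rw [← tensorBC_reindex, hx σ]
    have hmem := lift_mkPiAlgebra_mem_range_of_symmetric d hdvd (tensorBC ι ψ hψ d x) hy
    rw [tensorBC_lift] at hmem
    obtain ⟨z, hz⟩ := hmem
    have hz' : algebraMap p.asIdeal.ResidueField P'.asIdeal.ResidueField z =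
        algebraMap C' P'.asIdeal.ResidueField x' := by
      rw [hz, hx'def]; rfl
    obtain ⟨c, s, hs, hcs⟩ := exists_mul_eq_of_residueField p.asIdeal z
    refine ⟨c, s, ?_, ?_⟩
    · intro hgs
      apply hs
      rw [hpc]
      exact hgs
    · rw [← Ideal.algebraMap_residueField_eq_zero, map_sub, map_mul, sub_eq_zero]
      have := congrArg (algebraMap p.asIdeal.ResidueField P'.asIdeal.ResidueField) hcs
      rw [map_mul, hz', hmap, hmap] at this
      exact this
  obtain ⟨c, hc⟩ := key
  exact ⟨c, hc⟩

end Main

end Groth.Agent.H69
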