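import Groth.Agent.H69.EtCoprodH
import Groth.Agent.H21.SepClosedCoh

/-!
# Cohomology of the sum of skyscrapers `⨁ i_{x*} ℤ` over the closed points (helper69)
-/

set_option autoImplicit false
set_option backward.isDefEq.respectTransparency.types false
universe u
open CategoryTheory CategoryTheory.Limits AlgebraicGeometry Opposite

namespace Groth.Agent.H69.ClosedPtsH

theorem subsingleton_H_closedPts {k : Type u} [Field k] [IsAlgClosed k] {X : Scheme.{u}}
    (f : X ⟶ Spec (CommRingCat.of k)) [LocallyOfFiniteType f] [CompactSpace X]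
    [QuasiSeparatedSpace X]
    (c : Cofan fun x : {x : X // IsClosed ({x} : Set X)} =>
      (EtCoh.push (X.fromSpecResidueField x.1)).obj (EtCoh.const (Spec (X.residueField x.1)) ℤ))
    (hc : IsColimit c) (q : ℕ) (hq : 0 < q) :
    Subsingleton (EtCoh.H X c.pt q) := by
  obtain ⟨n, rfl⟩ : ∃ n, q = n + 1 := ⟨q - 1, by omega⟩
  refine Groth.Agent.H69.EtCoprodH.subsingleton_H_cofan X _ c hc (n + 1) (fun x => ?_)
  let e : X.residueField x.1 ≅ CommRingCat.of k := residueFieldIsoBase f x.1 x.2
  have h1 : IsAlgClosed (X.residueField x.1) :=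
    IsAlgClosed.of_ringEquiv k (X.residueField x.1) e.symm.commRingCatIsoToRingEquiv
  have h2 : IsSepClosed (X.residueField x.1) := inferInstance
  exact Groth.Agent.H21.SepClosedCoh.subsingleton_H_push (k := X.residueField x.1)
    (X.fromSpecResidueField x.1) (EtCoh.const (Spec (X.residueField x.1)) ℤ) n

end Groth.Agent.H69.ClosedPtsH
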