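import Mathlib.RingTheory.PowerSeries.Inverse
import Mathlib.RingTheory.Ideal.Quotient.Operations
import Mathlib.LinearAlgebra.Quotient.Basic
import Mathlib.Algebra.Module.Submodule.Pointwise

set_option autoImplicit false
universe u

namespace Groth.Agent.H69

open PowerSeries

section

variable {k : Type u} [Field k]

theorem smul_quot_mk {R : Type*} [CommRing R] (I : Ideal R) (x a : R) :
    x • (Ideal.Quotient.mk I a) = Ideal.Quotient.mk I (x * a) := rfl

theorem not_X_dvd_one : ¬ ((X : PowerSeries k) ∣ 1) := by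
  rw [X_dvd_iff]; simp

theorem X_dvd_of_not_isUnit {c : PowerSeries k} (h : ¬ IsUnit c) : (X : PowerSeries k) ∣ c := by
  rw [X_dvd_iff]
  by_contra h0
  exact h (isUnit_iff_constantCoeff.2 (isUnit_iff_ne_zero.2 h0))

theorem mem_span_one_sup_iff {f : Fin 3 → PowerSeries k}
    (hf : f ∈ Submodule.span (PowerSeries k) {(1 : Fin 3 → PowerSeries k)} ⊔
      Ideal.span {(X : PowerSeries k)} • (⊤ : Submodule (PowerSeries k) (Fin 3 → PowerSeries k))) :
    ∃ α : PowerSeries k, ∀ j, (X : PowerSeries k) ∣ f j - α := by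
  obtain ⟨y, hy, z, hz, rfl⟩ := Submodule.mem_sup.1 hf
  obtain ⟨α, rfl⟩ := Submodule.mem_span_singleton.1 hy
  refine ⟨α, fun j => ?_⟩
  have hzj : ∀ j, (X : PowerSeries k) ∣ z j := by
    intro j
    refine Submodule.smul_induction_on hz ?_ ?_
    · intro r hr w _
      obtain ⟨c, rfl⟩ := Ideal.mem_span_singleton.1 hr
      exact ⟨c * w j, by simp [Pi.smul_apply, smul_eq_mul]; ring⟩
    · intro x y hx hy
      exact dvd_add hx hy
  simpa using hzj j

theorem crimp3 (m n : ℕ) (hmn : m ≤ n)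
    (S : Submodule (PowerSeries k) (Fin 3 → PowerSeries k))
    (h1 : (1 : (Fin 3 → PowerSeries k)) ∈ S)
    (e : ((Fin 3 → PowerSeries k) ⧸ S) ≃ₗ[PowerSeries k]
      ((PowerSeries k ⧸ Ideal.span {(PowerSeries.X : PowerSeries k) ^ m}) ×
        (PowerSeries k ⧸ Ideal.span {(PowerSeries.X : PowerSeries k) ^ n}))) :
    Ideal.span {(PowerSeries.X : PowerSeries k) ^ n} •
        (⊤ : Submodule (PowerSeries k) (Fin 3 → PowerSeries k)) ≤ S ∧
    ∃ f : (Fin 3 → PowerSeries k),
      f ∉ Submodule.span (PowerSeries k) {(1 : (Fin 3 → PowerSeries k))} ⊔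
        Ideal.span {(PowerSeries.X : PowerSeries k)} •
          (⊤ : Submodule (PowerSeries k) (Fin 3 → PowerSeries k)) ∧
      S = Submodule.span (PowerSeries k)
          {(1 : (Fin 3 → PowerSeries k)), ((PowerSeries.X : PowerSeries k) ^ m) • f} ⊔
        Ideal.span {(PowerSeries.X : PowerSeries k) ^ n} •
          (⊤ : Submodule (PowerSeries k) (Fin 3 → PowerSeries k)) := by
  classical
  let π : (Fin 3 → PowerSeries k) →ₗ[PowerSeries k]
      ((PowerSeries k ⧸ Ideal.span {(X : PowerSeries k) ^ m}) ×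
        (PowerSeries k ⧸ Ideal.span {(X : PowerSeries k) ^ n})) := e.toLinearMap ∘ₗ S.mkQ
  have hπker : ∀ w, π w = 0 ↔ w ∈ S := by
    intro w
    show e (S.mkQ w) = 0 ↔ w ∈ S
    rw [LinearEquiv.map_eq_zero_iff, Submodule.mkQ_apply, Submodule.Quotient.mk_eq_zero]
  have hπsurj : Function.Surjective π := by
    intro q
    obtain ⟨w, hw⟩ := S.mkQ_surjective (e.symm q)
    exact ⟨w, by show e (S.mkQ w) = q; rw [hw, LinearEquiv.apply_symm_apply]⟩
  have hdecomp : ∀ w : Fin 3 → PowerSeries k,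
      w = w 0 • (1 : Fin 3 → PowerSeries k) + (w 1 - w 0) • (Pi.single 1 1 : Fin 3 → PowerSeries k) +
        (w 2 - w 0) • (Pi.single 2 1 : Fin 3 → PowerSeries k) := by
    intro w
    funext j
    fin_cases j <;> simp
  obtain ⟨a₀, ha₀⟩ := Ideal.Quotient.mk_surjective (π (Pi.single 1 1)).1
  obtain ⟨b₀, hb₀⟩ := Ideal.Quotient.mk_surjective (π (Pi.single 1 1)).2
  obtain ⟨a₁, ha₁⟩ := Ideal.Quotient.mk_surjective (π (Pi.single 2 1)).1
  obtain ⟨b₁, hb₁⟩ := Ideal.Quotient.mk_surjective (π (Pi.single 2 1)).2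
  have hπ1 : π 1 = 0 := (hπker 1).2 h1
  have hπ : ∀ w : Fin 3 → PowerSeries k, π w =
      (Ideal.Quotient.mk _ (a₀ * (w 1 - w 0) + a₁ * (w 2 - w 0)),
        Ideal.Quotient.mk _ (b₀ * (w 1 - w 0) + b₁ * (w 2 - w 0))) := by
    intro w
    conv_lhs => rw [hdecomp w]
    rw [map_add, map_add, map_smul, map_smul, map_smul, hπ1, smul_zero, zero_add]
    apply Prod.ext
    · simp only [Prod.fst_add, Prod.smul_fst, ← ha₀, ← ha₁, map_add]
      rw [smul_quot_mk, smul_quot_mk, mul_comm a₀, mul_comm a₁]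
    · simp only [Prod.snd_add, Prod.smul_snd, ← hb₀, ← hb₁, map_add]
      rw [smul_quot_mk, smul_quot_mk, mul_comm b₀, mul_comm b₁]
  have hmem : ∀ w : Fin 3 → PowerSeries k, w ∈ S ↔
      ((X : PowerSeries k) ^ m ∣ a₀ * (w 1 - w 0) + a₁ * (w 2 - w 0)) ∧
      ((X : PowerSeries k) ^ n ∣ b₀ * (w 1 - w 0) + b₁ * (w 2 - w 0)) := by
    intro w
    rw [← hπker, hπ, Prod.mk_eq_zero, Ideal.Quotient.eq_zero_iff_mem, Ideal.Quotient.eq_zero_iff_mem,
      Ideal.mem_span_singleton, Ideal.mem_span_singleton]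
  -- part 1
  have hXn : ∀ w : Fin 3 → PowerSeries k, (X : PowerSeries k) ^ n • w ∈ S := by
    intro w
    rw [hmem]
    simp only [Pi.smul_apply, smul_eq_mul]
    constructor
    · refine (pow_dvd_pow X hmn).trans ⟨a₀ * (w 1 - w 0) + a₁ * (w 2 - w 0), by ring⟩
    · exact ⟨b₀ * (w 1 - w 0) + b₁ * (w 2 - w 0), by ring⟩
  have part1 : Ideal.span {(X : PowerSeries k) ^ n} •
      (⊤ : Submodule (PowerSeries k) (Fin 3 → PowerSeries k)) ≤ S := by
    rw [Submodule.smul_le]
    intro r hr w _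
    obtain ⟨c, rfl⟩ := Ideal.mem_span_singleton.1 hr
    rw [mul_comm, mul_smul]
    exact S.smul_mem c (hXn w)
  refine ⟨part1, ?_⟩
  -- generic conclusion from explicit data
  have concl : ∀ f : Fin 3 → PowerSeries k,
      (f ∉ Submodule.span (PowerSeries k) {(1 : (Fin 3 → PowerSeries k))} ⊔
        Ideal.span {(X : PowerSeries k)} • (⊤ : Submodule (PowerSeries k) (Fin 3 → PowerSeries k))) →
      ((X : PowerSeries k) ^ m • f ∈ S) →
      (∀ s ∈ S, ∃ (t : PowerSeries k) (z : Fin 3 → PowerSeries k),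
        s = s 0 • (1 : Fin 3 → PowerSeries k) + t • ((X : PowerSeries k) ^ m • f) +
          (X : PowerSeries k) ^ n • z) →
      ∃ f : (Fin 3 → PowerSeries k),
      f ∉ Submodule.span (PowerSeries k) {(1 : (Fin 3 → PowerSeries k))} ⊔
        Ideal.span {(X : PowerSeries k)} • (⊤ : Submodule (PowerSeries k) (Fin 3 → PowerSeries k)) ∧
      S = Submodule.span (PowerSeries k)
          {(1 : (Fin 3 → PowerSeries k)), ((X : PowerSeries k) ^ m) • f} ⊔
        Ideal.span {(X : PowerSeries k) ^ n} •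
          (⊤ : Submodule (PowerSeries k) (Fin 3 → PowerSeries k)) := by
    intro f hf1 hf2 hf3
    refine ⟨f, hf1, le_antisymm ?_ ?_⟩
    · intro s hs
      obtain ⟨t, z, hstz⟩ := hf3 s hs
      rw [hstz]
      refine Submodule.add_mem _ (Submodule.mem_sup_left ?_) (Submodule.mem_sup_right ?_)
      · exact Submodule.add_mem _
          (Submodule.smul_mem _ _ (Submodule.subset_span (Set.mem_insert _ _)))
          (Submodule.smul_mem _ _ (Submodule.subset_span (Set.mem_insert_of_mem _ rfl)))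
      · exact Submodule.smul_mem_smul (Ideal.mem_span_singleton_self _) trivial
    · refine sup_le ?_ part1
      rw [Submodule.span_le]
      rintro w (rfl | rfl)
      · exact h1
      · exact hf2
  -- coordinate form
  have concl' : ∀ f0 f1 f2 : PowerSeries k,
      (∀ α : PowerSeries k, ¬ ((X : PowerSeries k) ∣ f0 - α ∧ (X : PowerSeries k) ∣ f1 - α ∧
        (X : PowerSeries k) ∣ f2 - α)) →
      ((X : PowerSeries k) ^ m ∣ a₀ * (X ^ m * f1 - X ^ m * f0) + a₁ * (X ^ m * f2 - X ^ m * f0)) →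
      ((X : PowerSeries k) ^ n ∣ b₀ * (X ^ m * f1 - X ^ m * f0) + b₁ * (X ^ m * f2 - X ^ m * f0)) →
      (∀ s ∈ S, ∃ t z0 z1 z2 : PowerSeries k,
        s 0 = s 0 * 1 + t * (X ^ m * f0) + X ^ n * z0 ∧
        s 1 = s 0 * 1 + t * (X ^ m * f1) + X ^ n * z1 ∧
        s 2 = s 0 * 1 + t * (X ^ m * f2) + X ^ n * z2) →
      ∃ f : (Fin 3 → PowerSeries k),
      f ∉ Submodule.span (PowerSeries k) {(1 : (Fin 3 → PowerSeries k))} ⊔
        Ideal.span {(X : PowerSeries k)} • (⊤ : Submodule (PowerSeries k) (Fin 3 → PowerSeries k)) ∧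
      S = Submodule.span (PowerSeries k)
          {(1 : (Fin 3 → PowerSeries k)), ((X : PowerSeries k) ^ m) • f} ⊔
        Ideal.span {(X : PowerSeries k) ^ n} •
          (⊤ : Submodule (PowerSeries k) (Fin 3 → PowerSeries k)) := by
    intro f0 f1 f2 H1 H2a H2b H3
    apply concl ![f0, f1, f2]
    · intro hf
      obtain ⟨α, hα⟩ := mem_span_one_sup_iff hf
      exact H1 α ⟨hα 0, hα 1, hα 2⟩
    · rw [hmem]
      exact ⟨H2a, H2b⟩
    · intro s hs
      obtain ⟨t, z0, z1, z2, h0, h1', h2⟩ := H3 s hs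
      refine ⟨t, ![z0, z1, z2], ?_⟩
      funext j
      fin_cases j
      · exact h0
      · exact h1'
      · exact h2
  rcases Nat.eq_zero_or_pos n with hn0 | hnpos
  · -- n = 0, so m = 0
    have hm0 : m = 0 := by omega
    apply concl' 0 1 0
    · rintro α ⟨h0, h1', -⟩
      apply not_X_dvd_one (k := k)
      have : (1 : PowerSeries k) = (1 - α) - (0 - α) := by ring
      rw [this]; exact dvd_sub h1' h0
    · rw [hm0]; simp
    · rw [hn0]; simp
    · intro s hs
      refine ⟨0, 0, s 1 - s 0, s 2 - s 0, ?_, ?_, ?_⟩ <;> rw [hn0] <;> ring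
  rcases Nat.eq_zero_or_pos m with hm0 | hmpos
  · -- m = 0 < n
    obtain ⟨w, hw⟩ := hπsurj (0, 1)
    rw [hπ] at hw
    have hw2 := (Prod.ext_iff.1 hw).2
    simp only at hw2
    rw [← map_one (Ideal.Quotient.mk _), Ideal.Quotient.eq, Ideal.mem_span_singleton] at hw2
    have hX : (X : PowerSeries k) ∣ b₀ * (w 1 - w 0) + b₁ * (w 2 - w 0) - 1 :=
      (dvd_pow_self X hnpos.ne').trans hw2
    have hunit : IsUnit b₀ ∨ IsUnit b₁ := by
      by_contra hcon
      push Not at hcon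
      have hb0 := X_dvd_of_not_isUnit hcon.1
      have hb1 := X_dvd_of_not_isUnit hcon.2
      apply not_X_dvd_one (k := k)
      have : (1 : PowerSeries k) = b₀ * (w 1 - w 0) + b₁ * (w 2 - w 0) -
          (b₀ * (w 1 - w 0) + b₁ * (w 2 - w 0) - 1) := by ring
      rw [this]
      exact dvd_sub (dvd_add (hb0.mul_right _) (hb1.mul_right _)) hX
    rcases hunit with hb | hb
    · obtain ⟨u₀, hu⟩ := hb.exists_right_inv
      apply concl' 0 (b₁ * u₀) (-1)
      · rintro α ⟨h0, -, h2⟩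
        apply not_X_dvd_one (k := k)
        have : (1 : PowerSeries k) = (0 - α) - (-1 - α) := by ring
        rw [this]; exact dvd_sub h0 h2
      · rw [hm0]; simp
      · have : b₀ * (X ^ m * (b₁ * u₀) - X ^ m * 0) + b₁ * (X ^ m * (-1) - X ^ m * 0) = 0 := by
          linear_combination (X ^ m * b₁) * hu
        rw [this]; exact dvd_zero _
      · intro s hs
        obtain ⟨-, β, hβ⟩ := (hmem s).1 hs
        refine ⟨-(s 2 - s 0), 0, β * u₀, 0, ?_, ?_, ?_⟩
        · ring
        · rw [hm0]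
          linear_combination u₀ * hβ - (s 1 - s 0) * hu
        · rw [hm0]; ring
    · obtain ⟨u₁, hu⟩ := hb.exists_right_inv
      apply concl' 0 (-1) (b₀ * u₁)
      · rintro α ⟨h0, h2, -⟩
        apply not_X_dvd_one (k := k)
        have : (1 : PowerSeries k) = (0 - α) - (-1 - α) := by ring
        rw [this]; exact dvd_sub h0 h2
      · rw [hm0]; simp
      · have : b₀ * (X ^ m * (-1) - X ^ m * 0) + b₁ * (X ^ m * (b₀ * u₁) - X ^ m * 0) = 0 := by
          linear_combination (X ^ m * b₀) * hu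
        rw [this]; exact dvd_zero _
      · intro s hs
        obtain ⟨-, β, hβ⟩ := (hmem s).1 hs
        refine ⟨-(s 1 - s 0), 0, 0, β * u₁, ?_, ?_, ?_⟩
        · ring
        · rw [hm0]; ring
        · rw [hm0]
          linear_combination u₁ * hβ - (s 2 - s 0) * hu
  · -- 1 ≤ m ≤ n
    obtain ⟨w, hw⟩ := hπsurj (1, 0)
    obtain ⟨w', hw'⟩ := hπsurj (0, 1)
    rw [hπ] at hw hw'
    have hwa := (Prod.ext_iff.1 hw).1
    have hwb := (Prod.ext_iff.1 hw).2
    have hw'a := (Prod.ext_iff.1 hw').1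
    have hw'b := (Prod.ext_iff.1 hw').2
    simp only at hwa hwb hw'a hw'b
    rw [← map_one (Ideal.Quotient.mk _), Ideal.Quotient.eq, Ideal.mem_span_singleton] at hwa hw'b
    rw [Ideal.Quotient.eq_zero_iff_mem, Ideal.mem_span_singleton] at hwb hw'a
    have hXm : (X : PowerSeries k) ∣ X ^ m := dvd_pow_self X hmpos.ne'
    have hXn' : (X : PowerSeries k) ∣ X ^ n := dvd_pow_self X hnpos.ne'
    have hD : IsUnit (a₀ * b₁ - a₁ * b₀) := by
      by_contra hcon
      have hXD := X_dvd_of_not_isUnit hcon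
      apply not_X_dvd_one (k := k)
      have : (1 : PowerSeries k) = (a₀ * b₁ - a₁ * b₀) * ((w 1 - w 0) * (w' 2 - w' 0) - (w' 1 - w' 0) * (w 2 - w 0))
          - (a₀ * (w 1 - w 0) + a₁ * (w 2 - w 0) - 1) * (b₀ * (w' 1 - w' 0) + b₁ * (w' 2 - w' 0))
          - (b₀ * (w' 1 - w' 0) + b₁ * (w' 2 - w' 0) - 1)
          + (a₀ * (w' 1 - w' 0) + a₁ * (w' 2 - w' 0)) * (b₀ * (w 1 - w 0) + b₁ * (w 2 - w 0)) := by
        ring
      rw [this]
      exact dvd_add (dvd_sub (dvd_sub (hXD.mul_right _) ((hXm.trans hwa).mul_right _))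
        (hXn'.trans hw'b)) ((hXm.trans hw'a).mul_right _)
    obtain ⟨uD, hu⟩ := hD.exists_right_inv
    apply concl' 0 (b₁ * uD) (-b₀ * uD)
    · rintro α ⟨h0, h1', h2⟩
      apply not_X_dvd_one (k := k)
      have : (1 : PowerSeries k) = a₀ * (b₁ * uD - α) + a₁ * (-b₀ * uD - α) - (a₀ + a₁) * (0 - α) := by
        linear_combination (-1 : PowerSeries k) * hu
      rw [this]
      exact dvd_sub (dvd_add (h1'.mul_left _) (h2.mul_left _)) (h0.mul_left _)
    · exact ⟨1, by linear_combination (X : PowerSeries k) ^ m * hu⟩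
    · have : b₀ * (X ^ m * (b₁ * uD) - X ^ m * 0) + b₁ * (X ^ m * (-b₀ * uD) - X ^ m * 0) = 0 := by
        ring
      rw [this]; exact dvd_zero _
    · intro s hs
      obtain ⟨⟨α, hα⟩, β, hβ⟩ := (hmem s).1 hs
      refine ⟨α, 0, -a₁ * β * uD, a₀ * β * uD, ?_, ?_, ?_⟩
      · ring
      · linear_combination (uD * b₁) * hα - (uD * a₁) * hβ - (s 1 - s 0) * hu
      · linear_combination (-uD * b₀) * hα + (uD * a₀) * hβ - (s 2 - s 0) * hu

end

end Groth.Agent.H69
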