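import Groth.Agent.H69.Crimp3
import Mathlib.LinearAlgebra.Isomorphisms

/-!
# Crimps of the unramified triple cover: the converse construction (helper69)
-/

set_option autoImplicit false
universe u

namespace Groth.Agent.H69

open PowerSeries

section

variable {k : Type u} [Field k]

theorem mem_span_smul_top_iff {R : Type*} [CommRing R] (r : R) (z : Fin 3 → R) :
    z ∈ Ideal.span {r} • (⊤ : Submodule R (Fin 3 → R)) ↔ ∃ w : Fin 3 → R, z = r • w := by
  rw [Submodule.ideal_span_singleton_smul, Submodule.mem_smul_pointwise_iff_exists]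
  constructor
  · rintro ⟨w, -, rfl⟩; exact ⟨w, rfl⟩
  · rintro ⟨w, rfl⟩; exact ⟨w, trivial, rfl⟩

theorem third_index : ∀ i j : Fin 3, i ≠ j → ∃ l : Fin 3, l ≠ i ∧ l ≠ j ∧
    ∀ x : Fin 3, x = i ∨ x = j ∨ x = l := by decide

/-- If `f` is not in `R·1 + t S'`, two of its coordinates differ by a unit. -/
theorem exists_isUnit_sub_of_notMem {f : Fin 3 → PowerSeries k}
    (hf : f ∉ Submodule.span (PowerSeries k) {(1 : Fin 3 → PowerSeries k)} ⊔
      Ideal.span {(X : PowerSeries k)} • (⊤ : Submodule (PowerSeries k) (Fin 3 → PowerSeries k))) :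
    ∃ i j : Fin 3, i ≠ j ∧ IsUnit (f i - f j) := by
  by_contra hcon
  push Not at hcon
  apply hf
  have hdvd : ∀ j : Fin 3, (X : PowerSeries k) ∣ f j - f 0 := by
    intro j
    by_cases hj : j = 0
    · subst hj; simp
    · exact X_dvd_of_not_isUnit (hcon j 0 hj)
  choose w hw using hdvd
  rw [Submodule.mem_sup]
  refine ⟨f 0 • 1, Submodule.smul_mem _ _ (Submodule.mem_span_singleton_self _), X • w,
    (mem_span_smul_top_iff _ _).2 ⟨w, rfl⟩, ?_⟩
  funext j
  simp only [Pi.add_apply, Pi.smul_apply, Pi.one_apply, smul_eq_mul, mul_one]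
  rw [← hw j]; ring

/-- The converse construction: `S = R·1 + R·t^m f + t^n S'` is a subalgebra with quotient
`R/t^m ⊕ R/t^n`. -/
theorem crimp3_conv (m n : ℕ) (hmn : m ≤ n) (hn : n ≤ 2 * m)
    (f : (Fin 3 → PowerSeries k))
    (hf : f ∉ Submodule.span (PowerSeries k) {(1 : (Fin 3 → PowerSeries k))} ⊔
      Ideal.span {(X : PowerSeries k)} • (⊤ : Submodule (PowerSeries k) (Fin 3 → PowerSeries k)))
    (S : Submodule (PowerSeries k) (Fin 3 → PowerSeries k))
    (hS : S = Submodule.span (PowerSeries k)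
        {(1 : (Fin 3 → PowerSeries k)), ((X : PowerSeries k) ^ m) • f} ⊔
        Ideal.span {(X : PowerSeries k) ^ n} •
          (⊤ : Submodule (PowerSeries k) (Fin 3 → PowerSeries k))) :
    (∀ x ∈ S, ∀ y ∈ S, x * y ∈ S) ∧
    Nonempty (((Fin 3 → PowerSeries k) ⧸ S) ≃ₗ[PowerSeries k]
      ((PowerSeries k ⧸ Ideal.span {(X : PowerSeries k) ^ m}) ×
        (PowerSeries k ⧸ Ideal.span {(X : PowerSeries k) ^ n}))) := by
  -- membership criterion
  have hmem : ∀ v : Fin 3 → PowerSeries k, v ∈ S ↔
      ∃ (a b : PowerSeries k) (w : Fin 3 → PowerSeries k),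
        v = a • 1 + b • ((X : PowerSeries k) ^ m • f) + (X : PowerSeries k) ^ n • w := by
    intro v
    rw [hS, Submodule.mem_sup]
    constructor
    · rintro ⟨y, hy, z, hz, rfl⟩
      obtain ⟨a, b, rfl⟩ := Submodule.mem_span_pair.1 hy
      obtain ⟨w, rfl⟩ := (mem_span_smul_top_iff _ _).1 hz
      exact ⟨a, b, w, rfl⟩
    · rintro ⟨a, b, w, rfl⟩
      exact ⟨_, Submodule.mem_span_pair.2 ⟨a, b, rfl⟩, _, (mem_span_smul_top_iff _ _).2 ⟨w, rfl⟩, rfl⟩
  constructor
  · intro x hx y hy
    obtain ⟨a, b, w, rfl⟩ := (hmem x).1 hx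
    obtain ⟨a', b', w', rfl⟩ := (hmem y).1 hy
    obtain ⟨d, h⟩ : ∃ d, 2 * m = n + d := ⟨2 * m - n, by omega⟩
    refine (hmem _).2 ⟨a * a', a * b' + a' * b,
      (a • 1 + b • ((X : PowerSeries k) ^ m • f)) * w' + w * (a' • 1 + b' • ((X : PowerSeries k) ^ m • f))
        + (X : PowerSeries k) ^ n • (w * w') + (b * b' * (X : PowerSeries k) ^ d) • (f * f), ?_⟩
    funext j
    simp only [Pi.add_apply, Pi.mul_apply, Pi.smul_apply, Pi.one_apply, smul_eq_mul, mul_one]
    have : (X : PowerSeries k) ^ m * (X : PowerSeries k) ^ m =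
        (X : PowerSeries k) ^ n * (X : PowerSeries k) ^ d := by
      rw [← pow_add, ← pow_add, ← two_mul, h]
    linear_combination (b * b' * f j * f j) * this
  · -- the quotient
    obtain ⟨i, j, hij, hu⟩ := exists_isUnit_sub_of_notMem hf
    obtain ⟨l, hli, hlj, hcover⟩ := third_index i j hij
    obtain ⟨u, hu'⟩ := hu
    -- coordinate functionals
    let c₁ : (Fin 3 → PowerSeries k) →ₗ[PowerSeries k] PowerSeries k :=
      { toFun := fun v => (v i - v j) * (↑u⁻¹ : PowerSeries k)
        map_add' := by intro v w; simp only [Pi.add_apply]; ring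
        map_smul' := by intro c v; simp only [Pi.smul_apply, smul_eq_mul, RingHom.id_apply]; ring }
    let c₂ : (Fin 3 → PowerSeries k) →ₗ[PowerSeries k] PowerSeries k :=
      { toFun := fun v => (v l - v j) - (v i - v j) * (↑u⁻¹ : PowerSeries k) * (f l - f j)
        map_add' := by intro v w; simp only [Pi.add_apply]; ring
        map_smul' := by intro c v; simp only [Pi.smul_apply, smul_eq_mul, RingHom.id_apply]; ring }
    have hc₁ : ∀ v, c₁ v = (v i - v j) * (↑u⁻¹ : PowerSeries k) := fun v => rfl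
    have hc₂ : ∀ v, c₂ v = (v l - v j) - (v i - v j) * (↑u⁻¹ : PowerSeries k) * (f l - f j) :=
      fun v => rfl
    have huu : (f i - f j) * (↑u⁻¹ : PowerSeries k) = 1 := by
      rw [← hu']; exact u.mul_inv
    let Φ : (Fin 3 → PowerSeries k) →ₗ[PowerSeries k]
        ((PowerSeries k ⧸ Ideal.span {(X : PowerSeries k) ^ m}) ×
          (PowerSeries k ⧸ Ideal.span {(X : PowerSeries k) ^ n})) :=
      ((Submodule.mkQ (Ideal.span {(X : PowerSeries k) ^ m})).comp c₁).prod
        ((Submodule.mkQ (Ideal.span {(X : PowerSeries k) ^ n})).comp c₂)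
    have hΦ : ∀ v, Φ v = (Submodule.Quotient.mk (c₁ v), Submodule.Quotient.mk (c₂ v)) := fun v => rfl
    -- the standard basis vector at `l`
    let el : Fin 3 → PowerSeries k := Pi.single l 1
    have hel_l : el l = 1 := Pi.single_eq_same l 1
    have hel_i : el i = 0 := Pi.single_eq_of_ne hli.symm 1
    have hel_j : el j = 0 := Pi.single_eq_of_ne hlj.symm 1
    have hsurj : Function.Surjective Φ := by
      rintro ⟨a, b⟩
      obtain ⟨a, rfl⟩ := Submodule.Quotient.mk_surjective _ a
      obtain ⟨b, rfl⟩ := Submodule.Quotient.mk_surjective _ b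
      refine ⟨a • f + b • el, ?_⟩
      rw [hΦ]
      have h1 : c₁ (a • f + b • el) = a := by
        rw [hc₁]
        simp only [Pi.add_apply, Pi.smul_apply, smul_eq_mul, hel_i, hel_j, mul_zero, add_zero]
        linear_combination a * huu
      have h2 : c₂ (a • f + b • el) = b := by
        rw [hc₂]
        simp only [Pi.add_apply, Pi.smul_apply, smul_eq_mul, hel_i, hel_j, hel_l, mul_zero, add_zero,
          mul_one]
        linear_combination (-(a * (f l - f j))) * huu
      rw [h1, h2]
    have hker : LinearMap.ker Φ = S := by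
      ext v
      rw [LinearMap.mem_ker, hΦ, Prod.mk_eq_zero, Submodule.Quotient.mk_eq_zero,
        Submodule.Quotient.mk_eq_zero, Ideal.mem_span_singleton, Ideal.mem_span_singleton, hmem]
      constructor
      · rintro ⟨⟨a, ha⟩, ⟨b, hb⟩⟩
        refine ⟨v j - a * (X : PowerSeries k) ^ m * f j, a, b • el, ?_⟩
        rw [hc₁] at ha
        rw [hc₂] at hb
        have hvi : v i - v j = (X : PowerSeries k) ^ m * a * (f i - f j) := by
          have h3 : (v i - v j) * (↑u⁻¹ : PowerSeries k) * (f i - f j) =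
              (X : PowerSeries k) ^ m * a * (f i - f j) := by rw [ha]
          rw [mul_assoc, mul_comm (↑u⁻¹ : PowerSeries k), huu, mul_one] at h3
          exact h3
        funext x
        rcases hcover x with rfl | rfl | rfl
        · simp only [Pi.add_apply, Pi.smul_apply, Pi.one_apply, smul_eq_mul, mul_one, hel_i, mul_zero,
            add_zero]
          linear_combination hvi
        · simp only [Pi.add_apply, Pi.smul_apply, Pi.one_apply, smul_eq_mul, mul_one, hel_j, mul_zero,
            add_zero]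
          ring
        · simp only [Pi.add_apply, Pi.smul_apply, Pi.one_apply, smul_eq_mul, mul_one, hel_l]
          rw [ha] at hb
          linear_combination hb
      · rintro ⟨a, b, w, rfl⟩
        obtain ⟨d, rfl⟩ : ∃ d, n = m + d := ⟨n - m, by omega⟩
        constructor
        · refine ⟨b + (X : PowerSeries k) ^ d * ((w i - w j) * (↑u⁻¹ : PowerSeries k)), ?_⟩
          rw [hc₁]
          simp only [Pi.add_apply, Pi.smul_apply, Pi.one_apply, smul_eq_mul, mul_one, pow_add]
          linear_combination (b * (X : PowerSeries k) ^ m) * huu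
        · refine ⟨(w l - w j) - (w i - w j) * (↑u⁻¹ : PowerSeries k) * (f l - f j), ?_⟩
          rw [hc₂]
          simp only [Pi.add_apply, Pi.smul_apply, Pi.one_apply, smul_eq_mul, mul_one]
          linear_combination (-(b * (X : PowerSeries k) ^ m * (f l - f j))) * huu
    exact ⟨(Submodule.quotEquivOfEq _ _ hker.symm).trans (Φ.quotKerEquivOfSurjective hsurj)⟩

end

end Groth.Agent.H69
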