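import Groth.Agent.H69.EtSecExact

/-!
# Gluing sections of abelian étale sheaves along disjoint open covers (helper69)

* `sec_ext_arrows`, `sec_glue_arrows`: separatedness and gluing for a covering family of arrows.
* `opensObj V`, `opensHom V`: an open subscheme as an object of the small étale site.
* `gsec_surjective_of_disjoint_cover`: if every covering sieve of the terminal object contains
  (the inclusions of) a finite family of pairwise disjoint opens covering `X`, then global sections
  send epimorphisms to surjections.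
-/

set_option autoImplicit false
universe u
open CategoryTheory CategoryTheory.Limits AlgebraicGeometry Opposite

namespace Groth.Agent.H69.EtSecExact

variable {X : Scheme.{u}}

lemma isSheaf_forget (F : EtCoh.Ab X) :
    Presieve.IsSheaf X.smallEtaleTopology (F.obj ⋙ forget AddCommGrpCat.{u+1}) :=
  (isSheaf_iff_isSheaf_of_type _ _).1
    ((Presheaf.isSheaf_iff_isSheaf_forget _ F.obj (forget AddCommGrpCat.{u+1})).1 F.property)

/-- separatedness along a covering family of arrows -/
theorem sec_ext_arrows (F : EtCoh.Ab X) {W : X.Etale} {ι : Type*} {Z : ι → X.Etale}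
    (f : ∀ i, Z i ⟶ W) (hf : Sieve.ofArrows _ f ∈ X.smallEtaleTopology W)
    (s t : EtCoh.sect F W) (h : ∀ i, (F.obj.map (f i).op).hom s = (F.obj.map (f i).op).hom t) :
    s = t := by
  have hfor := (isSheaf_forget F) _ hf
  rw [Sieve.ofArrows, ← Presieve.isSheafFor_iff_generate, Presieve.isSheafFor_arrows_iff] at hfor
  obtain ⟨t', -, ht'⟩ := hfor (fun i => (F.obj.map (f i).op).hom t) (by
    intro i j Y gi gj hij
    change (F.obj.map gi.op).hom ((F.obj.map (f i).op).hom t) =
      (F.obj.map gj.op).hom ((F.obj.map (f j).op).hom t)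
    have h1 : ∀ (i : ι) (g : Y ⟶ Z i), (F.obj.map g.op).hom ((F.obj.map (f i).op).hom t) =
        (F.obj.map (g ≫ f i).op).hom t := by
      intro i g
      rw [op_comp, F.obj.map_comp]
      rfl
    rw [h1, h1, hij])
  rw [ht' s (fun i => h i), ht' t (fun i => rfl)]

/-- gluing along a covering family of arrows -/
theorem sec_glue_arrows (F : EtCoh.Ab X) {W : X.Etale} {ι : Type*} {Z : ι → X.Etale}
    (f : ∀ i, Z i ⟶ W) (hf : Sieve.ofArrows _ f ∈ X.smallEtaleTopology W)
    (x : ∀ i, EtCoh.sect F (Z i))
    (hx : ∀ (i j : ι) (Y : X.Etale) (gi : Y ⟶ Z i) (gj : Y ⟶ Z j), gi ≫ f i = gj ≫ f j →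
      (F.obj.map gi.op).hom (x i) = (F.obj.map gj.op).hom (x j)) :
    ∃ s : EtCoh.sect F W, ∀ i, (F.obj.map (f i).op).hom s = x i := by
  have hfor := (isSheaf_forget F) _ hf
  rw [Sieve.ofArrows, ← Presieve.isSheafFor_iff_generate, Presieve.isSheafFor_arrows_iff] at hfor
  obtain ⟨t, ht, -⟩ := hfor x (fun i j Y gi gj hij => hx i j Y gi gj hij)
  exact ⟨t, ht⟩

/-- sections over an object with empty underlying space are unique -/
theorem sec_subsingleton_of_isEmpty (F : EtCoh.Ab X) (W : X.Etale) [IsEmpty W.left]
    (s t : EtCoh.sect F W) : s = t := by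
  refine sec_ext_arrows F (ι := PEmpty.{1}) (Z := fun i => i.elim) (fun i => i.elim) ?_ s t
    (fun i => i.elim)
  rw [Scheme.ofArrows_mem_smallEtaleTopology_iff]
  ext w
  exact (IsEmpty.false w).elim

/-- an open subscheme as an object of the small étale site -/
noncomputable abbrev opensObj (V : X.Opens) : X.Etale := Scheme.Etale.mk V.ι

/-- the inclusion of an open subscheme, as an arrow to the terminal object -/
noncomputable abbrev opensHom (V : X.Opens) : opensObj V ⟶ EtCoh.top X :=
  MorphismProperty.Over.homMk V.ι (Category.comp_id _)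

/-- If every covering sieve of the terminal object contains the inclusions of a finite family of
pairwise disjoint opens covering `X`, then global sections send epimorphisms to surjections. -/
theorem gsec_surjective_of_disjoint_cover (X : Scheme.{u})
    (hcov : ∀ R : Sieve (EtCoh.top X), R ∈ X.smallEtaleTopology (EtCoh.top X) →
      ∃ (n : ℕ) (V : Fin n → X.Opens), Pairwise (Function.onFun Disjoint V) ∧ (⨆ j, V j = ⊤) ∧
        ∀ j, R (opensHom (V j)))
    {G H : EtCoh.Ab X} (q : G ⟶ H) [Epi q] :
    Function.Surjective ((q.hom.app (op (EtCoh.top X))).hom) := by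
  intro b
  obtain ⟨R, hR, hloc⟩ := locally_surjective_of_epi q (EtCoh.top X) b
  obtain ⟨n, V, hdisj, hcover, hVR⟩ := hcov R hR
  choose t ht using fun j => hloc (opensHom (V j)) (hVR j)
  have hfam : Sieve.ofArrows _ (fun j => opensHom (V j)) ∈
      X.smallEtaleTopology (EtCoh.top X) := by
    rw [Scheme.ofArrows_mem_smallEtaleTopology_iff]
    ext x
    simp only [Set.mem_iUnion, Set.mem_range, Set.mem_univ, iff_true]
    have hx : x ∈ (⨆ j, V j : X.Opens) := by rw [hcover]; trivial
    obtain ⟨j, hj⟩ := TopologicalSpace.Opens.mem_iSup.1 hx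
    exact ⟨j, ⟨x, hj⟩, rfl⟩
  obtain ⟨s, hs⟩ := sec_glue_arrows G _ hfam t (by
    intro i j Y gi gj hij
    have hl : gi.left ≫ (V i).ι = gj.left ≫ (V j).ι :=
      (Scheme.Etale.forget X ⋙ CategoryTheory.Over.forget _).congr_map hij
    by_cases hne : i = j
    · subst hne
      have hgg : gi = gj := by
        apply MorphismProperty.Over.Hom.ext
        exact (cancel_mono (V i).ι).1 hl
      rw [hgg]
    · have : IsEmpty Y.left := by
        refine ⟨fun y => ?_⟩
        have h1 : (gi.left ≫ (V i).ι) y = (gj.left ≫ (V j).ι) y := by rw [hl]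
        have h2 : ((gi.left ≫ (V i).ι) y) ∈ V i := (gi.left y).2
        have h3 : ((gj.left ≫ (V j).ι) y) ∈ V j := (gj.left y).2
        rw [← h1] at h3
        have h4 : (V i ⊓ V j : X.Opens) = ⊥ := disjoint_iff.1 (hdisj hne)
        have h5 : ((gi.left ≫ (V i).ι) y) ∈ (V i ⊓ V j : X.Opens) := ⟨h2, h3⟩
        rw [h4] at h5
        exact h5
      exact sec_subsingleton_of_isEmpty G Y _ _)
  refine ⟨s, sec_ext_arrows H _ hfam _ _ ?_⟩
  intro j
  have h1 := q.hom.naturality (opensHom (V j)).op
  have h2 : (H.obj.map (opensHom (V j)).op).hom ((q.hom.app (op (EtCoh.top X))).hom s) =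
      (q.hom.app (op (opensObj (V j)))).hom ((G.obj.map (opensHom (V j)).op).hom s) :=
    (congrArg (fun k => k.hom s) h1).symm
  rw [h2, hs j, ht j]

end Groth.Agent.H69.EtSecExact
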