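import Groth.Agent.H21.ConstSec
import Groth.Agent.H69.EtSecGlue
import Groth.Prelude.Def_EtGm
import Mathlib.RingTheory.Etale.Basic
import Mathlib.RingTheory.RingHom.Etale
import Mathlib.AlgebraicGeometry.Morphisms.Etale
import Mathlib.AlgebraicGeometry.Pullbacks

/-!
# Affine objects of the small étale site attached to étale algebras (helper69)

Fix an étale morphism `sA : Spec A ⟶ X`.  For an étale `A`-algebra `R` we have the object
`aObj A sA R = (Spec R → Spec A → X)` of the small étale site of `X`, contravariantly functorial in `R`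
(`aHom`).  Sections of `G_m` over `aObj A sA R` are the units of `R` (`secOf`, `unitOf`, `res_secOf`), and
`aObj A sA (B ⊗[A] B)` is the fibre product of `aObj A sA B` with itself over `aObj A sA A`
(`exists_lift_tensor`).
-/

set_option autoImplicit false
set_option backward.isDefEq.respectTransparency.types false
universe u
open CategoryTheory CategoryTheory.Limits AlgebraicGeometry Opposite TensorProduct

namespace Groth.Agent.H69.EtAffObj

open Groth.Agent.H21.ConstSec

variable {X : Scheme.{u}} (A : Type u) [CommRing A] (sA : Spec (CommRingCat.of A) ⟶ X) [Etale sA]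

section Obj

variable (R : Type u) [CommRing R] [Algebra A R] [Algebra.Etale A R]

theorem etale_specMap : Etale (Spec.map (CommRingCat.ofHom (algebraMap A R))) := by
  rw [HasRingHomProperty.Spec_iff (P := @Etale), CommRingCat.hom_ofHom, RingHom.etale_algebraMap]
  infer_instance

/-- the object `Spec R → Spec A → X` of the small étale site of `X` -/
noncomputable def aObj : X.Etale :=
  haveI := etale_specMap A R
  Scheme.Etale.mk (Spec.map (CommRingCat.ofHom (algebraMap A R)) ≫ sA)

lemma aObj_hom : (aObj A sA R).hom = Spec.map (CommRingCat.ofHom (algebraMap A R)) ≫ sA := rfl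

end Obj

variable {A}
variable {R R' R'' : Type u} [CommRing R] [Algebra A R] [Algebra.Etale A R]
  [CommRing R'] [Algebra A R'] [Algebra.Etale A R'] [CommRing R''] [Algebra A R''] [Algebra.Etale A R'']

/-- the morphism of the small étale site induced by a morphism of `A`-algebras -/
noncomputable def aHom (ψ : R →ₐ[A] R') : aObj A sA R' ⟶ aObj A sA R :=
  MorphismProperty.Over.homMk (Spec.map (CommRingCat.ofHom ψ.toRingHom)) (by
    change Spec.map (CommRingCat.ofHom ψ.toRingHom) ≫
      Spec.map (CommRingCat.ofHom (algebraMap A R)) ≫ sA =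
        Spec.map (CommRingCat.ofHom (algebraMap A R')) ≫ sA
    rw [← Category.assoc, ← Spec.map_comp, ← CommRingCat.ofHom_comp]
    congr 3
    ext x
    exact ψ.commutes x)

lemma aHom_left (ψ : R →ₐ[A] R') :
    (aHom sA ψ).left = Spec.map (CommRingCat.ofHom ψ.toRingHom) := rfl

theorem aHom_comp (φ : R →ₐ[A] R') (ψ : R' →ₐ[A] R'') :
    aHom sA (ψ.comp φ) = aHom sA ψ ≫ aHom sA φ := by
  apply MorphismProperty.Over.Hom.ext
  change Spec.map (CommRingCat.ofHom (ψ.comp φ).toRingHom) =
    Spec.map (CommRingCat.ofHom ψ.toRingHom) ≫ Spec.map (CommRingCat.ofHom φ.toRingHom)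
  rw [← Spec.map_comp, ← CommRingCat.ofHom_comp]
  rfl

theorem aHom_congr {φ ψ : R →ₐ[A] R'} (h : ∀ x, φ x = ψ x) : aHom sA φ = aHom sA ψ := by
  have : φ = ψ := AlgHom.ext h
  rw [this]

/-! ### sections of `G_m` -/

section Sec

variable (R)

/-- `R → Γ(Spec R, ⊤)` as a monoid homomorphism -/
noncomputable def toΓ : R →* (Γ(Spec (CommRingCat.of R), ⊤) : Type u) :=
  ((Scheme.ΓSpecIso (CommRingCat.of R)).inv.hom : R →+* (Γ(Spec (CommRingCat.of R), ⊤) : Type u))

/-- `Γ(Spec R, ⊤) → R` as a monoid homomorphism -/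
noncomputable def ofΓ : (Γ(Spec (CommRingCat.of R), ⊤) : Type u) →* R :=
  ((Scheme.ΓSpecIso (CommRingCat.of R)).hom.hom : (Γ(Spec (CommRingCat.of R), ⊤) : Type u) →+* R)

lemma ofΓ_toΓ (a : R) : ofΓ R (toΓ R a) = a := by
  simp [ofΓ, toΓ]

lemma toΓ_ofΓ (x : (Γ(Spec (CommRingCat.of R), ⊤) : Type u)) : toΓ R (ofΓ R x) = x := by
  simp [ofΓ, toΓ]

/-- a unit of `R` as a section of `G_m` over `Spec R` -/
noncomputable def secOf (a : Rˣ) : Sec (EtCoh.Gm X) (aObj A sA R) :=
  (ULift.up (Additive.ofMul (Units.map (toΓ R) a)) :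
    ULift.{u + 1} (Additive ((Γ(Spec (CommRingCat.of R), ⊤) : Type u))ˣ))

/-- the unit underlying a section of `G_m` over `Spec R` -/
noncomputable def unitOf (s : Sec (EtCoh.Gm X) (aObj A sA R)) : Rˣ :=
  Units.map (ofΓ R) (Additive.toMul (ULift.down
    (s : ULift.{u + 1} (Additive ((Γ(Spec (CommRingCat.of R), ⊤) : Type u))ˣ))))

lemma secOf_mul (a b : Rˣ) : secOf sA R (a * b) = secOf sA R a + secOf sA R b := by
  simp only [secOf, map_mul]
  rfl

lemma secOf_one : secOf sA R (1 : Rˣ) = 0 := by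
  simp only [secOf, map_one]
  rfl

lemma secOf_inv (a : Rˣ) : secOf sA R a⁻¹ = - secOf sA R a := by
  have h := secOf_mul sA R a⁻¹ a
  rw [inv_mul_cancel, secOf_one] at h
  exact eq_neg_of_add_eq_zero_left h.symm

lemma unitOf_secOf (a : Rˣ) : unitOf sA R (secOf sA R a) = a := by
  ext
  exact ofΓ_toΓ R a

lemma secOf_unitOf (s : Sec (EtCoh.Gm X) (aObj A sA R)) : secOf sA R (unitOf sA R s) = s := by
  have : Units.map (toΓ R) (unitOf sA R s) = (Additive.toMul (ULift.down
    (s : ULift.{u + 1} (Additive ((Γ(Spec (CommRingCat.of R), ⊤) : Type u))ˣ)))) := by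
    ext
    exact toΓ_ofΓ R _
  simp only [secOf, this]
  rfl

lemma secOf_injective : Function.Injective (secOf sA R) := fun a b h => by
  rw [← unitOf_secOf sA R a, h, unitOf_secOf]

end Sec

/-- the map on units induced by a morphism of algebras -/
noncomputable def um (ψ : R →ₐ[A] R') : Rˣ →* R'ˣ := Units.map (ψ : R →* R')

omit [Algebra.Etale A R] [Algebra.Etale A R'] in
@[simp] lemma coe_um (ψ : R →ₐ[A] R') (a : Rˣ) : ((um ψ a : R'ˣ) : R') = ψ (a : R) := rfl

lemma res_secOf (ψ : R →ₐ[A] R') (a : Rˣ) :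
    res (EtCoh.Gm X) (aHom sA ψ) (secOf sA R a) = secOf sA R' (um ψ a) := by
  have key : Units.map ((Spec.map (CommRingCat.ofHom ψ.toRingHom)).appTop.hom.toMonoidHom)
      (Units.map (toΓ R) a) = Units.map (toΓ R') (um ψ a) := by
    ext
    have := Scheme.ΓSpecIso_inv_naturality (CommRingCat.ofHom ψ.toRingHom)
    have h2 := congrArg (fun m => m.hom (a : R)) this
    exact h2.symm
  change (ULift.up (Additive.ofMul (Units.map
    ((Spec.map (CommRingCat.ofHom ψ.toRingHom)).appTop.hom.toMonoidHom)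
      (Units.map (toΓ R) a))) :
    ULift.{u + 1} (Additive ((Γ(Spec (CommRingCat.of R'), ⊤) : Type u))ˣ)) = _
  rw [key]
  rfl

/-! ### the fibre product -/

variable (B : Type u) [CommRing B] [Algebra A B] [Algebra.Etale A B]

instance : Algebra.Etale A (B ⊗[A] B) := Algebra.Etale.comp A B (B ⊗[A] B)

/-- `aObj (B ⊗[A] B)` is the fibre product of `aObj B` with itself over `aObj A` -/
theorem exists_lift_tensor {Y : X.Etale} (g₁ g₂ : Y ⟶ aObj A sA B)
    (h : g₁ ≫ aHom sA (Algebra.ofId A B) = g₂ ≫ aHom sA (Algebra.ofId A B)) :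
    ∃ ℓ : Y ⟶ aObj A sA (B ⊗[A] B),
      ℓ ≫ aHom sA (Algebra.TensorProduct.includeLeft : B →ₐ[A] B ⊗[A] B) = g₁ ∧
      ℓ ≫ aHom sA (Algebra.TensorProduct.includeRight : B →ₐ[A] B ⊗[A] B) = g₂ := by
  have hpb := isPullback_SpecMap_of_isPushout _ _ _ _ (CommRingCat.isPushout_tensorProduct A B B)
  have hw : g₁.left ≫ Spec.map (CommRingCat.ofHom (algebraMap A B)) =
      g₂.left ≫ Spec.map (CommRingCat.ofHom (algebraMap A B)) := by
    have := congrArg (fun m => m.left) h
    exact this
  let ℓ₀ : Y.left ⟶ Spec (CommRingCat.of (B ⊗[A] B)) := hpb.lift g₁.left g₂.left hw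
  have h1 : ℓ₀ ≫ Spec.map (CommRingCat.ofHom
      (Algebra.TensorProduct.includeLeftRingHom : B →+* B ⊗[A] B)) = g₁.left := hpb.lift_fst _ _ _
  have h2 : ℓ₀ ≫ Spec.map (CommRingCat.ofHom
      ((Algebra.TensorProduct.includeRight : B →ₐ[A] B ⊗[A] B).toRingHom)) = g₂.left :=
    hpb.lift_snd _ _ _
  have hAB : CommRingCat.ofHom (algebraMap A (B ⊗[A] B)) = CommRingCat.ofHom (algebraMap A B) ≫
      CommRingCat.ofHom (Algebra.TensorProduct.includeLeftRingHom : B →+* B ⊗[A] B) := by
    rw [← CommRingCat.ofHom_comp]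
  let ℓ : Y ⟶ aObj A sA (B ⊗[A] B) := MorphismProperty.Over.homMk ℓ₀ (by
    change ℓ₀ ≫ Spec.map (CommRingCat.ofHom (algebraMap A (B ⊗[A] B))) ≫ sA = Y.hom
    rw [hAB, Spec.map_comp, Category.assoc, reassoc_of% h1]
    exact MorphismProperty.Over.w g₁)
  refine ⟨ℓ, ?_, ?_⟩
  · apply MorphismProperty.Over.Hom.ext
    exact h1
  · apply MorphismProperty.Over.Hom.ext
    exact h2

end Groth.Agent.H69.EtAffObj
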