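import Groth.Agent.H60.QCCech
import Groth.Agent.H60.ExtColim2
import Groth.Agent.H69.CechZero
import Groth.Agent.H69.EtSecGlue

/-!
# A Cartan criterion on the small étale site (helper69)

`Ac F`: the Čech complexes of the abelian étale sheaf `F` are exact in positive degrees for all finite
families of qcqs objects over a qcqs object.  This class contains the injective sheaves, is stable
under the cokernel of a monomorphism between members, and sections over qcqs objects are exact on short
exact sequences whose kernel is in the class.  Consequently `H^{n+1}(X, F) = 0` for `F` in the class when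
`X` is qcqs.
-/

set_option autoImplicit false
set_option backward.isDefEq.respectTransparency.types false
universe u
open CategoryTheory CategoryTheory.Limits AlgebraicGeometry Opposite

namespace Groth.Agent.H69.EtCartan

open Groth.Agent.H43.CechPts Groth.Agent.H60.CechFree Groth.Agent.H60.CechDeltaF
  Groth.Agent.H60.QCEtale Groth.Agent.H69.CechZero Groth.Agent.H69.EtSecExact

variable {X : Scheme.{u}}

/-- Čech-acyclicity for finite families of qcqs objects over qcqs objects -/
def Ac (F : EtCoh.Ab X) : Prop :=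
  ∀ (U : X.Etale), QC U → ∀ (ι : Type (u + 1)) [Finite ι] (Y : ι → Over U),
    (∀ k, QC (Y k).left) → ∀ p : ℕ, IsZero (((CC Y).obj F.obj).homology (p + 1))

theorem ac_of_injective (I : EtCoh.Ab X) [Injective I] : Ac I := by
  intro U _ ι _ Y _ p
  have h4 : (presheafToSheaf X.smallEtaleTopology AddCommGrpCat.{u + 1}).PreservesMonomorphisms :=
    inferInstance
  have h5 : Injective ((sheafToPresheaf X.smallEtaleTopology AddCommGrpCat.{u + 1}).obj I) :=
    Injective.injective_of_adjoint
      (sheafificationAdjunction X.smallEtaleTopology AddCommGrpCat.{u + 1}) _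
  have h6 : LocallySmall.{u + 1} X.Etale := inferInstance
  exact Groth.Agent.H60.CechFree.isZero_homology_of_injective Y
    ((sheafToPresheaf X.smallEtaleTopology AddCommGrpCat.{u + 1}).obj I) p

/-! ### the presheaf-level sequence -/

section Pre

variable (S : ShortComplex (EtCoh.Ab X)) (hS : S.ShortExact)

/-- the presheaf cokernel sequence `0 → F → I → I/F → 0` -/
noncomputable abbrev Spre : ShortComplex (X.Etaleᵒᵖ ⥤ AddCommGrpCat.{u + 1}) :=
  ShortComplex.mk S.f.hom (cokernel.π S.f.hom) (cokernel.condition _)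

/-- the comparison from the presheaf cokernel to the sheaf cokernel -/
noncomputable def kap : (Spre S).X₃ ⟶ S.X₃.obj :=
  cokernel.desc S.f.hom S.g.hom (by
    have := S.zero
    exact congrArg (fun m => m.hom) this)

lemma g_kap : (Spre S).g ≫ kap S = S.g.hom := cokernel.π_desc _ _ _

include hS in
lemma mono_f_hom : Mono S.f.hom := by
  have := hS.mono_f
  exact (inferInstance : Mono ((sheafToPresheaf X.smallEtaleTopology AddCommGrpCat.{u + 1}).map S.f))

include hS in
lemma spre_shortExact : (Spre S).ShortExact := by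
  have := mono_f_hom S hS
  exact ShortComplex.ShortExact.mk' (ShortComplex.exact_cokernel S.f.hom) this
    (inferInstanceAs (Epi (cokernel.π S.f.hom)))

include hS in
/-- sections are left exact -/
lemma exists_of_g_eq_zero (V : X.Etale) (b : S.X₂.obj.obj (op V))
    (hb : (S.g.hom.app (op V)).hom b = 0) : ∃ a : S.X₁.obj.obj (op V), (S.f.hom.app (op V)).hom a = b := by
  let R : EtCoh.Ab X ⥤ AddCommGrpCat.{u + 1} :=
    sheafToPresheaf X.smallEtaleTopology AddCommGrpCat.{u + 1} ⋙
      (evaluation X.Etaleᵒᵖ AddCommGrpCat.{u + 1}).obj (op V)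
  have hR : R.PreservesZeroMorphisms := ⟨fun _ _ => rfl⟩
  have hex : (S.map R).Exact := hS.exact.map_of_mono_of_preservesKernel R hS.mono_f inferInstance
  exact (ShortComplex.ab_exact_iff _).1 hex b hb

lemma g_surjective_app (V : X.Etale) : Function.Surjective (((Spre S).g.app (op V)).hom) := by
  have h1 : Epi ((Spre S).g.app (op V)) := by
    have : Epi (Spre S).g := inferInstanceAs (Epi (cokernel.π S.f.hom))
    infer_instance
  exact (AddCommGrpCat.epi_iff_surjective _).1 h1

include hS in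
lemma kap_injective (V : X.Etale) : Function.Injective ((kap S).app (op V)).hom := by
  rw [injective_iff_map_eq_zero]
  intro y hy
  obtain ⟨b, rfl⟩ := g_surjective_app S V y
  have h1 : (S.g.hom.app (op V)).hom b = 0 := by
    rw [← g_kap S]
    exact hy
  obtain ⟨a, rfl⟩ := exists_of_g_eq_zero S hS V b h1
  exact ConcreteCategory.congr_hom (congrArg (fun m => m.app (op V)) (Spre S).zero) a

end Pre

/-! ### Lemma 1: sections over qcqs objects are exact -/

section Lemma1

variable (S : ShortComplex (EtCoh.Ab X)) (hS : S.ShortExact)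

/-- restriction of the family of local sections to the degree-zero terms of the Čech nerve -/
noncomputable def cochain0 {U : X.Etale} {ι : Type (u + 1)} (Y : ι → Over U) (P : X.Etaleᵒᵖ ⥤ AddCommGrpCat.{u + 1})
    (t : ∀ k, P.obj (op (Y k).left)) : Co Y P 0 :=
  (Concrete.productEquiv (fun x : Fin 1 → ι => P.obj (op (∏ᶜ (Y ∘ x)).left))).symm
    (fun x => (P.map (Pi.π (Y ∘ x) 0).left.op).hom (t (x 0)))

lemma ee_cochain0 {U : X.Etale} {ι : Type (u + 1)} (Y : ι → Over U) (P : X.Etaleᵒᵖ ⥤ AddCommGrpCat.{u + 1})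
    (t : ∀ k, P.obj (op (Y k).left)) {W : X.Etale} (p : A Y (Fin 1) W) :
    ee Y P p (cochain0 Y P t) = (P.map (p.2 ≫ (Pi.π (Y ∘ p.1) 0).left).op).hom (t (p.1 0)) := by
  obtain ⟨x, g⟩ := p
  change (P.map g.op).hom ((Pi.π (fun x : Fin 1 → ι => P.obj (op (∏ᶜ (Y ∘ x)).left)) x).hom
    (cochain0 Y P t)) = _
  rw [cochain0, Concrete.productEquiv_symm_apply_π]
  dsimp only
  rw [op_comp, P.map_comp]
  rfl

lemma str_eq_comp {U : X.Etale} {ι : Type (u + 1)} (Y : ι → Over U) {W : X.Etale} (p : A Y (Fin 1) W) :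
    str Y p = (p.2 ≫ (Pi.π (Y ∘ p.1) 0).left) ≫ (Y (p.1 0)).hom := by
  rw [str, Category.assoc]
  congr 1
  exact (Over.w (Pi.π (Y ∘ p.1) 0)).symm

include hS in
theorem sections_surjective (hF : Ac S.X₁) (U : X.Etale) (hU : QC U) :
    Function.Surjective (S.g.hom.app (op U)).hom := by
  intro s
  have := hS.epi_g
  obtain ⟨R, hR, hloc⟩ := locally_surjective_of_epi S.g U s
  obtain ⟨n, V, f, hV, hf, hcov⟩ := (qcClass X).cov U hU R hR
  let ι : Type (u + 1) := ULift.{u + 1} (Fin n)
  let Y : ι → Over U := fun k => Over.mk (f k.down)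
  choose t ht using fun k : ι => hloc (f k.down) (hf k.down)
  have hSp := spre_shortExact S hS
  -- the cochain of local lifts
  let b : Co Y S.X₂.obj 0 := cochain0 Y S.X₂.obj t
  have hb : mp Y S.g.hom 0 b = aug Y S.X₃.obj 0 s := by
    apply co_ext
    intro W p
    rw [ee_mp, ee_aug, ee_cochain0, str_eq_comp]
    have h1 := ConcreteCategory.congr_hom
      (S.g.hom.naturality (p.2 ≫ (Pi.π (Y ∘ p.1) 0).left).op) (t (p.1 0))
    refine h1.trans ?_
    change (S.X₃.obj.map (p.2 ≫ (Pi.π (Y ∘ p.1) 0).left).op).hom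
      ((S.g.hom.app (op (Y (p.1 0)).left)).hom (t (p.1 0))) = _
    have h2 : (S.g.hom.app (op (Y (p.1 0)).left)).hom (t (p.1 0)) =
        (S.X₃.obj.map (Y (p.1 0)).hom.op).hom s := ht (p.1 0)
    rw [h2, op_comp (f := p.2 ≫ (Pi.π (Y ∘ p.1) 0).left), S.X₃.obj.map_comp]
    rfl
  let c₃ : Co Y (Spre S).X₃ 0 := mp Y (Spre S).g 0 b
  have hc₃ : dd Y (Spre S).X₃ 0 c₃ = 0 := by
    have hinj : Function.Injective (mp Y (kap S) 1) := by
      intro c c' hcc
      apply co_ext
      intro W p
      apply kap_injective S hS W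
      rw [← ee_mp, ← ee_mp, hcc]
    apply hinj
    rw [map_zero, mp_dd, ← mp_comp, g_kap, hb, dd_aug]
  obtain ⟨c₂, hc₂, hc₂₃⟩ := exists_cocycle_lift Y hSp
    (hF U hU ι Y (fun k => hV k.down) 0) c₃ hc₃
  -- glue
  let x : ∀ k : Fin n, S.X₂.obj.obj (op (V k)) := fun k =>
    ee Y S.X₂.obj (pt0 Y ⟨k⟩ (𝟙 (V k))) c₂
  have hx : ∀ (k : Fin n) (W : X.Etale) (g : W ⟶ V k),
      (S.X₂.obj.map g.op).hom (x k) = ee Y S.X₂.obj (pt0 Y ⟨k⟩ g) c₂ := by
    intro k W g
    have h1 := E_precomp Y S.X₂.obj g (pt0 Y ⟨k⟩ (𝟙 (V k)))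
    rw [pt0_precomp, Category.comp_id] at h1
    exact (ConcreteCategory.congr_hom h1 c₂).symm
  obtain ⟨tt, htt⟩ := sec_glue_arrows S.X₂ f hcov x (by
    intro i j W gi gj hij
    rw [hx, hx]
    exact ee_eq_of_cocycle Y S.X₂.obj c₂ hc₂ ⟨i⟩ ⟨j⟩ gi gj hij)
  refine ⟨tt, ?_⟩
  refine sec_ext_arrows S.X₃ f hcov _ _ (fun k => ?_)
  have h1 := ConcreteCategory.congr_hom (S.g.hom.naturality (f k).op) tt
  refine h1.symm.trans ?_
  change (S.g.hom.app (op (V k))).hom ((S.X₂.obj.map (f k).op).hom tt) = _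
  rw [htt k]
  have h2 : (S.g.hom.app (op (V k))).hom (x k) =
      ee Y S.X₃.obj (pt0 Y ⟨k⟩ (𝟙 (V k))) (mp Y S.g.hom 0 c₂) := (ee_mp Y S.g.hom _ c₂).symm
  rw [h2, ← g_kap S, mp_comp, hc₂₃, ← mp_comp, g_kap, hb, ee_aug, str_pt0, Category.id_comp]
  rfl

include hS in
/-- the presheaf cokernel agrees with the sheaf cokernel on qcqs objects -/
lemma isIso_kap_app (hF : Ac S.X₁) (V : X.Etale) (hV : QC V) : IsIso ((kap S).app (op V)) := by
  have h1 : Function.Bijective ((kap S).app (op V)).hom := by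
    refine ⟨kap_injective S hS V, ?_⟩
    intro y
    obtain ⟨b, hb⟩ := sections_surjective S hS hF V hV y
    refine ⟨((Spre S).g.app (op V)).hom b, ?_⟩
    have h2 := ConcreteCategory.congr_hom (congrArg (fun m => m.app (op V)) (g_kap S)) b
    exact h2.trans hb
  exact (ConcreteCategory.isIso_iff_bijective _).2 h1

include hS in
/-- Lemma 2: the class is stable under cokernels of monomorphisms between members -/
theorem ac_X₃ (h₁ : Ac S.X₁) (h₂ : Ac S.X₂) : Ac S.X₃ := by
  intro U hU ι _ Y hY p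
  have hSp := spre_shortExact S hS
  have hz : IsZero (((CC Y).obj (Spre S).X₃).homology (p + 1)) :=
    isZero_homology_X₃ Y hSp p (h₂ U hU ι Y hY p) (h₁ U hU ι Y hY (p + 1))
  refine (isZero_homology_iff_of_isIso Y (kap S) (fun n x => ?_) (p + 1)).1 hz
  exact isIso_kap_app S hS h₁ _
    (Groth.Agent.H60.QCCech.qc_product U hU (Y ∘ x) (fun a => hY (x a)))

end Lemma1

/-! ### Lemma 3: vanishing of cohomology -/

open Groth.Agent.H60.ExtColim in
/-- `H^{n+1}(X, F) = 0` for `F` in the class, when `X` is qcqs -/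
theorem ext_eq_zero (hX : QC (EtCoh.top X)) : ∀ (n : ℕ) (F : EtCoh.Ab X), Ac F →
    ∀ x : Abelian.Ext ((constantSheaf X.smallEtaleTopology AddCommGrpCat.{u + 1}).obj
      (AddCommGrpCat.of (ULift.{u + 1} ℤ))) F (n + 1), x = 0 := by
  intro n
  induction n with
  | zero =>
    intro F hF x
    let S : ShortComplex (EtCoh.Ab X) :=
      ShortComplex.mk (Injective.ι F) (cokernel.π (Injective.ι F)) (cokernel.condition _)
    have hS : S.ShortExact :=
      ShortComplex.ShortExact.mk' (ShortComplex.exact_cokernel (Injective.ι F))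
        (inferInstanceAs (Mono (Injective.ι F))) (inferInstanceAs (Epi (cokernel.π (Injective.ι F))))
    have hI : Injective S.X₂ := inferInstanceAs (Injective (Injective.under F))
    obtain ⟨y, hy⟩ := exists_del _ hS 0 x (Abelian.Ext.eq_zero_of_injective _)
    obtain ⟨φ, rfl⟩ := (Abelian.Ext.mk₀_bijective _ _).surjective y
    obtain ⟨tt, htt⟩ := sections_surjective S hS hF (EtCoh.top X) hX (homEquivGsec X S.X₃ φ)
    have h1 : (homEquivGsec X S.X₂).symm tt ≫ S.g = φ :=
      (homEquivGsec X S.X₃).injective (by rw [homEquivGsec_comp, AddEquiv.apply_symm_apply, htt])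
    rw [← hy, ← h1, ← Abelian.Ext.mk₀_comp_mk₀]
    exact del_push_g _ hS 0 _
  | succ n ih =>
    intro F hF x
    let S : ShortComplex (EtCoh.Ab X) :=
      ShortComplex.mk (Injective.ι F) (cokernel.π (Injective.ι F)) (cokernel.condition _)
    have hS : S.ShortExact :=
      ShortComplex.ShortExact.mk' (ShortComplex.exact_cokernel (Injective.ι F))
        (inferInstanceAs (Mono (Injective.ι F))) (inferInstanceAs (Epi (cokernel.π (Injective.ι F))))
    have hI : Injective S.X₂ := inferInstanceAs (Injective (Injective.under F))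
    obtain ⟨y, hy⟩ := exists_del _ hS (n + 1) x (Abelian.Ext.eq_zero_of_injective _)
    have hQ : Ac S.X₃ := ac_X₃ S hS hF (ac_of_injective S.X₂)
    rw [← hy, ih S.X₃ hQ y, map_zero]

end Groth.Agent.H69.EtCartan
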