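import Groth.Agent.H69.EtCartan

/-!
# The Cartan-type lemmas for arbitrary coverings of the small étale site (helper69)

`Fl F`: the Čech complexes of `F` are exact in positive degrees for every jointly surjective family
over every object.  `sections_surjective_of_fl`, `fl_X₃`.
-/

set_option autoImplicit false
set_option backward.isDefEq.respectTransparency.types false
universe u
open CategoryTheory CategoryTheory.Limits AlgebraicGeometry Opposite

namespace Groth.Agent.H69.EtCartanGen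

open Groth.Agent.H43.CechPts Groth.Agent.H60.CechFree Groth.Agent.H60.CechDeltaF
  Groth.Agent.H60.QCEtale Groth.Agent.H69.CechZero Groth.Agent.H69.EtSecExact
  Groth.Agent.H69.EtCartan

variable {X : Scheme.{u}}

/-- Čech-flasque: Čech cohomology vanishes in positive degrees for all jointly surjective families -/
def Fl (F : EtCoh.Ab X) : Prop :=
  ∀ (U : X.Etale) (ι : Type (u + 1)) (Uf : ι → Over U),
    (∀ x : U.left, ∃ (i : ι) (y : (Uf i).left.left), (Uf i).hom.left.base y = x) →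
    ∀ p : ℕ, 0 < p → IsZero (EtCech.cechH Uf F.obj p)

variable (S : ShortComplex (EtCoh.Ab X)) (hS : S.ShortExact)

include hS in
/-- the gluing step -/
theorem exists_lift_of_family {U : X.Etale} {ι : Type (u + 1)} (Y : ι → Over U)
    (hcov : Sieve.ofArrows (fun k => (Y k).left) (fun k => (Y k).hom) ∈ X.smallEtaleTopology U)
    (h1 : IsZero (((CC Y).obj S.X₁.obj).homology 1))
    (s : S.X₃.obj.obj (op U)) (t : ∀ k, S.X₂.obj.obj (op (Y k).left))
    (ht : ∀ k, (S.g.hom.app (op (Y k).left)).hom (t k) = (S.X₃.obj.map (Y k).hom.op).hom s) :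
    ∃ tt : S.X₂.obj.obj (op U), (S.g.hom.app (op U)).hom tt = s := by
  have hSp := spre_shortExact S hS
  let b : Co Y S.X₂.obj 0 := cochain0 Y S.X₂.obj t
  have hb : mp Y S.g.hom 0 b = aug Y S.X₃.obj 0 s := by
    apply co_ext
    intro W p
    rw [ee_mp, ee_aug, ee_cochain0, str_eq_comp]
    have h1 := ConcreteCategory.congr_hom
      (S.g.hom.naturality (p.2 ≫ (Pi.π (Y ∘ p.1) 0).left).op) (t (p.1 0))
    refine h1.trans ?_
    change (S.X₃.obj.map (p.2 ≫ (Pi.π (Y ∘ p.1) 0).left).op).hom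
      ((S.g.hom.app (op (Y (p.1 0)).left)).hom (t (p.1 0))) = _
    rw [ht (p.1 0), op_comp (f := p.2 ≫ (Pi.π (Y ∘ p.1) 0).left), S.X₃.obj.map_comp]
    rfl
  let c₃ : Co Y (Spre S).X₃ 0 := mp Y (Spre S).g 0 b
  have hc₃ : dd Y (Spre S).X₃ 0 c₃ = 0 := by
    have hinj : Function.Injective (mp Y (kap S) 1) := by
      intro c c' hcc
      apply co_ext
      intro W p
      apply kap_injective S hS W
      rw [← ee_mp, ← ee_mp, hcc]
    apply hinj
    rw [map_zero, mp_dd, ← mp_comp, g_kap, hb, dd_aug]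
  obtain ⟨c₂, hc₂, hc₂₃⟩ := exists_cocycle_lift Y hSp h1 c₃ hc₃
  let x : ∀ k : ι, S.X₂.obj.obj (op (Y k).left) := fun k =>
    ee Y S.X₂.obj (pt0 Y k (𝟙 (Y k).left)) c₂
  have hx : ∀ (k : ι) (W : X.Etale) (g : W ⟶ (Y k).left),
      (S.X₂.obj.map g.op).hom (x k) = ee Y S.X₂.obj (pt0 Y k g) c₂ := by
    intro k W g
    have h1 := E_precomp Y S.X₂.obj g (pt0 Y k (𝟙 (Y k).left))
    rw [pt0_precomp, Category.comp_id] at h1
    exact (ConcreteCategory.congr_hom h1 c₂).symm
  obtain ⟨tt, htt⟩ := sec_glue_arrows S.X₂ (fun k => (Y k).hom) hcov x (by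
    intro i j W gi gj hij
    rw [hx, hx]
    exact ee_eq_of_cocycle Y S.X₂.obj c₂ hc₂ i j gi gj hij)
  refine ⟨tt, ?_⟩
  refine sec_ext_arrows S.X₃ (fun k => (Y k).hom) hcov _ _ (fun k => ?_)
  have h1 := ConcreteCategory.congr_hom (S.g.hom.naturality (Y k).hom.op) tt
  refine h1.symm.trans ?_
  change (S.g.hom.app (op (Y k).left)).hom ((S.X₂.obj.map (Y k).hom.op).hom tt) = _
  rw [htt k]
  have h2 : (S.g.hom.app (op (Y k).left)).hom (x k) =
      ee Y S.X₃.obj (pt0 Y k (𝟙 (Y k).left)) (mp Y S.g.hom 0 c₂) := (ee_mp Y S.g.hom _ c₂).symm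
  rw [h2, ← g_kap S, mp_comp, hc₂₃, ← mp_comp, g_kap, hb, ee_aug, str_pt0, Category.id_comp]

include hS in
theorem sections_surjective_of_fl (hF : Fl S.X₁) (U : X.Etale) :
    Function.Surjective (S.g.hom.app (op U)).hom := by
  intro s
  have := hS.epi_g
  obtain ⟨R, hR, hloc⟩ := locally_surjective_of_epi S.g U s
  let ι : Type (u + 1) := Σ V : X.Etale, {g : V ⟶ U // R g}
  let Y : ι → Over U := fun k => Over.mk k.2.1
  have hcov : Sieve.ofArrows (fun k => (Y k).left) (fun k => (Y k).hom) ∈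
      X.smallEtaleTopology U := by
    refine X.smallEtaleTopology.superset_covering ?_ hR
    intro V g hg
    exact Sieve.ofArrows_mk (fun k : ι => (Y k).left) (fun k => (Y k).hom) ⟨V, g, hg⟩
  have hsurj : ∀ x : U.left, ∃ (i : ι) (y : (Y i).left.left), (Y i).hom.left.base y = x := by
    intro x
    obtain ⟨V, g, y, hg, hy⟩ := (mem_top_iff U R).1 hR x
    exact ⟨⟨V, g, hg⟩, y, hy⟩
  choose t ht using fun k : ι => hloc k.2.1 k.2.2
  exact exists_lift_of_family S hS Y hcov (hF U ι Y hsurj 1 Nat.one_pos) s t ht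

include hS in
lemma isIso_kap_app_of_fl (hF : Fl S.X₁) (V : X.Etale) : IsIso ((kap S).app (op V)) := by
  have h1 : Function.Bijective ((kap S).app (op V)).hom := by
    refine ⟨kap_injective S hS V, ?_⟩
    intro y
    obtain ⟨b, hb⟩ := sections_surjective_of_fl S hS hF V y
    refine ⟨((Spre S).g.app (op V)).hom b, ?_⟩
    have h2 := ConcreteCategory.congr_hom (congrArg (fun m => m.app (op V)) (g_kap S)) b
    exact h2.trans hb
  exact (ConcreteCategory.isIso_iff_bijective _).2 h1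

include hS in
/-- Čech-flasque sheaves are stable under cokernels of monomorphisms -/
theorem fl_X₃ (h₁ : Fl S.X₁) (h₂ : Fl S.X₂) : Fl S.X₃ := by
  intro U ι Y hY p hp
  obtain ⟨p, rfl⟩ : ∃ q, p = q + 1 := ⟨p - 1, by omega⟩
  have hSp := spre_shortExact S hS
  have hz : IsZero (((CC Y).obj (Spre S).X₃).homology (p + 1)) :=
    isZero_homology_X₃ Y hSp p (h₂ U ι Y hY (p + 1) (by omega)) (h₁ U ι Y hY (p + 2) (by omega))
  exact (isZero_homology_iff_of_isIso Y (kap S)
    (fun n x => isIso_kap_app_of_fl S hS h₁ _) (p + 1)).1 hz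

end Groth.Agent.H69.EtCartanGen
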