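import Groth.Agent.H69.EtOpenSec
import Groth.Agent.H69.EtCartanGen

/-!
# Zariski Čech 1-cocycles with values in an injective étale sheaf are coboundaries (helper69)
-/

set_option autoImplicit false
set_option backward.isDefEq.respectTransparency.types false
universe u
open CategoryTheory CategoryTheory.Limits AlgebraicGeometry Opposite

namespace Groth.Agent.H69.EtCechOpen

open Groth.Agent.H43.CechPts Groth.Agent.H60.CechFree Groth.Agent.H60.CechDeltaF
  Groth.Agent.H69.CechZero Groth.Agent.H69.EtSecExact Groth.Agent.H69.EtCartan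
  Groth.Agent.H21.ConstSec Groth.Agent.H69.EtOpenSec Groth.Agent.H69.EtH90Open

variable {X : Scheme.{u}} {ι : Type (u + 1)} (W : ι → X.Opens)

/-- the family of opens, as objects over the terminal object of the small étale site -/
noncomputable abbrev YY (i : ι) : Over (EtCoh.top X) := Over.mk (toTop (oo (W i)))

/-- the map from the double product to the intersection -/
noncomputable def lx (x : Fin 2 → ι) : (∏ᶜ (YY W ∘ x)).left ⟶ oo (W (x 0) ⊓ W (x 1)) :=
  (nonempty_hom_oo (∏ᶜ (YY W ∘ x)).left (W (x 0) ⊓ W (x 1)) (fun y =>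
    ⟨mem_of_hom_oo ((Pi.π (YY W ∘ x) 0).left : (∏ᶜ (YY W ∘ x)).left ⟶ oo (W (x 0))) y,
      mem_of_hom_oo ((Pi.π (YY W ∘ x) 1).left : (∏ᶜ (YY W ∘ x)).left ⟶ oo (W (x 1))) y⟩)).some

variable (I : EtCoh.Ab X)

/-- the Čech 1-cochain attached to a family of sections over the double intersections -/
noncomputable def cochain1 (θ : ∀ i j, Sec I (oo (W i ⊓ W j))) : Co (YY W) I.obj 1 :=
  (Concrete.productEquiv (fun x : Fin 2 → ι => I.obj.obj (op (∏ᶜ (YY W ∘ x)).left))).symm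
    (fun x => res I (lx W x) (θ (x 0) (x 1)))

lemma ee_cochain1 (θ : ∀ i j, Sec I (oo (W i ⊓ W j))) {V : X.Etale} (p : A (YY W) (Fin 2) V)
    (i j : ι) (hi : p.1 0 = i) (hj : p.1 1 = j) (k : V ⟶ oo (W i ⊓ W j)) :
    ee (YY W) I.obj p (cochain1 W I θ) = res I k (θ i j) := by
  subst hi hj
  obtain ⟨x, g⟩ := p
  change (I.obj.map g.op).hom ((Pi.π (fun x : Fin 2 → ι => I.obj.obj (op (∏ᶜ (YY W ∘ x)).left)) x).hom
    (cochain1 W I θ)) = _
  rw [cochain1, Concrete.productEquiv_symm_apply_π]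
  change res I g (res I (lx W x) (θ (x 0) (x 1))) = _
  have hk : g ≫ lx W x = k := Subsingleton.elim _ _
  rw [res_res, hk]

theorem exists_coboundary [Injective I] (θ : ∀ i j, Sec I (oo (W i ⊓ W j)))
    (hθ : ∀ (i j k : ι) (T : X.Opens) (hij : T ≤ W i ⊓ W j) (hjk : T ≤ W j ⊓ W k)
      (hik : T ≤ W i ⊓ W k), rs I hik (θ i k) = rs I hij (θ i j) + rs I hjk (θ j k)) :
    ∃ t : ∀ i, Sec I (oo (W i)), ∀ i j,
      θ i j = rs I (inf_le_right : W i ⊓ W j ≤ W j) (t j) -
        rs I (inf_le_left : W i ⊓ W j ≤ W i) (t i) := by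
  have hdd : dd (YY W) I.obj 1 (cochain1 W I θ) = 0 := by
    apply co_ext
    intro V p
    rw [ee_dd, map_zero, Fin.sum_univ_three]
    let x : Fin 3 → ι := p.1
    let T : X.Opens := W (x 0) ⊓ W (x 1) ⊓ W (x 2)
    obtain ⟨m⟩ := nonempty_hom_oo V T (fun y =>
      ⟨⟨mem_of_hom_oo ((p.2 ≫ (Pi.π (YY W ∘ p.1) 0).left : V ⟶ oo (W (x 0)))) y,
        mem_of_hom_oo ((p.2 ≫ (Pi.π (YY W ∘ p.1) 1).left : V ⟶ oo (W (x 1)))) y⟩,
        mem_of_hom_oo ((p.2 ≫ (Pi.π (YY W ∘ p.1) 2).left : V ⟶ oo (W (x 2)))) y⟩)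
    have h01 : T ≤ W (x 0) ⊓ W (x 1) := inf_le_left
    have h12 : T ≤ W (x 1) ⊓ W (x 2) := le_inf (inf_le_left.trans inf_le_right) inf_le_right
    have h02 : T ≤ W (x 0) ⊓ W (x 2) := le_inf (inf_le_left.trans inf_le_left) inf_le_right
    rw [ee_cochain1 W I θ (p.reindex (Fin.succAbove 0)) (x 1) (x 2) rfl rfl (m ≫ ooHom h12),
      ee_cochain1 W I θ (p.reindex (Fin.succAbove 1)) (x 0) (x 2) rfl rfl (m ≫ ooHom h02),
      ee_cochain1 W I θ (p.reindex (Fin.succAbove 2)) (x 0) (x 1) rfl rfl (m ≫ ooHom h01),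
      ← res_res, ← res_res, ← res_res]
    have := hθ (x 0) (x 1) (x 2) T h01 h12 h02
    change rs I h02 _ = _ at this
    simp only [Fin.val_zero, pow_zero, one_smul, Fin.val_one, pow_one, neg_smul, Fin.val_two]
    change _ + - (res I m (rs I h02 _)) + _ = 0
    rw [this, map_add]
    simp
  have h5 : Injective ((sheafToPresheaf X.smallEtaleTopology AddCommGrpCat.{u + 1}).obj I) :=
    Injective.injective_of_adjoint
      (sheafificationAdjunction X.smallEtaleTopology AddCommGrpCat.{u + 1}) _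
  have h6 : LocallySmall.{u + 1} X.Etale := inferInstance
  have hz : IsZero (((CC (YY W)).obj I.obj).homology (0 + 1)) :=
    Groth.Agent.H60.CechFree.isZero_homology_of_injective (YY W)
      ((sheafToPresheaf X.smallEtaleTopology AddCommGrpCat.{u + 1}).obj I) 0
  obtain ⟨a0, ha0⟩ := exists_dd_eq (YY W) I.obj 0 hz (cochain1 W I θ) hdd
  let t : ∀ i, Sec I (oo (W i)) := fun i =>
    ee (YY W) I.obj (pt0 (YY W) i (𝟙 (YY W i).left)) a0
  have ht : ∀ (k : ι) (V : X.Etale) (g : V ⟶ (YY W k).left),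
      res I g (t k) = ee (YY W) I.obj (pt0 (YY W) k g) a0 := by
    intro k V g
    have h1 := E_precomp (YY W) I.obj g (pt0 (YY W) k (𝟙 (YY W k).left))
    rw [pt0_precomp, Category.comp_id] at h1
    exact (ConcreteCategory.congr_hom h1 a0).symm
  refine ⟨t, fun i j => ?_⟩
  let gi : oo (W i ⊓ W j) ⟶ (YY W i).left := ooHom inf_le_left
  let gj : oo (W i ⊓ W j) ⟶ (YY W j).left := ooHom inf_le_right
  have w : gi ≫ (YY W i).hom = gj ≫ (YY W j).hom := (EtCore.topIsTerminal X).hom_ext _ _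
  have h1 := ee_dd (YY W) I.obj (pt1 (YY W) i j gi gj w) a0
  rw [ha0, Fin.sum_univ_two, pt1_reindex_zero, pt1_reindex_one, ← ht, ← ht,
    ee_cochain1 W I θ (pt1 (YY W) i j gi gj w) i j rfl rfl (𝟙 _), res_id] at h1
  simp only [Fin.val_zero, pow_zero, one_smul, Fin.val_one, pow_one, neg_smul] at h1
  rw [h1, sub_eq_add_neg]

end Groth.Agent.H69.EtCechOpen
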