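import Groth.Agent.H69.EtFieldGalois

/-!
# Exactness of the constant sheaf functor on the small étale site; dimension shifting (helper69)
-/

set_option autoImplicit false
universe u v
open CategoryTheory CategoryTheory.Limits AlgebraicGeometry Opposite

namespace Groth.Agent.H69.EtConstExact

section
variable (X : Scheme.{u})

noncomputable instance :
    PreservesFiniteLimits (constantSheaf X.smallEtaleTopology AddCommGrpCat.{u+1}) := by
  unfold constantSheaf
  infer_instance

noncomputable instance :
    PreservesFiniteColimits (constantSheaf X.smallEtaleTopology AddCommGrpCat.{u+1}) := by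
  unfold constantSheaf
  infer_instance

instance : (constantSheaf X.smallEtaleTopology AddCommGrpCat.{u+1}).Additive := by
  unfold constantSheaf
  infer_instance

end

/-- the lift of an additive map to `ULift`s -/
def ulHom {A B : Type} [AddCommGroup A] [AddCommGroup B] (f : A →+ B) :
    AddCommGrpCat.of (ULift.{v} A) ⟶ AddCommGrpCat.of (ULift.{v} B) :=
  AddCommGrpCat.ofHom
    ((AddEquiv.ulift.symm.toAddMonoidHom.comp f).comp AddEquiv.ulift.toAddMonoidHom)

lemma ulHom_apply {A B : Type} [AddCommGroup A] [AddCommGroup B] (f : A →+ B) (a : ULift.{v} A) :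
    (ulHom f).hom a = ULift.up (f a.down) := rfl

/-- the short complex of `ULift`s attached to an exact pair of additive maps -/
def ulComplex {A B C : Type} [AddCommGroup A] [AddCommGroup B] [AddCommGroup C]
    (f : A →+ B) (g : B →+ C) (hfg : Function.Exact f g) : ShortComplex AddCommGrpCat.{v} :=
  ShortComplex.mk (ulHom.{v} f) (ulHom.{v} g) (by
    ext a
    change g (f a.down) = 0
    rw [hfg.apply_apply_eq_zero])

theorem shortExact_ul {A B C : Type} [AddCommGroup A] [AddCommGroup B] [AddCommGroup C]
    (f : A →+ B) (g : B →+ C) (hf : Function.Injective f) (hg : Function.Surjective g)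
    (hfg : Function.Exact f g) : (ulComplex.{v} f g hfg).ShortExact := by
  refine ShortComplex.ShortExact.mk' ?_ ?_ ?_
  · rw [ShortComplex.ab_exact_iff_function_exact]
    intro b
    constructor
    · intro hb
      have : g b.down = 0 := congrArg ULift.down hb
      obtain ⟨a, ha⟩ := (hfg b.down).1 this
      exact ⟨ULift.up a, by change (ulHom f).hom _ = _; rw [ulHom_apply]; simp [ha]; rfl⟩
    · rintro ⟨a, rfl⟩
      change ULift.up (g (f a.down)) = ULift.up 0
      rw [hfg.apply_apply_eq_zero]
  · change Mono (ulHom f)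
    rw [AddCommGrpCat.mono_iff_injective]
    intro a a' h
    have : f a.down = f a'.down := congrArg ULift.down h
    exact ULift.ext _ _ (hf this)
  · change Epi (ulHom g)
    rw [AddCommGrpCat.epi_iff_surjective]
    intro c
    obtain ⟨b, hb⟩ := hg c.down
    exact ⟨ULift.up b, by rw [ulHom_apply]; simp [hb]⟩

section Abstract

open Abelian

variable {𝒜 : Type*} [Category 𝒜] [Abelian 𝒜] [HasExt 𝒜]

/-- dimension shifting: if `Ext^n(X, T.X₂) = 0 = Ext^{n+1}(X, T.X₂)` then the connecting map
`Ext^n(X, T.X₃) → Ext^{n+1}(X, T.X₁)` is an isomorphism -/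
theorem nonempty_addEquiv_of_shortExact {T : ShortComplex 𝒜} (hT : T.ShortExact) (X : 𝒜) (n : ℕ)
    (h0 : ∀ x : Ext X T.X₂ n, x = 0) (h1 : ∀ x : Ext X T.X₂ (n + 1), x = 0) :
    Nonempty (Ext X T.X₃ n ≃+ Ext X T.X₁ (n + 1)) := by
  let δ : Ext X T.X₃ n →+ Ext X T.X₁ (n + 1) :=
    AddMonoidHom.mk' (fun y => y.comp hT.extClass rfl) (fun a b => Ext.add_comp _ _ _ _)
  refine ⟨AddEquiv.ofBijective δ ⟨?_, ?_⟩⟩
  · rw [injective_iff_map_eq_zero]
    intro y hy
    obtain ⟨x₂, hx₂⟩ := Ext.covariant_sequence_exact₃ X hT y rfl hy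
    rw [← hx₂, h0 x₂, Ext.zero_comp]
  · intro x₁
    exact Ext.covariant_sequence_exact₁ X hT x₁ (h1 _) rfl

end Abstract

end Groth.Agent.H69.EtConstExact
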