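import Groth.Agent.H69.EtColimH

/-!
# Étale cohomology of a qcqs scheme and arbitrary coproducts (helper69)

`subsingleton_H_cofan`: on a qcqs scheme, if `H^q(X, G_a)` vanishes for all `a`, then so does
`H^q(X, ∐ G_a)`.
-/

set_option autoImplicit false
set_option backward.isDefEq.respectTransparency.types false
universe u
open CategoryTheory CategoryTheory.Limits AlgebraicGeometry Opposite

namespace Groth.Agent.H69.EtCoprodH

/-- a functor preserving a colimit of objects sent to zero sends the colimit to zero -/
lemma isZero_of_preserves {J A B : Type*} [Category J] [Category A] [Category B]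
    [HasZeroMorphisms B] (G : A ⥤ B) (D : J ⥤ A) (c : Cocone D) (hc : IsColimit c)
    [PreservesColimit D G] (h : ∀ j, IsZero (G.obj (D.obj j))) : IsZero (G.obj c.pt) := by
  have hc' : IsColimit (G.mapCocone c) := isColimitOfPreserves G hc
  rw [IsZero.iff_id_eq_zero]
  apply hc'.hom_ext
  intro j
  exact (h j).eq_of_src _ _

open CoproductsFromFiniteFiltered in
theorem subsingleton_H_cofan (X : Scheme.{u}) [CompactSpace X] [QuasiSeparatedSpace X]
    {α : Type u} (g : α → EtCoh.Ab X) (c : Cofan g) (hc : IsColimit c) (q : ℕ)
    (h : ∀ a, Subsingleton (EtCoh.H X (g a) q)) : Subsingleton (EtCoh.H X c.pt q) := by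
  let G := EtCoh.HF X q
  have hG : G.Additive := by
    dsimp only [G, EtCoh.HF]
    infer_instance
  have hz : ∀ a, IsZero (G.obj (g a)) := fun a =>
    @AddCommGrpCat.isZero_of_subsingleton (G.obj (g a)) (h a)
  let F : Discrete α ⥤ EtCoh.Ab X := Discrete.functor g
  have hP : PreservesColimitsOfShape (Finset (Discrete α)) G :=
    Groth.Agent.H69.EtColimH.preservesColimitsOfShape_HF' X q (Finset (Discrete α))
  let cc := liftToFinsetColimitCocone F
  let e : c.pt ≅ colimit (liftToFinsetObj F) := hc.coconePointUniqueUpToIso cc.isColimit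
  have h1 : IsZero (G.obj (colimit (liftToFinsetObj F))) := by
    refine isZero_of_preserves G (liftToFinsetObj F) _ (colimit.isColimit _) (fun s => ?_)
    exact isZero_of_preserves G (Discrete.functor fun x : s => F.obj x) _ (colimit.isColimit _)
      (fun x => hz x.as.1.as)
  have h2 : IsZero (G.obj c.pt) := IsZero.of_iso h1 (G.mapIso e)
  exact AddCommGrpCat.subsingleton_of_isZero h2

end Groth.Agent.H69.EtCoprodH
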