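import Groth.Agent.H69.CS.Vanish

/-!
# Torsion of higher Ext out of an object with the lifting property up to multiples (helper69)
-/

set_option autoImplicit false
universe u
open CategoryTheory Opposite Limits

namespace Groth.Agent.H69.ExtTorsion

open Abelian

variable {𝒜 : Type*} [Category 𝒜] [Abelian 𝒜] [HasExt 𝒜]

lemma nsmul_comp {X Y Z : 𝒜} {a b c : ℕ} (n : ℕ) (α : Ext X Y a) (β : Ext Y Z b) (h : a + b = c) :
    (n • α).comp β h = n • α.comp β h := by
  induction n with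
  | zero => simp
  | succ n ih => rw [succ_nsmul, Ext.add_comp, ih, succ_nsmul]

lemma comp_nsmul {X Y Z : 𝒜} {a b c : ℕ} (n : ℕ) (α : Ext X Y a) (β : Ext Y Z b) (h : a + b = c) :
    α.comp (n • β) h = n • α.comp β h := by
  induction n with
  | zero => simp
  | succ n ih => rw [succ_nsmul, Ext.comp_add, ih, succ_nsmul]

lemma mk₀_nsmul {X Y : 𝒜} (n : ℕ) (f : X ⟶ Y) : Ext.mk₀ (n • f) = n • Ext.mk₀ f := by
  induction n with
  | zero => simp
  | succ n ih => rw [succ_nsmul, Ext.mk₀_add, ih, succ_nsmul]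

/-- abstract: if a multiple of every map `X ⟶ T.X₃` lifts to `T.X₂` then every element of the
kernel of `Ext¹(X, T.X₁) → Ext¹(X, T.X₂)` is torsion -/
theorem ext_one_torsion_of_lift {T : ShortComplex 𝒜} (hT : T.ShortExact) (X : 𝒜)
    (hlift : ∀ ψ : X ⟶ T.X₃, ∃ n : ℕ, 0 < n ∧ ∃ ψ' : X ⟶ T.X₂, ψ' ≫ T.g = n • ψ)
    (x : Ext X T.X₁ 1) (hx : x.comp (Ext.mk₀ T.f) (add_zero 1) = 0) : IsOfFinAddOrder x := by
  obtain ⟨x₃, hx₃⟩ := Ext.covariant_sequence_exact₁ _ hT x hx (zero_add 1)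
  obtain ⟨ψ, rfl⟩ := (Ext.mk₀_bijective _ _).2 x₃
  obtain ⟨n, hn, ψ', hψ'⟩ := hlift ψ
  rw [isOfFinAddOrder_iff_nsmul_eq_zero]
  refine ⟨n, hn, ?_⟩
  rw [← hx₃, ← nsmul_comp, ← mk₀_nsmul, ← hψ', ← Ext.mk₀_comp_mk₀,
    Ext.comp_assoc_of_second_deg_zero, hT.comp_extClass, Ext.comp_zero]

/-- If a positive multiple of every morphism from `X` lifts along every epimorphism, then
`Ext^{p+1}(X, F)` is torsion. -/
theorem ext_succ_torsion_of_lift [EnoughInjectives 𝒜] (X : 𝒜)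
    (hlift : ∀ {G H : 𝒜} (q : G ⟶ H), Epi q → ∀ ψ : X ⟶ H,
      ∃ n : ℕ, 0 < n ∧ ∃ ψ' : X ⟶ G, ψ' ≫ q = n • ψ) :
    ∀ (p : ℕ) (F : 𝒜) (x : Ext X F (p + 1)), IsOfFinAddOrder x := by
  intro p
  induction p with
  | zero =>
    intro F x
    let ι := Injective.ι F
    let T : ShortComplex 𝒜 := ShortComplex.mk ι (cokernel.π ι) (cokernel.condition ι)
    have hT : T.ShortExact :=
      { exact := ShortComplex.exact_cokernel ι
        mono_f := (inferInstance : Mono ι)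
        epi_g := (inferInstance : Epi (cokernel.π ι)) }
    have : Injective T.X₂ := (inferInstance : Injective (Injective.under F))
    exact ext_one_torsion_of_lift hT X (fun ψ => hlift T.g hT.epi_g ψ) x
      (Ext.eq_zero_of_injective _)
  | succ p ih =>
    intro F x
    let ι := Injective.ι F
    let T : ShortComplex 𝒜 := ShortComplex.mk ι (cokernel.π ι) (cokernel.condition ι)
    have hT : T.ShortExact :=
      { exact := ShortComplex.exact_cokernel ι
        mono_f := (inferInstance : Mono ι)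
        epi_g := (inferInstance : Epi (cokernel.π ι)) }
    have : Injective T.X₂ := (inferInstance : Injective (Injective.under F))
    obtain ⟨x₃, hx₃⟩ := Ext.covariant_sequence_exact₁ X hT (n₁ := p + 1 + 1) x
      (Ext.eq_zero_of_injective _) (n₀ := p + 1) rfl
    obtain ⟨n, hn, hn0⟩ := (isOfFinAddOrder_iff_nsmul_eq_zero.1 (ih T.X₃ x₃))
    rw [isOfFinAddOrder_iff_nsmul_eq_zero]
    refine ⟨n, hn, ?_⟩
    rw [← hx₃, ← nsmul_comp, hn0, Ext.zero_comp]

/-- a torsion class in `Ext(X, F)` vanishes if all positive multiples of `𝟙 F` are invertible -/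
theorem eq_zero_of_isOfFinAddOrder_of_isIso {X F : 𝒜} {p : ℕ} (x : Ext X F p)
    (hx : IsOfFinAddOrder x) (hdiv : ∀ n : ℕ, 0 < n → IsIso (n • 𝟙 F)) : x = 0 := by
  obtain ⟨n, hn, hn0⟩ := isOfFinAddOrder_iff_nsmul_eq_zero.1 hx
  have := hdiv n hn
  have h1 : x.comp (Ext.mk₀ (n • 𝟙 F)) (add_zero p) = 0 := by
    rw [mk₀_nsmul, comp_nsmul, Ext.comp_mk₀_id, hn0]
  have h2 : (x.comp (Ext.mk₀ (n • 𝟙 F)) (add_zero p)).comp (Ext.mk₀ (inv (n • 𝟙 F)))
      (add_zero p) = x := by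
    rw [Ext.comp_assoc_of_third_deg_zero, Ext.mk₀_comp_mk₀, IsIso.hom_inv_id, Ext.comp_mk₀_id]
  rw [← h2, h1, Ext.zero_comp]

end Groth.Agent.H69.ExtTorsion
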