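import Groth.Agent.H69.EtSecGlue
import Groth.Agent.H69.ExtTorsion
import Mathlib.RingTheory.Etale.Field
import Mathlib.FieldTheory.Galois.Basic
import Mathlib.FieldTheory.Normal.Closure
import Mathlib.FieldTheory.SeparableClosure
import Mathlib.FieldTheory.IsAlgClosed.AlgebraicClosure

/-!
# The small étale site of a field: finite Galois covers and the norm argument (helper69)
-/

set_option autoImplicit false
universe u
open CategoryTheory CategoryTheory.Limits AlgebraicGeometry Opposite

namespace Groth.Agent.H69.EtFieldGalois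

section Algebra

/-- any two embeddings of a normal extension differ by an automorphism -/
theorem exists_algEquiv_comp_eq {k L M : Type*} [Field k] [Field L] [Field M] [Algebra k L]
    [Algebra k M] [Normal k L] (α β : L →ₐ[k] M) : ∃ g : L ≃ₐ[k] L, ∀ x, β x = α (g x) := by
  letI : Algebra L M := α.toRingHom.toAlgebra
  haveI : IsScalarTower k L M := IsScalarTower.of_algebraMap_eq (fun x => (α.commutes x).symm)
  refine ⟨Normal.algHomEquivAut k M L β, fun x => ?_⟩
  have := (Normal.algHomEquivAut k M L).left_inv β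
  exact (DFunLike.congr_fun this x).symm

/-- a finite separable extension embeds in a finite Galois extension -/
theorem exists_galois_closure (k : Type u) [Field k] (K : Type u) [Field K] [Algebra k K]
    [FiniteDimensional k K] [Algebra.IsSeparable k K] :
    ∃ (L : Type u) (_ : Field L) (_ : Algebra k L) (_ : FiniteDimensional k L)
      (_ : IsGalois k L), Nonempty (K →ₐ[k] L) := by
  let Ω := AlgebraicClosure K
  let L := IntermediateField.normalClosure k K Ω
  have hsep : Algebra.IsSeparable k L := by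
    have : ∀ f : K →ₐ[k] Ω, Algebra.IsSeparable k f.fieldRange := fun f =>
      AlgEquiv.Algebra.isSeparable (AlgEquiv.ofInjectiveField f)
    exact IntermediateField.isSeparable_iSup k Ω
  have hnorm : Normal k L := inferInstance
  exact ⟨L, inferInstance, inferInstance, inferInstance, ⟨⟩, ⟨IsScalarTower.toAlgHom k K L⟩⟩

theorem algEtale (k : Type u) [Field k] (M : Type u) [Field M] [Algebra k M]
    [FiniteDimensional k M] [Algebra.IsSeparable k M] : Algebra.Etale k M :=
  have := Algebra.FormallyEtale.of_isSeparable k M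
  ⟨inferInstance, Algebra.FinitePresentation.of_finiteType.mp inferInstance⟩

theorem etale_specMap (k : Type u) [Field k] (M : Type u) [Field M] [Algebra k M]
    [FiniteDimensional k M] [Algebra.IsSeparable k M] :
    Etale (Spec.map (CommRingCat.ofHom (algebraMap k M))) := by
  rw [HasRingHomProperty.Spec_iff (P := @Etale)]
  rw [CommRingCat.hom_ofHom, RingHom.etale_algebraMap]
  exact algEtale k M

end Algebra

variable (k : Type u) [Field k]

/-- the object `Spec M → Spec k` of the small étale site, for `M/k` finite separable -/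
noncomputable def fieldObj (M : Type u) [Field M] [Algebra k M]
    [FiniteDimensional k M] [Algebra.IsSeparable k M] : (Spec (CommRingCat.of k)).Etale :=
  haveI := etale_specMap k M
  Scheme.Etale.mk (Spec.map (CommRingCat.ofHom (algebraMap k M)))

variable {k}
variable {M M' : Type u} [Field M] [Algebra k M] [FiniteDimensional k M] [Algebra.IsSeparable k M]
  [Field M'] [Algebra k M'] [FiniteDimensional k M'] [Algebra.IsSeparable k M']

set_option backward.isDefEq.respectTransparency.types false in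
/-- the morphism of the small étale site induced by a `k`-embedding -/
noncomputable def fieldHom (φ : M →ₐ[k] M') : fieldObj k M' ⟶ fieldObj k M :=
  MorphismProperty.Over.homMk (Spec.map (CommRingCat.ofHom φ.toRingHom)) (by
    change Spec.map (CommRingCat.ofHom φ.toRingHom) ≫
      Spec.map (CommRingCat.ofHom (algebraMap k M)) = Spec.map (CommRingCat.ofHom (algebraMap k M'))
    rw [← Spec.map_comp, ← CommRingCat.ofHom_comp]
    congr 2
    ext x
    exact φ.commutes x)

set_option backward.isDefEq.respectTransparency.types false in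
/-- every morphism between field objects comes from a `k`-embedding -/
theorem hom_eq_fieldHom (h : fieldObj k M' ⟶ fieldObj k M) :
    ∃ φ : M →ₐ[k] M', h = fieldHom φ := by
  obtain ⟨l, hl, hw⟩ : ∃ l : Spec (CommRingCat.of M') ⟶ Spec (CommRingCat.of M), l = h.left ∧
      l ≫ Spec.map (CommRingCat.ofHom (algebraMap k M)) =
        Spec.map (CommRingCat.ofHom (algebraMap k M')) :=
    ⟨h.left, rfl, MorphismProperty.Over.w h⟩
  obtain ⟨ψ, rfl⟩ := Spec.map_surjective l
  rw [← Spec.map_comp] at hw
  have hw' := Spec.map_injective hw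
  let φ : M →ₐ[k] M' :=
    { ψ.hom with
      commutes' := fun x => by
        have := congrArg (fun f => f.hom x) hw'
        exact this }
  refine ⟨φ, ?_⟩
  apply MorphismProperty.Over.Hom.ext
  rw [← hl]
  rfl

set_option backward.isDefEq.respectTransparency.types false in
theorem fieldHom_comp {M'' : Type u} [Field M''] [Algebra k M''] [FiniteDimensional k M'']
    [Algebra.IsSeparable k M''] (φ : M →ₐ[k] M') (ψ : M' →ₐ[k] M'') :
    fieldHom (ψ.comp φ) = fieldHom ψ ≫ fieldHom φ := by
  apply MorphismProperty.Over.Hom.ext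
  change Spec.map (CommRingCat.ofHom (ψ.comp φ).toRingHom) =
    Spec.map (CommRingCat.ofHom ψ.toRingHom) ≫ Spec.map (CommRingCat.ofHom φ.toRingHom)
  rw [← Spec.map_comp, ← CommRingCat.ofHom_comp]
  rfl

variable (k)

set_option backward.isDefEq.respectTransparency.types false in
/-- every point of an étale `Spec k`-scheme is hit by a field object -/
theorem exists_field_point (Y : (Spec (CommRingCat.of k)).Etale) (y : Y.left) :
    ∃ (M : Type u) (_ : Field M) (_ : Algebra k M) (_ : FiniteDimensional k M)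
      (_ : Algebra.IsSeparable k M) (c : fieldObj k M ⟶ Y), y ∈ Set.range c.left := by
  let 𝒰 := Y.left.affineOpenCover
  obtain ⟨i, q, hq⟩ : ∃ (i : 𝒰.I₀) (q : ↥(Spec (𝒰.X i))), (𝒰.f i) q = y :=
    𝒰.openCover.exists_eq y
  have hYe : Etale Y.hom := Y.prop
  let g : Spec (𝒰.X i) ⟶ Spec (CommRingCat.of k) := 𝒰.f i ≫ Y.hom
  have hgE : Etale g := inferInstance
  let φ₀ : CommRingCat.of k ⟶ 𝒰.X i := Spec.preimage g
  have hφ₀ : Spec.map φ₀ = g := Spec.map_preimage g
  have hφE : φ₀.hom.Etale := by
    rw [← hφ₀] at hgE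
    exact (HasRingHomProperty.Spec_iff (P := @Etale)).mp hgE
  algebraize [φ₀.hom]
  have hE : Algebra.Etale k (𝒰.X i) := hφE
  obtain ⟨I, hI, Ai, hF, hA, e, H⟩ := (Algebra.Etale.iff_exists_algEquiv_prod k (𝒰.X i)).mp hE
  -- the prime `q` comes from one of the factors
  let q' : PrimeSpectrum (Π j, Ai j) := PrimeSpectrum.comap (e.symm : (Π j, Ai j) →+* 𝒰.X i) q
  obtain ⟨⟨j, p⟩, hjp⟩ := (PrimeSpectrum.sigmaToPi_bijective Ai).surjective q'
  rw [PrimeSpectrum.sigmaToPi_apply] at hjp
  have hfin : FiniteDimensional k (Ai j) := (H j).1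
  have hsep : Algebra.IsSeparable k (Ai j) := (H j).2
  let ψ : 𝒰.X i →ₐ[k] Ai j := (Pi.evalAlgHom k Ai j).comp e.toAlgHom
  refine ⟨Ai j, inferInstance, inferInstance, hfin, hsep,
    MorphismProperty.Over.homMk (Spec.map (CommRingCat.ofHom ψ.toRingHom) ≫ 𝒰.f i) ?_, ?_⟩
  · change (Spec.map (CommRingCat.ofHom ψ.toRingHom) ≫ 𝒰.f i) ≫ Y.hom =
      Spec.map (CommRingCat.ofHom (algebraMap k (Ai j)))
    rw [Category.assoc]
    change Spec.map _ ≫ g = _
    rw [← hφ₀, ← Spec.map_comp]
    congr 1
    ext r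
    exact ψ.commutes r
  · refine ⟨p, ?_⟩
    change (Spec.map (CommRingCat.ofHom ψ.toRingHom) ≫ 𝒰.f i) p = y
    rw [Scheme.Hom.comp_apply, ← hq]
    congr 1
    have h1 : PrimeSpectrum.comap (e : 𝒰.X i →+* (Π j, Ai j)) q' = q := by
      apply PrimeSpectrum.ext
      ext a
      simp [q', PrimeSpectrum.comap_asIdeal, Ideal.mem_comap]
    rw [← h1, ← hjp]
    rfl

/-- a field object mapping to `Y` -/
structure FieldPt (Y : (Spec (CommRingCat.of k)).Etale) where
  M : Type u
  [field : Field M]
  [alg : Algebra k M]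
  [fin : FiniteDimensional k M]
  [sep : Algebra.IsSeparable k M]
  c : fieldObj k M ⟶ Y

attribute [instance] FieldPt.field FieldPt.alg FieldPt.fin FieldPt.sep

theorem fieldPts_mem (Y : (Spec (CommRingCat.of k)).Etale) :
    Sieve.ofArrows (fun P : FieldPt k Y => fieldObj k P.M) (fun P => P.c) ∈
      (Spec (CommRingCat.of k)).smallEtaleTopology Y := by
  rw [Scheme.ofArrows_mem_smallEtaleTopology_iff]
  ext y
  simp only [Set.mem_iUnion, Set.mem_univ, iff_true]
  obtain ⟨M, hF, hA, hfin, hsep, c, hc⟩ := exists_field_point k Y y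
  exact ⟨⟨M, c⟩, hc⟩

set_option backward.isDefEq.respectTransparency.types false in
/-- every covering sieve of the terminal object contains a finite Galois field object -/
theorem exists_galois_mem (R : Sieve (EtCoh.top (Spec (CommRingCat.of k))))
    (hR : R ∈ (Spec (CommRingCat.of k)).smallEtaleTopology (EtCoh.top (Spec (CommRingCat.of k)))) :
    ∃ (L : Type u) (_ : Field L) (_ : Algebra k L) (_ : FiniteDimensional k L)
      (_ : IsGalois k L),
      R ((EtCore.topIsTerminal (Spec (CommRingCat.of k))).from (fieldObj k L)) := by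
  obtain ⟨𝒰, h, hP, le⟩ := (Scheme.mem_smallGrothendieckTopology _ _).1 hR
  obtain ⟨i, y, hy⟩ := 𝒰.exists_eq (default : Spec (CommRingCat.of k))
  have hover : 𝒰.f i ≫ (EtCoh.top (Spec (CommRingCat.of k))).hom =
      𝒰.X i ↘ Spec (CommRingCat.of k) :=
    HomIsOver.comp_over (f := 𝒰.f i) (S := Spec (CommRingCat.of k))
  have hRi : R (MorphismProperty.Over.homMk (𝒰.f i) hover :
      (𝒰.X i).asOverProp (Spec (CommRingCat.of k)) (hP i) ⟶ EtCoh.top _) := le _ _ ⟨i⟩
  obtain ⟨M, hF, hA, hfin, hsep, c, -⟩ :=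
    exists_field_point k ((𝒰.X i).asOverProp (Spec (CommRingCat.of k)) (hP i)) y
  obtain ⟨L, hLF, hLA, hLfin, hLgal, ⟨φ⟩⟩ := exists_galois_closure k M
  refine ⟨L, hLF, hLA, hLfin, hLgal, ?_⟩
  have h1 := R.downward_closed hRi (fieldHom φ ≫ c)
  have e : (fieldHom φ ≫ c) ≫ (MorphismProperty.Over.homMk (𝒰.f i) hover :
      (𝒰.X i).asOverProp (Spec (CommRingCat.of k)) (hP i) ⟶ EtCoh.top _) =
      (EtCore.topIsTerminal (Spec (CommRingCat.of k))).from (fieldObj k L) :=
    (EtCore.topIsTerminal _).hom_ext _ _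
  exact e ▸ h1

open Groth.Agent.H69.EtSecExact

variable {k}

lemma map_map_sect {X : Scheme.{u}} (F : EtCoh.Ab X) {U V W : X.Etale} (f : U ⟶ V) (g : V ⟶ W)
    (s : EtCoh.sect F W) :
    (F.obj.map f.op).hom ((F.obj.map g.op).hom s) = (F.obj.map (f ≫ g).op).hom s := by
  rw [op_comp, F.obj.map_comp]
  rfl

theorem toTop_mem (L : Type u) [Field L] [Algebra k L] [FiniteDimensional k L]
    [Algebra.IsSeparable k L] :
    Sieve.ofArrows (fun _ : PUnit.{1} => fieldObj k L)
      (fun _ => (EtCore.topIsTerminal (Spec (CommRingCat.of k))).from (fieldObj k L)) ∈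
      (Spec (CommRingCat.of k)).smallEtaleTopology (EtCoh.top (Spec (CommRingCat.of k))) := by
  rw [Scheme.ofArrows_mem_smallEtaleTopology_iff]
  ext x
  simp only [Set.mem_iUnion, Set.mem_univ, iff_true]
  have hsub : Subsingleton (Spec (CommRingCat.of k)) :=
    (inferInstance : Subsingleton (PrimeSpectrum k))
  exact ⟨PUnit.unit, (default : Spec (CommRingCat.of L)), hsub.elim _ _⟩

/-- Galois descent for sections of a sheaf -/
theorem exists_descent (F : EtCoh.Ab (Spec (CommRingCat.of k))) (L : Type u) [Field L]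
    [Algebra k L] [FiniteDimensional k L] [IsGalois k L] (t : EtCoh.sect F (fieldObj k L))
    (ht : ∀ g : L ≃ₐ[k] L, (F.obj.map (fieldHom g.toAlgHom).op).hom t = t) :
    ∃ t0 : EtCoh.sect F (EtCoh.top (Spec (CommRingCat.of k))),
      (F.obj.map ((EtCore.topIsTerminal (Spec (CommRingCat.of k))).from
        (fieldObj k L)).op).hom t0 = t := by
  obtain ⟨t0, ht0⟩ := sec_glue_arrows F _ (toTop_mem L) (fun _ => t) (by
    intro _ _ Y gi gj _
    refine sec_ext_arrows F _ (fieldPts_mem k Y) _ _ ?_
    intro P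
    rw [map_map_sect, map_map_sect]
    obtain ⟨α, hα⟩ := hom_eq_fieldHom (P.c ≫ gi)
    obtain ⟨β, hβ⟩ := hom_eq_fieldHom (P.c ≫ gj)
    obtain ⟨g, hg⟩ := exists_algEquiv_comp_eq α β
    have hβα : β = α.comp g.toAlgHom := AlgHom.ext hg
    rw [hβ, hβα, fieldHom_comp, ← map_map_sect F (fieldHom α) (fieldHom g.toAlgHom), ht g, hα])
  exact ⟨t0, ht0 PUnit.unit⟩

lemma app_map_sect {X : Scheme.{u}} {G H : EtCoh.Ab X} (q : G ⟶ H) {U V : X.Etale} (f : U ⟶ V)
    (s : EtCoh.sect G V) :
    (q.hom.app (op U)).hom ((G.obj.map f.op).hom s) =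
      (H.obj.map f.op).hom ((q.hom.app (op V)).hom s) :=
  (congrArg (fun k => k.hom s) (q.hom.naturality f.op))

/-- the norm argument: a positive multiple of every global section lifts along an epimorphism -/
theorem exists_nsmul_lift {G H : EtCoh.Ab (Spec (CommRingCat.of k))} (q : G ⟶ H) [Epi q]
    (s : EtCoh.sect H (EtCoh.top (Spec (CommRingCat.of k)))) :
    ∃ n : ℕ, 0 < n ∧ ∃ t : EtCoh.sect G (EtCoh.top (Spec (CommRingCat.of k))),
      (q.hom.app (op (EtCoh.top (Spec (CommRingCat.of k))))).hom t = n • s := by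
  obtain ⟨R, hR, hloc⟩ := locally_surjective_of_epi q (EtCoh.top _) s
  obtain ⟨L, hLF, hLA, hLfin, hLgal, hL⟩ := exists_galois_mem k R hR
  obtain ⟨tL, htL⟩ := hloc _ hL
  classical
  let Γ := L ≃ₐ[k] L
  haveI : Fintype Γ := Fintype.ofFinite _
  let N : EtCoh.sect G (fieldObj k L) := ∑ g : Γ, (G.obj.map (fieldHom g.toAlgHom).op).hom tL
  have hcomp : ∀ h g : Γ, fieldHom h.toAlgHom ≫ fieldHom g.toAlgHom =
      fieldHom (h * g : Γ).toAlgHom := by
    intro h g
    rw [← fieldHom_comp]
    rfl
  have hinv : ∀ h : Γ, (G.obj.map (fieldHom h.toAlgHom).op).hom N = N := by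
    intro h
    simp only [N, map_sum]
    simp only [map_map_sect, hcomp]
    exact Fintype.sum_bijective (fun g => h * g) (Group.mulLeft_bijective h) _ _ (fun g => rfl)
  obtain ⟨t0, ht0⟩ := exists_descent G L N hinv
  refine ⟨Fintype.card Γ, Fintype.card_pos, t0, ?_⟩
  refine sec_ext_arrows H _ (toTop_mem L) _ _ ?_
  intro _
  rw [← app_map_sect, ht0, map_nsmul]
  simp only [N, map_sum]
  have hterm : ∀ g : Γ, (q.hom.app (op (fieldObj k L))).hom
      ((G.obj.map (fieldHom g.toAlgHom).op).hom tL) =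
      (H.obj.map ((EtCore.topIsTerminal (Spec (CommRingCat.of k))).from (fieldObj k L)).op).hom
        s := by
    intro g
    rw [app_map_sect, htL, map_map_sect]
    have e : fieldHom g.toAlgHom ≫
        (EtCore.topIsTerminal (Spec (CommRingCat.of k))).from (fieldObj k L) =
        (EtCore.topIsTerminal (Spec (CommRingCat.of k))).from (fieldObj k L) :=
      (EtCore.topIsTerminal _).hom_ext _ _
    rw [e]
  simp only [hterm, Finset.sum_const, Finset.card_univ]

/-- the étale cohomology of a field is torsion in positive degrees -/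
theorem isOfFinAddOrder_H (F : EtCoh.Ab (Spec (CommRingCat.of k))) (i : ℕ) (hi : 0 < i)
    (x : EtCoh.H (Spec (CommRingCat.of k)) F i) : IsOfFinAddOrder x := by
  obtain ⟨p, rfl⟩ : ∃ p, i = p + 1 := ⟨i - 1, by omega⟩
  refine ExtTorsion.ext_succ_torsion_of_lift _ ?_ p F x
  intro G H q hq ψ
  obtain ⟨n, hn, t, ht⟩ := exists_nsmul_lift q (homEquivGsec _ H ψ)
  refine ⟨n, hn, (homEquivGsec _ G).symm t, ?_⟩
  apply (homEquivGsec _ H).injective
  rw [homEquivGsec_comp, AddEquiv.apply_symm_apply, ht, map_nsmul]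

end Groth.Agent.H69.EtFieldGalois
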