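import Groth.Agent.H69.EtFieldGalois
import Groth.Agent.H69.EtCartan
import Groth.Agent.H4.EtRestr

/-!
# Surjectivity on sections over the small étale site of a field (helper69)

* `exists_mono_field_point`: every point of an étale `Spec k`-scheme is the image of a monomorphism
  from a field object.
* `surjective_of_fieldObj`: a morphism of sheaves on `Spec k` which is surjective on sections over all
  field objects is surjective on sections over all objects.
* `surjective_fieldObj_of_H1`: for a short exact sequence `S` of sheaves on `Spec k`, `S.g` is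
  surjective on sections over `Spec M` as soon as `H¹(Spec M, S.X₁|_M) = 0`.
-/

set_option autoImplicit false
set_option backward.isDefEq.respectTransparency.types false
universe u
open CategoryTheory CategoryTheory.Limits AlgebraicGeometry Opposite Abelian EtShriek

namespace Groth.Agent.H69.EtFieldSurj

open Groth.Agent.H69.EtFieldGalois Groth.Agent.H69.EtSecExact

variable (k : Type u) [Field k]

/-- every point of an étale `Spec k`-scheme is the image of a monomorphism from a field object -/
theorem exists_mono_field_point (Y : (Spec (CommRingCat.of k)).Etale) (y : Y.left) :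
    ∃ (M : Type u) (_ : Field M) (_ : Algebra k M) (_ : FiniteDimensional k M)
      (_ : Algebra.IsSeparable k M) (c : fieldObj k M ⟶ Y), Mono c ∧ y ∈ Set.range c.left := by
  classical
  let 𝒰 := Y.left.affineOpenCover
  obtain ⟨i, q, hq⟩ : ∃ (i : 𝒰.I₀) (q : ↥(Spec (𝒰.X i))), (𝒰.f i) q = y :=
    𝒰.openCover.exists_eq y
  have hYe : Etale Y.hom := Y.prop
  let g : Spec (𝒰.X i) ⟶ Spec (CommRingCat.of k) := 𝒰.f i ≫ Y.hom
  have hgE : Etale g := inferInstance
  let φ₀ : CommRingCat.of k ⟶ 𝒰.X i := Spec.preimage g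
  have hφ₀ : Spec.map φ₀ = g := Spec.map_preimage g
  have hφE : φ₀.hom.Etale := by
    rw [← hφ₀] at hgE
    exact (HasRingHomProperty.Spec_iff (P := @Etale)).mp hgE
  algebraize [φ₀.hom]
  have hE : Algebra.Etale k (𝒰.X i) := hφE
  obtain ⟨I, hI, Ai, hF, hA, e, H⟩ := (Algebra.Etale.iff_exists_algEquiv_prod k (𝒰.X i)).mp hE
  let q' : PrimeSpectrum (Π j, Ai j) := PrimeSpectrum.comap (e.symm : (Π j, Ai j) →+* 𝒰.X i) q
  obtain ⟨⟨j, p⟩, hjp⟩ := (PrimeSpectrum.sigmaToPi_bijective Ai).surjective q'
  rw [PrimeSpectrum.sigmaToPi_apply] at hjp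
  have hfin : FiniteDimensional k (Ai j) := (H j).1
  have hsep : Algebra.IsSeparable k (Ai j) := (H j).2
  let ψ : 𝒰.X i →ₐ[k] Ai j := (Pi.evalAlgHom k Ai j).comp e.toAlgHom
  have hψsurj : Function.Surjective ψ.toRingHom := by
    intro a
    obtain ⟨b, hb⟩ := e.surjective (Pi.single j a)
    refine ⟨b, ?_⟩
    change (e b) j = a
    rw [hb, Pi.single_eq_same]
  have hci : IsClosedImmersion (Spec.map (CommRingCat.ofHom ψ.toRingHom)) :=
    IsClosedImmersion.spec_of_surjective _ hψsurj
  have hmono : Mono (Spec.map (CommRingCat.ofHom ψ.toRingHom) ≫ 𝒰.f i) := mono_comp _ _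
  let c : fieldObj k (Ai j) ⟶ Y :=
    MorphismProperty.Over.homMk (Spec.map (CommRingCat.ofHom ψ.toRingHom) ≫ 𝒰.f i) (by
      change (Spec.map (CommRingCat.ofHom ψ.toRingHom) ≫ 𝒰.f i) ≫ Y.hom =
        Spec.map (CommRingCat.ofHom (algebraMap k (Ai j)))
      rw [Category.assoc]
      change Spec.map _ ≫ g = _
      rw [← hφ₀, ← Spec.map_comp]
      congr 1
      ext r
      exact ψ.commutes r)
  refine ⟨Ai j, inferInstance, inferInstance, hfin, hsep, c, ?_, ?_⟩
  · constructor
    intro Z a b hab
    apply MorphismProperty.Over.Hom.ext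
    have h1 : a.left ≫ c.left = b.left ≫ c.left := congrArg (fun m => m.left) hab
    exact (cancel_mono (Spec.map (CommRingCat.ofHom ψ.toRingHom) ≫ 𝒰.f i)).1 h1
  · refine ⟨p, ?_⟩
    change (Spec.map (CommRingCat.ofHom ψ.toRingHom) ≫ 𝒰.f i) p = y
    rw [Scheme.Hom.comp_apply, ← hq]
    congr 1
    have h1 : PrimeSpectrum.comap (e : 𝒰.X i →+* (Π j, Ai j)) q' = q := by
      apply PrimeSpectrum.ext
      ext a
      simp [q', PrimeSpectrum.comap_asIdeal, Ideal.mem_comap]
    rw [← h1, ← hjp]
    rfl

variable {k}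

/-- a morphism of sheaves on `Spec k` which is surjective on sections over all field objects is
surjective on sections over all objects -/
theorem surjective_of_fieldObj {I Q : EtCoh.Ab (Spec (CommRingCat.of k))} (q : I ⟶ Q)
    (hq : ∀ (M : Type u) [Field M] [Algebra k M] [FiniteDimensional k M] [Algebra.IsSeparable k M],
      Function.Surjective (q.hom.app (op (fieldObj k M))).hom)
    (W : (Spec (CommRingCat.of k)).Etale) : Function.Surjective (q.hom.app (op W)).hom := by
  intro s
  choose M hF hA hfin hsep c hmono hc using exists_mono_field_point k W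
  have hcover : Sieve.ofArrows (fun y : W.left => fieldObj k (M y)) c ∈
      (Spec (CommRingCat.of k)).smallEtaleTopology W := by
    rw [Scheme.ofArrows_mem_smallEtaleTopology_iff]
    ext y
    simp only [Set.mem_iUnion, Set.mem_univ, iff_true]
    exact ⟨y, hc y⟩
  have hrange : ∀ (y : W.left) (z : (fieldObj k (M y)).left), (c y).left z = y := by
    intro y z
    obtain ⟨z', hz'⟩ := hc y
    have hsub : Subsingleton (fieldObj k (M y)).left :=
      (inferInstance : Subsingleton (PrimeSpectrum (M y)))
    rw [hsub.elim z z', hz']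
  choose t ht using fun y => hq (M y) ((Q.obj.map (c y).op).hom s)
  obtain ⟨t0, ht0⟩ := sec_glue_arrows I c hcover t (by
    intro y y' Y gi gj hij
    by_cases hY : IsEmpty Y.left
    · exact sec_subsingleton_of_isEmpty I Y _ _
    · rw [not_isEmpty_iff] at hY
      obtain ⟨z⟩ := hY
      have h1 : (c y).left (gi.left z) = (c y').left (gj.left z) :=
        congrArg (fun m => m.left z) hij
      rw [hrange, hrange] at h1
      subst h1
      have : gi = gj := (cancel_mono (c y)).1 hij
      rw [this])
  refine ⟨t0, ?_⟩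
  refine sec_ext_arrows Q c hcover _ _ ?_
  intro y
  rw [← app_map_sect, ht0, ht]

section H1

variable (M : Type u) [Field M] [Algebra k M] [FiniteDimensional k M] [Algebra.IsSeparable k M]

/-- the structure morphism `Spec M ⟶ Spec k` -/
noncomputable abbrev π : Spec (CommRingCat.of M) ⟶ Spec (CommRingCat.of k) :=
  Spec.map (CommRingCat.ofHom (algebraMap k M))

instance : Etale (π (k := k) M) := etale_specMap k M

/-- the terminal object of `Spec M`, composed to `Spec k`, is the field object -/
noncomputable def topIso :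
    (compEtale (π (k := k) M)).obj (EtCoh.top (Spec (CommRingCat.of M))) ≅ fieldObj k M :=
  MorphismProperty.Over.isoMk (Iso.refl _) (by
    change 𝟙 _ ≫ π M = 𝟙 _ ≫ π M
    rfl)

/-- for a short exact sequence `S` of sheaves on `Spec k`, `S.g` is surjective on sections over
`Spec M` as soon as `H¹(Spec M, S.X₁|_M) = 0`. -/
theorem surjective_fieldObj_of_H1 {S : ShortComplex (EtCoh.Ab (Spec (CommRingCat.of k)))}
    (hS : S.ShortExact)
    (h1 : Subsingleton (EtCoh.H (Spec (CommRingCat.of M))
      ((restrAlong (π (k := k) M)).obj S.X₁) 1)) :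
    Function.Surjective (S.g.hom.app (op (fieldObj k M))).hom := by
  have hlim : PreservesLimits (restrAlong (π (k := k) M)) :=
    (extZeroAdj (π M)).rightAdjoint_preservesLimits
  have hcolim : PreservesColimits (restrAlong (π (k := k) M)) :=
    (Groth.Agent.H4.EtRestr.restrPushAdj (π M)).leftAdjoint_preservesColimits
  have hS' : (S.map (restrAlong (π (k := k) M))).ShortExact := hS.map_of_exact _
  intro s
  let T := EtCoh.top (Spec (CommRingCat.of M))
  let s₁ : EtCoh.sect ((restrAlong (π (k := k) M)).obj S.X₃) T :=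
    (S.X₃.obj.map (topIso M).hom.op).hom s
  let ψ := (homEquivGsec (Spec (CommRingCat.of M)) _).symm s₁
  have h0 : (Ext.mk₀ ψ).comp hS'.extClass (zero_add 1) = 0 := h1.elim _ _
  obtain ⟨y, hy⟩ := Ext.covariant_sequence_exact₃ _ hS' (Ext.mk₀ ψ) (zero_add 1) h0
  obtain ⟨ψ', rfl⟩ := (Ext.mk₀_bijective _ _).2 y
  rw [Ext.mk₀_comp_mk₀] at hy
  have hψ' : ψ' ≫ (S.map (restrAlong (π (k := k) M))).g = ψ := (Ext.mk₀_bijective _ _).1 hy
  let t₁ : EtCoh.sect ((restrAlong (π (k := k) M)).obj S.X₂) T :=
    homEquivGsec (Spec (CommRingCat.of M)) _ ψ'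
  have ht₁ : (S.g.hom.app (op ((compEtale (π (k := k) M)).obj T))).hom t₁ = s₁ := by
    have := homEquivGsec_comp (Spec (CommRingCat.of M))
      (S.map (restrAlong (π (k := k) M))).g ψ'
    rw [hψ'] at this
    have e1 : homEquivGsec (Spec (CommRingCat.of M)) ((restrAlong (π (k := k) M)).obj S.X₃) ψ = s₁ :=
      AddEquiv.apply_symm_apply _ _
    exact this.symm.trans e1
  refine ⟨(S.X₂.obj.map (topIso M).inv.op).hom t₁, ?_⟩
  rw [app_map_sect, ht₁]
  change (S.X₃.obj.map (topIso M).inv.op).hom ((S.X₃.obj.map (topIso M).hom.op).hom s) = s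
  rw [map_map_sect, Iso.inv_hom_id]
  simp

end H1

end Groth.Agent.H69.EtFieldSurj
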