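import Groth.Agent.H69.EtTorsionPull
import Mathlib.GroupTheory.Sylow

/-!
# Period and index have the same prime factors (helper69)
-/

set_option autoImplicit false
set_option backward.isDefEq.respectTransparency.types false
universe u
open CategoryTheory CategoryTheory.Limits AlgebraicGeometry Opposite

namespace Groth.Agent.H69.EtFieldSylow

open EtCoh EtCore Groth.Agent.H4.EtRestr Groth.Agent.H4.HpullAPI

section Functoriality

variable {X Y Z : Scheme.{u}} (f : X ⟶ Y) (t : Y ⟶ Z) (f₀ : X ⟶ Z) (w : f ≫ t = f₀)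

include w in
theorem Hpull_eq_zero_of_right (G : Ab Z) (p : ℕ) (e : EtCoh.H Z G p)
    (h : Hpull t G p e = 0) : Hpull f₀ G p e = 0 := by
  rw [← HpullVia_Hpull f t f₀ w, h, map_zero]

include w in
theorem Hpull_Hpull_eq_zero (G : Ab Z) (p : ℕ) (e : EtCoh.H Z G p)
    (h : Hpull f₀ G p e = 0) : Hpull f ((EtCoh.pull t).obj G) p (Hpull t G p e) = 0 := by
  rw [← HpullVia_Hpull f t f₀ w] at h
  have hinj : Function.Injective
      ((EtCoh.HF X p).map (((pullComp f t).symm ≪≫ pullCongr w).app G).hom).hom := by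
    have : IsIso ((EtCoh.HF X p).map (((pullComp f t).symm ≪≫ pullCongr w).app G).hom) :=
      inferInstance
    exact ((ConcreteCategory.isIso_iff_bijective _).1 this).1
  apply hinj
  exact h.trans (map_zero _).symm

end Functoriality

section Field

open Groth.Agent.H69.EtFieldGalois Groth.Agent.H69.EtFieldTrace

variable {K : Type u} [Field K]

theorem exists_prime_to_p (F : Ab (Spec (CommRingCat.of K))) (i : ℕ)
    (α : EtCoh.H (Spec (CommRingCat.of K)) F i) (L : Type u) [Field L] [Algebra K L]
    [FiniteDimensional K L] [Algebra.IsSeparable K L]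
    (hα : Hpull (Spec.map (CommRingCat.ofHom (algebraMap K L))) F i α = 0) (p : ℕ) (hp : p.Prime)
    (hpα : ¬ p ∣ addOrderOf α) :
    ∃ (L' : Type u) (_ : Field L') (_ : Algebra K L') (_ : FiniteDimensional K L')
      (_ : Algebra.IsSeparable K L'), ¬ p ∣ Module.finrank K L' ∧
        Hpull (Spec.map (CommRingCat.ofHom (algebraMap K L'))) F i α = 0 := by
  obtain ⟨M, hMF, hMA, hMfin, hMgal, ⟨φ₀⟩⟩ := exists_galois_closure K L
  haveI : Fact p.Prime := ⟨hp⟩
  obtain ⟨P⟩ : Nonempty (Sylow p (M ≃ₐ[K] M)) := inferInstance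
  let L' : IntermediateField K M := IntermediateField.fixedField (P : Subgroup (M ≃ₐ[K] M))
  -- the class dies over `M`
  have w : Spec.map (CommRingCat.ofHom φ₀.toRingHom) ≫
      Spec.map (CommRingCat.ofHom (algebraMap K L)) =
      Spec.map (CommRingCat.ofHom (algebraMap K M)) := by
    rw [← Spec.map_comp, ← CommRingCat.ofHom_comp]
    congr 2
    ext x
    exact φ₀.commutes x
  have hM : Hpull (Spec.map (CommRingCat.ofHom (algebraMap K M))) F i α = 0 :=
    Hpull_eq_zero_of_right _ _ _ w F i α hα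
  -- pass to the fixed field of the Sylow subgroup
  have w' : Spec.map (CommRingCat.ofHom (algebraMap L' M)) ≫
      Spec.map (CommRingCat.ofHom (algebraMap K L')) =
      Spec.map (CommRingCat.ofHom (algebraMap K M)) := by
    rw [← Spec.map_comp, ← CommRingCat.ofHom_comp]
    rfl
  have hβ := Hpull_Hpull_eq_zero _ _ _ w' F i α hM
  have h3 := finrank_nsmul_eq_zero (k := L') M _ i _ hβ
  have hcardP : Module.finrank L' M = Nat.card (P : Subgroup (M ≃ₐ[K] M)) :=
    IntermediateField.finrank_fixedField_eq_card _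
  obtain ⟨a, ha⟩ := IsPGroup.iff_card.1 P.isPGroup'
  rw [hcardP, ha] at h3
  have h4 : addOrderOf α • Hpull (Spec.map (CommRingCat.ofHom (algebraMap K L'))) F i α = 0 := by
    rw [← map_nsmul, addOrderOf_nsmul_eq_zero, map_zero]
  have hcop : Nat.Coprime (p ^ a) (addOrderOf α) :=
    Nat.Coprime.pow_left a ((Nat.Prime.coprime_iff_not_dvd hp).2 hpα)
  have h5 : addOrderOf (Hpull (Spec.map (CommRingCat.ofHom (algebraMap K L'))) F i α) = 1 :=
    Nat.eq_one_of_dvd_coprimes hcop (addOrderOf_dvd_of_nsmul_eq_zero h3)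
      (addOrderOf_dvd_of_nsmul_eq_zero h4)
  refine ⟨L', inferInstance, inferInstance, inferInstance, inferInstance, ?_,
    AddMonoid.addOrderOf_eq_one_iff.1 h5⟩
  have hidx : Module.finrank K L' = (P : Subgroup (M ≃ₐ[K] M)).index := by
    rw [IntermediateField.finrank_eq_fixingSubgroup_index, IntermediateField.fixingSubgroup_fixedField]
  rw [hidx]
  exact P.not_dvd_index

end Field

end Groth.Agent.H69.EtFieldSylow
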