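import Groth.Prelude.Def_EtCore
import Groth.Agent.H69.CS.Vanish

/-!
# Vanishing of étale cohomology when global sections are exact (helper69)

* `H_subsingleton_of_gsec_surjective`: if global sections turn epimorphisms of abelian étale
  sheaves into surjections, then `H^p(X_et, F) = 0` for `p ≥ 1`.
* `gsec_surjective_of_retraction`: this holds as soon as every covering sieve of the terminal
  object `X` contains an arrow admitting a section.
-/

set_option autoImplicit false
universe u
open CategoryTheory CategoryTheory.Limits AlgebraicGeometry Opposite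

namespace Groth.Agent.H69.EtSecExact

/-- epimorphisms of abelian étale sheaves are locally surjective -/
lemma locally_surjective_of_epi {X : Scheme.{u}} {G H : EtCoh.Ab X} (q : G ⟶ H) [Epi q]
    (V : X.Etale) (b : EtCoh.sect H V) :
    ∃ R : Sieve V, R ∈ X.smallEtaleTopology V ∧ ∀ ⦃W : X.Etale⦄ (g : W ⟶ V), R g →
      ∃ s : EtCoh.sect G W, (q.hom.app (op W)).hom s = (H.obj.map g.op).hom b := by
  have hls : Sheaf.IsLocallySurjective q :=
    (Sheaf.isLocallySurjective_iff_epi' (φ := q)).2 inferInstance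
  refine ⟨_, Presheaf.imageSieve_mem X.smallEtaleTopology q.hom b, ?_⟩
  intro W g hg
  obtain ⟨t, ht⟩ := hg
  exact ⟨t, ht⟩

/-- If every covering sieve of the terminal object contains an arrow with a section, then global
sections send epimorphisms to surjections. -/
theorem gsec_surjective_of_retraction (X : Scheme.{u})
    (hret : ∀ R : Sieve (EtCoh.top X), R ∈ X.smallEtaleTopology (EtCoh.top X) →
      ∃ (U : X.Etale) (f : U ⟶ EtCoh.top X) (_ : EtCoh.top X ⟶ U), R f)
    {G H : EtCoh.Ab X} (q : G ⟶ H) [Epi q] :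
    Function.Surjective ((q.hom.app (op (EtCoh.top X))).hom) := by
  intro b
  obtain ⟨R, hR, hloc⟩ := locally_surjective_of_epi q (EtCoh.top X) b
  obtain ⟨U, f, σ, hf⟩ := hret R hR
  obtain ⟨s, hs⟩ := hloc f hf
  refine ⟨(G.obj.map σ.op).hom s, ?_⟩
  have hσf : σ ≫ f = 𝟙 _ := (EtCore.topIsTerminal X).hom_ext _ _
  have h1 := q.hom.naturality σ.op
  have h2 : (q.hom.app (op (EtCoh.top X))).hom ((G.obj.map σ.op).hom s) =
      (H.obj.map σ.op).hom ((q.hom.app (op U)).hom s) :=
    congrArg (fun k => k.hom s) h1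
  rw [h2, hs]
  have h3 : (H.obj.map σ.op).hom ((H.obj.map f.op).hom b) = (H.obj.map (σ ≫ f).op).hom b := by
    rw [op_comp, H.obj.map_comp]
    rfl
  rw [h3, hσf]
  simp

/-- maps from the constant sheaf `ℤ` are global sections -/
noncomputable def homEquivGsec (X : Scheme.{u}) (F : EtCoh.Ab X) :
    ((constantSheaf X.smallEtaleTopology AddCommGrpCat.{u+1}).obj
      (AddCommGrpCat.of (ULift.{u+1} ℤ)) ⟶ F) ≃+ EtCoh.sect F (EtCoh.top X) :=
  ((EtCore.constAdj X).homAddEquiv _ F).trans (AddCommGrpCat.uliftZMultiplesAddEquiv _)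

lemma homEquivGsec_comp (X : Scheme.{u}) {G H : EtCoh.Ab X} (q : G ⟶ H)
    (ψ : (constantSheaf X.smallEtaleTopology AddCommGrpCat.{u+1}).obj
      (AddCommGrpCat.of (ULift.{u+1} ℤ)) ⟶ G) :
    homEquivGsec X H (ψ ≫ q) = (q.hom.app (op (EtCoh.top X))).hom (homEquivGsec X G ψ) := by
  simp only [homEquivGsec, AddEquiv.trans_apply, Adjunction.homAddEquiv_apply,
    Adjunction.homEquiv_naturality_right]
  rfl

/-- If global sections send epimorphisms to surjections then higher étale cohomology vanishes. -/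
theorem H_subsingleton_of_gsec_surjective (X : Scheme.{u})
    (hsurj : ∀ {G H : EtCoh.Ab X} (q : G ⟶ H), Epi q →
      Function.Surjective ((q.hom.app (op (EtCoh.top X))).hom))
    (F : EtCoh.Ab X) (p : ℕ) (hp : 1 ≤ p) : Subsingleton (EtCoh.H X F p) := by
  obtain ⟨p, rfl⟩ : ∃ p', p = p' + 1 := ⟨p - 1, by omega⟩
  refine subsingleton_of_forall_eq 0 fun x => ?_
  refine CS.ext_succ_eq_zero_of_lift _ ?_ p F x
  intro G H q hq ψ
  obtain ⟨g, hg⟩ := hsurj q hq (homEquivGsec X H ψ)
  refine ⟨(homEquivGsec X G).symm g, ?_⟩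
  apply (homEquivGsec X H).injective
  rw [homEquivGsec_comp, AddEquiv.apply_symm_apply, hg]

end Groth.Agent.H69.EtSecExact
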