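import Groth.Agent.H69.EtOpenLoc

/-!
# Gabber's criterion for the vanishing of higher étale cohomology on an affine scheme whose local
rings are strictly henselian (helper69)
-/

set_option autoImplicit false
set_option backward.isDefEq.respectTransparency.types false
universe u
open CategoryTheory CategoryTheory.Limits AlgebraicGeometry Opposite Abelian

namespace Groth.Agent.H69.EtGabber

open Groth.Agent.H21.ConstSec Groth.Agent.H69.EtOpenSec Groth.Agent.H69.EtShriekSect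
  Groth.Agent.H4.HpullEt Groth.Agent.H69.EtOpenExt Groth.Agent.H69.EtOpenLoc
  Groth.Agent.H4.MVSes EtCoh EtCore EtShriek

section General

variable {X : Scheme.{u}} (F : EtCoh.Ab X)

lemma isZero_ZJ_bot : IsZero (ZJ (⊥ : X.Opens).ι) := by
  apply Groth.Agent.H4.ClosedStalk.isZero_of_stalks
  intro s
  exact isZero_stalk_ZJ_of_not_mem X ⊥ s (fun h => h)

lemma ext_bot_eq_zero (p : ℕ) (ξ : Ext (ZJ (⊥ : X.Opens).ι) F p) : ξ = 0 := by
  have h1 : (𝟙 (ZJ (⊥ : X.Opens).ι)) = 0 := (isZero_ZJ_bot (X := X)).eq_of_src _ _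
  have h2 : (Ext.mk₀ (𝟙 _)).comp ξ (zero_add p) = ξ := Ext.mk₀_id_comp ξ
  rw [← h2, h1, Ext.mk₀_zero, Ext.zero_comp]

lemma ρ_self {U : X.Opens} (h : U ≤ U) {n : ℕ} (x : Ext (ZJ U.ι) F n) : ρ F h x = x := by
  unfold ρ
  rw [aO_self, Ext.mk₀_id_comp]

instance isIso_εJ_top : IsIso (εJ (⊤ : X.Opens).ι) := by
  have : Epi (εJ (⊤ : X.Opens).ι) := by
    apply Groth.Agent.H4.StalkExact.epi_of_stalks
    intro s
    have := isIso_stalk_εJ_of_mem X ⊤ s trivial
    infer_instance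
  exact isIso_of_mono_of_epi _

/-- a class in `H^n(X, F)` vanishes if its restriction to `Ext^n(j_{⊤!}ℤ, F)` does -/
lemma H_eq_zero_of_top {n : ℕ} (e : EtCoh.H X F n)
    (h0 : (Ext.mk₀ (εJ (⊤ : X.Opens).ι)).comp e (zero_add n) = 0) : e = 0 := by
  have h1 : (Ext.mk₀ (inv (εJ (⊤ : X.Opens).ι))).comp
      ((Ext.mk₀ (εJ (⊤ : X.Opens).ι)).comp e (zero_add n)) (zero_add n) = e := by
    rw [Ext.mk₀_comp_mk₀_assoc, IsIso.inv_hom_id, Ext.mk₀_id_comp]
  rw [← h1, h0, Ext.comp_zero]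

/-- the two-cover property in degree `p`: a class on `D(f + g)` dying on `D(f(f+g))` and on
`D(g(f+g))` is zero -/
def TC (p : ℕ) : Prop :=
  ∀ (f g : Γ(X, ⊤)) (ξ : Ext (ZJ (X.basicOpen (f + g)).ι) F p),
    ρ F ((X.basicOpen_mul f (f + g)).trans_le inf_le_right) ξ = 0 →
    ρ F ((X.basicOpen_mul g (f + g)).trans_le inf_le_right) ξ = 0 → ξ = 0

lemma basicOpen_add_le (f g : Γ(X, ⊤)) :
    X.basicOpen (f + g) ≤ X.basicOpen (f * (f + g)) ⊔ X.basicOpen (g * (f + g)) := by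
  intro x hx
  have hx' := hx
  rw [Scheme.mem_basicOpen_top, map_add] at hx'
  rcases IsLocalRing.isUnit_or_isUnit_of_isUnit_add hx' with h | h
  · left
    rw [Scheme.basicOpen_mul]
    exact ⟨(Scheme.mem_basicOpen_top X f x).2 h, hx⟩
  · right
    rw [Scheme.basicOpen_mul]
    exact ⟨(Scheme.mem_basicOpen_top X g x).2 h, hx⟩

theorem eq_zero_of_mv' (U V W : X.Opens) (hU : U ≤ W) (hV : V ≤ W) (hW : W ≤ U ⊔ V) (n : ℕ)
    (hUV : ∀ y : Ext (ZJ (U ⊓ V).ι) F n, y = 0) (x : Ext (ZJ W.ι) F (n + 1))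
    (hxU : ρ F hU x = 0) (hxV : ρ F hV x = 0) : x = 0 := by
  obtain rfl : W = U ⊔ V := le_antisymm hW (sup_le hU hV)
  exact eq_zero_of_mv U V F n hUV x hxU hxV

/-- Mayer–Vietoris: vanishing in degree `n` on all basic opens gives the two-cover property in
degree `n + 1` -/
theorem tc_succ (n : ℕ)
    (hn : ∀ (U : X.Opens) (h : Γ(X, ⊤)), U = X.basicOpen h → ∀ ξ : Ext (ZJ U.ι) F n, ξ = 0) :
    TC F (n + 1) := by
  intro f g ξ h1 h2
  refine eq_zero_of_mv' F (X.basicOpen (f * (f + g))) (X.basicOpen (g * (f + g))) _ _ _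
    (basicOpen_add_le f g) n ?_ ξ h1 h2
  exact hn _ ((f * (f + g)) * (g * (f + g))) (X.basicOpen_mul _ _).symm

/-- the inductive step of Gabber's argument: a class on `D(h)` which dies on each `D(c f) ∩ D(h)`,
`f ∈ t`, where `h = ∑_{f ∈ t} c f`, is zero -/
theorem eq_zero_of_finset (p : ℕ) (hTC : TC F p) (t : Finset Γ(X, ⊤)) :
    ∀ (c : Γ(X, ⊤) → Γ(X, ⊤)) (U : X.Opens) (h : Γ(X, ⊤)), U = X.basicOpen h →
      ∀ (ξ : Ext (ZJ U.ι) F p), ∑ f ∈ t, c f = h →
      (∀ f ∈ t, ∀ (W : X.Opens) (hW : W ≤ U), W ≤ X.basicOpen (c f) → ρ F hW ξ = 0) → ξ = 0 := by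
  classical
  induction t using Finset.induction_on with
  | empty =>
    intro c U h hU ξ hsum _
    rw [Finset.sum_empty] at hsum
    subst hsum
    rw [Scheme.basicOpen_zero] at hU
    subst hU
    exact ext_bot_eq_zero F p ξ
  | insert a s ha ih =>
    intro c U h hU ξ hsum hdie
    rw [Finset.sum_insert ha] at hsum
    subst hsum
    subst hU
    have hle : X.basicOpen ((∑ x ∈ s, c x) * (c a + ∑ x ∈ s, c x)) ≤
        X.basicOpen (c a + ∑ x ∈ s, c x) :=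
      (X.basicOpen_mul _ _).trans_le inf_le_right
    apply hTC (c a) (∑ x ∈ s, c x) ξ
    · exact hdie a (Finset.mem_insert_self a s) _ _
        ((X.basicOpen_mul _ _).trans_le inf_le_left)
    · apply ih (fun x => c x * (c a + ∑ x ∈ s, c x)) _ ((∑ x ∈ s, c x) * (c a + ∑ x ∈ s, c x)) rfl
        (ρ F hle ξ)
      · rw [← Finset.sum_mul]
      · intro x hx W hW hWc
        rw [ρ_ρ]
        apply hdie x (Finset.mem_insert_of_mem hx) W (hW.trans hle)
        exact hWc.trans ((X.basicOpen_mul _ _).trans_le inf_le_left)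

end General

section Spec

variable (R : Type u) [CommRing R]

local notation "X" => Spec (CommRingCat.of R)

/-- a basic open `D(h)` covered by finitely many `D(f)`, `f ∈ t`: a power of `h` is a combination
of the `f` -/
lemma exists_pow_eq_sum (h : Γ(X, ⊤)) (t : Finset Γ(X, ⊤))
    (hcov : ∀ x : X, x ∈ (X).basicOpen h → ∃ f ∈ t, x ∈ (X).basicOpen f) :
    ∃ (N : ℕ) (a : Γ(X, ⊤) → Γ(X, ⊤)), h ^ N = ∑ f ∈ t, a f * f := by
  have hrad : h ∈ (Ideal.span (t : Set Γ(X, ⊤))).radical := by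
    rw [Ideal.radical_eq_sInf, Ideal.mem_sInf]
    rintro J ⟨hIJ, hJ⟩
    by_contra hh
    let φ := Scheme.ΓSpecIso (CommRingCat.of R)
    let x : PrimeSpectrum R := ⟨Ideal.comap φ.inv.hom J, inferInstance⟩
    have key : ∀ f : Γ(X, ⊤), (x : X) ∈ (X).basicOpen f ↔ f ∉ J := by
      intro f
      rw [basicOpen_eq_of_affine']
      change φ.hom.hom f ∉ Ideal.comap φ.inv.hom J ↔ _
      rw [Ideal.mem_comap]
      have h1 : φ.inv.hom (φ.hom.hom f) = f := Iso.hom_inv_id_apply φ f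
      rw [h1]
    obtain ⟨f, hft, hxf⟩ := hcov x ((key h).2 hh)
    exact (key f).1 hxf (hIJ (Ideal.subset_span hft))
  obtain ⟨N, hN⟩ := hrad
  obtain ⟨a, -, ha⟩ := Submodule.mem_span_finset.1 hN
  exact ⟨N, a, by rw [← ha]; simp [smul_eq_mul]⟩

/-- Gabber's induction: locality and the two-cover property in degree `p` give vanishing of
`Ext^p(j_! ℤ, F)` for all basic opens -/
theorem ext_basicOpen_eq_zero (F : EtCoh.Ab X) (p : ℕ)
    (hloc : ∀ (U : (X).Opens) (ξ : Ext (ZJ U.ι) F p) (x : X), x ∈ U →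
      ∃ (W : (X).Opens) (h : W ≤ U), x ∈ W ∧ ρ F h ξ = 0)
    (hTC : TC F p) (U : (X).Opens) (h : Γ(X, ⊤)) (hU : U = (X).basicOpen h)
    (ξ : Ext (ZJ U.ι) F p) : ξ = 0 := by
  let S : Set Γ(X, ⊤) := {f | ∃ hf : (X).basicOpen f ≤ U, ρ F hf ξ = 0}
  have hcov : (U : Set X) ⊆ ⋃ f ∈ S, ((X).basicOpen f : Set X) := by
    intro x hx
    obtain ⟨W, hW, hxW, hξW⟩ := hloc U ξ x hx
    obtain ⟨V, ⟨f, rfl⟩, hxV, hVW'⟩ :=
      TopologicalSpace.Opens.isBasis_iff_nbhd.1 (isBasis_basicOpen X) hxW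
    refine Set.mem_biUnion (x := f) ⟨hVW'.trans hW, ?_⟩ hxV
    rw [← ρ_ρ F hW hVW', hξW, ρ_zero]
  have hcpt : IsCompact (U : Set X) := by
    rw [hU]
    exact ((isAffineOpen_top X).basicOpen h).isCompact
  obtain ⟨t', ht'S, ht'fin, ht'cov⟩ := hcpt.elim_finite_subcover_image
    (fun f _ => ((X).basicOpen f).isOpen) hcov
  let t : Finset Γ(X, ⊤) := ht'fin.toFinset
  have htS : ∀ f ∈ t, f ∈ S := fun f hf => ht'S (ht'fin.mem_toFinset.1 hf)
  obtain ⟨N, a, hNa⟩ := exists_pow_eq_sum R h t (by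
    intro x hx
    have hx' : x ∈ (U : Set X) := by rw [hU]; exact hx
    obtain ⟨f, hf, hxf⟩ := Set.mem_iUnion₂.1 (ht'cov hx')
    exact ⟨f, ht'fin.mem_toFinset.2 hf, hxf⟩)
  refine eq_zero_of_finset F p hTC t (fun f => (h * a f) * f) U (h ^ (N + 1))
    (hU.trans ((X).basicOpen_pow h (Nat.succ_pos N)).symm) ξ ?_ ?_
  · rw [pow_succ', hNa, Finset.mul_sum]
    exact Finset.sum_congr rfl (fun f _ => (mul_assoc _ _ _))
  · intro f hf W hW hWf
    obtain ⟨hfU, hfξ⟩ := htS f hf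
    have hWf' : W ≤ (X).basicOpen f :=
      hWf.trans (((X).basicOpen_mul _ _).trans_le inf_le_right)
    rw [← ρ_ρ F hfU hWf', hfξ, ρ_zero]

/-- **Gabber's criterion** (Stacks 09AZ) in terms of the two-cover property in degree one -/
theorem H_subsingleton
    (hR : ∀ p : PrimeSpectrum R,
      EtCoh.IsStrictlyHenselianLocalRing (Localization.AtPrime p.asIdeal))
    (F : EtCoh.Ab X) (hTC1 : TC F 1) (q : ℕ) (hq : 1 ≤ q) : Subsingleton (EtCoh.H X F q) := by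
  have hX := stalk_isStrictlyHenselian R hR
  have main : ∀ n : ℕ, TC F (n + 1) ∧ ∀ (U : (X).Opens) (h : Γ(X, ⊤)), U = (X).basicOpen h →
      ∀ ξ : Ext (ZJ U.ι) F (n + 1), ξ = 0 := by
    intro n
    induction n with
    | zero =>
      exact ⟨hTC1, ext_basicOpen_eq_zero R F 1 (exists_open_ρ_eq_zero hX 0 F) hTC1⟩
    | succ n ih =>
      have h := tc_succ F (n + 1) ih.2
      exact ⟨h, ext_basicOpen_eq_zero R F (n + 1 + 1) (exists_open_ρ_eq_zero hX (n + 1) F) h⟩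
  obtain ⟨n, rfl⟩ : ∃ n, q = n + 1 := ⟨q - 1, by omega⟩
  refine subsingleton_of_forall_eq 0 fun e => ?_
  apply H_eq_zero_of_top
  exact (main n).2 ⊤ 1 ((X).basicOpen_one).symm _

end Spec

end Groth.Agent.H69.EtGabber
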