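import Groth.Agent.H4.EtRestr
import Groth.Prelude.Def_EtGm

/-!
# The restriction of `G_m` along an étale morphism is `G_m` (helper69)

* `restrGmIso j : (restrAlong j).obj (Gm X) ≅ Gm U` and `pullGmIso j : (pull j).obj (Gm X) ≅ Gm U`
  for an étale morphism `j : U ⟶ X`.
-/

set_option autoImplicit false
set_option backward.isDefEq.respectTransparency.types false
universe u
open CategoryTheory CategoryTheory.Limits AlgebraicGeometry Opposite EtShriek

namespace Groth.Agent.H69.EtGmRestr

variable {U X : Scheme.{u}} (j : U ⟶ X) [Etale j]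

/-- the underlying scheme of `V → U → X` is that of `V → U` -/
noncomputable def forgetIso :
    compEtale j ⋙ (Scheme.Etale.forget X ⋙ Over.forget X) ≅
      Scheme.Etale.forget U ⋙ Over.forget U :=
  NatIso.ofComponents (fun V => Iso.refl V.left) (by
    intro V W g
    change g.left ≫ 𝟙 _ = 𝟙 _ ≫ g.left
    rw [Category.comp_id, Category.id_comp])

/-- presheaf-level version of `restrGmIso` -/
noncomputable def restrGmIsoPre :
    ((restrAlong j).obj (EtCoh.Gm X)).obj ≅ (EtCoh.Gm U).obj :=
  (Functor.isoWhiskerRight (NatIso.op (forgetIso j)).symm EtCoh.ΓUnits :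
    (compEtale j ⋙ (Scheme.Etale.forget X ⋙ Over.forget X)).op ⋙ EtCoh.ΓUnits ≅
      (Scheme.Etale.forget U ⋙ Over.forget U).op ⋙ EtCoh.ΓUnits)

/-- the restriction of `G_m` along an étale morphism is `G_m` -/
noncomputable def restrGmIso : (restrAlong j).obj (EtCoh.Gm X) ≅ EtCoh.Gm U :=
  (fullyFaithfulSheafToPresheaf _ _).preimageIso (restrGmIsoPre j)

/-- the inverse image of `G_m` along an étale morphism is `G_m` -/
noncomputable def pullGmIso : (EtCoh.pull j).obj (EtCoh.Gm X) ≅ EtCoh.Gm U :=
  (Groth.Agent.H4.EtRestr.pullRestrIso j).app (EtCoh.Gm X) ≪≫ restrGmIso j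

end Groth.Agent.H69.EtGmRestr
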