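import Groth.Agent.H21.SepClosedCoh
import Groth.Agent.H21.GenStalk
import Groth.Agent.H69.EtFieldGalois
import Groth.Agent.H69.EtSecExact
import Groth.Agent.H69.CS.Exact
import Groth.Agent.H69.ExtTorsion
import Groth.Agent.H4.EtRestr

/-!
# `H¹` of a torsion-free constant sheaf on the spectrum of a field, and `Ext¹` under adjunctions
(helper69)

* `ext_one_subsingleton_of_adj`: for an adjunction `L ⊣ R` of abelian categories with `L` preserving
  monomorphisms, `Ext¹(L A, F) = 0` implies `Ext¹(A, R F) = 0` (low-degree Leray injectivity).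
* `H1_const_subsingleton_of_field`: `H¹(Spec k, M) = 0` for a torsion-free abelian group `M`.
* `H1_push_subsingleton`: `H¹(X, f_* F) = 0` if `H¹(Y, F) = 0` for `f : Y ⟶ X`.
-/

set_option autoImplicit false
set_option backward.isDefEq.respectTransparency.types false
open CategoryTheory CategoryTheory.Limits AlgebraicGeometry Opposite Abelian
universe u

namespace Groth.Agent.H69.FieldConstH1

section Abstract

variable {𝒜 ℬ : Type*} [Category 𝒜] [Abelian 𝒜] [HasExt 𝒜] [Category ℬ] [Abelian ℬ] [HasExt ℬ]
  [EnoughInjectives ℬ]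

/-- low-degree Leray: `Ext¹(A, R F)` injects into `Ext¹(L A, F)`, here in the form of vanishing. -/
theorem ext_one_subsingleton_of_adj {L : 𝒜 ⥤ ℬ} {R : ℬ ⥤ 𝒜} (adj : L ⊣ R)
    [L.PreservesMonomorphisms] (A : 𝒜) (F : ℬ) (h : Subsingleton (Ext (L.obj A) F 1)) :
    Subsingleton (Ext A (R.obj F) 1) := by
  have hlim : PreservesLimits R := adj.rightAdjoint_preservesLimits
  have hadd : R.Additive := Functor.additive_of_preserves_binary_products _
  let f : F ⟶ Injective.under F := Injective.ι F
  let S : ShortComplex ℬ := ShortComplex.mk f (cokernel.π f) (cokernel.condition f)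
  have hS : S.ShortExact :=
    { exact := ShortComplex.exact_cokernel f
      mono_f := inferInstanceAs (Mono (Injective.ι F))
      epi_g := inferInstanceAs (Epi (cokernel.π f)) }
  have hinj : Injective (R.obj (Injective.under F)) := Injective.injective_of_adjoint adj _
  have hmono : Mono (R.map f) := inferInstance
  have hex : (S.map R).Exact := hS.exact.map_of_mono_of_preservesKernel R hS.mono_f inferInstance
  let T : ShortComplex 𝒜 :=
    ShortComplex.mk (R.map f) (cokernel.π (R.map f)) (cokernel.condition (R.map f))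
  have hT : T.ShortExact :=
    { exact := ShortComplex.exact_cokernel (R.map f)
      mono_f := hmono
      epi_g := inferInstanceAs (Epi (cokernel.π (R.map f))) }
  have hdesc : Mono (cokernel.desc (S.map R).f (S.map R).g (S.map R).zero) :=
    (S.map R).exact_iff_mono_cokernel_desc.1 hex
  refine subsingleton_of_forall_eq 0 fun x => ?_
  refine CS.ext_one_eq_zero_of_lift hT A ?_ x (Ext.eq_zero_of_injective _)
  intro ψ
  let d := cokernel.desc (S.map R).f (S.map R).g (S.map R).zero
  let φ : L.obj A ⟶ cokernel f := (adj.homEquiv A (cokernel f)).symm (ψ ≫ d)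
  have h0 : (Ext.mk₀ φ).comp hS.extClass (zero_add 1) = 0 := Subsingleton.elim _ _
  obtain ⟨x₂, hx₂⟩ := Ext.covariant_sequence_exact₃ (L.obj A) hS (Ext.mk₀ φ) (zero_add 1) h0
  obtain ⟨φ', rfl⟩ := (Ext.mk₀_bijective _ _).2 x₂
  rw [Ext.mk₀_comp_mk₀] at hx₂
  have hφ : φ' ≫ cokernel.π f = φ := (Ext.mk₀_bijective _ _).1 hx₂
  refine ⟨adj.homEquiv A _ φ', ?_⟩
  have hd : cokernel.π (R.map f) ≫ d = R.map (cokernel.π f) := cokernel.π_desc _ _ _
  have hnat : adj.homEquiv A _ (φ' ≫ cokernel.π f) =
      adj.homEquiv A _ φ' ≫ R.map (cokernel.π f) := adj.homEquiv_naturality_right φ' _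
  have key : (adj.homEquiv A _ φ' ≫ cokernel.π (R.map f)) ≫ d = ψ ≫ d := by
    rw [Category.assoc, hd]
    refine hnat.symm.trans ?_
    rw [hφ]
    exact Equiv.apply_symm_apply _ _
  exact (cancel_mono d).1 key

end Abstract

section Field

open Groth.Agent.H21.ConstSec Groth.Agent.H21.ConstUnit Groth.Agent.H21.GenStalk
  Groth.Agent.H21.SepClosedCoh Groth.Agent.H69.EtSecExact

variable (k : Type u) [Field k]

/-- `H¹(Spec k, M) = 0` for a torsion-free abelian group `M`. -/
theorem H1_cst_subsingleton_of_field (M : AddCommGrpCat.{u + 1}) [IsAddTorsionFree M] :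
    Subsingleton (EtCoh.H (Spec (CommRingCat.of k)) (cst (Spec (CommRingCat.of k)) M) 1) := by
  let Y := Spec (CommRingCat.of k)
  refine subsingleton_of_forall_eq 0 fun e => ?_
  obtain ⟨n, hn, hne⟩ := (EtFieldGalois.isOfFinAddOrder_H (k := k) (cst Y M) 1 Nat.one_pos
    e).exists_nsmul_eq_zero
  -- the short exact sequence `0 → M → M → M/n → 0`
  let f : M ⟶ M := n • 𝟙 M
  have hfmono : Mono f := by
    rw [AddCommGrpCat.mono_iff_injective]
    intro a b hab
    have hab' : n • a = n • b := by simpa [f] using hab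
    exact nsmul_right_injective hn.ne' hab'
  let S₀ : ShortComplex AddCommGrpCat.{u + 1} :=
    ShortComplex.mk f (cokernel.π f) (cokernel.condition f)
  have hS₀ : S₀.ShortExact :=
    { exact := ShortComplex.exact_cokernel f
      mono_f := hfmono
      epi_g := inferInstanceAs (Epi (cokernel.π f)) }
  have hflim : PreservesFiniteLimits (Δ Y) := inferInstance
  have hfcolim : PreservesFiniteColimits (Δ Y) := by
    have : PreservesColimitsOfSize.{0, 0} (Δ Y) := (adjΔ Y).leftAdjoint_preservesColimits
    exact PreservesColimitsOfSize.preservesFiniteColimits _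
  have hadd : (Δ Y).Additive := (adjΔ Y).left_adjoint_additive
  have hS : (S₀.map (Δ Y)).ShortExact := hS₀.map_of_exact (Δ Y)
  refine CS.ext_one_eq_zero_of_lift hS _ ?_ e ?_
  · intro ψ
    -- global sections of `cst (M/n)` come from `M/n`, which is a quotient of `M`
    obtain ⟨c, hc⟩ := (eta_top_bijective Y (cokernel f)).2 (homEquivGsec Y _ ψ)
    have hsurj : Function.Surjective (cokernel.π f) :=
      (AddCommGrpCat.epi_iff_surjective _).1 inferInstance
    obtain ⟨m, rfl⟩ := hsurj c
    refine ⟨(homEquivGsec Y _).symm (eta M (EtCoh.top Y) m), ?_⟩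
    apply (homEquivGsec Y _).injective
    rw [homEquivGsec_comp, AddEquiv.apply_symm_apply]
    exact (app_map_eta (cokernel.π f) (EtCoh.top Y) m).trans hc
  · change e.comp (Ext.mk₀ ((Δ Y).map f)) (add_zero 1) = 0
    have : (Δ Y).map f = n • 𝟙 _ := by
      rw [Functor.map_nsmul, (Δ Y).map_id]
    rw [this, ExtTorsion.mk₀_nsmul, ExtTorsion.comp_nsmul, Ext.comp_mk₀_id, hne]

end Field

section Push

/-- `H¹(X, f_* F) = 0` if `H¹(Y, F) = 0`. -/
theorem H1_push_subsingleton {X Y : Scheme.{u}} (f : Y ⟶ X) (F : EtCoh.Ab Y)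
    (h : Subsingleton (EtCoh.H Y F 1)) : Subsingleton (EtCoh.H X ((EtCoh.push f).obj F) 1) := by
  have : PreservesFiniteLimits (EtCoh.pull f) := inferInstance
  have hm : (EtCoh.pull f).PreservesMonomorphisms := inferInstance
  refine ext_one_subsingleton_of_adj (EtCoh.pullPushAdj f) _ F ?_
  exact Groth.Agent.H21.SepClosedCoh.subsingleton_ext_of_iso_left (EtCore.pullConst f ℤ) 1 h

end Push

end Groth.Agent.H69.FieldConstH1
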