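import Groth.Agent.H69.EtFieldSurj
import Groth.Agent.H69.EtGmRestr
import Groth.Agent.H69.EtHilbert90
import Groth.Agent.H69.AdjExtLow
import Groth.Agent.H69.FieldConstH1
import Groth.Agent.H21.SepClosedCoh
import Groth.Prelude.Def_EtLim

/-!
# Direct images of `G_m` from the spectrum of a field (helper69)

For a field `k`, `G = G_m` on `Spec k` and a short exact sequence `S : 0 → G → I → Q → 0`:
* `surjective_sections`: `I(W) → Q(W)` is surjective for every étale `W → Spec k`
  (`Pic(W) = 0`, via Hilbert 90 for all finite separable extensions);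
* `shortExact_push`: `i_* S` is short exact for every `i : Spec k ⟶ X` (i.e. `R¹ i_* G_m = 0`);
* `H1_push_Gm_subsingleton`: `H¹(X, i_* G_m) = 0`;
* `HofPush_two_injective`: `H²(X, i_* G_m) → H²(Spec k, G_m)` is injective.
-/

set_option autoImplicit false
set_option backward.isDefEq.respectTransparency.types false
universe u
open CategoryTheory CategoryTheory.Limits AlgebraicGeometry Opposite Abelian EtShriek

namespace Groth.Agent.H69.EtGmPushField

open Groth.Agent.H69.EtFieldGalois Groth.Agent.H69.EtSecExact Groth.Agent.H69.EtFieldSurj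

variable {k : Type u} [Field k]

/-- `Pic` of every étale `k`-scheme vanishes, in the form of surjectivity on sections -/
theorem surjective_sections {S : ShortComplex (EtCoh.Ab (Spec (CommRingCat.of k)))}
    (hS : S.ShortExact) (e : S.X₁ ≅ EtCoh.Gm (Spec (CommRingCat.of k)))
    (W : (Spec (CommRingCat.of k)).Etale) : Function.Surjective (S.g.hom.app (op W)).hom := by
  refine surjective_of_fieldObj S.g ?_ W
  intro M _ _ _ _
  refine surjective_fieldObj_of_H1 M hS ?_
  exact Groth.Agent.H21.SepClosedCoh.subsingleton_ext_of_iso_right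
    ((restrAlong (π (k := k) M)).mapIso e ≪≫ EtGmRestr.restrGmIso (π (k := k) M)) 1
    (EtHilbert90.H1_Gm_subsingleton M)

/-- `i_*` keeps a short exact sequence starting with `G_m` short exact: `R¹ i_* G_m = 0` -/
theorem shortExact_push {X : Scheme.{u}} (i : Spec (CommRingCat.of k) ⟶ X)
    {S : ShortComplex (EtCoh.Ab (Spec (CommRingCat.of k)))}
    (hS : S.ShortExact) (e : S.X₁ ≅ EtCoh.Gm (Spec (CommRingCat.of k))) :
    (S.map (EtCoh.push i)).ShortExact := by
  have hlim : PreservesLimits (EtCoh.push i) := (EtCoh.pullPushAdj i).rightAdjoint_preservesLimits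
  have hmono : Mono S.f := hS.mono_f
  have hmono' : Mono ((EtCoh.push i).map S.f) := inferInstance
  have hepi : Epi ((EtCoh.push i).map S.g) := by
    rw [← Sheaf.isLocallySurjective_iff_epi']
    apply Presheaf.isLocallySurjective_of_surjective
    intro V
    exact surjective_sections hS e ((EtCoh.bc i).obj (unop V))
  exact { exact := hS.exact.map_of_mono_of_preservesKernel (EtCoh.push i) hmono inferInstance
          mono_f := hmono'
          epi_g := hepi }

/-- `H¹(X, i_* G_m) = 0` for `i : Spec k ⟶ X` -/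
theorem H1_push_Gm_subsingleton {X : Scheme.{u}} (i : Spec (CommRingCat.of k) ⟶ X) :
    Subsingleton (EtCoh.H X ((EtCoh.push i).obj (EtCoh.Gm (Spec (CommRingCat.of k)))) 1) :=
  FieldConstH1.H1_push_subsingleton i (EtCoh.Gm (Spec (CommRingCat.of k)))
    (EtHilbert90.H1_Gm_subsingleton k)

/-- `HofPush` is `psi` up to the identification of `i⁻¹ ℤ` with `ℤ` -/
theorem HofPush_injective_of_psi {X Y : Scheme.{u}} (i : Y ⟶ X)
    [PreservesFiniteLimits (EtCoh.pull i)] (G : EtCoh.Ab Y) (n : ℕ)
    (hpsi : Function.Injective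
      (Groth.Agent.H4.ExtAdjL.psi.{u + 1, u + 1} (EtCoh.pullPushAdj i) (EtCoh.const X ℤ) G n)) :
    Function.Injective (EtLim.HofPush i G n) := by
  have hpre : Function.Injective
      (fun e : Abelian.Ext.{u + 1} ((EtCoh.pull i).obj (EtCoh.const X ℤ)) G n =>
        (Abelian.Ext.mk₀ (EtCore.pullConst i ℤ).inv).comp e (zero_add n)) := by
    intro a b hab
    have key : ∀ e : Abelian.Ext.{u + 1} ((EtCoh.pull i).obj (EtCoh.const X ℤ)) G n,
        (Abelian.Ext.mk₀ (EtCore.pullConst i ℤ).hom).comp
          ((Abelian.Ext.mk₀ (EtCore.pullConst i ℤ).inv).comp e (zero_add n)) (zero_add n) = e := by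
      intro e
      rw [← Abelian.Ext.comp_assoc _ _ _ (zero_add 0) (zero_add n) (by omega),
        Abelian.Ext.mk₀_comp_mk₀, Iso.hom_inv_id, Abelian.Ext.mk₀_id_comp]
    rw [← key a, ← key b]
    exact congrArg (fun t => (Abelian.Ext.mk₀ (EtCore.pullConst i ℤ).hom).comp t (zero_add n)) hab
  have h : ⇑(EtLim.HofPush i G n) =
      (fun e : Abelian.Ext.{u + 1} ((EtCoh.pull i).obj (EtCoh.const X ℤ)) G n =>
        (Abelian.Ext.mk₀ (EtCore.pullConst i ℤ).inv).comp e (zero_add n)) ∘
      ⇑(Groth.Agent.H4.ExtAdjL.psi.{u + 1, u + 1} (EtCoh.pullPushAdj i) (EtCoh.const X ℤ) G n) := by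
    funext x
    change ((Abelian.Ext.mk₀ (EtCore.pullConst i ℤ).inv).comp
      (x.mapExactFunctor (EtCoh.pull i)) (zero_add n)).comp
        (Abelian.Ext.mk₀ ((EtCoh.pullPushAdj i).counit.app G)) (add_zero n) =
      (Abelian.Ext.mk₀ (EtCore.pullConst i ℤ).inv).comp
        ((x.mapExactFunctor (EtCoh.pull i)).comp
          (Abelian.Ext.mk₀ ((EtCoh.pullPushAdj i).counit.app G)) (add_zero n)) (zero_add n)
    exact Abelian.Ext.comp_assoc _ _ _ (zero_add n) (add_zero n) (by omega)
  rw [h]
  exact hpre.comp hpsi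

/-- auxiliary form of `psi_two_injective` for `i⁻¹ ⊣ i_*` -/
theorem psi_two_injective_push {X Y : Scheme.{u}} (i : Y ⟶ X)
    [PreservesFiniteLimits (EtCoh.pull i)] {S : ShortComplex (EtCoh.Ab Y)} (hS : S.ShortExact)
    (hI : Injective S.X₂) (hRS : (S.map (EtCoh.push i)).ShortExact) :
    Function.Injective
      (Groth.Agent.H4.ExtAdjL.psi.{u + 1, u + 1} (EtCoh.pullPushAdj i) (EtCoh.const X ℤ) S.X₁ 2) :=
  AdjExtLow.psi_two_injective.{u + 1, u + 1} (EtCoh.pullPushAdj i) (EtCoh.const X ℤ) hS hI hRS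

/-- `H²(X, i_* G_m) → H²(Spec k, G_m)` is injective for `i : Spec k ⟶ X` -/
theorem HofPush_two_injective {X : Scheme.{u}} (i : Spec (CommRingCat.of k) ⟶ X)
    [PreservesFiniteLimits (EtCoh.pull i)] :
    Function.Injective (EtLim.HofPush i (EtCoh.Gm (Spec (CommRingCat.of k))) 2) := by
  obtain ⟨S, hS, hI, e⟩ : ∃ (S : ShortComplex (EtCoh.Ab (Spec (CommRingCat.of k))))
      (_ : S.ShortExact) (_ : Injective S.X₂), S.X₁ = EtCoh.Gm (Spec (CommRingCat.of k)) := by
    let G := EtCoh.Gm (Spec (CommRingCat.of k))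
    let f : G ⟶ Injective.under G := Injective.ι G
    refine ⟨ShortComplex.mk f (cokernel.π f) (cokernel.condition f),
      { exact := ShortComplex.exact_cokernel f
        mono_f := inferInstanceAs (Mono (Injective.ι G))
        epi_g := inferInstanceAs (Epi (cokernel.π f)) },
      inferInstanceAs (Injective (Injective.under G)), rfl⟩
  have hRS : (S.map (EtCoh.push i)).ShortExact := shortExact_push i hS (eqToIso e)
  have hpsi := psi_two_injective_push i hS hI hRS
  rw [e] at hpsi
  exact HofPush_injective_of_psi i _ 2 hpsi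

end Groth.Agent.H69.EtGmPushField
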