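import Groth.Agent.H69.EtH90Open
import Groth.Agent.H4.HpullEt

/-!
# Hilbert 90 on the small étale site: classes in `H¹(X_et, G_m)` die Zariski-locally (helper69)
-/

set_option autoImplicit false
set_option backward.isDefEq.respectTransparency.types false
universe u
open CategoryTheory CategoryTheory.Limits AlgebraicGeometry Opposite Abelian

namespace Groth.Agent.H69.EtH90Hpull

open Groth.Agent.H21.ConstSec Groth.Agent.H69.EtH90Open Groth.Agent.H69.EtSecExact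
  Groth.Agent.H4.HpullEt Groth.Agent.H4.FlasquePush Groth.Agent.H69.EtShriekSect
  EtCoh EtCore EtShriek

variable {X : Scheme.{u}}

/-- `E` is the evaluation `ev` of `H4/FlasquePush` -/
lemma E_eq_ev {U : Scheme.{u}} (j : U ⟶ X) [Etale j] (G : EtCoh.Ab X) (φ : ZJ j ⟶ G) :
    E j G φ = ev j G φ := by
  unfold E ev
  rw [homEquivGsec_apply]
  rfl

variable {I Q : EtCoh.Ab X} (f : EtCoh.Gm X ⟶ I) [Injective I] (g : I ⟶ Q) (w : f ≫ g = 0)
  (hS : (ShortComplex.mk f g w).ShortExact)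

include hS in
/-- every class in `H¹(X_et, G_m)` vanishes on a Zariski-open neighbourhood of any given point -/
theorem exists_open_Hpull_eq_zero (c : EtCoh.H X (EtCoh.Gm X) 1) (x : X) :
    ∃ U : X.Opens, x ∈ U ∧ ∀ [PreservesFiniteLimits (EtCoh.pull U.ι)],
      EtCore.Hpull U.ι (EtCoh.Gm X) 1 c = 0 := by
  have hx : c.comp (Ext.mk₀ f) (add_zero 1) = 0 := Ext.eq_zero_of_injective _
  obtain ⟨x₃, hx₃⟩ := Ext.covariant_sequence_exact₁ _ hS c hx (zero_add 1)
  obtain ⟨ψ, rfl⟩ := (Ext.mk₀_bijective _ _).2 x₃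
  let q : Sec Q (EtCoh.top X) := homEquivGsec X Q ψ
  obtain ⟨U', hxU', b₁, hb₁⟩ := exists_open_lift f g w hS q x
  refine ⟨U', hxU', ?_⟩
  intro _
  rw [Hpull_eq_phiJ]
  obtain ⟨χ, hχ⟩ := ev_surjective U'.ι I b₁
  have hcomp : χ ≫ g = εJ U'.ι ≫ ψ := by
    apply Groth.Agent.H43.LTors.ev_injective U'.ι Q
    rw [ev_comp, hχ, ← E_eq_ev, E_εJ_comp]
    exact hb₁
  have hzero : (Ext.mk₀ (εJ U'.ι)).comp c (zero_add 1) = 0 := by
    rw [← hx₃]
    change (Ext.mk₀ (εJ U'.ι)).comp ((Ext.mk₀ ψ).comp hS.extClass (zero_add 1)) (zero_add 1) = 0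
    rw [← Ext.comp_assoc_of_second_deg_zero, Ext.mk₀_comp_mk₀, ← hcomp, ← Ext.mk₀_comp_mk₀,
      Ext.comp_assoc_of_second_deg_zero, hS.comp_extClass, Ext.comp_zero]
  rw [hzero, map_zero]

end Groth.Agent.H69.EtH90Hpull
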