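import Groth.Agent.H69.AlgH90
import Groth.Agent.H69.EtAffObj
import Groth.Agent.H69.EtCartan

/-!
# Hilbert 90 on the small étale site, local form (helper69)

`exists_lift_away`: let `0 → G_m → I → Q → 0` be exact on `X_et`, `Spec A → X` étale, `B` a faithfully flat
étale `A`-algebra, `q` a section of `Q` over `Spec A` whose restriction to `Spec B` lifts to `I`.  Then for
every prime `p` of `A` there is `g₀ ∉ p` such that the restriction of `q` to `Spec A[1/g₀]` lifts to `I`.
-/

set_option autoImplicit false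
set_option backward.isDefEq.respectTransparency.types false
universe u
open CategoryTheory CategoryTheory.Limits AlgebraicGeometry Opposite TensorProduct

namespace Groth.Agent.H69.EtH90Local

open Groth.Agent.H21.ConstSec Groth.Agent.H69.EtAffObj Groth.Agent.H69.AlgH90
  Groth.Agent.H69.EtSecExact

section Alg

variable {A : Type u} [CommRing A] (B : Type u) [CommRing B] [Algebra A B]

/-- the three coprojections `B → B ⊗ (B ⊗ B)` -/
noncomputable def ρ0 : B →ₐ[A] B ⊗[A] (B ⊗[A] B) := Algebra.TensorProduct.includeLeft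
/-- second coprojection -/
noncomputable def ρ1 : B →ₐ[A] B ⊗[A] (B ⊗[A] B) :=
  (Algebra.TensorProduct.includeRight).comp Algebra.TensorProduct.includeLeft
/-- third coprojection -/
noncomputable def ρ2 : B →ₐ[A] B ⊗[A] (B ⊗[A] B) :=
  (Algebra.TensorProduct.includeRight).comp Algebra.TensorProduct.includeRight

lemma d0_includeLeft : (d0 A B).comp Algebra.TensorProduct.includeLeft = ρ1 B := by
  ext x; simp [ρ1]
lemma d0_includeRight : (d0 A B).comp Algebra.TensorProduct.includeRight = ρ2 B := by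
  ext x; simp [ρ2]
lemma d1_includeLeft : (d1 A B).comp Algebra.TensorProduct.includeLeft = ρ0 B := by
  ext x; simp [ρ0, Algebra.TensorProduct.one_def]
lemma d1_includeRight : (d1 A B).comp Algebra.TensorProduct.includeRight = ρ2 B := by
  ext x; simp [ρ2]
lemma d2_includeLeft : (d2 A B).comp Algebra.TensorProduct.includeLeft = ρ0 B := by
  ext x; simp [ρ0, Algebra.TensorProduct.one_def]
lemma d2_includeRight : (d2 A B).comp Algebra.TensorProduct.includeRight = ρ1 B := by
  ext x; simp [ρ1]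

end Alg

variable {X : Scheme.{u}} {A : Type u} [CommRing A] (sA : Spec (CommRingCat.of A) ⟶ X) [Etale sA]
variable (B : Type u) [CommRing B] [Algebra A B] [Algebra.Etale A B]

instance : Algebra.Etale A (B ⊗[A] (B ⊗[A] B)) := Algebra.Etale.comp A B (B ⊗[A] (B ⊗[A] B))

variable {I Q : EtCoh.Ab X} (f : EtCoh.Gm X ⟶ I) (g : I ⟶ Q) (w : f ≫ g = 0)
  (hS : (ShortComplex.mk f g w).ShortExact)

include hS in
lemma app_f_injective (V : X.Etale) : Function.Injective (app f V) := by
  have hm : Mono f.hom := Groth.Agent.H69.EtCartan.mono_f_hom (ShortComplex.mk f g w) hS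
  have : Mono (f.hom.app (op V)) := inferInstance
  exact (AddCommGrpCat.mono_iff_injective _).1 this

include hS in
lemma exists_of_app_g_eq_zero (V : X.Etale) (b : Sec I V) (hb : app g V b = 0) :
    ∃ a : Sec (EtCoh.Gm X) V, app f V a = b :=
  Groth.Agent.H69.EtCartan.exists_of_g_eq_zero (ShortComplex.mk f g w) hS V b hb

include w in
lemma app_g_f (V : X.Etale) (a : Sec (EtCoh.Gm X) V) : app g V (app f V a) = 0 := by
  have := congrArg (fun m => (m.hom.app (op V)).hom a) w
  exact this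

include hS in
/-- the cocycle attached to a local lift -/
theorem exists_cocycle (q : Sec Q (aObj A sA A)) (b : Sec I (aObj A sA B))
    (hb : app g _ b = res Q (aHom sA (Algebra.ofId A B)) q) :
    ∃ u : (B ⊗[A] B)ˣ, d0 A B (u : B ⊗[A] B) * d2 A B u = d1 A B u ∧
      app f _ (secOf sA (B ⊗[A] B) u) =
        res I (aHom sA (Algebra.TensorProduct.includeRight : B →ₐ[A] B ⊗[A] B)) b -
          res I (aHom sA (Algebra.TensorProduct.includeLeft : B →ₐ[A] B ⊗[A] B)) b := by
  set iL := aHom sA (Algebra.TensorProduct.includeLeft : B →ₐ[A] B ⊗[A] B) with hiL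
  set iR := aHom sA (Algebra.TensorProduct.includeRight : B →ₐ[A] B ⊗[A] B) with hiR
  have hπ : iR ≫ aHom sA (Algebra.ofId A B) = iL ≫ aHom sA (Algebra.ofId A B) := by
    rw [hiL, hiR, ← aHom_comp, ← aHom_comp]
    apply aHom_congr
    intro x
    simp [Algebra.ofId_apply, Algebra.TensorProduct.algebraMap_apply]
  have ht : app g _ (res I iR b - res I iL b) = 0 := by
    rw [map_sub, app_res, app_res, hb, res_res, res_res, hπ, sub_self]
  obtain ⟨ũ, hũ⟩ := exists_of_app_g_eq_zero f g w hS _ _ ht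
  refine ⟨unitOf sA _ ũ, ?_, ?_⟩
  swap
  · rw [secOf_unitOf, hũ]
  · -- the cocycle condition
    have hinj := app_f_injective f g w hS (aObj A sA (B ⊗[A] (B ⊗[A] B)))
    have key : res (EtCoh.Gm X) (aHom sA (d0 A B)) ũ + res (EtCoh.Gm X) (aHom sA (d2 A B)) ũ =
        res (EtCoh.Gm X) (aHom sA (d1 A B)) ũ := by
      apply hinj
      rw [map_add, app_res, app_res, app_res, hũ, map_sub, map_sub, map_sub,
        res_res, res_res, res_res, res_res, res_res, res_res, hiL, hiR,
        ← aHom_comp, ← aHom_comp, ← aHom_comp, ← aHom_comp, ← aHom_comp, ← aHom_comp,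
        d0_includeLeft, d0_includeRight, d1_includeLeft, d1_includeRight, d2_includeLeft,
        d2_includeRight]
      abel
    rw [← secOf_unitOf sA _ ũ, res_secOf, res_secOf, res_secOf, ← secOf_mul] at key
    have h2 := secOf_injective sA _ key
    have h3 := congrArg Units.val h2
    simpa using h3


section Lift

variable (A' : Type u) [CommRing A'] [Algebra A A'] [Algebra.Etale A A']

instance : Algebra.Etale A (A' ⊗[A] B) := Algebra.Etale.comp A A' (A' ⊗[A] B)

variable {B}

/-- the corrected local lift satisfies the descent condition -/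
lemma res_includeLeft_eq (b : Sec I (aObj A sA B)) (u : (B ⊗[A] B)ˣ)
    (hfu : app f _ (secOf sA (B ⊗[A] B) u) =
      res I (aHom sA (Algebra.TensorProduct.includeRight : B →ₐ[A] B ⊗[A] B)) b -
        res I (aHom sA (Algebra.TensorProduct.includeLeft : B →ₐ[A] B ⊗[A] B)) b)
    (m : B) (hum : (u : B ⊗[A] B) * (m ⊗ₜ[A] 1) = 1 ⊗ₜ[A] m)
    (m' : (A' ⊗[A] B)ˣ) (hm' : (m' : A' ⊗[A] B) = (1 : A') ⊗ₜ[A] m) :
    res I (aHom sA (Algebra.TensorProduct.includeLeft :
        (A' ⊗[A] B) →ₐ[A] (A' ⊗[A] B) ⊗[A] (A' ⊗[A] B)))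
      (res I (aHom sA (Algebra.TensorProduct.includeRight : B →ₐ[A] A' ⊗[A] B)) b -
        app f _ (secOf sA (A' ⊗[A] B) m')) =
    res I (aHom sA (Algebra.TensorProduct.includeRight :
        (A' ⊗[A] B) →ₐ[A] (A' ⊗[A] B) ⊗[A] (A' ⊗[A] B)))
      (res I (aHom sA (Algebra.TensorProduct.includeRight : B →ₐ[A] A' ⊗[A] B)) b -
        app f _ (secOf sA (A' ⊗[A] B) m')) := by
  set ρ : B →ₐ[A] A' ⊗[A] B := Algebra.TensorProduct.includeRight with hρ
  set T : B ⊗[A] B →ₐ[A] (A' ⊗[A] B) ⊗[A] (A' ⊗[A] B) := Algebra.TensorProduct.map ρ ρ with hT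
  set iL' := (Algebra.TensorProduct.includeLeft :
        (A' ⊗[A] B) →ₐ[A] (A' ⊗[A] B) ⊗[A] (A' ⊗[A] B)) with hiL'
  set iR' := (Algebra.TensorProduct.includeRight :
        (A' ⊗[A] B) →ₐ[A] (A' ⊗[A] B) ⊗[A] (A' ⊗[A] B)) with hiR'
  have hTL : T.comp (Algebra.TensorProduct.includeLeft : B →ₐ[A] B ⊗[A] B) = iL'.comp ρ := by
    ext x; simp [hT, hiL']
  have hTR : T.comp (Algebra.TensorProduct.includeRight : B →ₐ[A] B ⊗[A] B) = iR'.comp ρ := by
    ext x; simp [hT, hiR']
  -- the unit identity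
  have hunit : um T u * um iL' m' =
      um iR' m' := by
    ext
    have h1 := congrArg T hum
    rw [map_mul] at h1
    have h2 : T (m ⊗ₜ[A] (1 : B)) = iL' (m' : A' ⊗[A] B) := by
      rw [hm']; simp [hT, hiL', hρ, Algebra.TensorProduct.one_def]
    have h3 : T ((1 : B) ⊗ₜ[A] m) = iR' (m' : A' ⊗[A] B) := by
      rw [hm']; simp [hT, hiR', hρ, Algebra.TensorProduct.one_def]
    rw [h2, h3] at h1
    exact h1
  have hsec : secOf sA _ (um T u) =
      secOf sA _ (um iR' m') -
        secOf sA _ (um iL' m') := by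
    rw [← hunit, secOf_mul]
    abel
  -- the difference of the two restrictions of `b`
  have hb2 : res I (aHom sA iR') (res I (aHom sA ρ) b) - res I (aHom sA iL') (res I (aHom sA ρ) b) =
      app f _ (secOf sA _ (um T u)) := by
    rw [res_res, res_res, ← aHom_comp, ← aHom_comp, ← hTL, ← hTR, aHom_comp, aHom_comp,
      ← res_res, ← res_res, ← map_sub, ← hfu, ← app_res, res_secOf]
  have hβ : res I (aHom sA iR') (app f _ (secOf sA (A' ⊗[A] B) m')) -
      res I (aHom sA iL') (app f _ (secOf sA (A' ⊗[A] B) m')) =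
      app f _ (secOf sA _ (um T u)) := by
    rw [← app_res, ← app_res, res_secOf, res_secOf, ← map_sub, hsec]
  rw [map_sub, map_sub]
  have := hb2.trans hβ.symm
  -- rearrange
  rw [sub_eq_sub_iff_add_eq_add] at this ⊢
  rw [add_comm, this, add_comm]


include w in
/-- gluing: if the cocycle is a coboundary over `A'`, the section `q` lifts over `A'` -/
theorem exists_lift_of_coboundary [Module.FaithfullyFlat A B] (q : Sec Q (aObj A sA A))
    (b : Sec I (aObj A sA B)) (hb : app g _ b = res Q (aHom sA (Algebra.ofId A B)) q)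
    (u : (B ⊗[A] B)ˣ)
    (hfu : app f _ (secOf sA (B ⊗[A] B) u) =
      res I (aHom sA (Algebra.TensorProduct.includeRight : B →ₐ[A] B ⊗[A] B)) b -
        res I (aHom sA (Algebra.TensorProduct.includeLeft : B →ₐ[A] B ⊗[A] B)) b)
    (m : B) (hum : (u : B ⊗[A] B) * (m ⊗ₜ[A] 1) = 1 ⊗ₜ[A] m)
    (m' : (A' ⊗[A] B)ˣ) (hm' : (m' : A' ⊗[A] B) = (1 : A') ⊗ₜ[A] m) :
    ∃ b'' : Sec I (aObj A sA A'), app g _ b'' = res Q (aHom sA (Algebra.ofId A A')) q := by
  set π' : aObj A sA (A' ⊗[A] B) ⟶ aObj A sA A' :=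
    aHom sA (Algebra.TensorProduct.includeLeft : A' →ₐ[A] A' ⊗[A] B) with hπ'
  set ρ : aObj A sA (A' ⊗[A] B) ⟶ aObj A sA B :=
    aHom sA (Algebra.TensorProduct.includeRight : B →ₐ[A] A' ⊗[A] B) with hρ
  set b' : Sec I (aObj A sA (A' ⊗[A] B)) := res I ρ b - app f _ (secOf sA (A' ⊗[A] B) m') with hb'
  have hofId : aHom sA (Algebra.ofId A (A' ⊗[A] B)) = π' ≫ aHom sA (Algebra.ofId A A') := by
    rw [hπ', ← aHom_comp]
    apply aHom_congr
    intro x
    simp [Algebra.ofId_apply, Algebra.TensorProduct.algebraMap_apply]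
  have hofId' : aHom sA (Algebra.ofId A (A' ⊗[A] B)) = ρ ≫ aHom sA (Algebra.ofId A B) := by
    rw [hρ, ← aHom_comp]
    apply aHom_congr
    intro x
    simp [Algebra.ofId_apply, Algebra.TensorProduct.algebraMap_apply]
  have hcov : Sieve.ofArrows (fun _ : Unit => aObj A sA (A' ⊗[A] B)) (fun _ => π') ∈
      X.smallEtaleTopology (aObj A sA A') := by
    rw [Scheme.ofArrows_mem_smallEtaleTopology_iff]
    ext y
    simp only [Set.mem_iUnion, Set.mem_range, Set.mem_univ, iff_true]
    refine ⟨(), ?_⟩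
    obtain ⟨z, hz⟩ := PrimeSpectrum.comap_surjective_of_faithfullyFlat (A := A') (B := A' ⊗[A] B) y
    exact ⟨z, hz⟩
  obtain ⟨b'', hb''⟩ := sec_glue_arrows I (fun _ : Unit => π') hcov (fun _ => b') (by
    intro _ _ Y g₁ g₂ h12
    obtain ⟨ℓ, hℓ1, hℓ2⟩ := exists_lift_tensor sA (A' ⊗[A] B) g₁ g₂ (by
      rw [hofId, ← Category.assoc, ← Category.assoc, h12])
    change res I g₁ b' = res I g₂ b'
    rw [← hℓ1, ← hℓ2, ← res_res, ← res_res, hb', hρ,
      res_includeLeft_eq sA f A' b u hfu m hum m' hm'])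
  refine ⟨b'' , ?_⟩
  refine sec_ext_arrows Q (fun _ : Unit => π') hcov _ _ (fun _ => ?_)
  change res Q π' (app g _ b'') = res Q π' (res Q _ q)
  have h1 : res I π' b'' = b' := hb'' ()
  rw [← app_res, h1, hb', map_sub, app_g_f f g w, sub_zero, app_res, hb, res_res, res_res,
    ← hofId, ← hofId']

end Lift

include hS in
/-- **Hilbert 90 on the étale site, local form.** -/
theorem exists_lift_away [Module.FaithfullyFlat A B] (q : Sec Q (aObj A sA A))
    (b : Sec I (aObj A sA B)) (hb : app g _ b = res Q (aHom sA (Algebra.ofId A B)) q)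
    (p : Ideal A) [p.IsPrime] :
    ∃ g₀ : A, g₀ ∉ p ∧ ∃ b'' : Sec I (aObj A sA (Localization.Away g₀)),
      app g _ b'' = res Q (aHom sA (Algebra.ofId A (Localization.Away g₀))) q := by
  obtain ⟨u, hu, hfu⟩ := exists_cocycle sA B f g w hS q b hb
  obtain ⟨g₀, m, n, hg₀, hmn, hum⟩ := exists_local_coboundary u hu p
  refine ⟨g₀, hg₀, ?_⟩
  have hinv : ((1 : Localization.Away g₀) ⊗ₜ[A] m) *
      ((IsLocalization.Away.invSelf g₀ : Localization.Away g₀) ⊗ₜ[A] n) = 1 := by
    rw [Algebra.TensorProduct.tmul_mul_tmul, one_mul, hmn, Algebra.algebraMap_eq_smul_one,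
      ← TensorProduct.smul_tmul, Algebra.smul_def, IsLocalization.Away.mul_invSelf,
      Algebra.TensorProduct.one_def]
  let m' : (Localization.Away g₀ ⊗[A] B)ˣ :=
    ⟨(1 : Localization.Away g₀) ⊗ₜ[A] m,
      (IsLocalization.Away.invSelf g₀ : Localization.Away g₀) ⊗ₜ[A] n, hinv,
      by rw [mul_comm]; exact hinv⟩
  exact exists_lift_of_coboundary sA f g w (Localization.Away g₀) q b hb u hfu m hum m' rfl

end Groth.Agent.H69.EtH90Local
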