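import Groth.Agent.H69.EtH90Local
import Groth.Agent.H69.EtShriekSect
import Groth.Agent.H43.LTors3

/-!
# Hilbert 90 on the small étale site: Zariski-local triviality (helper69)
-/

set_option autoImplicit false
set_option backward.isDefEq.respectTransparency.types false
universe u
open CategoryTheory CategoryTheory.Limits AlgebraicGeometry Opposite TensorProduct

namespace Groth.Agent.H69.EtH90Open

open Groth.Agent.H21.ConstSec Groth.Agent.H69.EtAffObj Groth.Agent.H69.EtH90Local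
  Groth.Agent.H69.EtSecExact

variable {X : Scheme.{u}}

/-- around a point of an étale `X`-scheme `Y`, an affine open `V₁` of `Y` mapping onto an affine open `U`
of `X` -/
theorem exists_affine_cover_data {Y : Scheme.{u}} (h : Y ⟶ X) [Etale h] (w : Y) :
    ∃ (U : X.Opens) (_ : IsAffineOpen U) (V₁ : Y.Opens) (_ : IsAffineOpen V₁)
      (_ : V₁ ≤ h ⁻¹ᵁ U), h w ∈ U ∧ ∀ y ∈ U, ∃ v ∈ V₁, h v = y := by
  obtain ⟨U₀, hU₀, hxU₀, -⟩ := exists_isAffineOpen_mem_and_subset (x := h w)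
    (U := (⊤ : X.Opens)) trivial
  have hw₀ : w ∈ h ⁻¹ᵁ U₀ := hxU₀
  obtain ⟨V₀, hV₀, hwV₀, hV₀le⟩ := exists_isAffineOpen_mem_and_subset hw₀
  have hle₀ : V₀ ≤ h ⁻¹ᵁ U₀ := hV₀le
  let O : X.Opens := ⟨h '' (V₀ : Set Y), h.isOpenMap _ V₀.isOpen⟩
  have hxO : h w ∈ O := ⟨w, hwV₀, rfl⟩
  obtain ⟨f₀, hf₀O, hxf₀⟩ := hU₀.exists_basicOpen_le ⟨h w, hxO⟩ hxU₀
  refine ⟨X.basicOpen f₀, hU₀.basicOpen f₀, Y.basicOpen (h.appLE U₀ V₀ hle₀ f₀),
    hV₀.basicOpen _, ?_, hxf₀, ?_⟩
  · rw [Scheme.basicOpen_appLE]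
    exact inf_le_right
  · intro y hy
    obtain ⟨v, hvV₀, hv⟩ := hf₀O hy
    refine ⟨v, ?_, hv⟩
    rw [Scheme.basicOpen_appLE]
    refine ⟨hvV₀, ?_⟩
    change h v ∈ X.basicOpen f₀
    rw [hv]
    exact hy


variable {I Q : EtCoh.Ab X} (f : EtCoh.Gm X ⟶ I) (g : I ⟶ Q) (w : f ≫ g = 0)
  (hS : (ShortComplex.mk f g w).ShortExact)

/-- the unique map to the terminal object -/
noncomputable abbrev toTop (V : X.Etale) : V ⟶ EtCoh.top X := (EtCore.topIsTerminal X).from V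

lemma comp_toTop {V W : X.Etale} (k : V ⟶ W) : k ≫ toTop W = toTop V :=
  (EtCore.topIsTerminal X).hom_ext _ _

include hS in
/-- ring-level form: a section of `Q` which lifts over an étale faithfully flat cover `Spec RB → Spec RA`
lifts over a principal open neighbourhood of any given point of `Spec RA` -/
theorem exists_lift_of_affine_cover {RA RB : CommRingCat.{u}} (φ : RA ⟶ RB) (sA : Spec RA ⟶ X)
    [Etale sA] {Y : Scheme.{u}} (h : Y ⟶ X) [Etale h] (k : Spec RB ⟶ Y) [Etale k]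
    (hk : k ≫ h = Spec.map φ ≫ sA)
    (hsurj : Function.Surjective (PrimeSpectrum.comap φ.hom))
    (q : Sec Q (EtCoh.top X)) (bW : Sec I (Scheme.Etale.mk h))
    (hbW : app g _ bW = res Q (toTop (Scheme.Etale.mk h)) q)
    (𝔭 : PrimeSpectrum RA) :
    ∃ g₀ : RA, g₀ ∉ 𝔭.asIdeal ∧
      ∃ b'' : Sec I (aObj (↑RA) sA (Localization.Away g₀)),
        app g _ b'' = res Q (toTop _) q := by
  let _ : Algebra RA RB := φ.hom.toAlgebra
  have hφ : CommRingCat.ofHom (algebraMap RA RB) = φ := rfl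
  have hEt : Etale (Spec.map φ) := by
    have : Etale (Spec.map φ ≫ sA) := by rw [← hk]; infer_instance
    exact Etale.of_comp (Spec.map φ) sA
  have hAE : Algebra.Etale RA RB := by
    have := (HasRingHomProperty.Spec_iff (P := @Etale)).mp hEt
    rw [← hφ, CommRingCat.hom_ofHom, RingHom.etale_algebraMap] at this
    exact this
  have hFF : Module.FaithfullyFlat RA RB := Module.FaithfullyFlat.of_comap_surjective hsurj
  -- the map `Spec RB → W` as a morphism of the small étale site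
  let κ : aObj RA sA RB ⟶ Scheme.Etale.mk h := MorphismProperty.Over.homMk k hk
  let qA : Sec Q (aObj RA sA RA) := res Q (toTop _) q
  let b : Sec I (aObj RA sA RB) := res I κ bW
  have hb : app g _ b = res Q (aHom sA (Algebra.ofId RA RB)) qA := by
    change app g _ (res I κ bW) = res Q _ (res Q _ q)
    rw [app_res, hbW, res_res, res_res, comp_toTop, comp_toTop]
  obtain ⟨g₀, hg₀, b'', hb''⟩ := exists_lift_away sA RB f g w hS qA b hb 𝔭.asIdeal
  refine ⟨g₀, hg₀, b'', ?_⟩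
  rw [hb'']
  change res Q _ (res Q _ q) = _
  rw [res_res, comp_toTop]


include hS in
/-- auxiliary form of `exists_open_lift`, for a section lifting over an étale `h : Y → X` -/
theorem exists_open_lift_aux (q : Sec Q (EtCoh.top X)) {Y : Scheme.{u}} (h : Y ⟶ X) [Etale h]
    (wpt : Y) (bW : Sec I (Scheme.Etale.mk h))
    (hbW : app g _ bW = res Q (toTop (Scheme.Etale.mk h)) q) :
    ∃ U' : X.Opens, h wpt ∈ U' ∧ ∃ b₁ : Sec I (Groth.Agent.H69.EtShriekSect.objJ U'.ι),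
      app g _ b₁ = res Q (toTop _) q := by
  obtain ⟨U, hU, V₁, hV₁, hle, hxU, hsurjUV⟩ := exists_affine_cover_data h wpt
  have hk : hV₁.fromSpec ≫ h = Spec.map (h.appLE U V₁ hle) ≫ hU.fromSpec :=
    (IsAffineOpen.SpecMap_appLE_fromSpec h hU hV₁ hle).symm
  have hsurj : Function.Surjective (PrimeSpectrum.comap (h.appLE U V₁ hle).hom) := by
    intro 𝔭
    have hy : hU.fromSpec 𝔭 ∈ U := by
      have : hU.fromSpec 𝔭 ∈ Set.range hU.fromSpec := ⟨𝔭, rfl⟩
      rw [hU.range_fromSpec] at this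
      exact this
    obtain ⟨v, hvV₁, hv⟩ := hsurjUV _ hy
    have hv' : v ∈ Set.range hV₁.fromSpec := by rw [hV₁.range_fromSpec]; exact hvV₁
    obtain ⟨𝔮, h𝔮⟩ := hv'
    refine ⟨𝔮, ?_⟩
    apply hU.fromSpec.isOpenEmbedding.injective
    have h2 := congrArg (fun m => m 𝔮) hk
    simp only [Scheme.Hom.comp_apply] at h2
    rw [h𝔮, hv] at h2
    exact h2.symm
  let 𝔭 : PrimeSpectrum Γ(X, U) := hU.primeIdealOf ⟨h wpt, hxU⟩
  have h𝔭 : hU.fromSpec 𝔭 = h wpt := hU.fromSpec_primeIdealOf ⟨h wpt, hxU⟩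
  obtain ⟨g₀, hg₀, b'', hb''⟩ := exists_lift_of_affine_cover f g w hS (h.appLE U V₁ hle)
    hU.fromSpec h hV₁.fromSpec hk hsurj q bW hbW 𝔭
  let j' : Spec (CommRingCat.of (Localization.Away g₀)) ⟶ X :=
    Spec.map (CommRingCat.ofHom (algebraMap Γ(X, U) (Localization.Away g₀))) ≫ hU.fromSpec
  refine ⟨j'.opensRange, ?_, ?_⟩
  · have h1 : 𝔭 ∈ Set.range (PrimeSpectrum.comap (algebraMap Γ(X, U) (Localization.Away g₀))) := by
      rw [PrimeSpectrum.localization_away_comap_range (Localization.Away g₀) g₀]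
      exact hg₀
    obtain ⟨𝔯, h𝔯⟩ := h1
    refine ⟨𝔯, ?_⟩
    change hU.fromSpec (PrimeSpectrum.comap (algebraMap Γ(X, U) (Localization.Away g₀)) 𝔯) = _
    rw [h𝔯, h𝔭]
  · let kk : Groth.Agent.H69.EtShriekSect.objJ j'.opensRange.ι ⟶
        aObj (↑Γ(X, U)) hU.fromSpec (Localization.Away g₀) :=
      MorphismProperty.Over.homMk j'.isoOpensRange.inv (by
        change j'.isoOpensRange.inv ≫ j' = 𝟙 _ ≫ j'.opensRange.ι
        rw [Scheme.Hom.isoOpensRange_inv_comp, Category.id_comp])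
    refine ⟨res I kk b'', ?_⟩
    rw [app_res, hb'', res_res, comp_toTop]

include hS in
/-- a global section of `Q = I / G_m` lifts to `I` over a Zariski-open neighbourhood of any point -/
theorem exists_open_lift (q : Sec Q (EtCoh.top X)) (x : X) :
    ∃ U' : X.Opens, x ∈ U' ∧ ∃ b₁ : Sec I (Groth.Agent.H69.EtShriekSect.objJ U'.ι),
      app g _ b₁ = res Q (toTop _) q := by
  have : Epi g := hS.epi_g
  obtain ⟨R, hR, hloc⟩ := locally_surjective_of_epi g (EtCoh.top X) q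
  obtain ⟨W, gW, wpt, hRg, hwx⟩ := (mem_iff R).mp hR x
  obtain ⟨bW, hbW⟩ := hloc gW hRg
  have hgW : gW = toTop W := (EtCore.topIsTerminal X).hom_ext _ _
  have hbW' : app g W bW = res Q (toTop W) q := by rw [← hgW]; exact hbW
  let Y : Scheme.{u} := W.left
  let h : Y ⟶ X := W.hom
  have hWx : h wpt = x := by
    have h1 : gW.left ≫ 𝟙 X = W.hom := MorphismProperty.Over.w gW
    have h2 := congrArg (fun m : W.left ⟶ X => m wpt) h1
    exact h2.symm.trans hwx
  obtain ⟨U', hU', b₁, hb₁⟩ := exists_open_lift_aux f g w hS q h wpt bW hbW'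
  exact ⟨U', hWx ▸ hU', b₁, hb₁⟩

end Groth.Agent.H69.EtH90Open
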