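import Groth.Prelude.Def_EtBaseX
import Mathlib.RingTheory.Etale.StandardEtale
import Mathlib.AlgebraicGeometry.Morphisms.Etale
import Mathlib.AlgebraicGeometry.Sites.EtalePoint

/-!
# The étale local ring at a geometric point is strictly henselian (helper69)

For a geometric point `ξ : Spec Ω ⟶ X` (`Ω` separably closed) the étale local ring
`EtBase.etaleLocalRing ξ` (stalk of the structure presheaf on the small étale site) is a henselian
local ring with separably closed residue field.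

* `germ`, `evAt`, `ev`: germ maps and evaluation at the geometric point;
* `isUnit_of_ev_ne_zero`, `isLocalRing`, `mem_maximalIdeal_iff`;
* `exists_root`: simple roots over `Ω` of monic polynomials lift to the étale local ring;
* `henselian`, `isSepClosed_residueField`.
-/

set_option autoImplicit false
set_option backward.isDefEq.respectTransparency.types false
open CategoryTheory CategoryTheory.Limits AlgebraicGeometry Opposite
universe u

namespace Groth.Agent.H69.EtLocalRing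

variable {X : Scheme.{u}} {Ω : Type u} [Field Ω] [IsSepClosed Ω] (ξ : Spec (CommRingCat.of Ω) ⟶ X)

/-- the germ map -/
noncomputable abbrev germ (U : X.Etale) (x : (Scheme.pointSmallEtale ξ).fiber.obj U) :
    (EtBase.OO X).obj (op U) ⟶ EtBase.etaleLocalRing ξ :=
  (Scheme.pointSmallEtale ξ).toPresheafFiber U x (EtBase.OO X)

lemma germ_surj (a : EtBase.etaleLocalRing ξ) :
    ∃ (U : X.Etale) (x : (Scheme.pointSmallEtale ξ).fiber.obj U) (z : (EtBase.OO X).obj (op U)),
      germ ξ U x z = a :=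
  (Scheme.pointSmallEtale ξ).toPresheafFiber_jointly_surjective a

lemma germ_w {U V : X.Etale} (f : U ⟶ V) (x : (Scheme.pointSmallEtale ξ).fiber.obj U) :
    (EtBase.OO X).map f.op ≫ germ ξ U x =
      germ ξ V ((Scheme.pointSmallEtale ξ).fiber.map f x) :=
  (Scheme.pointSmallEtale ξ).toPresheafFiber_w f x (EtBase.OO X)

/-- a point of the fibre functor from a morphism of schemes -/
noncomputable def pt (U : X.Etale) (y : Spec (CommRingCat.of Ω) ⟶ U.left) (hy : y ≫ U.hom = ξ) :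
    (Scheme.pointSmallEtale ξ).fiber.obj U :=
  Over.homMk y hy

lemma exists_pt (U : X.Etale) (x : (Scheme.pointSmallEtale ξ).fiber.obj U) :
    ∃ (y : Spec (CommRingCat.of Ω) ⟶ U.left) (hy : y ≫ U.hom = ξ), x = pt ξ U y hy := by
  obtain ⟨y, hy, rfl⟩ := Over.homMk_surjective x
  exact ⟨y, hy, rfl⟩

lemma fiber_map_pt {U V : X.Etale} (f : U ⟶ V) (y : Spec (CommRingCat.of Ω) ⟶ U.left)
    (hy : y ≫ U.hom = ξ) :
    (Scheme.pointSmallEtale ξ).fiber.map f (pt ξ U y hy) =
      pt ξ V (y ≫ f.left) (by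
        have := MorphismProperty.Over.w f
        rw [Category.assoc, this, hy]) := by
  apply Over.OverMorphism.ext
  rfl

/-- evaluation of functions on an étale neighbourhood at the geometric point -/
noncomputable def evAt (U : X.Etale) (x : (Scheme.pointSmallEtale ξ).fiber.obj U) :
    (EtBase.OO X).obj (op U) ⟶ CommRingCat.of Ω :=
  x.left.appTop ≫ (Scheme.ΓSpecIso (CommRingCat.of Ω)).hom

lemma evAt_pt (U : X.Etale) (y : Spec (CommRingCat.of Ω) ⟶ U.left) (hy : y ≫ U.hom = ξ) :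
    evAt ξ U (pt ξ U y hy) = y.appTop ≫ (Scheme.ΓSpecIso (CommRingCat.of Ω)).hom := rfl

lemma evAt_w {U V : X.Etale} (f : U ⟶ V) (x : (Scheme.pointSmallEtale ξ).fiber.obj U) :
    (EtBase.OO X).map f.op ≫ evAt ξ U x =
      evAt ξ V ((Scheme.pointSmallEtale ξ).fiber.map f x) := by
  obtain ⟨y, hy, rfl⟩ := exists_pt ξ U x
  rw [fiber_map_pt, evAt_pt, evAt_pt, Scheme.Hom.comp_appTop, Category.assoc]
  rfl

/-- evaluation at the geometric point, on the étale local ring -/
noncomputable def ev : EtBase.etaleLocalRing ξ ⟶ CommRingCat.of Ω :=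
  (Scheme.pointSmallEtale ξ).presheafFiberDesc (P := EtBase.OO X) (evAt ξ)
    (fun _ _ f x => evAt_w ξ f x)

@[reassoc (attr := simp)]
lemma germ_ev (U : X.Etale) (x : (Scheme.pointSmallEtale ξ).fiber.obj U) :
    germ ξ U x ≫ ev ξ = evAt ξ U x :=
  (Scheme.pointSmallEtale ξ).toPresheafFiber_presheafFiberDesc _ _ U x

lemma ev_germ (U : X.Etale) (x : (Scheme.pointSmallEtale ξ).fiber.obj U)
    (z : (EtBase.OO X).obj (op U)) : ev ξ (germ ξ U x z) = evAt ξ U x z := by
  rw [← germ_ev]; rfl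

lemma isUnit_of_basicOpen_eq_top (Y : Scheme.{u}) (s : Γ(Y, ⊤)) (h : Y.basicOpen s = ⊤) :
    IsUnit s := by
  refine Y.toRingedSpace.isUnit_of_isUnit_germ ⊤ s fun x hx => ?_
  have hx' : x ∈ Y.basicOpen s := by rw [h]; trivial
  exact (Y.mem_basicOpen_top s x).1 hx'

/-- the germ map at an étale neighbourhood given by plain scheme data -/
noncomputable abbrev germ' {W : Scheme.{u}} (g : W ⟶ X) [Etale g]
    (y : Spec (CommRingCat.of Ω) ⟶ W) (hy : y ≫ g = ξ) : Γ(W, ⊤) ⟶ EtBase.etaleLocalRing ξ :=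
  germ ξ (Scheme.Etale.mk g) (pt ξ (Scheme.Etale.mk g) y hy)

lemma germ'_surj (a : EtBase.etaleLocalRing ξ) :
    ∃ (W : Scheme.{u}) (g : W ⟶ X) (_ : Etale g) (y : Spec (CommRingCat.of Ω) ⟶ W)
      (hy : y ≫ g = ξ) (z : Γ(W, ⊤)), germ' ξ g y hy z = a := by
  obtain ⟨U, x, z, rfl⟩ := germ_surj ξ a
  obtain ⟨y, hy, rfl⟩ := exists_pt ξ U x
  exact ⟨U.left, U.hom, inferInstance, y, hy, z, rfl⟩

lemma ev_germ' {W : Scheme.{u}} (g : W ⟶ X) [Etale g]
    (y : Spec (CommRingCat.of Ω) ⟶ W) (hy : y ≫ g = ξ) (z : Γ(W, ⊤)) :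
    ev ξ (germ' ξ g y hy z) = (Scheme.ΓSpecIso (CommRingCat.of Ω)).hom (y.appTop z) := by
  refine (ev_germ ξ (Scheme.Etale.mk g) (pt ξ (Scheme.Etale.mk g) y hy) z).trans ?_
  rw [evAt_pt]; rfl

/-- compatibility of germs with a morphism of étale neighbourhoods -/
lemma germ'_w {W W' : Scheme.{u}} (g : W ⟶ X) [Etale g] (g' : W' ⟶ X) [Etale g']
    (j : W' ⟶ W) (hj : j ≫ g = g') (l : Spec (CommRingCat.of Ω) ⟶ W') (hl : l ≫ g' = ξ)
    (y : Spec (CommRingCat.of Ω) ⟶ W) (hy : y ≫ g = ξ) (hly : l ≫ j = y) (z : Γ(W, ⊤)) :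
    germ' ξ g y hy z = germ' ξ g' l hl (j.appTop z) := by
  subst hly
  let J : Scheme.Etale.mk g' ⟶ Scheme.Etale.mk g := MorphismProperty.Over.homMk j hj
  have h1 := germ_w ξ J (pt ξ (Scheme.Etale.mk g') l hl)
  rw [fiber_map_pt] at h1
  exact (congrArg (fun k => k.hom z) h1).symm

/-- a function not vanishing at the geometric point is a unit in the étale local ring -/
theorem isUnit_of_ev_ne_zero (a : EtBase.etaleLocalRing ξ) (ha : ev ξ a ≠ 0) : IsUnit a := by
  obtain ⟨W, g, _, y, hy, z, rfl⟩ := germ'_surj ξ a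
  rw [ev_germ'] at ha
  -- the basic open of `z`
  obtain ⟨D, hD⟩ : ∃ D : W.Opens, D = W.basicOpen z := ⟨_, rfl⟩
  have hunit : IsUnit (y.appTop z) := by
    have h1 : IsUnit ((Scheme.ΓSpecIso (CommRingCat.of Ω)).hom (y.appTop z)) :=
      (isUnit_iff_ne_zero (G₀ := Ω)).2 ha
    have h2 := h1.map (Scheme.ΓSpecIso (CommRingCat.of Ω)).inv.hom
    have e : (Scheme.ΓSpecIso (CommRingCat.of Ω)).inv.hom
        ((Scheme.ΓSpecIso (CommRingCat.of Ω)).hom (y.appTop z)) = y.appTop z := by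
      rw [← CommRingCat.comp_apply, Iso.hom_inv_id]; rfl
    rwa [e] at h2
  have hpre : y ⁻¹ᵁ D = ⊤ := by
    rw [hD, Scheme.preimage_basicOpen_top]
    exact Scheme.basicOpen_of_isUnit _ hunit
  have hrange : Set.range y.base ⊆ Set.range D.ι.base := by
    rintro _ ⟨t, rfl⟩
    have ht : t ∈ y ⁻¹ᵁ D := by rw [hpre]; trivial
    simpa using ht
  obtain ⟨l, hl⟩ : ∃ l : Spec (CommRingCat.of Ω) ⟶ D.toScheme, l ≫ D.ι = y :=
    ⟨IsOpenImmersion.lift D.ι y hrange, IsOpenImmersion.lift_fac _ _ _⟩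
  have hl' : l ≫ (D.ι ≫ g) = ξ := by rw [← Category.assoc, hl, hy]
  rw [germ'_w ξ g (D.ι ≫ g) D.ι rfl l hl' y hy hl z]
  refine IsUnit.map (germ' ξ (D.ι ≫ g) l hl').hom ?_
  refine isUnit_of_basicOpen_eq_top D.toScheme _ ?_
  rw [← Scheme.preimage_basicOpen_top, ← hD]
  exact Scheme.Opens.ι_preimage_self D

instance nontrivial : Nontrivial (EtBase.etaleLocalRing ξ) := by
  refine ⟨⟨0, 1, fun h => ?_⟩⟩
  have h1 := congrArg (ev ξ).hom h
  rw [map_zero, map_one] at h1
  exact zero_ne_one h1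

theorem isLocalRing : IsLocalRing (EtBase.etaleLocalRing ξ) := by
  refine IsLocalRing.of_isUnit_or_isUnit_one_sub_self fun a => ?_
  by_cases h : ev ξ a = 0
  · right
    apply isUnit_of_ev_ne_zero
    rw [map_sub, map_one, h, sub_zero]
    exact one_ne_zero
  · left
    exact isUnit_of_ev_ne_zero ξ a h

lemma ev_eq_zero_iff [IsLocalRing (EtBase.etaleLocalRing ξ)] (a : EtBase.etaleLocalRing ξ) :
    ev ξ a = 0 ↔ a ∈ IsLocalRing.maximalIdeal (EtBase.etaleLocalRing ξ) := by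
  rw [IsLocalRing.mem_maximalIdeal, mem_nonunits_iff]
  constructor
  · intro h hu
    have := hu.map (ev ξ).hom
    rw [show (ev ξ).hom a = 0 from h] at this
    exact not_isUnit_zero this
  · intro h
    by_contra h'
    exact h (isUnit_of_ev_ne_zero ξ a h')

/-- finitely many elements of the étale local ring come from a common étale neighbourhood -/
lemma exists_common (s : Finset (EtBase.etaleLocalRing ξ)) :
    ∃ (W : Scheme.{u}) (g : W ⟶ X) (_ : Etale g) (y : Spec (CommRingCat.of Ω) ⟶ W)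
      (hy : y ≫ g = ξ), ∀ a ∈ s, a ∈ Set.range (germ' ξ g y hy).hom := by
  classical
  induction s using Finset.induction_on with
  | empty => exact ⟨X, 𝟙 X, inferInstance, ξ, Category.comp_id _, by simp⟩
  | insert a s ha ih =>
    obtain ⟨W1, g1, _, y1, hy1, h1⟩ := ih
    obtain ⟨W2, g2, _, y2, hy2, z, rfl⟩ := germ'_surj ξ a
    have hlift : pullback.lift y1 y2 (by rw [hy1, hy2]) ≫ pullback.fst g1 g2 ≫ g1 = ξ := by
      rw [pullback.lift_fst_assoc, hy1]
    refine ⟨pullback g1 g2, pullback.fst g1 g2 ≫ g1, inferInstance,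
      pullback.lift y1 y2 (by rw [hy1, hy2]), hlift, ?_⟩
    intro b hb
    rw [Finset.mem_insert] at hb
    rcases hb with rfl | hb
    · exact ⟨(pullback.snd g1 g2).appTop z,
        (germ'_w ξ g2 _ (pullback.snd g1 g2) pullback.condition.symm _ hlift y2 hy2
          (pullback.lift_snd _ _ _) z).symm⟩
    · obtain ⟨z', rfl⟩ := h1 b hb
      exact ⟨(pullback.fst g1 g2).appTop z',
        (germ'_w ξ g1 _ (pullback.fst g1 g2) rfl _ hlift y1 hy1
          (pullback.lift_fst _ _ _) z').symm⟩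

open Polynomial in
/-- Simple roots over `Ω` of monic polynomials over the étale local ring lift. -/
theorem exists_root (f : Polynomial (EtBase.etaleLocalRing ξ)) (hf : f.Monic) (α : Ω)
    (hα : (f.map (ev ξ).hom).eval α = 0) (hα' : (f.map (ev ξ).hom).derivative.eval α ≠ 0) :
    ∃ a : EtBase.etaleLocalRing ξ, f.eval a = 0 ∧ ev ξ a = α := by
  classical
  obtain ⟨W, g, _, y, hy, hs⟩ := exists_common ξ f.coeffs
  have hlifts : f ∈ Polynomial.lifts (germ' ξ g y hy).hom := by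
    rw [Polynomial.lifts_iff_coeff_lifts]
    intro n
    by_cases hn : f.coeff n = 0
    · rw [hn]; exact ⟨0, map_zero _⟩
    · exact hs _ (Polynomial.coeff_mem_coeffs hn)
  obtain ⟨q, hq, -, hqm⟩ := Polynomial.lifts_and_degree_eq_and_monic hlifts hf
  obtain ⟨B, hB⟩ : ∃ B : CommRingCat.{u}, B = Γ(W, ⊤) := ⟨_, rfl⟩
  subst hB
  let φ : Γ(W, ⊤) →+* Ω := (y.appTop ≫ (Scheme.ΓSpecIso (CommRingCat.of Ω)).hom).hom
  have hφ : ∀ z, φ z = ev ξ (germ' ξ g y hy z) := fun z => (ev_germ' ξ g y hy z).symm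
  have hqφ : q.map φ = f.map (ev ξ).hom := by
    rw [← hq, Polynomial.map_map]
    congr 1
    ext z
    exact hφ z
  let P : StandardEtalePair Γ(W, ⊤) := ⟨q, hqm, derivative q, ⟨1, 0, 1, by simp⟩⟩
  let _ : Algebra Γ(W, ⊤) Ω := φ.toAlgebra
  have hmap : P.HasMap α := by
    constructor
    · change aeval α q = 0
      rw [aeval_def, ← eval_map]
      change eval α (q.map φ) = 0
      rw [hqφ]; exact hα
    · change IsUnit (aeval α (derivative q))
      rw [isUnit_iff_ne_zero, aeval_def, ← eval_map, ← derivative_map]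
      change eval α (derivative (q.map φ)) ≠ 0
      rw [hqφ]; exact hα'
  obtain ⟨ψ, hψ⟩ : ∃ ψ : P.Ring →ₐ[Γ(W, ⊤)] Ω, ψ = P.lift α hmap := ⟨_, rfl⟩
  have hψX : ψ P.X = α := by rw [hψ]; exact P.lift_X α hmap
  obtain ⟨c, hc⟩ : ∃ c : Γ(W, ⊤) ⟶ CommRingCat.of P.Ring,
      c = CommRingCat.ofHom (algebraMap Γ(W, ⊤) P.Ring) := ⟨_, rfl⟩
  have : Etale (Spec.map c) := by
    rw [hc]
    exact (HasRingHomProperty.Spec_iff (P := @Etale)).2 (RingHom.etale_algebraMap.2 inferInstance)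
  obtain ⟨ψc, hψc⟩ : ∃ ψc : CommRingCat.of P.Ring ⟶ CommRingCat.of Ω,
      ψc = CommRingCat.ofHom ψ.toRingHom := ⟨_, rfl⟩
  have hcψ : c ≫ ψc = y.appTop ≫ (Scheme.ΓSpecIso (CommRingCat.of Ω)).hom := by
    rw [hc, hψc]
    ext z
    exact ψ.commutes z
  have hcompat : y ≫ W.toSpecΓ = Spec.map ψc ≫ Spec.map c := by
    rw [Scheme.toSpecΓ_naturality, ← Spec.map_comp, hcψ, Spec.map_comp, SpecMap_ΓSpecIso_hom]
  obtain ⟨l, hl1, hl2⟩ : ∃ l : Spec (CommRingCat.of Ω) ⟶ pullback W.toSpecΓ (Spec.map c),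
      l ≫ pullback.fst _ _ = y ∧ l ≫ pullback.snd _ _ = Spec.map ψc :=
    ⟨pullback.lift y (Spec.map ψc) hcompat, pullback.lift_fst _ _ _, pullback.lift_snd _ _ _⟩
  obtain ⟨p1, hp1⟩ : ∃ p1 : pullback W.toSpecΓ (Spec.map c) ⟶ W, p1 = pullback.fst _ _ := ⟨_, rfl⟩
  obtain ⟨p2, hp2⟩ : ∃ p2 : pullback W.toSpecΓ (Spec.map c) ⟶ Spec (CommRingCat.of P.Ring),
      p2 = pullback.snd _ _ := ⟨_, rfl⟩
  have : Etale p1 := by rw [hp1]; infer_instance
  rw [← hp1] at hl1
  rw [← hp2] at hl2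
  have hcond : p1 ≫ W.toSpecΓ = p2 ≫ Spec.map c := by rw [hp1, hp2]; exact pullback.condition
  have hlξ : l ≫ (p1 ≫ g) = ξ := by rw [← Category.assoc, hl1, hy]
  obtain ⟨σ, hσ⟩ : ∃ σ : CommRingCat.of P.Ring ⟶ Γ(pullback W.toSpecΓ (Spec.map c), ⊤),
      σ = (Scheme.ΓSpecIso _).inv ≫ p2.appTop := ⟨_, rfl⟩
  have hcσ : c ≫ σ = p1.appTop := by
    have h := congrArg Scheme.Hom.appTop hcond
    rw [Scheme.Hom.comp_appTop, Scheme.Hom.comp_appTop, Scheme.toSpecΓ_appTop] at h
    rw [hσ, ← Category.assoc, Scheme.ΓSpecIso_inv_naturality, Category.assoc, ← h,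
      Iso.inv_hom_id_assoc]
  refine ⟨germ' ξ (p1 ≫ g) l hlξ (σ P.X), ?_, ?_⟩
  · have hgg : germ' ξ g y hy = p1.appTop ≫ germ' ξ (p1 ≫ g) l hlξ := by
      ext z
      exact germ'_w ξ g (p1 ≫ g) p1 rfl l hlξ y hy hl1 z
    rw [← hq, hgg, ← hcσ]
    simp only [CommRingCat.hom_comp]
    rw [Polynomial.eval_map, ← Polynomial.hom_eval₂, ← Polynomial.hom_eval₂]
    have h0 : Polynomial.eval₂ c.hom P.X q = 0 := by
      rw [hc]
      exact (StandardEtalePair.hasMap_X (P := P)).1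
    rw [h0, map_zero, map_zero]
  · rw [ev_germ', hσ]
    have h1 : l.appTop (((Scheme.ΓSpecIso (CommRingCat.of P.Ring)).inv ≫ p2.appTop) P.X) =
        ((Scheme.ΓSpecIso (CommRingCat.of P.Ring)).inv ≫ (Spec.map ψc).appTop) P.X := by
      rw [← hl2, Scheme.Hom.comp_appTop]
      rfl
    rw [h1, ← Scheme.ΓSpecIso_inv_naturality, ← CommRingCat.comp_apply, Category.assoc,
      Iso.inv_hom_id, Category.comp_id, hψc]
    exact hψX

open Polynomial in
theorem henselian : HenselianLocalRing (EtBase.etaleLocalRing ξ) := by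
  have := isLocalRing ξ
  refine { is_henselian := ?_ }
  intro f hf a₀ h1 h2
  have hev : ∀ (p : Polynomial (EtBase.etaleLocalRing ξ)) (a : EtBase.etaleLocalRing ξ),
      (p.map (ev ξ).hom).eval (ev ξ a) = ev ξ (p.eval a) := fun p a =>
    Polynomial.eval_map_apply (f := (ev ξ).hom) a
  obtain ⟨a, ha, haα⟩ := exists_root ξ f hf (ev ξ a₀)
    (by rw [hev]; exact (ev_eq_zero_iff ξ _).2 h1)
    (by
      rw [derivative_map, hev]
      intro h0
      exact ((ev_eq_zero_iff ξ _).1 h0) h2)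
  refine ⟨a, ha, ?_⟩
  rw [← ev_eq_zero_iff, map_sub, haα, sub_self]

/-- the map from the residue field of the étale local ring to `Ω` -/
noncomputable def resToΩ [IsLocalRing (EtBase.etaleLocalRing ξ)] :
    IsLocalRing.ResidueField (EtBase.etaleLocalRing ξ) →+* Ω :=
  Ideal.Quotient.lift _ (ev ξ).hom (fun a ha => (ev_eq_zero_iff ξ a).2 ha)

lemma resToΩ_residue [IsLocalRing (EtBase.etaleLocalRing ξ)] (a : EtBase.etaleLocalRing ξ) :
    resToΩ ξ (IsLocalRing.residue _ a) = ev ξ a := rfl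

open Polynomial in
theorem isSepClosed_residueField [IsLocalRing (EtBase.etaleLocalRing ξ)] :
    IsSepClosed (IsLocalRing.ResidueField (EtBase.etaleLocalRing ξ)) := by
  refine IsSepClosed.of_exists_root _ fun p hpm hpi hps => ?_
  -- lift `p` to a monic polynomial over the étale local ring
  have hsurj : Function.Surjective (IsLocalRing.residue (EtBase.etaleLocalRing ξ)) :=
    IsLocalRing.residue_surjective
  have hlifts : p ∈ Polynomial.lifts (IsLocalRing.residue (EtBase.etaleLocalRing ξ)) := by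
    rw [Polynomial.lifts_iff_coeff_lifts]
    intro n
    exact hsurj _
  obtain ⟨f, hf, -, hfm⟩ := Polynomial.lifts_and_degree_eq_and_monic hlifts hpm
  have hmap : f.map (ev ξ).hom = p.map (resToΩ ξ) := by
    rw [← hf, Polynomial.map_map]
    congr 1
  have hsep : (p.map (resToΩ ξ)).Separable := hps.map
  have hdeg : (p.map (resToΩ ξ)).degree ≠ 0 := by
    rw [Polynomial.degree_map]
    exact fun h => hpi.not_isUnit (Polynomial.isUnit_iff_degree_eq_zero.2 h)
  obtain ⟨α, hα⟩ := IsSepClosed.exists_root _ hdeg hsep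
  have hα' : (p.map (resToΩ ξ)).derivative.eval α ≠ 0 := by
    obtain ⟨u, v, huv⟩ := hsep
    intro h0
    have := congrArg (Polynomial.eval α) huv
    rw [Polynomial.eval_add, Polynomial.eval_mul, Polynomial.eval_mul, hα.eq_zero, h0, mul_zero,
      mul_zero, add_zero, Polynomial.eval_one] at this
    exact zero_ne_one this
  obtain ⟨a, ha, -⟩ := exists_root ξ f hfm α (by rw [hmap]; exact hα) (by rw [hmap]; exact hα')
  refine ⟨IsLocalRing.residue _ a, ?_⟩
  rw [← hf, Polynomial.eval_map_apply, ha, map_zero]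

theorem isStrictlyHenselian : EtCoh.IsStrictlyHenselianLocalRing (EtBase.etaleLocalRing ξ) := by
  have := henselian ξ
  exact ⟨henselian ξ, isSepClosed_residueField ξ⟩

end Groth.Agent.H69.EtLocalRing
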