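import Groth.Agent.H69.EtH90Open

/-!
# Sections of abelian étale sheaves over Zariski opens (helper69)

Open subschemes `oo U` of `X` as objects of the small étale site, the restriction maps `rs` between
them, and separatedness / gluing of sections along Zariski covers of `X`.
-/

set_option autoImplicit false
set_option backward.isDefEq.respectTransparency.types false
universe u
open CategoryTheory CategoryTheory.Limits AlgebraicGeometry Opposite

namespace Groth.Agent.H69.EtOpenSec

open Groth.Agent.H21.ConstSec Groth.Agent.H69.EtSecExact Groth.Agent.H69.EtShriekSect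
  Groth.Agent.H69.EtH90Open

variable {X : Scheme.{u}}

/-- an open subscheme as an object of the small étale site -/
noncomputable abbrev oo (U : X.Opens) : X.Etale := objJ U.ι

lemma oo_hom (U : X.Opens) : (oo U).hom = U.ι := Category.id_comp _

/-- a map into `oo U` from a factorisation of the structure map -/
noncomputable def homOO {Y : X.Etale} {U : X.Opens} (k : Y.left ⟶ U.toScheme)
    (hk : k ≫ U.ι = Y.hom) : Y ⟶ oo U :=
  MorphismProperty.Over.homMk k (by rw [oo_hom]; exact hk)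

lemma hom_oo_w {Y : X.Etale} {U : X.Opens} (a : Y ⟶ oo U) : a.left ≫ U.ι = Y.hom := by
  have := MorphismProperty.Over.w a
  rwa [oo_hom] at this

instance (Y : X.Etale) (U : X.Opens) : Subsingleton (Y ⟶ oo U) := ⟨fun a b => by
  apply MorphismProperty.Over.Hom.ext
  have h : a.left ≫ U.ι = b.left ≫ U.ι := (hom_oo_w a).trans (hom_oo_w b).symm
  exact (cancel_mono U.ι).1 h⟩

lemma mem_of_hom_oo {Y : X.Etale} {U : X.Opens} (a : Y ⟶ oo U) (y : Y.left) : Y.hom y ∈ U := by
  rw [← hom_oo_w a, Scheme.Hom.comp_apply]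
  exact (a.left y).2

lemma nonempty_hom_oo (Y : X.Etale) (U : X.Opens) (h : ∀ y : Y.left, Y.hom y ∈ U) :
    Nonempty (Y ⟶ oo U) :=
  ⟨homOO (IsOpenImmersion.lift U.ι Y.hom (by
    rw [Scheme.Opens.range_ι]
    rintro _ ⟨y, rfl⟩
    exact h y)) (IsOpenImmersion.lift_fac _ _ _)⟩

/-- the inclusion of opens, as a map of the small étale site -/
noncomputable def ooHom {V U : X.Opens} (h : V ≤ U) : oo V ⟶ oo U :=
  homOO (X.homOfLE h) (by rw [oo_hom]; exact X.homOfLE_ι h)

lemma ooHom_left {V U : X.Opens} (h : V ≤ U) : (ooHom h).left = X.homOfLE h := rfl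

/-- restriction of sections between opens -/
noncomputable abbrev rs (F : EtCoh.Ab X) {V U : X.Opens} (h : V ≤ U) : Sec F (oo U) →+ Sec F (oo V) :=
  res F (ooHom h)

lemma rs_rs (F : EtCoh.Ab X) {W V U : X.Opens} (h : V ≤ U) (h' : W ≤ V) (s : Sec F (oo U)) :
    rs F h' (rs F h s) = rs F (h'.trans h) s := by
  have : ooHom h' ≫ ooHom h = ooHom (h'.trans h) := Subsingleton.elim _ _
  rw [rs, rs, res_res, this]

lemma rs_self (F : EtCoh.Ab X) {U : X.Opens} (h : U ≤ U) (s : Sec F (oo U)) : rs F h s = s := by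
  have : ooHom h = 𝟙 _ := Subsingleton.elim _ _
  rw [rs, this, res_id]

lemma res_eq_rs (F : EtCoh.Ab X) {V U : X.Opens} (h : V ≤ U) (k : oo V ⟶ oo U) (s : Sec F (oo U)) :
    res F k s = rs F h s := by
  have : k = ooHom h := Subsingleton.elim _ _
  rw [this]

lemma app_rs {F G : EtCoh.Ab X} (φ : F ⟶ G) {V U : X.Opens} (h : V ≤ U) (s : Sec F (oo U)) :
    app φ _ (rs F h s) = rs G h (app φ _ s) := app_res φ _ s

/-- restriction from the terminal object -/
noncomputable abbrev rt (F : EtCoh.Ab X) (U : X.Opens) : Sec F (EtCoh.top X) →+ Sec F (oo U) :=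
  res F (toTop (oo U))

lemma rs_rt (F : EtCoh.Ab X) {V U : X.Opens} (h : V ≤ U) (s : Sec F (EtCoh.top X)) :
    rs F h (rt F U s) = rt F V s := by
  rw [rs, rt, res_res, comp_toTop]

lemma app_rt {F G : EtCoh.Ab X} (φ : F ⟶ G) (U : X.Opens) (s : Sec F (EtCoh.top X)) :
    app φ _ (rt F U s) = rt G U (app φ _ s) := app_res φ _ s

/-- a Zariski cover of `X` is a covering of the terminal object -/
lemma ofArrows_mem_top {ι : Type*} (W : ι → X.Opens) (hcov : ∀ x : X, ∃ i, x ∈ W i) :
    Sieve.ofArrows _ (fun i => toTop (oo (W i))) ∈ X.smallEtaleTopology (EtCoh.top X) := by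
  rw [Scheme.ofArrows_mem_smallEtaleTopology_iff]
  ext x
  simp only [Set.mem_iUnion, Set.mem_range, Set.mem_univ, iff_true]
  obtain ⟨i, hi⟩ := hcov x
  refine ⟨i, ⟨x, hi⟩, ?_⟩
  have h1 : (toTop (oo (W i))).left ≫ 𝟙 X = (oo (W i)).hom := MorphismProperty.Over.w _
  have h2 : ((toTop (oo (W i))).left : (W i).toScheme ⟶ X) = (W i).ι :=
    ((Category.comp_id _).symm.trans h1).trans (oo_hom (W i))
  exact congrArg (fun m : (W i).toScheme ⟶ X => m ⟨x, hi⟩) h2

/-- separatedness along a Zariski cover of `X` -/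
theorem top_ext (F : EtCoh.Ab X) {ι : Type*} (W : ι → X.Opens) (hcov : ∀ x : X, ∃ i, x ∈ W i)
    (s t : Sec F (EtCoh.top X)) (h : ∀ i, rt F (W i) s = rt F (W i) t) : s = t :=
  sec_ext_arrows F _ (ofArrows_mem_top W hcov) s t h

/-- gluing along a Zariski cover of `X` -/
theorem top_glue (F : EtCoh.Ab X) {ι : Type*} (W : ι → X.Opens) (hcov : ∀ x : X, ∃ i, x ∈ W i)
    (x : ∀ i, Sec F (oo (W i)))
    (hx : ∀ i j, rs F (inf_le_left : W i ⊓ W j ≤ W i) (x i) =
      rs F (inf_le_right : W i ⊓ W j ≤ W j) (x j)) :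
    ∃ s : Sec F (EtCoh.top X), ∀ i, rt F (W i) s = x i := by
  refine sec_glue_arrows F _ (ofArrows_mem_top W hcov) x ?_
  intro i j Y gi gj _
  obtain ⟨l⟩ := nonempty_hom_oo Y (W i ⊓ W j) (fun y => ⟨mem_of_hom_oo gi y, mem_of_hom_oo gj y⟩)
  have h1 : gi = l ≫ ooHom inf_le_left := Subsingleton.elim _ _
  have h2 : gj = l ≫ ooHom inf_le_right := Subsingleton.elim _ _
  change res F gi (x i) = res F gj (x j)
  rw [h1, h2, ← res_res, ← res_res]
  exact congrArg _ (hx i j)

end Groth.Agent.H69.EtOpenSec
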