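import Groth.Agent.H69.EtH90Hpull
import Groth.Agent.H69.EtOpenSec
import Groth.Agent.H4.MVSes
import Groth.Agent.H4.UnitSplit

/-!
# `Ext` groups out of `j_! ℤ` for Zariski opens: restriction maps and Mayer–Vietoris (helper69)
-/

set_option autoImplicit false
set_option backward.isDefEq.respectTransparency.types false
universe u
open CategoryTheory CategoryTheory.Limits AlgebraicGeometry Opposite Abelian

namespace Groth.Agent.H69.EtOpenExt

open Groth.Agent.H21.ConstSec Groth.Agent.H69.EtOpenSec Groth.Agent.H69.EtShriekSect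
  Groth.Agent.H69.EtH90Open Groth.Agent.H69.EtH90Hpull Groth.Agent.H4.HpullEt
  Groth.Agent.H4.FlasquePush Groth.Agent.H4.MVSes EtCoh EtCore EtShriek

variable {X : Scheme.{u}}

lemma E_injective (U : X.Opens) (G : EtCoh.Ab X) : Function.Injective (E U.ι G) := by
  intro a b h
  apply Groth.Agent.H43.LTors.ev_injective U.ι G
  rw [← E_eq_ev, ← E_eq_ev]
  exact h

lemma E_surjective (U : X.Opens) (G : EtCoh.Ab X) : Function.Surjective (E U.ι G) := by
  intro s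
  obtain ⟨χ, hχ⟩ := ev_surjective U.ι G s
  exact ⟨χ, by rw [E_eq_ev]; exact hχ⟩

lemma E_comp' (U : X.Opens) {G G' : EtCoh.Ab X} (φ : ZJ U.ι ⟶ G) (ψ : G ⟶ G') :
    E U.ι G' (φ ≫ ψ) = app ψ (oo U) (E U.ι G φ) := E_comp U.ι φ ψ

instance mono_εJ (U : X.Opens) : Mono (εJ U.ι) := by
  rw [Groth.Agent.H69.EtShriekSect.εJ_eq]
  have := Groth.Agent.H4.UnitSplit.mono_counit_extZero U.ι (EtCoh.const X ℤ)
  infer_instance

/-- the transition map `j_{V!} ℤ ⟶ j_{U!} ℤ` for `V ≤ U` -/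
noncomputable abbrev aO {V U : X.Opens} (h : V ≤ U) : ZJ V.ι ⟶ ZJ U.ι :=
  aJ (X.homOfLE h) U.ι V.ι (X.homOfLE_ι h)

lemma aO_ε {V U : X.Opens} (h : V ≤ U) : aO h ≫ εJ U.ι = εJ V.ι := aJ_εJ _ _ _ _

lemma aO_comp {W V U : X.Opens} (h : V ≤ U) (h' : W ≤ V) : aO h' ≫ aO h = aO (h'.trans h) := by
  rw [← cancel_mono (εJ U.ι), Category.assoc, aO_ε, aO_ε, aO_ε]

lemma aO_self {U : X.Opens} (h : U ≤ U) : aO h = 𝟙 _ := by
  rw [← cancel_mono (εJ U.ι), aO_ε, Category.id_comp]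

lemma E_εJ' (U : X.Opens) : E U.ι (EtCoh.const X ℤ) (εJ U.ι) = rt (EtCoh.const X ℤ) U (one X) :=
  E_εJ U.ι

/-- precomposition with the transition map is restriction of sections -/
lemma E_aO_comp {V U : X.Opens} (h : V ≤ U) (G : EtCoh.Ab X) (ψ : ZJ U.ι ⟶ G) :
    E V.ι G (aO h ≫ ψ) = rs G h (E U.ι G ψ) := by
  obtain ⟨a', ha'⟩ := E_surjective V (ZJ U.ι) (rs _ h (E U.ι _ (𝟙 _)))
  have h1 : a' ≫ εJ U.ι = εJ V.ι := by
    apply E_injective
    rw [E_comp', ha', app_rs, ← E_comp', Category.id_comp, E_εJ', E_εJ', rs_rt]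
  have h2 : aO h = a' := by
    rw [← cancel_mono (εJ U.ι), aO_ε, h1]
  rw [h2, E_comp', ha', app_rs, ← E_comp', Category.id_comp]

/-- restriction of `Ext` classes -/
noncomputable def ρ (F : EtCoh.Ab X) {V U : X.Opens} (h : V ≤ U) {n : ℕ}
    (x : Ext (ZJ U.ι) F n) : Ext (ZJ V.ι) F n :=
  (Ext.mk₀ (aO h)).comp x (zero_add n)

lemma ρ_ρ (F : EtCoh.Ab X) {W V U : X.Opens} (h : V ≤ U) (h' : W ≤ V) {n : ℕ}
    (x : Ext (ZJ U.ι) F n) : ρ F h' (ρ F h x) = ρ F (h'.trans h) x := by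
  unfold ρ
  rw [Ext.mk₀_comp_mk₀_assoc, aO_comp]

lemma ρ_zero (F : EtCoh.Ab X) {V U : X.Opens} (h : V ≤ U) {n : ℕ} :
    ρ F h (0 : Ext (ZJ U.ι) F n) = 0 := by
  unfold ρ
  rw [Ext.comp_zero]

lemma ρ_comp (F G : EtCoh.Ab X) {V U : X.Opens} (h : V ≤ U) {n m k : ℕ}
    (x : Ext (ZJ U.ι) F n) (y : Ext F G m) (hk : n + m = k) :
    ρ G h (x.comp y hk) = (ρ F h x).comp y hk := by
  unfold ρ
  rw [Ext.comp_assoc (Ext.mk₀ (aO h)) x y (zero_add n) hk (by omega)]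

/-! ### Mayer–Vietoris -/

variable (U V : X.Opens)

lemma mv_comm : aL X U V ≫ aO (le_sup_left : U ≤ U ⊔ V) = aR X U V ≫ aO (le_sup_right : V ≤ U ⊔ V) := by
  rw [← cancel_mono (εJ (U ⊔ V).ι), Category.assoc, Category.assoc, aO_ε, aL_ε, aO_ε, aR_ε]

open Groth.Agent.H4.Stalks in
/-- the Mayer–Vietoris short exact sequence `0 → ℤ_{U∩V} → ℤ_U ⊕ ℤ_V → ℤ_{U∪V} → 0` -/
theorem mv_shortExact :
    (Groth.Agent.H4.MVAbs.sc (aL X U V) (aR X U V) (aO (le_sup_left : U ≤ U ⊔ V))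
      (aO (le_sup_right : V ≤ U ⊔ V)) (mv_comm U V)).ShortExact := by
  apply Groth.Agent.H4.StalkExact.shortExact_of_stalks
  intro s
  refine ShortComplex.shortExact_of_iso
    (mapScIso (stalk (geomPt s)) _ _ _ _ (mv_comm U V)).symm ?_
  have key : ∀ {W W' : X.Opens} (h : W ≤ W'), s ∈ W →
      IsIso ((stalk (geomPt s)).map (aO h)) := by
    intro W W' h hs
    have i1 := isIso_stalk_εJ_of_mem X W s hs
    have i2 := isIso_stalk_εJ_of_mem X W' s (h hs)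
    have h' : (stalk (geomPt s)).map (aO h) ≫ (stalk (geomPt s)).map (εJ W'.ι) =
        (stalk (geomPt s)).map (εJ W.ι) := by rw [← Functor.map_comp, aO_ε]
    exact IsIso.of_isIso_fac_right h'
  have key0 : ∀ {W W' : X.Opens} (a : ZJ W.ι ⟶ ZJ W'.ι), s ∉ W → s ∉ W' →
      IsIso ((stalk (geomPt s)).map a) := by
    intro W W' a hs hs'
    exact isIso_of_isZero _ (isZero_stalk_ZJ_of_not_mem X W s hs)
      (isZero_stalk_ZJ_of_not_mem X W' s hs')
  by_cases hV : s ∈ V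
  · have i1 : IsIso ((stalk (geomPt s)).map (aO (le_sup_right : V ≤ U ⊔ V))) := key _ hV
    have i2 : IsIso ((stalk (geomPt s)).map (aL X U V)) := by
      by_cases hU : s ∈ U
      · exact key (inf_le_left : U ⊓ V ≤ U) ⟨hU, hV⟩
      · exact key0 _ (fun h => hU h.1) hU
    exact shortExact_of_isIso_aU_εV _
  · by_cases hU : s ∈ U
    · have i1 : IsIso ((stalk (geomPt s)).map (aO (le_sup_left : U ≤ U ⊔ V))) := key _ hU
      have i2 : IsIso ((stalk (geomPt s)).map (aR X U V)) := key0 _ (fun h => hV h.2) hV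
      exact shortExact_of_isIso_aV_εU _
    · have hUV : s ∉ U ⊔ V := by
        rintro (h | h)
        · exact hU h
        · exact hV h
      have i1 : IsIso ((stalk (geomPt s)).map (aO (le_sup_right : V ≤ U ⊔ V))) := key0 _ hV hUV
      have i2 : IsIso ((stalk (geomPt s)).map (aL X U V)) := key0 _ (fun h => hU h.1) hU
      exact shortExact_of_isIso_aU_εV _

/-- Mayer–Vietoris: a class on `U ∪ V` which vanishes on `U` and on `V` comes from `U ∩ V`; in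
particular it vanishes if the cohomology of `U ∩ V` in the previous degree does -/
theorem eq_zero_of_mv (F : EtCoh.Ab X) (n : ℕ)
    (hW : ∀ y : Ext (ZJ (U ⊓ V).ι) F n, y = 0) (x : Ext (ZJ (U ⊔ V).ι) F (n + 1))
    (hxU : ρ F (le_sup_left : U ≤ U ⊔ V) x = 0) (hxV : ρ F (le_sup_right : V ≤ U ⊔ V) x = 0) :
    x = 0 := by
  have hS := mv_shortExact U V
  have h0 : (Ext.mk₀ (Groth.Agent.H4.MVAbs.sc (aL X U V) (aR X U V)
      (aO (le_sup_left : U ≤ U ⊔ V)) (aO (le_sup_right : V ≤ U ⊔ V)) (mv_comm U V)).g).comp x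
      (zero_add (n + 1)) = 0 := by
    rw [← Groth.Agent.H4.MVAbs.pair_eta ((Ext.mk₀ _).comp x (zero_add (n + 1))),
      Groth.Agent.H4.MVAbs.inl_g_comp, Groth.Agent.H4.MVAbs.inr_g_comp]
    change Groth.Agent.H4.MVAbs.pair (ρ F _ x) (ρ F _ x) = 0
    rw [hxU, hxV]
    simp [Groth.Agent.H4.MVAbs.pair]
  obtain ⟨y, hy⟩ := Ext.contravariant_sequence_exact₃ hS F x h0 (add_comm 1 n)
  rw [← hy, hW y, Ext.comp_zero]

end Groth.Agent.H69.EtOpenExt
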