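import Groth.Agent.H69.EtOpenSec
import Groth.Prelude.Def_EtGm

/-!
# Sections of `G_m` over Zariski opens are the units of the ring of functions (helper69)
-/

set_option autoImplicit false
set_option backward.isDefEq.respectTransparency.types false
universe u
open CategoryTheory CategoryTheory.Limits AlgebraicGeometry Opposite

namespace Groth.Agent.H69.EtOpenGm

open Groth.Agent.H21.ConstSec Groth.Agent.H69.EtOpenSec

variable {X : Scheme.{u}}

/-- `Γ(X, U) → Γ(U, ⊤)` as a monoid homomorphism -/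
noncomputable def toΓ (U : X.Opens) : (Γ(X, U) : Type u) →* (Γ(U.toScheme, ⊤) : Type u) :=
  (U.topIso.inv.hom : (Γ(X, U) : Type u) →+* (Γ(U.toScheme, ⊤) : Type u))

/-- `Γ(U, ⊤) → Γ(X, U)` as a monoid homomorphism -/
noncomputable def ofΓ (U : X.Opens) : (Γ(U.toScheme, ⊤) : Type u) →* (Γ(X, U) : Type u) :=
  (U.topIso.hom.hom : (Γ(U.toScheme, ⊤) : Type u) →+* (Γ(X, U) : Type u))

lemma ofΓ_toΓ (U : X.Opens) (a : Γ(X, U)) : ofΓ U (toΓ U a) = a := by
  change (U.topIso.inv ≫ U.topIso.hom).hom a = a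
  rw [Iso.inv_hom_id]
  rfl

lemma toΓ_ofΓ (U : X.Opens) (a : Γ(U.toScheme, ⊤)) : toΓ U (ofΓ U a) = a := by
  change (U.topIso.hom ≫ U.topIso.inv).hom a = a
  rw [Iso.hom_inv_id]
  rfl

/-- a unit of `Γ(X, U)` as a section of `G_m` over `U` -/
noncomputable def gmOf (U : X.Opens) (a : (Γ(X, U) : Type u)ˣ) : Sec (EtCoh.Gm X) (oo U) :=
  (ULift.up (Additive.ofMul (Units.map (toΓ U) a)) :
    ULift.{u + 1} (Additive ((Γ(U.toScheme, ⊤) : Type u))ˣ))

/-- the unit underlying a section of `G_m` over `U` -/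
noncomputable def unitOf (U : X.Opens) (s : Sec (EtCoh.Gm X) (oo U)) : (Γ(X, U) : Type u)ˣ :=
  Units.map (ofΓ U) (Additive.toMul (ULift.down
    (s : ULift.{u + 1} (Additive ((Γ(U.toScheme, ⊤) : Type u))ˣ))))

lemma gmOf_mul (U : X.Opens) (a b : (Γ(X, U) : Type u)ˣ) :
    gmOf U (a * b) = gmOf U a + gmOf U b := by
  simp only [gmOf, map_mul]
  rfl

lemma gmOf_one (U : X.Opens) : gmOf U (1 : (Γ(X, U) : Type u)ˣ) = 0 := by
  simp only [gmOf, map_one]
  rfl

lemma gmOf_inv (U : X.Opens) (a : (Γ(X, U) : Type u)ˣ) : gmOf U a⁻¹ = - gmOf U a := by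
  have h := gmOf_mul U a⁻¹ a
  rw [inv_mul_cancel, gmOf_one] at h
  exact eq_neg_of_add_eq_zero_left h.symm

lemma unitOf_gmOf (U : X.Opens) (a : (Γ(X, U) : Type u)ˣ) : unitOf U (gmOf U a) = a := by
  ext
  exact ofΓ_toΓ U a

lemma gmOf_unitOf (U : X.Opens) (s : Sec (EtCoh.Gm X) (oo U)) : gmOf U (unitOf U s) = s := by
  have : Units.map (toΓ U) (unitOf U s) = (Additive.toMul (ULift.down
    (s : ULift.{u + 1} (Additive ((Γ(U.toScheme, ⊤) : Type u))ˣ)))) := by
    ext
    exact toΓ_ofΓ U _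
  simp only [gmOf, this]
  rfl

lemma gmOf_injective (U : X.Opens) : Function.Injective (gmOf (X := X) U) := fun a b h => by
  rw [← unitOf_gmOf U a, h, unitOf_gmOf]

lemma gmOf_surjective (U : X.Opens) : Function.Surjective (gmOf (X := X) U) := fun s =>
  ⟨unitOf U s, gmOf_unitOf U s⟩

set_option backward.isDefEq.respectTransparency false in
lemma topIso_inv_appTop {V U : X.Opens} (h : V ≤ U) :
    U.topIso.inv ≫ (X.homOfLE h).appTop = X.presheaf.map (homOfLE h).op ≫ V.topIso.inv := by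
  rw [Scheme.Opens.topIso_inv, Scheme.Opens.topIso_inv, Scheme.homOfLE_appTop,
    ← Functor.map_comp, ← Functor.map_comp]
  congr 1

lemma rs_gmOf {V U : X.Opens} (h : V ≤ U) (a : (Γ(X, U) : Type u)ˣ) :
    rs (EtCoh.Gm X) h (gmOf U a) =
      gmOf V (Units.map ((X.presheaf.map (homOfLE h).op).hom : (Γ(X, U) : Type u) →* (Γ(X, V) : Type u)) a) := by
  have key : Units.map ((X.homOfLE h).appTop.hom.toMonoidHom)
      (Units.map (toΓ U) a) = Units.map (toΓ V)
        (Units.map ((X.presheaf.map (homOfLE h).op).hom : (Γ(X, U) : Type u) →* (Γ(X, V) : Type u)) a) := by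
    ext
    have h2 := congrArg (fun m => m.hom (a : Γ(X, U))) (topIso_inv_appTop h)
    exact h2
  change (ULift.up (Additive.ofMul (Units.map
    ((X.homOfLE h).appTop.hom.toMonoidHom) (Units.map (toΓ U) a))) :
    ULift.{u + 1} (Additive ((Γ(V.toScheme, ⊤) : Type u))ˣ)) = _
  rw [key]
  rfl

end Groth.Agent.H69.EtOpenGm
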