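import Groth.Prelude.Def_EtZar
import Groth.Agent.H7.StrictHenselSection
import Groth.Agent.H46.SpreadFP
import Mathlib.CategoryTheory.Sites.DenseSubsite.SheafEquiv
import Mathlib.Algebra.Homology.DerivedCategory.Ext.MapBijective

/-!
# Zariski opens as a dense subsite of the small étale site when all local rings are strictly
henselian (helper69)
-/

set_option autoImplicit false
universe u
open CategoryTheory CategoryTheory.Limits AlgebraicGeometry Opposite TopologicalSpace

namespace Groth.Agent.H69.EtZarDense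

variable (S : Scheme.{u})

instance : (EtZar.zarToEt S).Faithful := ⟨fun _ => Subsingleton.elim _ _⟩

lemma le_of_scheme_hom {U V : S.Opens} (g : U.toScheme ⟶ V.toScheme) (hg : g ≫ V.ι = U.ι) :
    U ≤ V := by
  intro x hx
  obtain ⟨y, hy⟩ : ∃ y : U.toScheme, U.ι y = x := ⟨⟨x, hx⟩, rfl⟩
  have : V.ι (g y) = x := by rw [← Scheme.Hom.comp_apply, hg, hy]
  rw [← this]
  exact (g y).2

set_option backward.isDefEq.respectTransparency.types false in
lemma le_of_hom {U V : S.Opens} (f : (EtZar.zarToEt S).obj U ⟶ (EtZar.zarToEt S).obj V) :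
    U ≤ V :=
  le_of_scheme_hom S f.left (MorphismProperty.Over.w f)

set_option backward.isDefEq.respectTransparency.types false in
instance : (EtZar.zarToEt S).Full where
  map_surjective {U V} f := by
    refine ⟨homOfLE (le_of_hom S f), ?_⟩
    apply MorphismProperty.Over.Hom.ext
    obtain ⟨g, hg, hgf⟩ : ∃ g : U.toScheme ⟶ V.toScheme, g ≫ V.ι = U.ι ∧ g = f.left :=
      ⟨f.left, MorphismProperty.Over.w f, rfl⟩
    change S.homOfLE (le_of_hom S f) = f.left
    rw [← hgf, ← cancel_mono V.ι, hg]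
    exact S.homOfLE_ι _

set_option backward.isDefEq.respectTransparency.types false in
/-- Over a point with strictly henselian local ring, an étale morphism has a section on a Zariski
neighbourhood through any given point of the fibre. -/
theorem exists_opens_section {Y : Scheme.{u}} (f : Y ⟶ S) [Etale f] (y : Y)
    [HenselianLocalRing (S.presheaf.stalk (f y))]
    [IsSepClosed (IsLocalRing.ResidueField (S.presheaf.stalk (f y)))] :
    ∃ (W : S.Opens) (g : W.toScheme ⟶ Y), g ≫ f = W.ι ∧ y ∈ Set.range g := by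
  have hsec := (Groth.Agent.H7.henselian_and_isSepClosed_iff_etale_sections
    (S.presheaf.stalk (f y))).1 ⟨inferInstance, inferInstance⟩
  obtain ⟨x', hx'1, hx'2⟩ := Scheme.Pullback.exists_preimage_pullback (f := f)
    (g := S.fromSpecStalk (f y)) y (IsLocalRing.closedPoint (S.presheaf.stalk (f y)))
    (Scheme.fromSpecStalk_closedPoint.symm)
  obtain ⟨σ, hσ, hσx⟩ := hsec (pullback f (S.fromSpecStalk (f y))) (pullback.snd _ _)
    inferInstance x' hx'2
  have hφ : (σ ≫ pullback.fst f (S.fromSpecStalk (f y))) ≫ f =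
      S.fromSpecStalk (f y) ≫ 𝟙 S := by
    rw [Category.assoc, pullback.condition, ← Category.assoc, hσ]
    simp
  obtain ⟨W, hsW, g, hg1, hg2⟩ := Groth.Agent.H46.spread_out_of_locallyOfFinitePresentation'
    (𝟙 S) f (σ ≫ pullback.fst f (S.fromSpecStalk (f y))) hφ
  refine ⟨W, g, by simpa using hg2, ?_⟩
  refine ⟨(W.fromSpecStalkOfMem (f y) hsW) (IsLocalRing.closedPoint (S.presheaf.stalk (f y))), ?_⟩
  rw [← Scheme.Hom.comp_apply, ← hg1, Scheme.Hom.comp_apply, hσx, hx'1]

set_option backward.isDefEq.respectTransparency.types false in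
theorem isCoverDense (hS : ∀ s : S, EtCoh.IsStrictlyHenselianLocalRing (S.presheaf.stalk s)) :
    (EtZar.zarToEt S).IsCoverDense S.smallEtaleTopology := by
  constructor
  intro U
  have key : ∀ y : U.left, ∃ (W : S.Opens) (g : (EtZar.zarToEt S).obj W ⟶ U),
      y ∈ Set.range g.left := by
    intro y
    have : Etale U.hom := U.prop
    obtain ⟨hH, hC⟩ := hS (U.hom y)
    obtain ⟨W, g, hg, hy⟩ := exists_opens_section S U.hom y
    exact ⟨W, MorphismProperty.Over.homMk g hg, hy⟩
  choose W g hg using key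
  have hcov : Sieve.ofArrows _ g ∈ S.smallEtaleTopology U := by
    rw [Scheme.ofArrows_mem_smallEtaleTopology_iff]
    ext y
    simp only [Set.mem_iUnion, Set.mem_univ, iff_true]
    exact ⟨y, hg y⟩
  refine S.smallEtaleTopology.superset_covering ?_ hcov
  rintro Z h ⟨_, a, _, ⟨y⟩, rfl⟩
  exact ⟨⟨W y, a, g y, rfl⟩⟩

set_option backward.isDefEq.respectTransparency.types false in
theorem functorPushforward_mem_iff {U : S.Opens} {R : Sieve U} :
    R.functorPushforward (EtZar.zarToEt S) ∈ S.smallEtaleTopology _ ↔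
      R ∈ Opens.grothendieckTopology S U := by
  constructor
  · intro h x hx
    obtain ⟨𝒰, hO, hP, le⟩ := (Scheme.mem_smallGrothendieckTopology _ _).1 h
    obtain ⟨y0, hy0⟩ : ∃ y : U.toScheme, U.ι y = x := ⟨⟨x, hx⟩, rfl⟩
    obtain ⟨i, y, hy⟩ := 𝒰.exists_eq y0
    have hover : 𝒰.f i ≫ U.ι = 𝒰.X i ↘ S := HomIsOver.comp_over (f := 𝒰.f i) (S := S)
    obtain ⟨V, g, h', hRg, -⟩ := le _ _ ⟨i⟩
    refine ⟨V, g, hRg, ?_⟩
    obtain ⟨k, hk⟩ : ∃ k : 𝒰.X i ⟶ V.toScheme, k ≫ V.ι = 𝒰.X i ↘ S :=
      ⟨h'.left, MorphismProperty.Over.w h'⟩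
    have : V.ι (k y) = x := by
      rw [← Scheme.Hom.comp_apply, hk, ← hover, Scheme.Hom.comp_apply, hy]
      exact hy0
    rw [← this]
    exact (k y).2
  · intro h
    let ι := {p : Σ V : S.Opens, (V ⟶ U) // R p.2}
    have hcov : Sieve.ofArrows (fun p : ι => (EtZar.zarToEt S).obj p.1.1)
        (fun p : ι => (EtZar.zarToEt S).map p.1.2) ∈ S.smallEtaleTopology _ := by
      rw [Scheme.ofArrows_mem_smallEtaleTopology_iff]
      ext y
      simp only [Set.mem_iUnion, Set.mem_univ, iff_true]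
      obtain ⟨y', hy'⟩ : ∃ y' : U.toScheme, y' = y := ⟨y, rfl⟩
      obtain ⟨V, f, hRf, hxV⟩ : ∃ (V : S.Opens) (f : V ⟶ U), R f ∧ U.ι y' ∈ V :=
        h (U.ι y') (y'.2)
      refine ⟨⟨⟨V, f⟩, hRf⟩, ?_⟩
      obtain ⟨z, hz⟩ : ∃ z : V.toScheme, V.ι z = U.ι y' := ⟨⟨_, hxV⟩, rfl⟩
      refine ⟨z, ?_⟩
      change (S.homOfLE f.le) z = y
      rw [← hy']
      apply U.ι.isOpenEmbedding.injective
      rw [← Scheme.Hom.comp_apply, S.homOfLE_ι, hz]
    refine S.smallEtaleTopology.superset_covering ?_ hcov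
    rintro Z a ⟨_, b, _, ⟨p⟩, rfl⟩
    exact ⟨p.1.1, p.1.2, b, p.2, rfl⟩

theorem isDenseSubsite (hS : ∀ s : S, EtCoh.IsStrictlyHenselianLocalRing (S.presheaf.stalk s)) :
    (EtZar.zarToEt S).IsDenseSubsite (Opens.grothendieckTopology S) S.smallEtaleTopology :=
  { isCoverDense' := isCoverDense S hS
    isLocallyFull' := inferInstance
    isLocallyFaithful' := inferInstance
    functorPushforward_mem_iff := functorPushforward_mem_iff S }

section Ext

universe w v' u'

variable {C : Type u'} [Category.{v'} C] [Abelian C] [HasExt.{w} C]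

/-- `Ext` only depends on the isomorphism class of the first variable -/
noncomputable def extAddEquivOfIsoLeft {X X' Y : C} (e : X ≅ X') (n : ℕ) :
    Abelian.Ext X Y n ≃+ Abelian.Ext X' Y n where
  toFun x := (Abelian.Ext.mk₀ e.inv).comp x (zero_add n)
  invFun y := (Abelian.Ext.mk₀ e.hom).comp y (zero_add n)
  left_inv x := by
    simp only [Abelian.Ext.mk₀_comp_mk₀_assoc, Iso.hom_inv_id, Abelian.Ext.mk₀_id_comp]
  right_inv y := by
    simp only [Abelian.Ext.mk₀_comp_mk₀_assoc, Iso.inv_hom_id, Abelian.Ext.mk₀_id_comp]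
  map_add' x y := Abelian.Ext.comp_add _ _ _ _

end Ext

theorem resZar_isEquivalence
    (hS : ∀ s : S, EtCoh.IsStrictlyHenselianLocalRing (S.presheaf.stalk s)) [EtZar.ZarCont S] :
    (EtZar.resZar S).IsEquivalence := by
  have := isDenseSubsite S hS
  exact inferInstance

theorem nonempty_H_addEquiv
    (hS : ∀ s : S, EtCoh.IsStrictlyHenselianLocalRing (S.presheaf.stalk s)) [EtZar.ZarCont S]
    (F : EtCoh.Ab S) (i : ℕ) :
    Nonempty (EtCoh.H S F i ≃+ EtZar.H ((EtZar.resZar S).obj F) i) := by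
  have hD := isDenseSubsite S hS
  have hE := resZar_isEquivalence S hS
  let M : AddCommGrpCat.{u + 1} := AddCommGrpCat.of (ULift ℤ)
  have e : (EtZar.resZar S).obj
      ((constantSheaf S.smallEtaleTopology AddCommGrpCat.{u + 1}).obj M) ≅
      (constantSheaf (Opens.grothendieckTopology S) AddCommGrpCat.{u + 1}).obj M :=
    ((Functor.IsDenseSubsite.sheafEquivSheafificationCompatibility
      (Opens.grothendieckTopology S) S.smallEtaleTopology (EtZar.zarToEt S)
      AddCommGrpCat.{u + 1}).app ((Functor.const _).obj M)).symm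
  have hA : (EtZar.resZar S).Additive := Functor.additive_of_preserves_binary_products _
  have hb := (EtZar.resZar S).mapExt_bijective_of_preservesInjectiveObjects
    ((constantSheaf S.smallEtaleTopology AddCommGrpCat.{u + 1}).obj M) F i
  exact ⟨(AddEquiv.ofBijective _ hb).trans (extAddEquivOfIsoLeft e i)⟩

end Groth.Agent.H69.EtZarDense
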