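import Groth.Agent.H69.EtOpenExt
import Groth.Agent.H69.EtZarDense
import Groth.Agent.H27.SHTransport

/-!
# Zariski-local vanishing of `Ext (j_! ℤ, F)` when local rings are strictly henselian (helper69)
-/

set_option autoImplicit false
set_option backward.isDefEq.respectTransparency.types false
universe u
open CategoryTheory CategoryTheory.Limits AlgebraicGeometry Opposite Abelian

namespace Groth.Agent.H69.EtOpenLoc

open Groth.Agent.H21.ConstSec Groth.Agent.H69.EtOpenSec Groth.Agent.H69.EtShriekSect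
  Groth.Agent.H69.EtH90Open Groth.Agent.H69.EtH90Hpull Groth.Agent.H4.HpullEt
  Groth.Agent.H69.EtSecExact Groth.Agent.H69.EtOpenExt
  Groth.Agent.H4.FlasquePush Groth.Agent.H4.MVSes EtCoh EtCore EtShriek

variable {X : Scheme.{u}}

/-- sections over a Zariski open lift along an epimorphism on a Zariski neighbourhood of any point
with strictly henselian local ring -/
theorem exists_open_lift_sec {I Q : EtCoh.Ab X} (g : I ⟶ Q) [Epi g] (U : X.Opens)
    (q : Sec Q (oo U)) (x : X) (hx : x ∈ U)
    (hX : EtCoh.IsStrictlyHenselianLocalRing (X.presheaf.stalk x)) :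
    ∃ (W : X.Opens) (h : W ≤ U), x ∈ W ∧ ∃ t : Sec I (oo W), app g _ t = rs Q h q := by
  obtain ⟨R, hR, hloc⟩ := locally_surjective_of_epi g (oo U) q
  obtain ⟨Y, a, y, hRa, hy⟩ := (mem_iff R).mp hR (⟨x, hx⟩ : U.toScheme)
  obtain ⟨t, ht⟩ := hloc a hRa
  have hYx : Y.hom y = x := by
    rw [← hom_oo_w a, Scheme.Hom.comp_apply, hy]
    rfl
  subst hYx
  have : Etale Y.hom := Y.prop
  obtain ⟨hH, hC⟩ := hX
  obtain ⟨W, k, hk, hyW⟩ := Groth.Agent.H69.EtZarDense.exists_opens_section X Y.hom y
  let b : oo W ⟶ Y := MorphismProperty.Over.homMk k (by rw [oo_hom]; exact hk)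
  have hWU : W ≤ U := by
    intro w hw
    have h1 : (W.ι : W.toScheme ⟶ X) (⟨w, hw⟩ : W.toScheme) = w := rfl
    rw [← h1, ← hk, Scheme.Hom.comp_apply]
    exact mem_of_hom_oo a _
  refine ⟨W, hWU, ?_, res I b t, ?_⟩
  · obtain ⟨w', hw'⟩ := hyW
    rw [← hw', ← Scheme.Hom.comp_apply, hk]
    exact w'.2
  · rw [app_res]
    have ht' : app g Y t = res Q a q := ht
    rw [ht', res_res]
    exact res_eq_rs Q hWU _ q

/-- **Zariski locality**: a class in `Ext^{n+1}(j_{U!} ℤ, F)` dies on a Zariski neighbourhood of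
any point of `U`, when the local rings of `X` are strictly henselian -/
theorem exists_open_ρ_eq_zero
    (hX : ∀ x : X, EtCoh.IsStrictlyHenselianLocalRing (X.presheaf.stalk x)) (n : ℕ) :
    ∀ (F : EtCoh.Ab X) (U : X.Opens) (ξ : Ext (ZJ U.ι) F (n + 1)) (x : X), x ∈ U →
      ∃ (W : X.Opens) (h : W ≤ U), x ∈ W ∧ ρ F h ξ = 0 := by
  induction n with
  | zero =>
    intro F U ξ x hx
    let T : ShortComplex (EtCoh.Ab X) := ShortComplex.mk (Injective.ι F) (cokernel.π (Injective.ι F))
      (cokernel.condition _)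
    have hT : T.ShortExact :=
      { exact := ShortComplex.exact_cokernel (Injective.ι F)
        mono_f := (inferInstance : Mono (Injective.ι F))
        epi_g := (inferInstance : Epi (cokernel.π (Injective.ι F))) }
    have : Injective T.X₂ := (inferInstance : Injective (Injective.under F))
    have h0 : ξ.comp (Ext.mk₀ T.f) (add_zero 1) = 0 := Ext.eq_zero_of_injective _
    obtain ⟨y, hy⟩ := Ext.covariant_sequence_exact₁ _ hT ξ h0 (zero_add 1)
    obtain ⟨ψ, rfl⟩ := (Ext.mk₀_bijective _ _).2 y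
    have : Epi T.g := hT.epi_g
    obtain ⟨W, h, hxW, t, ht⟩ := exists_open_lift_sec T.g U (E U.ι _ ψ) x hx (hX x)
    refine ⟨W, h, hxW, ?_⟩
    obtain ⟨χ, hχ⟩ := E_surjective W T.X₂ t
    have hcomp : χ ≫ T.g = aO h ≫ ψ := by
      apply E_injective
      rw [E_comp', hχ, ht, E_aO_comp]
    rw [← hy, ρ_comp]
    unfold ρ
    rw [Ext.mk₀_comp_mk₀, ← hcomp, ← Ext.mk₀_comp_mk₀,
      Ext.comp_assoc_of_second_deg_zero, hT.comp_extClass, Ext.comp_zero]
  | succ n ih =>
    intro F U ξ x hx
    let T : ShortComplex (EtCoh.Ab X) := ShortComplex.mk (Injective.ι F) (cokernel.π (Injective.ι F))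
      (cokernel.condition _)
    have hT : T.ShortExact :=
      { exact := ShortComplex.exact_cokernel (Injective.ι F)
        mono_f := (inferInstance : Mono (Injective.ι F))
        epi_g := (inferInstance : Epi (cokernel.π (Injective.ι F))) }
    have : Injective T.X₂ := (inferInstance : Injective (Injective.under F))
    have h0 : ξ.comp (Ext.mk₀ T.f) (add_zero (n + 1 + 1)) = 0 := Ext.eq_zero_of_injective _
    obtain ⟨y, hy⟩ := Ext.covariant_sequence_exact₁ _ hT ξ h0 (rfl : n + 1 + 1 = n + 1 + 1)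
    obtain ⟨W, h, hxW, hW⟩ := ih T.X₃ U y x hx
    refine ⟨W, h, hxW, ?_⟩
    rw [← hy, ρ_comp, hW, Ext.zero_comp]

/-- the local rings of `Spec R` are strictly henselian if the localizations of `R` at primes are -/
theorem stalk_isStrictlyHenselian (R : Type u) [CommRing R]
    (hR : ∀ p : PrimeSpectrum R,
      EtCoh.IsStrictlyHenselianLocalRing (Localization.AtPrime p.asIdeal))
    (x : Spec (CommRingCat.of R)) :
    EtCoh.IsStrictlyHenselianLocalRing ((Spec (CommRingCat.of R)).presheaf.stalk x) := by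
  exact Groth.Agent.H27.SHTransport.isStrictlyHenselian_of_ringEquiv
    (StructureSheaf.stalkIso R x).toRingEquiv (hR x)

end Groth.Agent.H69.EtOpenLoc
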