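import Groth.Agent.H69.EtPicH1

/-!
# The class in `H¹(X_et, G_m)` of a Zariski cocycle of units (helper69)

For a short exact sequence `0 → G_m → I → Q → 0` with `I` injective, `del` is the connecting map
`Q(X) → H¹(X_et, G_m)` and `Cls W u cl` says that `cl` is the class attached to the Zariski cocycle `u`
of units on the cover `W`.
-/

set_option autoImplicit false
set_option backward.isDefEq.respectTransparency.types false
universe u
open CategoryTheory CategoryTheory.Limits AlgebraicGeometry Opposite Abelian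

namespace Groth.Agent.H69.EtPicCls

open Groth.Agent.H21.ConstSec Groth.Agent.H69.EtOpenSec Groth.Agent.H69.EtOpenGm
  Groth.Agent.H69.EtCechOpen Groth.Agent.H69.EtH90Local Groth.Agent.H69.EtH90Open
  Groth.Agent.H69.EtSecExact Groth.Agent.H69.EtPicH1

variable {X : Scheme.{u}}

variable {I Q : EtCoh.Ab X} (f : EtCoh.Gm X ⟶ I) (g : I ⟶ Q) (w : f ≫ g = 0)
  (hS : (ShortComplex.mk f g w).ShortExact)

/-- the connecting map `Q(X) → H¹(X_et, G_m)` -/
noncomputable def del (q : Sec Q (EtCoh.top X)) : EtCoh.H X (EtCoh.Gm X) 1 :=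
  (Ext.mk₀ ((homEquivGsec X Q).symm q)).comp hS.extClass (zero_add 1)

lemma del_add (q q' : Sec Q (EtCoh.top X)) :
    del f g w hS (q + q') = del f g w hS q + del f g w hS q' := by
  unfold del
  rw [map_add, Ext.mk₀_add, Ext.add_comp]

lemma del_app_g (b : Sec I (EtCoh.top X)) : del f g w hS (app g _ b) = 0 := by
  unfold del
  have h1 : (homEquivGsec X Q).symm (app g _ b) = (homEquivGsec X I).symm b ≫ g := by
    apply (homEquivGsec X Q).injective
    rw [AddEquiv.apply_symm_apply, homEquivGsec_comp, AddEquiv.apply_symm_apply]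
    rfl
  rw [h1, ← Ext.mk₀_comp_mk₀, Ext.comp_assoc_of_second_deg_zero]
  have h9 : (Ext.mk₀ g).comp hS.extClass (zero_add 1) = 0 := hS.comp_extClass
  rw [h9, Ext.comp_zero]

lemma exists_of_del_eq_zero (q : Sec Q (EtCoh.top X)) (h : del f g w hS q = 0) :
    ∃ b : Sec I (EtCoh.top X), app g _ b = q := by
  obtain ⟨x₂, hx₂⟩ := Ext.covariant_sequence_exact₃ _ hS
    (Ext.mk₀ ((homEquivGsec X Q).symm q)) (zero_add 1) h
  obtain ⟨χ, rfl⟩ := (Ext.mk₀_bijective _ _).2 x₂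
  have hχ : χ ≫ g = (homEquivGsec X Q).symm q := by
    apply (Ext.mk₀_bijective _ _).1
    rw [← Ext.mk₀_comp_mk₀]
    exact hx₂
  refine ⟨homEquivGsec X I χ, ?_⟩
  have h1 := homEquivGsec_comp X g χ
  rw [hχ, AddEquiv.apply_symm_apply] at h1
  exact h1.symm

lemma del_surjective [Injective I] (cl : EtCoh.H X (EtCoh.Gm X) 1) :
    ∃ q : Sec Q (EtCoh.top X), del f g w hS q = cl := by
  have hx : cl.comp (Ext.mk₀ f) (add_zero 1) = 0 := Ext.eq_zero_of_injective _
  obtain ⟨x₃, hx₃⟩ := Ext.covariant_sequence_exact₁ _ hS cl hx (zero_add 1)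
  obtain ⟨ψ, rfl⟩ := (Ext.mk₀_bijective _ _).2 x₃
  refine ⟨homEquivGsec X Q ψ, ?_⟩
  unfold del
  rw [AddEquiv.symm_apply_apply]
  exact hx₃

/-- `cl` is the class of the Zariski cocycle of units `u` on the family `W` -/
def Cls {ι : Type u} (W : ι → X.Opens) (u : ∀ i j, (Γ(X, W i ⊓ W j) : Type u)ˣ)
    (cl : EtCoh.H X (EtCoh.Gm X) 1) : Prop :=
  ∃ (t : ∀ i, Sec I (oo (W i))) (q : Sec Q (EtCoh.top X)),
    (∀ i j, app f _ (gmOf _ (u i j)) = rs I (inf_le_right : W i ⊓ W j ≤ W j) (t j) -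
      rs I (inf_le_left : W i ⊓ W j ≤ W i) (t i)) ∧
    (∀ i, rt Q (W i) q = app g _ (t i)) ∧ cl = del f g w hS q

/-- the cocycle condition for a family of units -/
def IsCoc {ι : Type u} (W : ι → X.Opens) (u : ∀ i j, (Γ(X, W i ⊓ W j) : Type u)ˣ) : Prop :=
  ∀ (i j k : ι) (T : X.Opens) (hij : T ≤ W i ⊓ W j) (hjk : T ≤ W j ⊓ W k)
    (hik : T ≤ W i ⊓ W k), ur hik (u i k) = ur hij (u i j) * ur hjk (u j k)

/-- the coboundary condition for a family of units -/
def IsCob {ι : Type u} (W : ι → X.Opens) (u : ∀ i j, (Γ(X, W i ⊓ W j) : Type u)ˣ) : Prop :=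
  ∃ r : ∀ i, (Γ(X, W i) : Type u)ˣ, ∀ i j,
    ur (inf_le_left : W i ⊓ W j ≤ W i) (r i) = ur (inf_le_right : W i ⊓ W j ≤ W j) (r j) * u i j

include hS in
/-- every cocycle on a cover has a class -/
theorem exists_cls [Injective I] {ι : Type u} (W : ι → X.Opens) (hcov : ∀ x : X, ∃ i, x ∈ W i)
    (u : ∀ i j, (Γ(X, W i ⊓ W j) : Type u)ˣ) (hu : IsCoc W u) :
    ∃ cl, Cls f g w hS W u cl := by
  let W' : ULift.{u + 1} ι → X.Opens := fun i => W i.down
  let θ : ∀ i j : ULift.{u + 1} ι, Sec I (oo (W' i ⊓ W' j)) :=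
    fun i j => app f _ (gmOf _ (u i.down j.down))
  have hθ : ∀ (i j k : ULift.{u + 1} ι) (T : X.Opens) (hij : T ≤ W' i ⊓ W' j)
      (hjk : T ≤ W' j ⊓ W' k) (hik : T ≤ W' i ⊓ W' k),
      rs I hik (θ i k) = rs I hij (θ i j) + rs I hjk (θ j k) := by
    intro i j k T hij hjk hik
    change rs I hik (app f _ (gmOf _ (u i.down k.down))) =
      rs I hij (app f _ (gmOf _ (u i.down j.down))) + rs I hjk (app f _ (gmOf _ (u j.down k.down)))
    rw [← app_rs, ← app_rs, ← app_rs, rs_gmOf, rs_gmOf, rs_gmOf, ← map_add, ← gmOf_mul]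
    congr 2
    exact hu i.down j.down k.down T hij hjk hik
  obtain ⟨t, ht⟩ := exists_coboundary W' I θ hθ
  obtain ⟨q, hq⟩ := top_glue Q W hcov (fun i => app g _ (t ⟨i⟩)) (by
    intro i j
    rw [← app_rs, ← app_rs]
    have h1 := congrArg (app g _) (ht ⟨i⟩ ⟨j⟩)
    change app g _ (app f _ _) = _ at h1
    rw [app_g_f f g w, map_sub] at h1
    exact (sub_eq_zero.1 h1.symm).symm)
  exact ⟨del f g w hS q, fun i => t ⟨i⟩, q, fun i j => ht ⟨i⟩ ⟨j⟩, hq, rfl⟩

include hS in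
/-- classes are compatible with refinement of the cover -/
theorem Cls.refine {ι ι' : Type u} {W : ι → X.Opens} {u : ∀ i j, (Γ(X, W i ⊓ W j) : Type u)ˣ}
    {cl : EtCoh.H X (EtCoh.Gm X) 1} (h : Cls f g w hS W u cl) (φ : ι' → ι) (W' : ι' → X.Opens)
    (hle : ∀ k, W' k ≤ W (φ k)) :
    Cls f g w hS W' (fun k l => ur (inf_le_inf (hle k) (hle l)) (u (φ k) (φ l))) cl := by
  obtain ⟨t, q, ht, hq, hcl⟩ := h
  refine ⟨fun k => rs I (hle k) (t (φ k)), q, fun k l => ?_, fun k => ?_, hcl⟩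
  · change app f _ (gmOf _ (ur (inf_le_inf (hle k) (hle l)) (u (φ k) (φ l)))) =
      rs I _ (rs I (hle l) (t (φ l))) - rs I _ (rs I (hle k) (t (φ k)))
    rw [← rs_gmOf, app_rs, ht (φ k) (φ l), map_sub, rs_rs, rs_rs, rs_rs, rs_rs]
  · change rt Q (W' k) q = app g _ (rs I (hle k) (t (φ k)))
    rw [app_rs, ← hq (φ k), rs_rt]

include hS in
/-- classes are additive in the cocycle -/
theorem Cls.mul {ι : Type u} {W : ι → X.Opens} {u u' : ∀ i j, (Γ(X, W i ⊓ W j) : Type u)ˣ}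
    {cl cl' : EtCoh.H X (EtCoh.Gm X) 1} (h : Cls f g w hS W u cl) (h' : Cls f g w hS W u' cl') :
    Cls f g w hS W (fun i j => u i j * u' i j) (cl + cl') := by
  obtain ⟨t, q, ht, hq, hcl⟩ := h
  obtain ⟨t', q', ht', hq', hcl'⟩ := h'
  refine ⟨fun i => t i + t' i, q + q', fun i j => ?_, fun i => ?_, ?_⟩
  · rw [gmOf_mul, map_add, ht i j, ht' i j, map_add, map_add]
    abel
  · rw [map_add, map_add, hq i, hq' i]
  · rw [hcl, hcl', del_add]

include hS in
/-- a cocycle with class zero is a coboundary -/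
theorem Cls.isCob {ι : Type u} {W : ι → X.Opens}
    {u : ∀ i j, (Γ(X, W i ⊓ W j) : Type u)ˣ} (h : Cls f g w hS W u 0) : IsCob W u := by
  obtain ⟨t, q, ht, hq, hcl⟩ := h
  obtain ⟨b, hb⟩ := exists_of_del_eq_zero f g w hS q hcl.symm
  have hker : ∀ i, app g _ (rt I (W i) b - t i) = 0 := by
    intro i
    rw [map_sub, app_rt, hb, hq, sub_self]
  choose ρ hρ using fun i => exists_of_app_g_eq_zero f g w hS _ _ (hker i)
  refine ⟨fun i => unitOf _ (ρ i), fun i j => ?_⟩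
  apply gmOf_injective
  rw [gmOf_mul, ← rs_gmOf, ← rs_gmOf, gmOf_unitOf, gmOf_unitOf]
  apply app_f_injective f g w hS
  rw [map_add, app_rs, app_rs, hρ, hρ, map_sub, map_sub, rs_rt, rs_rt, ht i j]
  abel

include hS in
/-- the class of a coboundary is zero -/
theorem Cls.eq_zero_of_isCob {ι : Type u} {W : ι → X.Opens} (hcov : ∀ x : X, ∃ i, x ∈ W i)
    {u : ∀ i j, (Γ(X, W i ⊓ W j) : Type u)ˣ} {cl : EtCoh.H X (EtCoh.Gm X) 1}
    (h : Cls f g w hS W u cl) (hu : IsCob W u) : cl = 0 := by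
  obtain ⟨t, q, ht, hq, hcl⟩ := h
  obtain ⟨r, hr⟩ := hu
  obtain ⟨s, hs⟩ := top_glue I W hcov (fun i => t i + app f _ (gmOf _ (r i))) (by
    intro i j
    rw [map_add, map_add, ← app_rs, ← app_rs, rs_gmOf, rs_gmOf, hr i j, gmOf_mul, map_add,
      ht i j]
    abel)
  have hgs : app g _ s = q := by
    apply top_ext Q W hcov
    intro i
    rw [← app_rt, hs, map_add, app_g_f f g w, add_zero, hq]
  rw [hcl, ← hgs, del_app_g]

include hS in
/-- every class is the class of a cocycle on a cover indexed by the points of `X` -/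
theorem exists_cls_of_class [Injective I] (cl : EtCoh.H X (EtCoh.Gm X) 1) :
    ∃ (W : X → X.Opens) (_ : ∀ x, x ∈ W x) (u : ∀ x y, (Γ(X, W x ⊓ W y) : Type u)ˣ),
      IsCoc W u ∧ Cls f g w hS W u cl := by
  obtain ⟨q, rfl⟩ := del_surjective f g w hS cl
  choose W hW b hb using exists_open_lift f g w hS q
  have hker : ∀ x y, app g _ (rs I (inf_le_right : W x ⊓ W y ≤ W y) (b y) -
      rs I (inf_le_left : W x ⊓ W y ≤ W x) (b x)) = 0 := by
    intro x y
    rw [map_sub, app_rs, app_rs, hb, hb]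
    change rs Q _ (rt Q _ q) - rs Q _ (rt Q _ q) = 0
    rw [rs_rt, rs_rt, sub_self]
  choose γ hγ using fun x y => exists_of_app_g_eq_zero f g w hS _ _ (hker x y)
  refine ⟨W, hW, fun x y => unitOf _ (γ x y), ?_, b, q, fun x y => ?_, fun x => (hb x).symm, rfl⟩
  · intro x y z T hxy hyz hxz
    apply gmOf_injective
    rw [gmOf_mul, ← rs_gmOf, ← rs_gmOf, ← rs_gmOf, gmOf_unitOf, gmOf_unitOf, gmOf_unitOf]
    apply app_f_injective f g w hS
    rw [map_add, app_rs, app_rs, app_rs, hγ, hγ, hγ, map_sub, map_sub, map_sub, rs_rs, rs_rs,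
      rs_rs, rs_rs, rs_rs, rs_rs]
    abel
  · rw [gmOf_unitOf]
    exact hγ x y

end Groth.Agent.H69.EtPicCls
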