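import Groth.Agent.H69.EtPicH1
import Groth.Agent.H18.Cocycle.Inverse
import Groth.Agent.H18.Norm.Trivial

/-!
# `H¹(X_et, G_m) = 0` iff every invertible module is trivial (helper69)

The module side: invertible modules are trivial iff all Zariski cocycles (in the sense of helper18's
`Cover.IsCocycle`) are coboundaries; and the bridge to the unit-valued cocycles of `EtPicH1`.
-/

set_option autoImplicit false
set_option backward.isDefEq.respectTransparency.types false
universe u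
open CategoryTheory CategoryTheory.Limits AlgebraicGeometry Opposite

namespace Groth.Agent.H69.EtPicMod

open Groth.Agent.H18 Groth.Agent.H18.PUP Groth.Agent.H18.STL Groth.Agent.H18.NormAmple
  Groth.Agent.H69.EtPicH1

variable {X : Scheme.{u}}

/-- all Zariski cocycles are coboundaries -/
def ZarTrivial (X : Scheme.{u}) : Prop :=
  ∀ (𝔘 : Cover X) (c : 𝔘.Cocycle), 𝔘.IsCocycle c →
    ∃ r : ∀ i, Γ(X, 𝔘.W i), (∀ i, IsUnit (r i)) ∧
      ∀ i j, rres X (inf_le_left : 𝔘.W i ⊓ 𝔘.W j ≤ 𝔘.W i) (r i) =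
        rres X (inf_le_right : 𝔘.W i ⊓ 𝔘.W j ≤ 𝔘.W j) (r j) * c i j

lemma isUnit_of_basicOpen_eq {U : X.Opens} (f : Γ(X, U)) (h : X.basicOpen f = U) : IsUnit f := by
  have h1 : IsUnit (rres X (X.basicOpen_le f) f) := X.toRingedSpace.isUnit_res_basicOpen f
  have hle : U ≤ X.basicOpen f := h.ge
  have h2 := h1.map (rres X hle).hom
  have h3 : (rres X hle).hom (rres X (X.basicOpen_le f) f) = f := by
    change rres X hle (rres X (X.basicOpen_le f) f) = f
    rw [rres_rres, rres_self]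
  rwa [h3] at h2

/-- if all Zariski cocycles are coboundaries, every invertible module is trivial -/
theorem nonempty_iso_of_zarTrivial (H : ZarTrivial X) {L : X.Modules} (hL : PicF.IsInvertible L) :
    Nonempty (L ≅ Coh.structureModule X) := by
  choose U e hxU he using exists_basis_of_isInvertible hL
  let 𝔘 : Cover X := ⟨X, U, fun x => ⟨x, hxU x⟩⟩
  have h : HasCocycle 𝔘 (cocycleOf 𝔘 he) L e := hasCocycle_cocycleOf 𝔘 he
  obtain ⟨r, hru, hr⟩ := H 𝔘 _ h.isCocycle
  obtain ⟨a, ha⟩ := h.exists_of_coords r hr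
  have hc : ∀ i, r i = h.coords a i := fun i => h.coords_unique a i _ (ha i)
  have htop : CohB1.genLocus L a = ⊤ := by
    apply top_le_iff.1
    intro x _
    have h1 := h.genLocus_inf a x
    rw [← hc x, X.basicOpen_of_isUnit (hru x)] at h1
    have h2 : x ∈ CohB1.genLocus L a ⊓ 𝔘.W x := by
      rw [h1]
      exact hxU x
    exact h2.1
  have := isIso_of_genLocus_eq_top a htop
  exact ⟨(asIso a).symm⟩

/-- if every invertible module is trivial, all Zariski cocycles are coboundaries -/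
theorem zarTrivial_of_iso
    (H : ∀ L : X.Modules, PicF.IsInvertible L → Nonempty (L ≅ Coh.structureModule X)) :
    ZarTrivial X := by
  intro 𝔘 c hc
  obtain ⟨e⟩ := H _ (isInvertible_ofCocycle hc)
  have h := hasCocycle_ofCocycle hc
  have : IsIso e.inv := inferInstance
  have htop := genLocus_eq_top_of_isIso e.inv
  refine ⟨h.coords e.inv, fun i => ?_, h.coords_trans e.inv⟩
  apply isUnit_of_basicOpen_eq
  rw [← h.genLocus_inf e.inv i, htop, top_inf_eq]

/-- unit-valued form of the coboundary property -/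
def ZarUnitsTrivial (X : Scheme.{u}) : Prop :=
  ∀ {ι : Type u} (W : ι → X.Opens) (_ : ∀ x : X, ∃ i, x ∈ W i)
    (c : ∀ i j, (Γ(X, W i ⊓ W j) : Type u)ˣ),
    (∀ (i j k : ι) (T : X.Opens) (hij : T ≤ W i ⊓ W j) (hjk : T ≤ W j ⊓ W k)
      (hik : T ≤ W i ⊓ W k), ur hik (c i k) = ur hij (c i j) * ur hjk (c j k)) →
    ∃ r : ∀ i, (Γ(X, W i) : Type u)ˣ, ∀ i j,
      ur (inf_le_left : W i ⊓ W j ≤ W i) (r i) =
        ur (inf_le_right : W i ⊓ W j ≤ W j) (r j) * c i j

theorem zarTrivial_of_units (H : ZarUnitsTrivial X) : ZarTrivial X := by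
  intro 𝔘 c hc
  have hinv : ∀ i j, c i j * rres X (le_inf inf_le_right inf_le_left :
      𝔘.W i ⊓ 𝔘.W j ≤ 𝔘.W j ⊓ 𝔘.W i) (c j i) = 1 := by
    intro i j
    have h1 := hc.comp i j i (𝔘.W i ⊓ 𝔘.W j) (le_inf inf_le_left inf_le_left) le_rfl
      (le_inf inf_le_right inf_le_left)
    rw [hc.self i, rres_self] at h1
    exact h1.symm
  let u : ∀ i j, (Γ(X, 𝔘.W i ⊓ 𝔘.W j) : Type u)ˣ := fun i j =>
    ⟨c i j, rres X (le_inf inf_le_right inf_le_left :
      𝔘.W i ⊓ 𝔘.W j ≤ 𝔘.W j ⊓ 𝔘.W i) (c j i), hinv i j, by rw [mul_comm]; exact hinv i j⟩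
  obtain ⟨r, hr⟩ := H 𝔘.W 𝔘.cov u (by
    intro i j k T hij hjk hik
    apply Units.ext
    exact hc.comp i j k T hik hij hjk)
  refine ⟨fun i => (r i : Γ(X, 𝔘.W i)), fun i => (r i).isUnit, fun i j => ?_⟩
  exact congrArg Units.val (hr i j)

theorem units_of_zarTrivial (H : ZarTrivial X) (W : X → X.Opens) (hW : ∀ x, x ∈ W x)
    (u : ∀ x y, (Γ(X, W x ⊓ W y) : Type u)ˣ)
    (hu : ∀ (x y z : X) (T : X.Opens) (hxy : T ≤ W x ⊓ W y) (hyz : T ≤ W y ⊓ W z)
      (hxz : T ≤ W x ⊓ W z), ur hxz (u x z) = ur hxy (u x y) * ur hyz (u y z)) :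
    ∃ r : ∀ x, (Γ(X, W x) : Type u)ˣ, ∀ x y,
      ur (inf_le_left : W x ⊓ W y ≤ W x) (r x) =
        ur (inf_le_right : W x ⊓ W y ≤ W y) (r y) * u x y := by
  let 𝔘 : Cover X := ⟨X, W, fun x => ⟨x, hW x⟩⟩
  let c : 𝔘.Cocycle := fun i j => ((u i j : (Γ(X, W i ⊓ W j) : Type u)ˣ) : Γ(X, W i ⊓ W j))
  have hc : 𝔘.IsCocycle c :=
    { self := by
        intro i T h
        have h1 := hu i i i T h h h
        have h2 : ur h (u i i) = 1 := by
          have := mul_left_cancel (a := ur h (u i i)) (b := 1) (c := ur h (u i i))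
            (by rw [mul_one]; exact h1)
          exact this.symm
        exact congrArg Units.val h2
      comp := by
        intro i j k T hik hij hjk
        exact congrArg Units.val (hu i j k T hij hjk hik) }
  obtain ⟨r, hru, hr⟩ := H 𝔘 c hc
  refine ⟨fun x => (hru x).unit, fun x y => ?_⟩
  apply Units.ext
  exact hr x y

end Groth.Agent.H69.EtPicMod
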