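import Groth.Agent.H69.EtPicCls
import Groth.Agent.H69.EtPicMod
import Groth.Prelude.Def_PicGrp

/-!
# `Pic(X) ≃ H¹(X_et, G_m)` as groups (helper69)

The module side: a relation between invertible classes and classes in `H¹(X_et, G_m)` which is the
graph of a group isomorphism.
-/

set_option autoImplicit false
set_option backward.isDefEq.respectTransparency.types false
universe u
open CategoryTheory CategoryTheory.Limits AlgebraicGeometry Opposite

namespace Groth.Agent.H69.EtPicGrp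

open Groth.Agent.H18 Groth.Agent.H18.PUP Groth.Agent.H18.STL Groth.Agent.H18.NormAmple
  Groth.Agent.H69.EtPicH1 Groth.Agent.H69.EtPicCls Groth.Agent.H69.EtPicMod

/-- a relation between a commutative group and an additive group which is total, surjective, additive
and has trivial kernels on both sides is the graph of an isomorphism -/
theorem nonempty_addEquiv_of_rel {G : Type*} [CommGroup G] {A : Type*} [AddCommGroup A]
    (R : G → A → Prop) (htot : ∀ a, ∃ c, R a c) (hsurj : ∀ c, ∃ a, R a c)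
    (hmul : ∀ a a' c c', R a c → R a' c' → R (a * a') (c + c'))
    (h1 : ∀ a, R a 0 → a = 1) (h0 : ∀ c, R 1 c → c = 0) :
    Nonempty (Additive G ≃+ A) := by
  have hfun : ∀ a c c', R a c → R a c' → c = c' := by
    intro a c c' h h'
    obtain ⟨d, hd⟩ := htot a⁻¹
    have e1 := h0 _ (by simpa using hmul a a⁻¹ c d h hd)
    have e2 := h0 _ (by simpa using hmul a a⁻¹ c' d h' hd)
    exact add_right_cancel (e1.trans e2.symm)
  choose F hF using htot
  have hFmul : ∀ a a', F (a * a') = F a + F a' := fun a a' =>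
    hfun _ _ _ (hF _) (hmul _ _ _ _ (hF a) (hF a'))
  let Φ : Additive G →+ A := AddMonoidHom.mk' (fun a : Additive G => F a.toMul)
    (fun a b => hFmul _ _)
  refine ⟨AddEquiv.ofBijective Φ ⟨?_, ?_⟩⟩
  · rw [injective_iff_map_eq_zero]
    intro a ha
    have h2 : R a.toMul 0 := by
      have := hF a.toMul
      rwa [show F a.toMul = 0 from ha] at this
    have h3 := h1 _ h2
    exact congrArg Additive.ofMul h3
  · intro c
    obtain ⟨a, ha⟩ := hsurj c
    exact ⟨Additive.ofMul a, hfun _ _ _ (hF a) ha⟩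

variable {X : Scheme.{u}}

/-- refinement of a trivialisation -/
theorem hasCocycle_refine {𝔘 : Cover X} {c : 𝔘.Cocycle} {M : X.Modules} {β : ∀ i, Γ(M, 𝔘.W i)}
    (h : HasCocycle 𝔘 c M β) (𝔘' : Cover X) (φ : 𝔘'.ι → 𝔘.ι) (hle : ∀ k, 𝔘'.W k ≤ 𝔘.W (φ k)) :
    HasCocycle 𝔘' (fun k l => rres X (inf_le_inf (hle k) (hle l)) (c (φ k) (φ l))) M
      (fun k => mres M (hle k) (β (φ k))) where
  basis k := (h.basis (φ k)).mono (hle k)
  trans k l := by
    have h1 := congrArg (mres M (inf_le_inf (hle k) (hle l))) (h.trans (φ k) (φ l))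
    rw [mres_smul, mres_mres, mres_mres] at h1
    rw [mres_mres, mres_mres]
    exact h1

/-- the units of a cocycle -/
noncomputable def unitsOf {𝔘 : Cover X} {c : 𝔘.Cocycle} (hc : 𝔘.IsCocycle c) (i j : 𝔘.ι) :
    (Γ(X, 𝔘.W i ⊓ 𝔘.W j) : Type u)ˣ :=
  have hinv : ∀ i j, c i j * rres X (le_inf inf_le_right inf_le_left :
      𝔘.W i ⊓ 𝔘.W j ≤ 𝔘.W j ⊓ 𝔘.W i) (c j i) = 1 := by
    intro i j
    have h1 := hc.comp i j i (𝔘.W i ⊓ 𝔘.W j) (le_inf inf_le_left inf_le_left) le_rfl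
      (le_inf inf_le_right inf_le_left)
    rw [hc.self i, rres_self] at h1
    exact h1.symm
  ⟨c i j, rres X (le_inf inf_le_right inf_le_left :
      𝔘.W i ⊓ 𝔘.W j ≤ 𝔘.W j ⊓ 𝔘.W i) (c j i), hinv i j, by rw [mul_comm]; exact hinv i j⟩

lemma unitsOf_val {𝔘 : Cover X} {c : 𝔘.Cocycle} (hc : 𝔘.IsCocycle c) (i j : 𝔘.ι) :
    ((unitsOf hc i j : (Γ(X, 𝔘.W i ⊓ 𝔘.W j) : Type u)ˣ) : Γ(X, 𝔘.W i ⊓ 𝔘.W j)) = c i j := rfl

lemma isCoc_unitsOf {𝔘 : Cover X} {c : 𝔘.Cocycle} (hc : 𝔘.IsCocycle c) :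
    IsCoc 𝔘.W (unitsOf hc) := by
  intro i j k T hij hjk hik
  apply Units.ext
  exact hc.comp i j k T hik hij hjk

/-- a trivialisation whose cocycle is a coboundary trivialises the module -/
theorem nonempty_iso_of_isCob {𝔘 : Cover X} {c : 𝔘.Cocycle} {L : X.Modules}
    {β : ∀ i, Γ(L, 𝔘.W i)} (h : HasCocycle 𝔘 c L β) (hcob : IsCob 𝔘.W (unitsOf h.isCocycle)) :
    Nonempty (L ≅ Coh.structureModule X) := by
  obtain ⟨r, hr⟩ := hcob
  obtain ⟨a, ha⟩ := h.exists_of_coords (fun i => (r i : Γ(X, 𝔘.W i)))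
    (fun i j => congrArg Units.val (hr i j))
  have hc : ∀ i, (r i : Γ(X, 𝔘.W i)) = h.coords a i := fun i => h.coords_unique a i _ (ha i)
  have htop : CohB1.genLocus L a = ⊤ := by
    apply top_le_iff.1
    intro x _
    obtain ⟨i, hi⟩ := 𝔘.cov x
    have h1 := h.genLocus_inf a i
    rw [← hc i, X.basicOpen_of_isUnit (r i).isUnit] at h1
    have h2 : x ∈ CohB1.genLocus L a ⊓ 𝔘.W i := by
      rw [h1]
      exact hi
    exact h2.1
  have := isIso_of_genLocus_eq_top a htop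
  exact ⟨(asIso a).symm⟩

/-- the cocycle of a trivialisation of a trivial module is a coboundary -/
theorem isCob_of_iso {𝔘 : Cover X} {c : 𝔘.Cocycle} {L : X.Modules}
    {β : ∀ i, Γ(L, 𝔘.W i)} (h : HasCocycle 𝔘 c L β) (e : Coh.structureModule X ≅ L) :
    IsCob 𝔘.W (unitsOf h.isCocycle) := by
  have : IsIso e.hom := inferInstance
  have htop := genLocus_eq_top_of_isIso e.hom
  have hu : ∀ i, IsUnit (h.coords e.hom i) := by
    intro i
    apply isUnit_of_basicOpen_eq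
    rw [← h.genLocus_inf e.hom i, htop, top_inf_eq]
  refine ⟨fun i => (hu i).unit, fun i j => ?_⟩
  apply Units.ext
  exact h.coords_trans e.hom i j

variable {I Q : EtCoh.Ab X} (f : EtCoh.Gm X ⟶ I) (g : I ⟶ Q) (w : f ≫ g = 0)
  (hS : (ShortComplex.mk f g w).ShortExact)

/-- the relation between invertible classes and classes in `H¹(X_et, G_m)` -/
def Rel (a : PicLoc.PicSet X) (cl : EtCoh.H X (EtCoh.Gm X) 1) : Prop :=
  ∃ (L : X.Modules) (_ : a.1 = PicF.cl L) (𝔘 : Cover X) (c : 𝔘.Cocycle) (β : ∀ i, Γ(L, 𝔘.W i))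
    (h : HasCocycle 𝔘 c L β), Cls f g w hS 𝔘.W (unitsOf h.isCocycle) cl

include hS in
theorem rel_total [Injective I] (a : PicLoc.PicSet X) : ∃ cl, Rel f g w hS a cl := by
  obtain ⟨L, hL, rfl⟩ := PicGrp.exists_eq_cls a
  choose U e hxU he using exists_basis_of_isInvertible hL
  let 𝔘 : Cover X := ⟨X, U, fun x => ⟨x, hxU x⟩⟩
  have h : HasCocycle 𝔘 (cocycleOf 𝔘 he) L e := hasCocycle_cocycleOf 𝔘 he
  obtain ⟨cl, hcl⟩ := exists_cls f g w hS 𝔘.W 𝔘.cov (unitsOf h.isCocycle) (isCoc_unitsOf _)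
  exact ⟨cl, L, rfl, 𝔘, _, e, h, hcl⟩

include hS in
theorem rel_surj [Injective I] (cl : EtCoh.H X (EtCoh.Gm X) 1) : ∃ a, Rel f g w hS a cl := by
  obtain ⟨W, hW, u, hu, hcls⟩ := exists_cls_of_class f g w hS cl
  let 𝔘 : Cover X := ⟨X, W, fun x => ⟨x, hW x⟩⟩
  let c : 𝔘.Cocycle := fun i j => ((u i j : (Γ(X, W i ⊓ W j) : Type u)ˣ) : Γ(X, W i ⊓ W j))
  have hc : 𝔘.IsCocycle c :=
    { self := by
        intro i T h
        have h1 := hu i i i T h h h
        have h2 : ur h (u i i) = 1 := by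
          have := mul_left_cancel (a := ur h (u i i)) (b := 1) (c := ur h (u i i))
            (by rw [mul_one]; exact h1)
          exact this.symm
        exact congrArg Units.val h2
      comp := by
        intro i j k T hik hij hjk
        exact congrArg Units.val (hu i j k T hij hjk hik) }
  have h := hasCocycle_ofCocycle hc
  have hu' : unitsOf h.isCocycle = u := by
    funext i j
    exact Units.ext rfl
  refine ⟨PicGrp.cls (ofCocycle 𝔘 c) (isInvertible_ofCocycle hc), ofCocycle 𝔘 c, rfl, 𝔘, c, _, h, ?_⟩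
  rw [hu']
  exact hcls

include hS in
theorem rel_mul [PicGrp.Law X] (a a' : PicLoc.PicSet X) (cl cl' : EtCoh.H X (EtCoh.Gm X) 1)
    (hr : Rel f g w hS a cl) (hr' : Rel f g w hS a' cl') : Rel f g w hS (a * a') (cl + cl') := by
  obtain ⟨L, hL, 𝔘, c, β, h, hcls⟩ := hr
  obtain ⟨L', hL', 𝔘', c', β', h', hcls'⟩ := hr'
  let 𝔙 : Cover X := ⟨𝔘.ι × 𝔘'.ι, fun p => 𝔘.W p.1 ⊓ 𝔘'.W p.2, fun x => by
    obtain ⟨i, hi⟩ := 𝔘.cov x
    obtain ⟨k, hk⟩ := 𝔘'.cov x
    exact ⟨(i, k), hi, hk⟩⟩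
  have h₁ := hasCocycle_refine h 𝔙 Prod.fst (fun _ => inf_le_left)
  have h₂ := hasCocycle_refine h' 𝔙 Prod.snd (fun _ => inf_le_right)
  have htm := h₁.tmul h₂
  have k₁ := hcls.refine f g w hS Prod.fst 𝔙.W (fun _ => inf_le_left)
  have k₂ := hcls'.refine f g w hS Prod.snd 𝔙.W (fun _ => inf_le_right)
  have km := k₁.mul f g w hS k₂
  refine ⟨CohB1.tensorMod L L', ?_, 𝔙, _, _, htm, ?_⟩
  · rw [PicGrp.mul_val, hL, hL', PicGrp.mulCl_cl]
  · have hu : unitsOf htm.isCocycle = fun k l =>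
        ur (inf_le_inf ((fun _ => inf_le_left : ∀ k : 𝔙.ι, 𝔙.W k ≤ 𝔘.W k.1) k)
          ((fun _ => inf_le_left : ∀ k : 𝔙.ι, 𝔙.W k ≤ 𝔘.W k.1) l))
            (unitsOf h.isCocycle k.1 l.1) *
        ur (inf_le_inf ((fun _ => inf_le_right : ∀ k : 𝔙.ι, 𝔙.W k ≤ 𝔘'.W k.2) k)
          ((fun _ => inf_le_right : ∀ k : 𝔙.ι, 𝔙.W k ≤ 𝔘'.W k.2) l))
            (unitsOf h'.isCocycle k.2 l.2) := by
      funext k l
      exact Units.ext rfl
    rw [hu]
    exact km

include hS in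
theorem rel_one_left [PicGrp.Law X] (a : PicLoc.PicSet X) (hr : Rel f g w hS a 0) : a = 1 := by
  obtain ⟨L, hL, 𝔘, c, β, h, hcls⟩ := hr
  have hcob := hcls.isCob f g w hS
  obtain ⟨e⟩ := nonempty_iso_of_isCob h hcob
  apply Subtype.ext
  rw [hL, PicGrp.one_val]
  exact (PicGrp.cl_eq_cl_iff _ _).2 ⟨e⟩

include hS in
theorem rel_one_right [PicGrp.Law X] (cl : EtCoh.H X (EtCoh.Gm X) 1)
    (hr : Rel f g w hS (1 : PicLoc.PicSet X) cl) : cl = 0 := by
  obtain ⟨L, hL, 𝔘, c, β, h, hcls⟩ := hr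
  rw [PicGrp.one_val] at hL
  obtain ⟨e⟩ := (PicGrp.cl_eq_cl_iff _ _).1 hL
  exact hcls.eq_zero_of_isCob f g w hS 𝔘.cov (isCob_of_iso h e)

include hS in
/-- **`Pic(X) ≃ H¹(X_et, G_m)`** -/
theorem nonempty_addEquiv [Injective I] [PicGrp.Law X] :
    Nonempty (Additive (PicLoc.PicSet X) ≃+ EtCoh.H X (EtCoh.Gm X) 1) :=
  nonempty_addEquiv_of_rel (Rel f g w hS) (rel_total f g w hS) (rel_surj f g w hS)
    (rel_mul f g w hS) (rel_one_left f g w hS) (rel_one_right f g w hS)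

end Groth.Agent.H69.EtPicGrp
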