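import Groth.Agent.H69.EtOpenGm
import Groth.Agent.H69.EtCechOpen
import Groth.Agent.H69.EtH90Hpull

/-!
# `H¹(X_et, G_m)` and Zariski cocycles of units (helper69)

For a short exact sequence `0 → G_m → I → Q → 0` with `I` injective:
* `exists_units_of_subsingleton`: if `H¹(X_et, G_m) = 0`, every Zariski 1-cocycle of units is a
  coboundary;
* `eq_zero_of_units`: a class in `H¹(X_et, G_m)` vanishes as soon as the Zariski cocycles of units
  (for covers indexed by the points of `X`) are coboundaries.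
-/

set_option autoImplicit false
set_option backward.isDefEq.respectTransparency.types false
universe u
open CategoryTheory CategoryTheory.Limits AlgebraicGeometry Opposite Abelian

namespace Groth.Agent.H69.EtPicH1

open Groth.Agent.H21.ConstSec Groth.Agent.H69.EtOpenSec Groth.Agent.H69.EtOpenGm
  Groth.Agent.H69.EtCechOpen Groth.Agent.H69.EtH90Local Groth.Agent.H69.EtH90Open
  Groth.Agent.H69.EtSecExact

variable {X : Scheme.{u}}

/-- restriction of units of rings of functions -/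
noncomputable abbrev ur {V U : X.Opens} (h : V ≤ U) : (Γ(X, U) : Type u)ˣ →* (Γ(X, V) : Type u)ˣ :=
  Units.map ((X.presheaf.map (homOfLE h).op).hom : (Γ(X, U) : Type u) →* (Γ(X, V) : Type u))

variable {I Q : EtCoh.Ab X} (f : EtCoh.Gm X ⟶ I) (g : I ⟶ Q) (w : f ≫ g = 0)
  (hS : (ShortComplex.mk f g w).ShortExact)

include hS in
/-- if `H¹(X_et, G_m) = 0`, global sections of `I → Q` are surjective -/
lemma gsec_surjective_of_subsingleton (hsub : Subsingleton (EtCoh.H X (EtCoh.Gm X) 1))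
    (q : Sec Q (EtCoh.top X)) : ∃ b : Sec I (EtCoh.top X), app g _ b = q := by
  let ψ := (homEquivGsec X Q).symm q
  have h0 : (Ext.mk₀ ψ).comp hS.extClass (zero_add 1) = 0 := @Subsingleton.elim _ hsub _ _
  obtain ⟨x₂, hx₂⟩ := Ext.covariant_sequence_exact₃ _ hS (Ext.mk₀ ψ) (zero_add 1) h0
  obtain ⟨χ, rfl⟩ := (Ext.mk₀_bijective _ _).2 x₂
  have hχ : χ ≫ g = ψ := by
    apply (Ext.mk₀_bijective _ _).1
    rw [← Ext.mk₀_comp_mk₀]
    exact hx₂
  refine ⟨homEquivGsec X I χ, ?_⟩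
  have h1 := homEquivGsec_comp X g χ
  rw [hχ, AddEquiv.apply_symm_apply] at h1
  exact h1.symm

include hS in
/-- if `H¹(X_et, G_m) = 0`, every Zariski 1-cocycle of units is a coboundary -/
theorem exists_units_of_subsingleton [Injective I]
    (hsub : Subsingleton (EtCoh.H X (EtCoh.Gm X) 1))
    {ι : Type u} (W : ι → X.Opens) (hcov : ∀ x : X, ∃ i, x ∈ W i)
    (c : ∀ i j, (Γ(X, W i ⊓ W j) : Type u)ˣ)
    (hc : ∀ (i j k : ι) (T : X.Opens) (hij : T ≤ W i ⊓ W j) (hjk : T ≤ W j ⊓ W k)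
      (hik : T ≤ W i ⊓ W k), ur hik (c i k) = ur hij (c i j) * ur hjk (c j k)) :
    ∃ r : ∀ i, (Γ(X, W i) : Type u)ˣ, ∀ i j,
      ur (inf_le_left : W i ⊓ W j ≤ W i) (r i) =
        ur (inf_le_right : W i ⊓ W j ≤ W j) (r j) * c i j := by
  let W' : ULift.{u + 1} ι → X.Opens := fun i => W i.down
  let θ : ∀ i j : ULift.{u + 1} ι, Sec I (oo (W' i ⊓ W' j)) :=
    fun i j => app f _ (gmOf _ (c i.down j.down))
  have hθ : ∀ (i j k : ULift.{u + 1} ι) (T : X.Opens) (hij : T ≤ W' i ⊓ W' j)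
      (hjk : T ≤ W' j ⊓ W' k) (hik : T ≤ W' i ⊓ W' k),
      rs I hik (θ i k) = rs I hij (θ i j) + rs I hjk (θ j k) := by
    intro i j k T hij hjk hik
    change rs I hik (app f _ (gmOf _ (c i.down k.down))) =
      rs I hij (app f _ (gmOf _ (c i.down j.down))) + rs I hjk (app f _ (gmOf _ (c j.down k.down)))
    rw [← app_rs, ← app_rs, ← app_rs, rs_gmOf, rs_gmOf, rs_gmOf, ← map_add, ← gmOf_mul]
    congr 2
    exact hc i.down j.down k.down T hij hjk hik
  obtain ⟨t, ht⟩ := exists_coboundary W' I θ hθ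
  have hcov' : ∀ x : X, ∃ i, x ∈ W' i := fun x => by
    obtain ⟨i, hi⟩ := hcov x
    exact ⟨⟨i⟩, hi⟩
  obtain ⟨q, hq⟩ := top_glue Q W' hcov' (fun i => app g _ (t i)) (by
    intro i j
    rw [← app_rs, ← app_rs]
    have h1 := congrArg (app g _) (ht i j)
    change app g _ (app f _ _) = _ at h1
    rw [app_g_f f g w, map_sub] at h1
    exact (sub_eq_zero.1 h1.symm).symm)
  obtain ⟨b, hb⟩ := gsec_surjective_of_subsingleton f g w hS hsub q
  have hker : ∀ i, app g _ (rt I (W' i) b - t i) = 0 := by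
    intro i
    rw [map_sub, app_rt, hb, hq, sub_self]
  choose ρ hρ using fun i => exists_of_app_g_eq_zero f g w hS _ _ (hker i)
  refine ⟨fun i => unitOf _ (ρ ⟨i⟩), fun i j => ?_⟩
  apply gmOf_injective
  rw [gmOf_mul, ← rs_gmOf, ← rs_gmOf, gmOf_unitOf, gmOf_unitOf]
  apply app_f_injective f g w hS
  rw [map_add, app_rs, app_rs, hρ, hρ, map_sub, map_sub, rs_rt, rs_rt]
  have h2 := ht ⟨i⟩ ⟨j⟩
  change app f _ (gmOf _ (c i j)) = _ at h2
  rw [h2]
  abel

include hS in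
/-- a class in `H¹(X_et, G_m)` vanishes if the Zariski cocycles of units are coboundaries -/
theorem eq_zero_of_units [Injective I] (cl : EtCoh.H X (EtCoh.Gm X) 1)
    (H : ∀ (W : X → X.Opens) (_ : ∀ x, x ∈ W x) (u : ∀ x y, (Γ(X, W x ⊓ W y) : Type u)ˣ),
      (∀ (x y z : X) (T : X.Opens) (hxy : T ≤ W x ⊓ W y) (hyz : T ≤ W y ⊓ W z)
        (hxz : T ≤ W x ⊓ W z), ur hxz (u x z) = ur hxy (u x y) * ur hyz (u y z)) →
      ∃ r : ∀ x, (Γ(X, W x) : Type u)ˣ, ∀ x y,
        ur (inf_le_left : W x ⊓ W y ≤ W x) (r x) =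
          ur (inf_le_right : W x ⊓ W y ≤ W y) (r y) * u x y) : cl = 0 := by
  have hx : cl.comp (Ext.mk₀ f) (add_zero 1) = 0 := Ext.eq_zero_of_injective _
  obtain ⟨x₃, hx₃⟩ := Ext.covariant_sequence_exact₁ _ hS cl hx (zero_add 1)
  obtain ⟨ψ, rfl⟩ := (Ext.mk₀_bijective _ _).2 x₃
  let q : Sec Q (EtCoh.top X) := homEquivGsec X Q ψ
  choose W hW b hb using exists_open_lift f g w hS q
  have hcov : ∀ x : X, ∃ i, x ∈ W i := fun x => ⟨x, hW x⟩
  have hker : ∀ x y, app g _ (rs I (inf_le_left : W x ⊓ W y ≤ W x) (b x) -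
      rs I (inf_le_right : W x ⊓ W y ≤ W y) (b y)) = 0 := by
    intro x y
    rw [map_sub, app_rs, app_rs, hb, hb]
    change rs Q _ (rt Q _ q) - rs Q _ (rt Q _ q) = 0
    rw [rs_rt, rs_rt, sub_self]
  choose γ hγ using fun x y => exists_of_app_g_eq_zero f g w hS _ _ (hker x y)
  let u : ∀ x y, (Γ(X, W x ⊓ W y) : Type u)ˣ := fun x y => unitOf _ (γ x y)
  have hu : ∀ (x y z : X) (T : X.Opens) (hxy : T ≤ W x ⊓ W y) (hyz : T ≤ W y ⊓ W z)
      (hxz : T ≤ W x ⊓ W z), ur hxz (u x z) = ur hxy (u x y) * ur hyz (u y z) := by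
    intro x y z T hxy hyz hxz
    apply gmOf_injective
    rw [gmOf_mul, ← rs_gmOf, ← rs_gmOf, ← rs_gmOf, gmOf_unitOf, gmOf_unitOf, gmOf_unitOf]
    apply app_f_injective f g w hS
    rw [map_add, app_rs, app_rs, app_rs, hγ, hγ, hγ, map_sub, map_sub, map_sub, rs_rs, rs_rs,
      rs_rs, rs_rs, rs_rs, rs_rs]
    abel
  obtain ⟨r, hr⟩ := H W hW u hu
  obtain ⟨b', hb'⟩ := top_glue I W hcov (fun x => b x - app f _ (gmOf _ (r x))) (by
    intro x y
    rw [map_sub, map_sub, ← app_rs, ← app_rs, rs_gmOf, rs_gmOf, hr x y, gmOf_mul, map_add]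
    have h1 : app f _ (gmOf _ (u x y)) = rs I (inf_le_left : W x ⊓ W y ≤ W x) (b x) -
        rs I (inf_le_right : W x ⊓ W y ≤ W y) (b y) := by
      change app f _ (gmOf _ (unitOf _ (γ x y))) = _
      rw [gmOf_unitOf]
      exact hγ x y
    rw [h1]
    abel)
  have hgb' : app g _ b' = q := by
    apply top_ext Q W hcov
    intro x
    rw [← app_rt, hb', map_sub, app_g_f f g w, sub_zero, hb]
  let χ := (homEquivGsec X I).symm b'
  have hχ : χ ≫ g = ψ := by
    apply (homEquivGsec X Q).injective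
    rw [homEquivGsec_comp, AddEquiv.apply_symm_apply]
    exact hgb'
  rw [← hx₃]
  change (Ext.mk₀ ψ).comp hS.extClass (zero_add 1) = 0
  rw [← hχ, ← Ext.mk₀_comp_mk₀, Ext.comp_assoc_of_second_deg_zero]
  have h9 : (Ext.mk₀ g).comp hS.extClass (zero_add 1) = 0 := hS.comp_extClass
  rw [h9, Ext.comp_zero]

end Groth.Agent.H69.EtPicH1
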