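import Groth.Agent.H69.EtSecExact
import Groth.Agent.H7.StrictHenselSection

/-!
# Étale covers of a strictly henselian local scheme have sections (helper69)
-/

set_option autoImplicit false
universe u
open CategoryTheory CategoryTheory.Limits AlgebraicGeometry Opposite

namespace Groth.Agent.H69.EtSecHensel

set_option backward.isDefEq.respectTransparency.types false in
/-- Every covering sieve of `Spec R` (`R` strictly henselian) in the small étale site contains an
arrow with a section. -/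
theorem exists_section_of_mem (R : Type u) [CommRing R] [HenselianLocalRing R]
    [IsSepClosed (IsLocalRing.ResidueField R)]
    (S : Sieve (EtCoh.top (Spec (CommRingCat.of R))))
    (hS : S ∈ (Spec (CommRingCat.of R)).smallEtaleTopology (EtCoh.top (Spec (CommRingCat.of R)))) :
    ∃ (U : (Spec (CommRingCat.of R)).Etale) (f : U ⟶ EtCoh.top (Spec (CommRingCat.of R)))
      (_ : EtCoh.top (Spec (CommRingCat.of R)) ⟶ U), S f := by
  obtain ⟨𝒰, h, hP, le⟩ := (Scheme.mem_smallGrothendieckTopology _ _).1 hS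
  obtain ⟨i, y, hy⟩ := 𝒰.exists_eq (IsLocalRing.closedPoint R)
  have hsec := (Groth.Agent.H7.henselian_and_isSepClosed_iff_etale_sections R).1
    ⟨inferInstance, inferInstance⟩
  have het : Etale (𝒰.f i) := 𝒰.map_prop i
  obtain ⟨σ, hσ, -⟩ := hsec (𝒰.X i) (𝒰.f i) het y hy
  have hover : 𝒰.f i ≫ (EtCoh.top (Spec (CommRingCat.of R))).hom =
      𝒰.X i ↘ Spec (CommRingCat.of R) :=
    HomIsOver.comp_over (f := 𝒰.f i) (S := Spec (CommRingCat.of R))
  refine ⟨(𝒰.X i).asOverProp _ (hP i), MorphismProperty.Over.homMk (𝒰.f i),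
    MorphismProperty.Over.homMk σ ?_, le _ _ ⟨i⟩⟩
  change σ ≫ (𝒰.X i ↘ Spec (CommRingCat.of R)) = 𝟙 _
  have key : ∀ {A B : Scheme.{u}} (a : A ⟶ B) (b c : B ⟶ A) (d : A ⟶ A), a ≫ b = 𝟙 A → b ≫ d = c →
      d = 𝟙 A → a ≫ c = 𝟙 A := by
    intro A B a b c d h1 h2 h3
    subst h2 h3
    rw [Category.comp_id, h1]
  exact key σ (𝒰.f i) _ _ hσ hover rfl

end Groth.Agent.H69.EtSecHensel
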