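import Groth.Prelude.Def_EtCore
import Mathlib.AlgebraicGeometry.Sites.EtalePoint

/-!
# The small étale site of a separably closed field is a point (helper69)

For `k` separably closed and `X = Spec k`: every point of an étale `X`-scheme `U` is the image of
a section `X ⟶ U`, every covering sieve of `U` contains all sections, and consequently global
sections is an equivalence from sheaves of sets on `X_et` to sets.
-/

set_option autoImplicit false
universe u
open CategoryTheory CategoryTheory.Limits AlgebraicGeometry Opposite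

namespace Groth.Agent.H69.EtSepClosedPt

variable (k : Type u) [Field k] [IsSepClosed k]

local notation "X" => Spec (CommRingCat.of k)
local notation "T" => EtCoh.top (Spec (CommRingCat.of k))

set_option backward.isDefEq.respectTransparency.types false in
/-- every point of an étale `Spec k`-scheme is the image of a section -/
theorem exists_pt (U : (Spec (CommRingCat.of k)).Etale) (u : U.left) :
    ∃ p : T ⟶ U, p.left (default : Spec (CommRingCat.of k)) = u := by
  have hsub : Subsingleton (Spec (CommRingCat.of k)) :=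
    (inferInstance : Subsingleton (PrimeSpectrum k))
  obtain ⟨l, hl, hlu⟩ := Scheme.exists_fac_of_etale_of_isSepClosed U.hom (𝟙 X) u
    (hsub.elim _ _)
  exact ⟨MorphismProperty.Over.homMk l hl, hlu⟩

set_option backward.isDefEq.respectTransparency.types false in
/-- every covering sieve of `U` contains every section `Spec k ⟶ U` -/
theorem mem_of_covering {U : (Spec (CommRingCat.of k)).Etale} (S : Sieve U)
    (hS : S ∈ (Spec (CommRingCat.of k)).smallEtaleTopology U) (p : T ⟶ U) : S p := by
  have hp : S.pullback p ∈ (Spec (CommRingCat.of k)).smallEtaleTopology T :=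
    GrothendieckTopology.pullback_stable _ p hS
  obtain ⟨𝒰, h, hP, le⟩ := (Scheme.mem_smallGrothendieckTopology _ _).1 hp
  obtain ⟨i, y, hy⟩ := 𝒰.exists_eq (default : Spec (CommRingCat.of k))
  have hover : 𝒰.f i ≫ (T).hom = 𝒰.X i ↘ X := HomIsOver.comp_over (f := 𝒰.f i) (S := X)
  have hf : (S.pullback p) (MorphismProperty.Over.homMk (𝒰.f i) hover :
      (𝒰.X i).asOverProp X (hP i) ⟶ T) := le _ _ ⟨i⟩
  obtain ⟨σ, -⟩ := exists_pt k ((𝒰.X i).asOverProp X (hP i)) y
  have h1 := (S.pullback p).downward_closed hf σ
  have h2 : σ ≫ (MorphismProperty.Over.homMk (𝒰.f i) hover :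
      (𝒰.X i).asOverProp X (hP i) ⟶ T) = 𝟙 T := (EtCore.topIsTerminal X).hom_ext _ _
  have h3 : (S.pullback p) (𝟙 T) := h2 ▸ h1
  simpa using h3

/-- the family of all sections of `U` is a covering family -/
theorem ofArrows_pts_mem (U : (Spec (CommRingCat.of k)).Etale) :
    Sieve.ofArrows (fun _ : (T ⟶ U) => T) (fun p => p) ∈
      (Spec (CommRingCat.of k)).smallEtaleTopology U := by
  rw [Scheme.ofArrows_mem_smallEtaleTopology_iff]
  ext u
  simp only [Set.mem_iUnion, Set.mem_range, Set.mem_univ, iff_true]
  obtain ⟨p, hp⟩ := exists_pt k U u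
  exact ⟨p, (default : Spec (CommRingCat.of k)), hp⟩

variable {k}

omit [IsSepClosed k] in
lemma isSheaf_type (F : Sheaf (Spec (CommRingCat.of k)).smallEtaleTopology (Type (u+1))) :
    Presieve.IsSheaf (Spec (CommRingCat.of k)).smallEtaleTopology F.obj :=
  (isSheaf_iff_isSheaf_of_type _ _).1 F.property

/-- sections of a sheaf of sets are determined by their values at the sections `Spec k ⟶ U` -/
theorem ext_pts (F : Sheaf (Spec (CommRingCat.of k)).smallEtaleTopology (Type (u+1)))
    (U : (Spec (CommRingCat.of k)).Etale) (s t : F.obj.obj (op U))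
    (h : ∀ p : T ⟶ U, F.obj.map p.op s = F.obj.map p.op t) : s = t := by
  have hfor := (isSheaf_type F) _ (ofArrows_pts_mem k U)
  rw [Sieve.ofArrows, ← Presieve.isSheafFor_iff_generate, Presieve.isSheafFor_arrows_iff] at hfor
  obtain ⟨t', -, ht'⟩ := hfor (fun p => F.obj.map p.op t) (by
    intro p p' Y g g' hgg
    change F.obj.map g.op (F.obj.map p.op t) = F.obj.map g'.op (F.obj.map p'.op t)
    have h1 : ∀ (q : T ⟶ U) (r : Y ⟶ T), F.obj.map r.op (F.obj.map q.op t) =
        F.obj.map (r ≫ q).op t := by
      intro q r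
      rw [op_comp, F.obj.map_comp]
      rfl
    rw [h1, h1, hgg])
  rw [ht' s (fun p => h p), ht' t (fun p => rfl)]

omit [IsSepClosed k] in
/-- sections over an empty object are unique -/
theorem subsingleton_of_isEmpty
    (F : Sheaf (Spec (CommRingCat.of k)).smallEtaleTopology (Type (u+1)))
    (Y : (Spec (CommRingCat.of k)).Etale) [IsEmpty Y.left] (s t : F.obj.obj (op Y)) : s = t := by
  have hmem : Sieve.ofArrows (fun i : PEmpty.{1} => (i.elim : (Spec (CommRingCat.of k)).Etale))
      (fun i => (i.elim : _ ⟶ Y)) ∈ (Spec (CommRingCat.of k)).smallEtaleTopology Y := by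
    rw [Scheme.ofArrows_mem_smallEtaleTopology_iff]
    ext w
    exact (IsEmpty.false w).elim
  have hfor := (isSheaf_type F) _ hmem
  rw [Sieve.ofArrows, ← Presieve.isSheafFor_iff_generate, Presieve.isSheafFor_arrows_iff] at hfor
  obtain ⟨t', -, ht'⟩ := hfor (fun i => i.elim) (fun i => i.elim)
  rw [ht' s (fun i => i.elim), ht' t (fun i => i.elim)]

/-- any family of elements of `F(Spec k)` indexed by the sections of `U` glues to a section of `F`
over `U` -/
theorem glue_pts (F : Sheaf (Spec (CommRingCat.of k)).smallEtaleTopology (Type (u+1)))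
    (U : (Spec (CommRingCat.of k)).Etale) (x : (T ⟶ U) → F.obj.obj (op T)) :
    ∃ s : F.obj.obj (op U), ∀ p : T ⟶ U, F.obj.map p.op s = x p := by
  have hfor := (isSheaf_type F) _ (ofArrows_pts_mem k U)
  rw [Sieve.ofArrows, ← Presieve.isSheafFor_iff_generate, Presieve.isSheafFor_arrows_iff] at hfor
  obtain ⟨s, hs, -⟩ := hfor x (by
    intro p p' Y g g' hgg
    have hg : g = g' := (EtCore.topIsTerminal X).hom_ext _ _
    subst hg
    by_cases hY : IsEmpty Y.left
    · exact subsingleton_of_isEmpty F Y _ _
    · rw [not_isEmpty_iff] at hY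
      obtain ⟨y⟩ := hY
      obtain ⟨r, -⟩ := exists_pt k Y y
      have hr : r ≫ g = 𝟙 T := (EtCore.topIsTerminal X).hom_ext _ _
      have hpp : p = p' := by
        calc p = (r ≫ g) ≫ p := by rw [hr, Category.id_comp]
          _ = r ≫ (g ≫ p') := by rw [Category.assoc, hgg]
          _ = p' := by rw [← Category.assoc, hr, Category.id_comp]
      rw [hpp])
  exact ⟨s, hs⟩

variable (k)

/-- the global sections functor -/
noncomputable abbrev Γ : Sheaf (Spec (CommRingCat.of k)).smallEtaleTopology (Type (u+1)) ⥤
    Type (u+1) :=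
  (sheafSections (Spec (CommRingCat.of k)).smallEtaleTopology (Type (u + 1))).obj (op T)

theorem faithful_Γ : (Γ k).Faithful where
  map_injective {F G} α β h := by
    apply Sheaf.hom_ext
    ext ⟨U⟩ s
    apply ext_pts G U
    intro p
    have h1 : α.hom.app (op T) (F.obj.map p.op s) = G.obj.map p.op (α.hom.app (op U) s) :=
      congr($(α.hom.naturality p.op) s)
    have h2 : β.hom.app (op T) (F.obj.map p.op s) = G.obj.map p.op (β.hom.app (op U) s) :=
      congr($(β.hom.naturality p.op) s)
    have h3 : α.hom.app (op T) = β.hom.app (op T) := h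
    have h4 : α.hom.app (op T) (F.obj.map p.op s) = β.hom.app (op T) (F.obj.map p.op s) := by
      rw [h3]
    exact h1.symm.trans (h4.trans h2)

theorem full_Γ : (Γ k).Full where
  map_surjective {F G} φ := by
    choose a ha using fun (U : (Spec (CommRingCat.of k)).Etale) (s : F.obj.obj (op U)) =>
      glue_pts G U (fun p => φ (F.obj.map p.op s))
    have hnat : ∀ {U V : (Spec (CommRingCat.of k)).Etale} (h : V ⟶ U) (s : F.obj.obj (op U)),
        G.obj.map h.op (a U s) = a V (F.obj.map h.op s) := by
      intro U V h s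
      apply ext_pts G V
      intro p
      rw [ha V (F.obj.map h.op s) p]
      have e1 : G.obj.map p.op (G.obj.map h.op (a U s)) = G.obj.map (p ≫ h).op (a U s) := by
        rw [op_comp, G.obj.map_comp]; rfl
      have e2 : F.obj.map p.op (F.obj.map h.op s) = F.obj.map (p ≫ h).op s := by
        rw [op_comp, F.obj.map_comp]; rfl
      rw [e1, e2, ha U s (p ≫ h)]
    let α : F.obj ⟶ G.obj :=
      { app := fun U => TypeCat.ofHom (a U.unop)
        naturality := by
          intro U V h
          ext s
          exact (hnat h.unop s).symm }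
    refine ⟨ObjectProperty.homMk α, ?_⟩
    ext s
    have h1 := ha T s (𝟙 T)
    simp only [op_id, Functor.map_id_apply] at h1
    exact h1

/-- the presheaf `U ↦ (sections of U → M)` -/
noncomputable def ptPresheaf (M : Type (u+1)) :
    (Spec (CommRingCat.of k)).Etaleᵒᵖ ⥤ Type (u+1) where
  obj U := (T ⟶ U.unop) → M
  map h := TypeCat.ofHom (fun t p => t (p ≫ h.unop))
  map_id U := by
    ext t p
    change t (p ≫ 𝟙 _) = t p
    rw [Category.comp_id]
  map_comp f g := by
    ext t p
    change t (p ≫ (g.unop ≫ f.unop)) = t ((p ≫ g.unop) ≫ f.unop)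
    rw [Category.assoc]

theorem ptPresheaf_isSheaf (M : Type (u+1)) :
    Presheaf.IsSheaf (Spec (CommRingCat.of k)).smallEtaleTopology (ptPresheaf k M) := by
  rw [isSheaf_iff_isSheaf_of_type]
  intro U S hS x hx
  refine ⟨fun p => x p (mem_of_covering k S hS p) (𝟙 T), ?_, ?_⟩
  · intro Y f hf
    funext r
    change x (r ≫ f) _ (𝟙 T) = x f hf r
    have h1 := Presieve.FamilyOfElements.comp_of_compatible S hx hf r
    rw [h1]
    change x f hf (𝟙 T ≫ r) = x f hf r
    rw [Category.id_comp]
  · intro t' ht'
    funext p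
    have h1 := ht' p (mem_of_covering k S hS p)
    have h2 : t' p = (ptPresheaf k M).map p.op t' (𝟙 T) := by
      change t' p = t' (𝟙 T ≫ p)
      rw [Category.id_comp]
    rw [h2, h1]

theorem essSurj_Γ : (Γ k).EssSurj where
  mem_essImage M := by
    refine ⟨⟨ptPresheaf k M, ptPresheaf_isSheaf k M⟩, ⟨?_⟩⟩
    have : Unique (T ⟶ T) := ⟨⟨𝟙 T⟩, fun f => (EtCore.topIsTerminal X).hom_ext _ _⟩
    exact (Equiv.funUnique (T ⟶ T) M).toIso

theorem isEquivalence_Γ : (Γ k).IsEquivalence where
  faithful := faithful_Γ k
  full := full_Γ k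
  essSurj := essSurj_Γ k

end Groth.Agent.H69.EtSepClosedPt
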