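import Groth.Agent.H69.EtSecHensel
import Mathlib.AlgebraicGeometry.Sites.EtalePoint

/-!
# Global sections versus the stalk at the closed geometric point, strictly henselian case (helper69)
-/

set_option autoImplicit false
universe u
open CategoryTheory CategoryTheory.Limits AlgebraicGeometry Opposite

namespace Groth.Agent.H69.EtStalkHensel

/-- Two morphisms `Spec K ⟶ U` over `X` through the same point `y` agree as soon as the residue
field map of `U ⟶ X` at `y` is surjective. -/
theorem specHom_ext {U X : Scheme.{u}} (f : U ⟶ X) {K : Type u} [Field K]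
    (a b : Spec (CommRingCat.of K) ⟶ U) (hab : a ≫ f = b ≫ f)
    (pt : Spec (CommRingCat.of K)) (y : U) (ha : a pt = y) (hb : b pt = y)
    (hsurj : Function.Surjective (f.residueFieldMap y).hom) : a = b := by
  obtain ⟨⟨ya, α⟩, rfl⟩ := (Scheme.SpecToEquivOfField K U).symm.surjective a
  obtain ⟨⟨yb, β⟩, rfl⟩ := (Scheme.SpecToEquivOfField K U).symm.surjective b
  have hya : ya = y := by
    rw [← ha]
    change ya = (Spec.map α ≫ U.fromSpecResidueField ya) pt
    rw [Scheme.Hom.comp_apply]
    exact (Scheme.fromSpecResidueField_apply _ _).symm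
  have hyb : yb = y := by
    rw [← hb]
    change yb = (Spec.map β ≫ U.fromSpecResidueField yb) pt
    rw [Scheme.Hom.comp_apply]
    exact (Scheme.fromSpecResidueField_apply _ _).symm
  clear ha hb
  subst hya
  subst hyb
  simp only [Scheme.SpecToEquivOfField_symm_apply, Category.assoc] at hab ⊢
  rw [← Scheme.Hom.SpecMap_residueFieldMap_fromSpecResidueField, ← Spec.map_comp_assoc,
    ← Spec.map_comp_assoc, cancel_mono, Spec.map_inj] at hab
  have : α = β := by
    ext x
    obtain ⟨x', rfl⟩ := hsurj x
    exact congr($hab x')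
  rw [this]

variable (R : Type u) [CommRing R] [HenselianLocalRing R]
  [IsSepClosed (IsLocalRing.ResidueField R)]

/-- the closed geometric point of `Spec R` -/
noncomputable abbrev ξ₀ : Spec (CommRingCat.of (IsLocalRing.ResidueField R)) ⟶
    Spec (CommRingCat.of R) :=
  Spec.map (CommRingCat.ofHom (IsLocalRing.residue R))

/-- the tautological element of the fibre of the terminal object -/
noncomputable abbrev x₀ : (Scheme.pointSmallEtale (ξ₀ R)).fiber.obj
    (EtCoh.top (Spec (CommRingCat.of R))) :=
  Over.homMk (ξ₀ R) (Category.comp_id _)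

/-- Over a strictly henselian local ring, every lift of the closed geometric point to an étale
scheme extends to a section. -/
theorem exists_section_comp_eq {V : Scheme.{u}} (f : V ⟶ Spec (CommRingCat.of R)) [Etale f]
    (a : Spec (CommRingCat.of (IsLocalRing.ResidueField R)) ⟶ V) (ha : a ≫ f = ξ₀ R) :
    ∃ σ₀ : Spec (CommRingCat.of R) ⟶ V, σ₀ ≫ f = 𝟙 _ ∧ ξ₀ R ≫ σ₀ = a := by
  let pt : Spec (CommRingCat.of (IsLocalRing.ResidueField R)) := default
  obtain ⟨c, hc⟩ : ∃ c : Spec (CommRingCat.of R), c = IsLocalRing.closedPoint R := ⟨_, rfl⟩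
  have hpt : (ξ₀ R) pt = c :=
    (IsLocalRing.PrimeSpectrum.comap_residue R pt).trans hc.symm
  have hy : f (a pt) = IsLocalRing.closedPoint R := by
    rw [← Scheme.Hom.comp_apply, ha, hpt, hc]
  have hsec := (Groth.Agent.H7.henselian_and_isSepClosed_iff_etale_sections R).1
    ⟨inferInstance, inferInstance⟩
  obtain ⟨σ₀, hσ₀, hσ₀y⟩ := hsec V f inferInstance (a pt) hy
  rw [← hc] at hσ₀y
  -- the residue field map of `f` at `σ₀ c` is surjective
  have hsurj' : Function.Surjective (f.residueFieldMap (σ₀ c)).hom := by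
    have h1 := Scheme.Hom.residueFieldMap_congr hσ₀ c
    rw [Scheme.residueFieldMap_comp, Scheme.residueFieldMap_id] at h1
    have hbij : Function.Bijective
        (f.residueFieldMap (σ₀ c) ≫ σ₀.residueFieldMap c).hom := by
      rw [h1]
      have key : ∀ {A B C : CommRingCat.{u}} (i : A ≅ B) (j : B ⟶ C), IsIso j →
          Function.Bijective (i.hom ≫ j).hom := by
        intro A B C i j hj
        exact ConcreteCategory.bijective_of_isIso _
      exact key _ _ (IsIso.id _)
    have hinj : Function.Injective (σ₀.residueFieldMap c).hom :=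
      RingHom.injective _
    intro z
    obtain ⟨w, hw⟩ := hbij.2 ((σ₀.residueFieldMap c).hom z)
    exact ⟨w, hinj hw⟩
  have hsurj : Function.Surjective (f.residueFieldMap (a pt)).hom := by
    have key : ∀ (y' y : V) (_ : y' = y), Function.Surjective (f.residueFieldMap y').hom →
        Function.Surjective (f.residueFieldMap y).hom := by
      intro y' y h; subst h; exact id
    exact key _ _ hσ₀y hsurj'
  refine ⟨σ₀, hσ₀, ?_⟩
  refine specHom_ext f (ξ₀ R ≫ σ₀) a ?_ pt (a pt) ?_ rfl hsurj
  · rw [Category.assoc, hσ₀, Category.comp_id, ha]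
  · rw [Scheme.Hom.comp_apply, hpt, hσ₀y]

set_option backward.isDefEq.respectTransparency.types false in
/-- `(Spec R, x₀)` is weakly initial among pointed étale neighbourhoods -/
theorem exists_hom_fiber_eq (U : (Spec (CommRingCat.of R)).Etale)
    (u : (Scheme.pointSmallEtale (ξ₀ R)).fiber.obj U) :
    ∃ σ : EtCoh.top (Spec (CommRingCat.of R)) ⟶ U,
      (Scheme.pointSmallEtale (ξ₀ R)).fiber.map σ (x₀ R) = u := by
  have hu : u.left ≫ U.hom = ξ₀ R := CategoryTheory.Over.w u
  obtain ⟨σ₀, hσ₀, hσ₀a⟩ := exists_section_comp_eq R U.hom u.left hu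
  refine ⟨MorphismProperty.Over.homMk σ₀ hσ₀, ?_⟩
  apply Over.OverMorphism.ext
  exact hσ₀a

universe u' v' w'

variable {A : Type u'} [Category.{v'} A] [HasColimitsOfSize.{u, u} A]
  {FC : A → A → Type*} {CC : A → Type w'} [∀ X Y : A, FunLike (FC X Y) (CC X) (CC Y)]
  [ConcreteCategory.{w'} A FC] [PreservesFilteredColimitsOfSize.{u, u} (forget A)]

/-- For a strictly henselian local ring, sections over `Spec R` of any presheaf on the small étale
site map bijectively onto the fibre at the closed geometric point. -/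
theorem toPresheafFiber_bijective (P : (Spec (CommRingCat.of R)).Etaleᵒᵖ ⥤ A) :
    Function.Bijective ((Scheme.pointSmallEtale (ξ₀ R)).toPresheafFiber
      (EtCoh.top (Spec (CommRingCat.of R))) (x₀ R) P) := by
  constructor
  · intro z₁ z₂ h
    rw [GrothendieckTopology.Point.toPresheafFiber_eq_iff'] at h
    obtain ⟨Y, f, y, -, hf⟩ := h
    obtain ⟨σ, -⟩ := exists_hom_fiber_eq R Y y
    have hσf : σ ≫ f = 𝟙 _ := (EtCore.topIsTerminal _).hom_ext _ _
    have h1 : ∀ z, P.map σ.op (P.map f.op z) = z := by
      intro z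
      rw [← ConcreteCategory.comp_apply, ← P.map_comp, ← op_comp, hσf]
      simp
    rw [← h1 z₁, hf, h1 z₂]
  · intro p
    obtain ⟨U, u, z, rfl⟩ :=
      (Scheme.pointSmallEtale (ξ₀ R)).toPresheafFiber_jointly_surjective p
    obtain ⟨σ, hσ⟩ := exists_hom_fiber_eq R U u
    refine ⟨P.map σ.op z, ?_⟩
    rw [← hσ]
    exact (Scheme.pointSmallEtale (ξ₀ R)).toPresheafFiber_w_apply σ (x₀ R) P z

end Groth.Agent.H69.EtStalkHensel
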