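import Groth.Agent.H69.EtStalkHensel
import Groth.Agent.H4.StalkPullSh

/-!
# The fibre functor at the closed geometric point of a strictly henselian local scheme is global
sections; fibre functors through strict localisations (helper69)
-/

set_option autoImplicit false
set_option backward.isDefEq.respectTransparency.types false
universe u
open CategoryTheory CategoryTheory.Limits AlgebraicGeometry Opposite

namespace Groth.Agent.H69.EtStalkHenselIso

open Groth.Agent.H69.EtStalkHensel Groth.Agent.H4.StalkPullSh

variable (R : Type u) [CommRing R] [HenselianLocalRing R]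
  [IsSepClosed (IsLocalRing.ResidueField R)]

/-- global sections ⟶ fibre at the closed geometric point, as a natural transformation -/
noncomputable def sectionsToFiber :
    (sheafSections (Spec (CommRingCat.of R)).smallEtaleTopology (Type (u + 1))).obj
      (op (EtCoh.top (Spec (CommRingCat.of R)))) ⟶
    (Scheme.pointSmallEtale (ξ₀ R)).sheafFiber (A := Type (u + 1)) :=
  Functor.whiskerLeft (sheafToPresheaf _ _)
    ((Scheme.pointSmallEtale (ξ₀ R)).toPresheafFiberNatTrans
      (EtCoh.top (Spec (CommRingCat.of R))) (x₀ R))

instance : IsIso (sectionsToFiber R) := by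
  rw [NatTrans.isIso_iff_isIso_app]
  intro F
  rw [isIso_iff_bijective]
  exact toPresheafFiber_bijective R F.obj

/-- the fibre functor at the closed geometric point is the global sections functor -/
noncomputable def sectionsIsoFiber :
    (sheafSections (Spec (CommRingCat.of R)).smallEtaleTopology (Type (u + 1))).obj
      (op (EtCoh.top (Spec (CommRingCat.of R)))) ≅
    (Scheme.pointSmallEtale (ξ₀ R)).sheafFiber (A := Type (u + 1)) :=
  asIso (sectionsToFiber R)

/-- fibre functor at a geometric point factoring through a strictly henselian local scheme -/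
theorem nonempty_fiber_iso {X : Scheme.{u}} (f : Spec (CommRingCat.of R) ⟶ X) :
    Nonempty ((Scheme.pointSmallEtale (ξ₀ R ≫ f)).sheafFiber (A := Type (u + 1)) ≅
      EtDesc.pullSh f ⋙
        (sheafSections (Spec (CommRingCat.of R)).smallEtaleTopology (Type (u + 1))).obj
          (op (EtCoh.top (Spec (CommRingCat.of R))))) :=
  ⟨stalkPullIsoSh f (ξ₀ R) ≪≫ Functor.isoWhiskerLeft (EtDesc.pullSh f) (sectionsIsoFiber R).symm⟩

end Groth.Agent.H69.EtStalkHenselIso
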