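import Groth.Agent.H69.EtaSpec
import Mathlib.RingTheory.SurjectiveOnStalks

set_option autoImplicit false
universe u

namespace Groth.Agent.H69

open EtaPt EtaPt.FieldEndo

variable (η : FieldEndo.{u})

section

variable {A B : Type u} [CommRing A] [CommRing B]

theorem map_resMap_bijective_of_surjectiveOnStalks (f : A →+* B) (hf : f.SurjectiveOnStalks)
    (q : PrimeSpectrum B) : Function.Bijective (η.map (resMap f q)) :=
  map_bijective_of_bijective η _ (hf.residueFieldMap_bijective _ _ rfl)

theorem Nmap_surjective_of_surjectiveOnStalks (f : A →+* B) (hf : f.SurjectiveOnStalks)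
    (hinj : Function.Injective (PrimeSpectrum.comap f)) : Function.Surjective (η.Nmap f) :=
  Nmap_surjective_of η f hinj fun q => (map_resMap_bijective_of_surjectiveOnStalks η f hf q).2

/-- A ring hom from a product to a domain factors through one of the projections. -/
theorem exists_factor_fst_or_snd {R : Type*} [CommRing R] [IsDomain R] (g : A × B →+* R) :
    (∃ g₁ : A →+* R, g = g₁.comp (RingHom.fst A B)) ∨
      (∃ g₂ : B →+* R, g = g₂.comp (RingHom.snd A B)) := by
  have h0 : g (1, 0) * g (0, 1) = 0 := by
    rw [← map_mul]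
    have : ((1, 0) : A × B) * (0, 1) = 0 := by ext <;> simp
    rw [this, map_zero]
  have h1 : g (1, 0) + g (0, 1) = 1 := by
    rw [← map_add]
    have : ((1, 0) : A × B) + (0, 1) = 1 := by ext <;> simp
    rw [this, map_one]
  rcases mul_eq_zero.1 h0 with h | h
  · right
    have h1' : g (0, 1) = 1 := by rw [h, zero_add] at h1; exact h1
    refine ⟨{ toFun := fun b => g (0, b)
              map_one' := h1'
              map_mul' := fun a b => by rw [← map_mul]; simp
              map_zero' := by
                show g (0, 0) = 0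
                exact map_zero g
              map_add' := fun a b => by rw [← map_add]; simp }, ?_⟩
    apply RingHom.ext
    rintro ⟨a, b⟩
    show g (a, b) = g (0, b)
    have : ((a, b) : A × B) = (1, 0) * (a, 0) + (0, b) := by simp
    rw [this, map_add, map_mul, h, zero_mul, zero_add]
  · left
    have h1' : g (1, 0) = 1 := by rw [h, add_zero] at h1; exact h1
    refine ⟨{ toFun := fun a => g (a, 0)
              map_one' := h1'
              map_mul' := fun a b => by rw [← map_mul]; simp
              map_zero' := by
                show g (0, 0) = 0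
                exact map_zero g
              map_add' := fun a b => by rw [← map_add]; simp }, ?_⟩
    apply RingHom.ext
    rintro ⟨a, b⟩
    show g (a, b) = g (a, 0)
    have : ((a, b) : A × B) = (a, 0) + (0, 1) * (0, b) := by simp
    rw [this, map_add, map_mul, h, zero_mul, add_zero]

/-- Every prime of a product is pulled back from a factor. -/
theorem exists_comap_fst_or_snd (P : PrimeSpectrum (A × B)) :
    (∃ p : PrimeSpectrum A, PrimeSpectrum.comap (RingHom.fst A B) p = P) ∨
      (∃ q : PrimeSpectrum B, PrimeSpectrum.comap (RingHom.snd A B) q = P) := by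
  rcases (Ideal.ideal_prod_prime P.asIdeal).1 P.isPrime with ⟨p, hp, h⟩ | ⟨q, hq, h⟩
  · left
    refine ⟨⟨p, hp⟩, PrimeSpectrum.ext ?_⟩
    rw [h]
    ext ⟨a, b⟩
    simp [Ideal.mem_prod, Ideal.mem_comap]
  · right
    refine ⟨⟨q, hq⟩, PrimeSpectrum.ext ?_⟩
    rw [h]
    ext ⟨a, b⟩
    simp [Ideal.mem_prod, Ideal.mem_comap]

theorem comap_fst_ne_comap_snd (p : PrimeSpectrum A) (q : PrimeSpectrum B) :
    PrimeSpectrum.comap (RingHom.fst A B) p ≠ PrimeSpectrum.comap (RingHom.snd A B) q := by
  intro h
  have h1 : ((0, 1) : A × B) ∈ (PrimeSpectrum.comap (RingHom.fst A B) p).asIdeal := by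
    show (0 : A) ∈ p.asIdeal
    exact zero_mem _
  rw [h] at h1
  have h2 : (1 : B) ∈ q.asIdeal := h1
  exact q.isPrime.ne_top ((Ideal.eq_top_iff_one _).2 h2)

end

end Groth.Agent.H69
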