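import Groth.Agent.H69.EtaDescent
import Groth.Agent.H69.EtaProd
import Mathlib.RingTheory.Spectrum.Prime.Topology

set_option autoImplicit false
universe u

namespace Groth.Agent.H69

open EtaPt EtaPt.FieldEndo

variable (η : FieldEndo.{u})

section

variable {A : Type u} [CommRing A]

/-- Key lemma for the localization of `M`: an element of `N A` whose restriction to `D(f)` lies in
`M (A_f)` and is integral over `A` becomes an element of `M A` after multiplication by `f`. -/
theorem mul_mem_M_of_away (f : A) (z' : η.N A)
    (h1 : η.Nmap (algebraMap A (Localization.Away f)) z' ∈ η.M (Localization.Away f))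
    (H : Polynomial A) (hH : H.Monic)
    (h2 : Polynomial.eval₂ ((η.t (Localization.Away f)).comp (algebraMap A (Localization.Away f)))
        (η.Nmap (algebraMap A (Localization.Away f)) z') H = 0) :
    η.t A f * z' ∈ η.M A := by
  intro R _ _ _ hR g
  by_cases hc : g f = 0
  · refine ⟨0, ?_⟩
    rw [map_mul, η.Nmap_t_apply, hc, map_zero, zero_mul]
  have hj : Function.Injective (algebraMap R (FractionRing R)) :=
    IsFractionRing.injective R (FractionRing R)
  set w' := η.Nmap g z' with hw'
  -- for valuation subrings in which `g f` is a unit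
  have key : ∀ (V : ValuationSubring (FractionRing R))
      (hV : ∀ r, algebraMap R (FractionRing R) r ∈ V.toSubring),
      IsUnit ((algebraMap R (FractionRing R)).codRestrict V.toSubring hV (g f)) →
      η.Nmap ((algebraMap R (FractionRing R)).codRestrict V.toSubring hV) w' ∈ (η.t V).range ∧
      Polynomial.eval₂ ((η.t V).comp (((algebraMap R (FractionRing R)).codRestrict
        V.toSubring hV).comp g))
        (η.Nmap ((algebraMap R (FractionRing R)).codRestrict V.toSubring hV) w') H = 0 := by
    intro V hV hunit
    have hunit' : IsUnit ((((algebraMap R (FractionRing R)).codRestrict V.toSubring hV).comp g) f) :=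
      hunit
    let gV : Localization.Away f →+* V := IsLocalization.Away.lift f hunit'
    have hgV : gV.comp (algebraMap A (Localization.Away f)) =
        ((algebraMap R (FractionRing R)).codRestrict V.toSubring hV).comp g :=
      IsLocalization.Away.lift_comp f hunit'
    have hVin : η.InV V := inV_valuationSubring η V hR
    have e1 : η.Nmap ((algebraMap R (FractionRing R)).codRestrict V.toSubring hV) w' =
        η.Nmap gV (η.Nmap (algebraMap A (Localization.Away f)) z') := by
      rw [hw', ← Nmap_comp_apply, ← hgV, Nmap_comp_apply]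
    refine ⟨e1 ▸ h1 V hVin gV, ?_⟩
    rw [e1]
    have e2 : (η.t V).comp (((algebraMap R (FractionRing R)).codRestrict V.toSubring hV).comp g) =
        (η.Nmap gV).comp ((η.t (Localization.Away f)).comp
          (algebraMap A (Localization.Away f))) := by
      apply RingHom.ext
      intro a
      show η.t V (((algebraMap R (FractionRing R)).codRestrict V.toSubring hV) (g a)) =
        η.Nmap gV (η.t _ (algebraMap A _ a))
      rw [η.Nmap_t_apply]
      have := congrArg (fun φ : A →+* V => φ a) hgV
      exact congrArg (η.t V) this.symm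
    rw [e2, ← Polynomial.hom_eval₂, h2, map_zero]
  -- the unit condition from the centre
  have hunit_of : ∀ (p : PrimeSpectrum R), g f ∉ p.asIdeal →
      ∀ (V : ValuationSubring (FractionRing R))
      (hV : ∀ r, algebraMap R (FractionRing R) r ∈ V.toSubring),
      (IsLocalRing.maximalIdeal V).comap
        ((algebraMap R (FractionRing R)).codRestrict V.toSubring hV) = p.asIdeal →
      IsUnit ((algebraMap R (FractionRing R)).codRestrict V.toSubring hV (g f)) := by
    intro p hp V hV hcomap
    by_contra hnu
    apply hp
    rw [← hcomap]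
    exact (IsLocalRing.mem_maximalIdeal _).2 hnu
  have hker : ∀ p : PrimeSpectrum R, RingHom.ker (algebraMap R (FractionRing R)) ≤ p.asIdeal := by
    intro p
    rw [(RingHom.injective_iff_ker_eq_bot _).1 hj]; exact bot_le
  -- Step A/B: the generic value of `w'` comes from `R`
  have hgenR : g f ∉ (genPt R).asIdeal := fun h => hc h
  obtain ⟨u', hu'⟩ : ∃ u' : R, η.t R u' (genPt R) = w' (genPt R) := by
    obtain ⟨V, hV, hcomap⟩ := exists_valuationSubring_comap_eq (algebraMap R (FractionRing R))
      (genPt R).asIdeal (hker _)
    obtain ⟨-, hpol⟩ := key V hV (hunit_of (genPt R) hgenR V hV hcomap)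
    obtain ⟨y, hy⟩ := (eta_bijective_genPt η R hR).2 (w' (genPt R))
    -- evaluate the polynomial identity at the generic point of `V`
    have hgen := comap_codRestrict_genPt R (algebraMap R (FractionRing R)) hj V hV
    have h3 : Polynomial.eval₂ (η.t R) w' (H.map g) (genPt R) = 0 := by
      have h4 : η.Nmap ((algebraMap R (FractionRing R)).codRestrict V.toSubring hV)
          (Polynomial.eval₂ (η.t R) w' (H.map g)) = 0 := by
        rw [Polynomial.eval₂_map, Polynomial.hom_eval₂, ← hpol]
        congr 1
        apply RingHom.ext
        intro a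
        show η.Nmap _ (η.t R (g a)) = η.t V _
        rw [η.Nmap_t_apply]
        rfl
      have h5 := congrFun h4 (genPt V)
      rw [Nmap_apply] at h5
      have h6 := (map_eq_zero_iff _ (map_injective η _)).1 h5
      exact apply_eq_zero_of_eq η _ hgen h6
    have h7 : Polynomial.eval₂ (η.t R) w' (H.map g) (genPt R) =
        Polynomial.eval₂ ((η.eta (genPt R).asIdeal.ResidueField).comp
          (algebraMap R (genPt R).asIdeal.ResidueField)) (w' (genPt R)) (H.map g) :=
      Polynomial.hom_eval₂ (H.map g) (η.t R)
        (Pi.evalRingHom (fun p : PrimeSpectrum R => η.obj p.asIdeal.ResidueField) (genPt R)) w'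
    rw [h7, ← hy, ← Polynomial.hom_eval₂] at h3
    have h8 : Polynomial.eval₂ (algebraMap R (genPt R).asIdeal.ResidueField) y (H.map g) = 0 :=
      (map_eq_zero_iff _ (eta_injective η _)).1 h3
    have hint : IsIntegral R y := ⟨H.map g, hH.map g, h8⟩
    obtain ⟨u', hu'⟩ := IsIntegrallyClosed.algebraMap_eq_of_integral hint
    exact ⟨u', by rw [t_apply, hu', hy]⟩
  -- Step C: `w'` agrees with `t u'` away from `V(g f)`
  have hagree : ∀ p : PrimeSpectrum R, g f ∉ p.asIdeal → w' p = η.t R u' p := by
    intro p hp
    obtain ⟨V, hV, hcomap⟩ := exists_valuationSubring_comap_eq (algebraMap R (FractionRing R))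
      p.asIdeal (hker _)
    obtain ⟨⟨v, hv⟩, -⟩ := key V hV (hunit_of p hp V hV hcomap)
    have h0 : (w' - η.t R u') (genPt R) = 0 := by
      show w' (genPt R) - η.t R u' (genPt R) = 0
      rw [hu', sub_self]
    have hs : η.t V (v - (algebraMap R (FractionRing R)).codRestrict V.toSubring hV u') =
        η.Nmap ((algebraMap R (FractionRing R)).codRestrict V.toSubring hV) (w' - η.t R u') := by
      rw [map_sub, map_sub, hv, η.Nmap_t_apply]
      rfl
    have hs0 := eq_zero_of_t_eq_Nmap_of_genPt η R _ hj V hV _ h0 _ hs
    rw [hs0, map_zero] at hs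
    have hcl : PrimeSpectrum.comap ((algebraMap R (FractionRing R)).codRestrict V.toSubring hV)
        (IsLocalRing.closedPoint V) = p := PrimeSpectrum.ext hcomap
    have h4 := congrFun hs (IsLocalRing.closedPoint V)
    rw [Nmap_apply] at h4
    have h5 := (map_eq_zero_iff _ (map_injective η _)).1 h4.symm
    have h6 : (w' - η.t R u') p = 0 := apply_eq_zero_of_eq η _ hcl h5
    exact sub_eq_zero.1 h6
  refine ⟨g f * u', ?_⟩
  rw [map_mul, map_mul, η.Nmap_t_apply]
  funext p
  show η.t R (g f) p * η.t R u' p = η.t R (g f) p * w' p
  by_cases hp : g f ∈ p.asIdeal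
  · have : η.t R (g f) p = 0 := by
      rw [t_apply, Ideal.algebraMap_residueField_eq_zero.2 hp, map_zero]
    rw [this, zero_mul, zero_mul]
  · rw [hagree p hp]

end

end Groth.Agent.H69
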