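import Groth.Agent.H69.EtaPhi

set_option autoImplicit false
universe u

namespace Groth.Agent.H69

open EtaPt EtaPt.FieldEndo

variable (η : FieldEndo.{u})

/-- Lying over for integral maps whose kernel consists of nilpotents. -/
theorem comap_surjective_of_isIntegral_of_ker_le {R S : Type*} [CommRing R] [CommRing S]
    (f : R →+* S) (hf : f.IsIntegral) (hker : ∀ r, f r = 0 → IsNilpotent r) :
    Function.Surjective (PrimeSpectrum.comap f) := by
  intro p
  algebraize [f]
  have hle : (⊥ : Ideal S).comap (algebraMap R S) ≤ p.asIdeal := by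
    intro r hr
    have h0 : f r = 0 := hr
    obtain ⟨n, hn⟩ := hker r h0
    exact p.isPrime.mem_of_pow_mem n (hn ▸ zero_mem _)
  obtain ⟨Q, _, hQ, hQp⟩ := Ideal.exists_ideal_over_prime_of_isIntegral p.asIdeal (⊥ : Ideal S) hle
  exact ⟨⟨Q, hQ⟩, PrimeSpectrum.ext hQp⟩

section

variable {A B : Type u} [CommRing A] [CommRing B]

theorem isNilpotent_of_t_eq_zero {a : A} (ha : η.t A a = 0) : IsNilpotent a := by
  have hnil : a ∈ nilradical A := by
    rw [nilradical_eq_sInf, Ideal.mem_sInf]
    intro p hp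
    have hp' : p.IsPrime := hp
    have h1 := congrFun ha ⟨p, hp'⟩
    rw [t_apply] at h1
    have h2 : algebraMap A (p.ResidueField) a = 0 :=
      (map_eq_zero_iff _ (eta_injective η _)).1 h1
    exact Ideal.algebraMap_residueField_eq_zero.1 h2
  exact mem_nilradical.1 hnil

variable (f : A →+* B) (hN : Function.Injective (η.Nmap f))

/-- The canonical map `rel f → M A`. -/
noncomputable def rho : η.rel f →+* η.M A where
  toFun b := ⟨Classical.choose b.2, (Classical.choose_spec b.2).1⟩
  map_one' := by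
    apply Subtype.ext
    apply hN
    have h1 := (Classical.choose_spec (1 : η.rel f).2).2
    show η.Nmap f (Classical.choose (1 : η.rel f).2) = η.Nmap f 1
    rw [h1, map_one]
    exact map_one (η.t B)
  map_mul' b c := by
    apply Subtype.ext
    apply hN
    have h1 := (Classical.choose_spec (b * c).2).2
    have h2 := (Classical.choose_spec b.2).2
    have h3 := (Classical.choose_spec c.2).2
    show η.Nmap f (Classical.choose (b * c).2) =
      η.Nmap f (Classical.choose b.2 * Classical.choose c.2)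
    rw [h1, map_mul, h2, h3]
    exact map_mul (η.t B) _ _
  map_zero' := by
    apply Subtype.ext
    apply hN
    have h1 := (Classical.choose_spec (0 : η.rel f).2).2
    show η.Nmap f (Classical.choose (0 : η.rel f).2) = η.Nmap f 0
    rw [h1, map_zero]
    exact map_zero (η.t B)
  map_add' b c := by
    apply Subtype.ext
    apply hN
    have h1 := (Classical.choose_spec (b + c).2).2
    have h2 := (Classical.choose_spec b.2).2
    have h3 := (Classical.choose_spec c.2).2
    show η.Nmap f (Classical.choose (b + c).2) =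
      η.Nmap f (Classical.choose b.2 + Classical.choose c.2)
    rw [h1, map_add, h2, h3]
    exact map_add (η.t B) _ _

theorem Nmap_rho (b : η.rel f) : η.Nmap f (rho η f hN b : η.N A) = η.t B (b : B) :=
  (Classical.choose_spec b.2).2

theorem rho_qRel (a : A) : rho η f hN (η.qRel f a) = η.q A a := by
  apply Subtype.ext
  apply hN
  rw [Nmap_rho]
  exact (η.Nmap_t_apply f a).symm

theorem rho_comp_qRel : (rho η f hN).comp (η.qRel f) = η.q A :=
  RingHom.ext (rho_qRel η f hN)

theorem isNilpotent_of_rho_eq_zero (b : η.rel f) (hb : rho η f hN b = 0) : IsNilpotent b := by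
  have h1 := Nmap_rho η f hN b
  rw [hb] at h1
  have h2 : η.t B (b : B) = 0 := by rw [← h1]; exact map_zero _
  obtain ⟨n, hn⟩ := isNilpotent_of_t_eq_zero η h2
  exact ⟨n, Subtype.ext hn⟩

omit hN in
theorem q_isIntegral (hA : (minimalPrimes A).Finite) : (η.q A).IsIntegral := by
  classical
  intro x
  have hx := x.2
  choose Pol hmonic hroot using fun P : PrimeSpectrum A => M_apply_isIntegralElem η hx P
  let G : Polynomial A := ∏ 𝔭 ∈ hA.toFinset, (if h : 𝔭.IsPrime then Pol ⟨𝔭, h⟩ else 1)
  have hG : G.Monic := by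
    apply Polynomial.monic_prod_of_monic
    intro 𝔭 _
    by_cases h : 𝔭.IsPrime
    · rw [dif_pos h]; exact hmonic _
    · rw [dif_neg h]; exact Polynomial.monic_one
  refine ⟨G, hG, ?_⟩
  apply Subtype.ext
  have hval : ((Polynomial.eval₂ (η.q A) x G : η.M A) : η.N A) =
      Polynomial.eval₂ (η.t A) (x : η.N A) G :=
    Polynomial.hom_eval₂ G (η.q A) (η.M A).subtype x
  have hd : Polynomial.eval₂ (η.t A) (x : η.N A) G ∈ η.M A :=
    hval ▸ (Polynomial.eval₂ (η.q A) x G).2
  rw [hval]
  apply M_eq_zero_of_minimalPrimes η hd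
  intro P hP
  have h1 : Polynomial.eval₂ (η.t A) (x : η.N A) G P =
      Polynomial.eval₂ ((η.eta P.asIdeal.ResidueField).comp
        (algebraMap A P.asIdeal.ResidueField)) ((x : η.N A) P) G :=
    Polynomial.hom_eval₂ G (η.t A)
      (Pi.evalRingHom (fun p : PrimeSpectrum A => η.obj p.asIdeal.ResidueField) P) (x : η.N A)
  rw [h1, Polynomial.eval₂_finsetProd]
  apply Finset.prod_eq_zero (i := P.asIdeal) (hA.mem_toFinset.2 hP)
  rw [dif_pos P.isPrime]
  exact hroot P

include hN in
theorem qRel_isIntegral (hA : (minimalPrimes A).Finite) : (η.qRel f).IsIntegral := by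
  intro b
  obtain ⟨G, hG, hGb⟩ := q_isIntegral η hA (rho η f hN b)
  have h1 : rho η f hN (Polynomial.eval₂ (η.qRel f) b G) = 0 := by
    rw [Polynomial.hom_eval₂, rho_comp_qRel, hGb]
  obtain ⟨n, hn⟩ := isNilpotent_of_rho_eq_zero η f hN _ h1
  refine ⟨G ^ n, hG.pow n, ?_⟩
  rw [Polynomial.eval₂_pow, hn]

theorem rho_isIntegral (hA : (minimalPrimes A).Finite) : (rho η f hN).IsIntegral := by
  apply RingHom.IsIntegral.tower_top (η.qRel f)
  rw [rho_comp_qRel]
  exact q_isIntegral η hA

theorem comap_rho_surjective (hA : (minimalPrimes A).Finite) :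
    Function.Surjective (PrimeSpectrum.comap (rho η f hN)) :=
  comap_surjective_of_isIntegral_of_ker_le _ (rho_isIntegral η f hN hA)
    (isNilpotent_of_rho_eq_zero η f hN)

omit hN in
theorem comap_q_surjective : Function.Surjective (PrimeSpectrum.comap (η.q A)) := by
  intro P
  refine ⟨⟨RingHom.ker (evalM η P), RingHom.ker_isPrime _⟩, ?_⟩
  apply PrimeSpectrum.ext
  ext a
  show η.q A a ∈ RingHom.ker (evalM η P) ↔ a ∈ P.asIdeal
  refine Iff.trans ?_ (SetLike.ext_iff.1 (ker_eta_comp_algebraMap η P) a)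
  rw [RingHom.mem_ker, RingHom.mem_ker]
  exact Iff.rfl

omit hN in
theorem comap_q_injective (hA : (minimalPrimes A).Finite) :
    Function.Injective (PrimeSpectrum.comap (η.q A)) := by
  intro Q₁ Q₂ h
  apply PrimeSpectrum.ext
  ext x
  rw [mem_prime_iff η hA Q₁ x, mem_prime_iff η hA Q₂ x]
  exact apply_eq_zero_iff_of_eq η (x : η.N A) h

theorem comap_qRel_comap_rho (Q' : PrimeSpectrum (η.M A)) :
    PrimeSpectrum.comap (η.qRel f) (PrimeSpectrum.comap (rho η f hN) Q') =
      PrimeSpectrum.comap (η.q A) Q' := by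
  rw [← PrimeSpectrum.comap_comp_apply, rho_comp_qRel]

include hN in
theorem comap_qRel_bijective (hA : (minimalPrimes A).Finite) :
    Function.Bijective (PrimeSpectrum.comap (η.qRel f)) := by
  constructor
  · intro Q₁ Q₂ h
    obtain ⟨Q₁', rfl⟩ := comap_rho_surjective η f hN hA Q₁
    obtain ⟨Q₂', rfl⟩ := comap_rho_surjective η f hN hA Q₂
    rw [comap_qRel_comap_rho, comap_qRel_comap_rho] at h
    rw [comap_q_injective η hA h]
  · intro P
    obtain ⟨Q', rfl⟩ := comap_q_surjective η P
    exact ⟨PrimeSpectrum.comap (rho η f hN) Q', comap_qRel_comap_rho η f hN Q'⟩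

theorem rel_mem_prime_iff (hA : (minimalPrimes A).Finite) (Q : PrimeSpectrum (η.rel f))
    (b : η.rel f) :
    b ∈ Q.asIdeal ↔ (rho η f hN b : η.N A) (PrimeSpectrum.comap (η.qRel f) Q) = 0 := by
  obtain ⟨Q', rfl⟩ := comap_rho_surjective η f hN hA Q
  rw [apply_eq_zero_iff_of_eq η (rho η f hN b : η.N A) (comap_qRel_comap_rho η f hN Q'),
    ← mem_prime_iff η hA Q' (rho η f hN b)]
  exact Iff.rfl

/-- The embedding `κ(Q) → F(κ(Q ∩ A))` for a prime `Q` of `rel f`. -/
noncomputable def phiRel (hA : (minimalPrimes A).Finite) (Q : PrimeSpectrum (η.rel f)) :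
    Q.asIdeal.ResidueField →+* η.obj (PrimeSpectrum.comap (η.qRel f) Q).asIdeal.ResidueField :=
  Ideal.ResidueField.lift Q.asIdeal
    ((evalM η (PrimeSpectrum.comap (η.qRel f) Q)).comp (rho η f hN))
    (by
      intro x hx
      rw [RingHom.mem_ker]
      exact (rel_mem_prime_iff η f hN hA Q x).1 hx)
    (by
      intro x hx
      rw [Submonoid.mem_comap]
      show IsUnit _
      rw [isUnit_iff_ne_zero]
      intro h0
      exact hx ((rel_mem_prime_iff η f hN hA Q x).2 h0))

theorem phiRel_comp (hA : (minimalPrimes A).Finite) (Q : PrimeSpectrum (η.rel f)) :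
    (phiRel η f hN hA Q).comp (resMap (η.qRel f) Q) =
      η.eta (PrimeSpectrum.comap (η.qRel f) Q).asIdeal.ResidueField := by
  apply Ideal.ResidueField.ringHom_ext
  apply RingHom.ext
  intro a
  show phiRel η f hN hA Q (resMap (η.qRel f) Q (algebraMap A _ a)) = _
  rw [resMap_algebraMap]
  have h1 : phiRel η f hN hA Q (algebraMap (η.rel f) _ (η.qRel f a)) =
      ((evalM η (PrimeSpectrum.comap (η.qRel f) Q)).comp (rho η f hN)) (η.qRel f a) :=
    Ideal.ResidueField.lift_algebraMap _ _ _ _ _
  rw [h1, RingHom.comp_apply, rho_qRel]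
  rfl

include hN in
theorem Nmap_qRel_bijective (hA : (minimalPrimes A).Finite) :
    Function.Bijective (η.Nmap (η.qRel f)) := by
  have hbij := comap_qRel_bijective η f hN hA
  refine ⟨Nmap_injective_of_comap_surjective η _ hbij.2, ?_⟩
  apply Nmap_surjective_of η _ hbij.1
  intro Q z
  obtain ⟨w, hw⟩ := (η.bijective_map_eta (PrimeSpectrum.comap (η.qRel f) Q).asIdeal.ResidueField).2
    (η.map (phiRel η f hN hA Q) z)
  refine ⟨w, ?_⟩
  apply map_injective η (phiRel η f hN hA Q)
  rw [← hw, ← map_comp_apply]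
  exact congrArg (fun h => η.map h w) (phiRel_comp η f hN hA Q)

end

end Groth.Agent.H69
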