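import Groth.Agent.H69.EtaAway
import Groth.Agent.H69.EtaRel
import Mathlib.RingTheory.Localization.Integral
import Mathlib.RingTheory.Ideal.MinimalPrime.Localization

set_option autoImplicit false
universe u

namespace Groth.Agent.H69

open EtaPt EtaPt.FieldEndo

variable (η : FieldEndo.{u})

section

variable {A : Type u} [CommRing A]

theorem minimalPrimes_away_finite (hA : (minimalPrimes A).Finite) (f : A) :
    (minimalPrimes (Localization.Away f)).Finite := by
  have h1 := IsLocalization.minimalPrimes_map (Submonoid.powers f) (Localization.Away f)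
    (⊥ : Ideal A)
  rw [Ideal.map_bot] at h1
  show ((⊥ : Ideal (Localization.Away f)).minimalPrimes).Finite
  rw [h1]
  apply Set.Finite.preimage _ hA
  apply Function.Injective.injOn
  exact Function.LeftInverse.injective
    (IsLocalization.map_under (Submonoid.powers f) (Localization.Away f))

/-- Elements of `M (A_f)` become integral over `A` after multiplication by a power of `f`. -/
theorem exists_pow_mul_integral (hA : (minimalPrimes A).Finite) (f : A)
    {y : η.N (Localization.Away f)} (hy : y ∈ η.M (Localization.Away f)) :
    ∃ (k : ℕ) (H : Polynomial A), H.Monic ∧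
      Polynomial.eval₂ ((η.t (Localization.Away f)).comp (algebraMap A (Localization.Away f)))
        (η.t (Localization.Away f) (algebraMap A (Localization.Away f) f) ^ k * y) H = 0 := by
  have hAf := minimalPrimes_away_finite hA f
  obtain ⟨G, hG, hGy⟩ := q_isIntegral η hAf ⟨y, hy⟩
  let _ : Algebra (Localization.Away f) (η.N (Localization.Away f)) :=
    (η.t (Localization.Away f)).toAlgebra
  let _ : Algebra A (η.N (Localization.Away f)) :=
    ((η.t (Localization.Away f)).comp (algebraMap A (Localization.Away f))).toAlgebra
  have : IsScalarTower A (Localization.Away f) (η.N (Localization.Away f)) :=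
    IsScalarTower.of_algebraMap_eq (fun _ => rfl)
  have hint : IsIntegral (Localization.Away f) y := by
    refine ⟨G, hG, ?_⟩
    have h1 : ((Polynomial.eval₂ (η.q (Localization.Away f)) ⟨y, hy⟩ G :
        η.M (Localization.Away f)) : η.N (Localization.Away f)) =
        Polynomial.eval₂ (η.t (Localization.Away f)) y G :=
      Polynomial.hom_eval₂ G (η.q _) (η.M _).subtype ⟨y, hy⟩
    rw [hGy] at h1
    exact h1.symm
  obtain ⟨⟨m, k, hk⟩, hm⟩ :=
    IsIntegral.exists_multiple_integral_of_isLocalization (Submonoid.powers f) y hint
  obtain ⟨H, hH, hHy⟩ := hm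
  refine ⟨k, H, hH, ?_⟩
  have hk' : f ^ k = m := hk
  have e : η.t (Localization.Away f) (algebraMap A (Localization.Away f) f) ^ k * y =
      (⟨m, k, hk⟩ : Submonoid.powers f) • y := by
    rw [Submonoid.smul_def, Algebra.smul_def, ← map_pow, ← map_pow]
    show _ = (η.t (Localization.Away f)) (algebraMap A (Localization.Away f) m) * y
    rw [hk']
  rw [e]
  exact hHy

/-- The localization statement for `M`. -/
theorem exists_mem_M_of_mem_M_away (hA : (minimalPrimes A).Finite) (f : A)
    {y : η.N (Localization.Away f)} (hy : y ∈ η.M (Localization.Away f)) :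
    ∃ x ∈ η.M A, ∃ n : ℕ,
      y * η.t (Localization.Away f) (algebraMap A (Localization.Away f) f) ^ n =
        η.Nmap (algebraMap A (Localization.Away f)) x := by
  obtain ⟨k, H, hH, hHy⟩ := exists_pow_mul_integral η hA f hy
  have hso : (algebraMap A (Localization.Away f)).SurjectiveOnStalks :=
    RingHom.surjectiveOnStalks_of_isLocalization (Submonoid.powers f) (Localization.Away f)
  have hinj : Function.Injective (PrimeSpectrum.comap (algebraMap A (Localization.Away f))) :=
    PrimeSpectrum.localization_comap_injective (Localization.Away f) (Submonoid.powers f)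
  obtain ⟨z', hz'⟩ := Nmap_surjective_of_surjectiveOnStalks η _ hso hinj
    (η.t (Localization.Away f) (algebraMap A (Localization.Away f) f) ^ k * y)
  have h1 : η.Nmap (algebraMap A (Localization.Away f)) z' ∈ η.M (Localization.Away f) := by
    rw [hz']
    exact Subring.mul_mem _ (Subring.pow_mem _ (η.t_mem_M _ _) k) hy
  have hx := mul_mem_M_of_away η f z' h1 H hH (by rw [hz']; exact hHy)
  refine ⟨_, hx, k + 1, ?_⟩
  rw [map_mul, hz', η.Nmap_t_apply, pow_succ]
  ring

end

end Groth.Agent.H69
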