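import Groth.Prelude.Def_W4c1chowmix47Eta
import Mathlib.Tactic

set_option autoImplicit false
universe u

namespace Groth.Agent.H69

open EtaPt EtaPt.FieldEndo

variable (η : FieldEndo.{u})

section Fields

variable {K L E : Type u} [Field K] [Field L] [Field E]

theorem eta_injective (K : Type u) [Field K] : Function.Injective (η.eta K) :=
  (η.eta K).injective

theorem map_injective (f : K →+* L) : Function.Injective (η.map f) :=
  (η.map f).injective

theorem map_comp_apply (f : K →+* L) (g : L →+* E) (x : η.obj K) :
    η.map (g.comp f) x = η.map g (η.map f x) := by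
  rw [η.map_comp]; rfl

theorem map_id_apply (x : η.obj K) : η.map (RingHom.id K) x = x := by
  rw [η.map_id]; rfl

theorem map_eta (f : K →+* L) (a : K) : η.map f (η.eta K a) = η.eta L (f a) :=
  congrArg (fun h : K →+* η.obj L => h a) (η.eta_natural f)

/-- `F` of a ring isomorphism is bijective. -/
theorem map_ringEquiv_bijective (e : K ≃+* L) : Function.Bijective (η.map e.toRingHom) := by
  refine Function.bijective_iff_has_inverse.2 ⟨η.map e.symm.toRingHom, ?_, ?_⟩
  · intro x
    rw [← map_comp_apply]
    have : e.symm.toRingHom.comp e.toRingHom = RingHom.id K := by ext; simp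
    rw [this, map_id_apply]
  · intro x
    rw [← map_comp_apply]
    have : e.toRingHom.comp e.symm.toRingHom = RingHom.id L := by ext; simp
    rw [this, map_id_apply]

theorem map_bijective_of_bijective (f : K →+* L) (hf : Function.Bijective f) :
    Function.Bijective (η.map f) :=
  map_ringEquiv_bijective η (RingEquiv.ofBijective f hf)

/-- bijectivity of `η` transfers along isomorphisms of fields. -/
theorem eta_bijective_of_ringEquiv (e : K ≃+* L) (h : Function.Bijective (η.eta K)) :
    Function.Bijective (η.eta L) := by
  have h1 : (η.eta L).comp e.toRingHom = (η.map e.toRingHom).comp (η.eta K) :=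
    (η.eta_natural e.toRingHom).symm
  have h2 : Function.Bijective ((η.eta L).comp e.toRingHom) := by
    rw [h1]
    exact (map_ringEquiv_bijective η e).comp h
  have h3 : (η.eta L : L → η.obj L) = ((η.eta L).comp e.toRingHom) ∘ e.symm := by
    funext x; simp
  rw [h3]
  exact h2.comp e.symm.bijective

/-- `η` is bijective at `F K`. -/
theorem eta_obj_eq_map_eta (K : Type u) [Field K] : η.eta (η.obj K) = η.map (η.eta K) := by
  classical
  apply RingHom.ext
  intro y
  obtain ⟨n, z, hz⟩ := η.exists_pow_mem_range_eta K y
  have h1 : η.eta (η.obj K) (y ^ ringExpChar K ^ n) = η.map (η.eta K) (y ^ ringExpChar K ^ n) := by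
    rw [← hz, map_eta]
  rw [map_pow, map_pow] at h1
  have : ExpChar K (ringExpChar K) := ringExpChar.expChar K
  have : ExpChar (η.obj (η.obj K)) (ringExpChar K) :=
    expChar_of_injective_ringHom ((η.eta (η.obj K)).comp (η.eta K)).injective (ringExpChar K)
  exact iterateFrobenius_inj (η.obj (η.obj K)) (ringExpChar K) n h1

theorem eta_obj_bijective (K : Type u) [Field K] : Function.Bijective (η.eta (η.obj K)) := by
  rw [eta_obj_eq_map_eta]
  exact η.bijective_map_eta K

/-- Frobenius-power cancellation in the target of a field hom. -/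
theorem pow_expChar_pow_inj (f : K →+* L) (n : ℕ) {a b : L}
    (h : a ^ ringExpChar K ^ n = b ^ ringExpChar K ^ n) : a = b := by
  have : ExpChar K (ringExpChar K) := ringExpChar.expChar K
  have : ExpChar L (ringExpChar K) := expChar_of_injective_ringHom f.injective (ringExpChar K)
  exact iterateFrobenius_inj L (ringExpChar K) n h

theorem ringExpChar_eq_of_ringHom (f : K →+* L) : ringExpChar L = ringExpChar K := by
  have : ExpChar K (ringExpChar K) := ringExpChar.expChar K
  have : ExpChar L (ringExpChar K) := expChar_of_injective_ringHom f.injective (ringExpChar K)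
  exact ringExpChar.eq L (ringExpChar K)

theorem ringExpChar_pos (K : Type u) [Field K] : 0 < ringExpChar K := by
  have : ExpChar K (ringExpChar K) := ringExpChar.expChar K
  exact expChar_pos K (ringExpChar K)

end Fields

section N

variable {A B C : Type u} [CommRing A] [CommRing B] [CommRing C]

/-- The residue field map `κ(f⁻¹ q) → κ(q)`. -/
noncomputable abbrev resMap (f : A →+* B) (q : PrimeSpectrum B) :
    (PrimeSpectrum.comap f q).asIdeal.ResidueField →+* q.asIdeal.ResidueField :=
  Ideal.ResidueField.map (PrimeSpectrum.comap f q).asIdeal q.asIdeal f rfl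

theorem resMap_algebraMap (f : A →+* B) (q : PrimeSpectrum B) (a : A) :
    resMap f q (algebraMap A _ a) = algebraMap B _ (f a) :=
  Ideal.ResidueField.map_algebraMap _ _ f rfl a

theorem resMap_comp (f : A →+* B) (g : B →+* C) (r : PrimeSpectrum C) :
    resMap (g.comp f) r = (resMap g r).comp (resMap f (PrimeSpectrum.comap g r)) := by
  apply Ideal.ResidueField.ringHom_ext
  apply RingHom.ext
  intro a
  show resMap (g.comp f) r (algebraMap A _ a) =
    resMap g r (resMap f (PrimeSpectrum.comap g r) (algebraMap A _ a))
  rw [resMap_algebraMap, resMap_algebraMap, resMap_algebraMap]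
  rfl

theorem resMap_id (r : PrimeSpectrum A) :
    resMap (RingHom.id A) r = RingHom.id r.asIdeal.ResidueField := by
  apply Ideal.ResidueField.ringHom_ext
  apply RingHom.ext
  intro a
  show resMap (RingHom.id A) r (algebraMap A _ a) = algebraMap A _ a
  rw [resMap_algebraMap]
  rfl

theorem Nmap_apply (f : A →+* B) (x : η.N A) (q : PrimeSpectrum B) :
    η.Nmap f x q = η.map (resMap f q) (x (PrimeSpectrum.comap f q)) := rfl

theorem t_apply (a : A) (p : PrimeSpectrum A) :
    η.t A a p = η.eta p.asIdeal.ResidueField (algebraMap A p.asIdeal.ResidueField a) := rfl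

theorem Nmap_comp (f : A →+* B) (g : B →+* C) :
    η.Nmap (g.comp f) = (η.Nmap g).comp (η.Nmap f) := by
  apply RingHom.ext
  intro x
  funext r
  show η.map (resMap (g.comp f) r) (x (PrimeSpectrum.comap f (PrimeSpectrum.comap g r))) =
    η.map (resMap g r) (η.map (resMap f (PrimeSpectrum.comap g r))
      (x (PrimeSpectrum.comap f (PrimeSpectrum.comap g r))))
  exact (congrArg (fun h => η.map h (x (PrimeSpectrum.comap f (PrimeSpectrum.comap g r))))
    (resMap_comp f g r)).trans (map_comp_apply η _ _ _)

theorem Nmap_comp_apply (f : A →+* B) (g : B →+* C) (x : η.N A) :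
    η.Nmap (g.comp f) x = η.Nmap g (η.Nmap f x) := by
  rw [Nmap_comp]; rfl

theorem Nmap_id : η.Nmap (RingHom.id A) = RingHom.id (η.N A) := by
  apply RingHom.ext
  intro x
  funext r
  show η.map (resMap (RingHom.id A) r) (x r) = x r
  exact (congrArg (fun h => η.map h (x r)) (resMap_id r)).trans (map_id_apply η _)

/-- `M` is functorial. -/
theorem Nmap_mem_M (f : A →+* B) {x : η.N A} (hx : x ∈ η.M A) : η.Nmap f x ∈ η.M B := by
  intro R _ _ _ hR g
  rw [← Nmap_comp_apply]
  exact hx R hR (g.comp f)

/-- `Spec f` surjective implies `N f` injective. -/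
theorem Nmap_injective_of_comap_surjective (f : A →+* B)
    (hs : Function.Surjective (PrimeSpectrum.comap f)) : Function.Injective (η.Nmap f) := by
  rw [injective_iff_map_eq_zero]
  intro x hx
  funext p
  obtain ⟨q, rfl⟩ := hs p
  have := congrFun hx q
  rw [Nmap_apply] at this
  exact (map_eq_zero_iff _ (map_injective η _)).1 this

theorem t_injective_of_isReduced [IsReduced A] : Function.Injective (η.t A) := by
  rw [injective_iff_map_eq_zero]
  intro a ha
  have hnil : a ∈ nilradical A := by
    rw [nilradical_eq_sInf, Ideal.mem_sInf]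
    intro p hp
    have hp' : p.IsPrime := hp
    have h1 := congrFun ha ⟨p, hp'⟩
    rw [t_apply] at h1
    have h2 : algebraMap A (p.ResidueField) a = 0 :=
      (map_eq_zero_iff _ (eta_injective η _)).1 h1
    exact Ideal.algebraMap_residueField_eq_zero.1 h2
  exact IsReduced.eq_zero a (mem_nilradical.1 hnil)

end N

end Groth.Agent.H69
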