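import Groth.Agent.H69.EtaDom
import Mathlib.RingTheory.TensorProduct.Nontrivial

set_option autoImplicit false
universe u

namespace Groth.Agent.H69

open EtaPt EtaPt.FieldEndo

variable (η : FieldEndo.{u})

/-- Two field extensions of a field have a common overfield. -/
theorem exists_common_field_extension {k K₁ K₂ : Type u} [Field k] [Field K₁] [Field K₂]
    (i₁ : k →+* K₁) (i₂ : k →+* K₂) :
    ∃ (L : Type u) (_ : Field L) (j₁ : K₁ →+* L) (j₂ : K₂ →+* L), j₁.comp i₁ = j₂.comp i₂ := by
  let _ : Algebra k K₁ := i₁.toAlgebra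
  let _ : Algebra k K₂ := i₂.toAlgebra
  have : Nontrivial (TensorProduct k K₁ K₂) :=
    Algebra.TensorProduct.nontrivial_of_algebraMap_injective_of_isDomain k K₁ K₂
      i₁.injective i₂.injective
  obtain ⟨𝔪, h𝔪⟩ := Ideal.exists_maximal (TensorProduct k K₁ K₂)
  let _ : Field (TensorProduct k K₁ K₂ ⧸ 𝔪) := Ideal.Quotient.field 𝔪
  refine ⟨TensorProduct k K₁ K₂ ⧸ 𝔪, inferInstance,
    (Ideal.Quotient.mk 𝔪).comp Algebra.TensorProduct.includeLeftRingHom,
    (Ideal.Quotient.mk 𝔪).comp (Algebra.TensorProduct.includeRight (R := k) (A := K₁) (B := K₂)).toRingHom,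
    ?_⟩
  apply RingHom.ext
  intro c
  show Ideal.Quotient.mk 𝔪 (Algebra.TensorProduct.includeLeft (R := k) (S := k) (A := K₁) (B := K₂)
      (algebraMap k K₁ c)) =
    Ideal.Quotient.mk 𝔪 (Algebra.TensorProduct.includeRight (R := k) (A := K₁) (B := K₂)
      (algebraMap k K₂ c))
  rw [AlgHom.commutes, AlgHom.commutes]

section Descent

variable (R : Type u) [CommRing R] [IsDomain R] {K' : Type u} [Field K'] (j : R →+* K')

theorem comap_codRestrict_genPt (hj : Function.Injective j) (V' : ValuationSubring K')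
    (hV : ∀ r, j r ∈ V'.toSubring) :
    PrimeSpectrum.comap (j.codRestrict V'.toSubring hV) (genPt V') = genPt R := by
  apply PrimeSpectrum.ext
  ext a
  show j.codRestrict V'.toSubring hV a ∈ (⊥ : Ideal V') ↔ a ∈ (⊥ : Ideal R)
  rw [Ideal.mem_bot, Ideal.mem_bot]
  constructor
  · intro h
    have h' : j a = 0 := congrArg Subtype.val h
    exact (map_eq_zero_iff _ hj).1 h'
  · intro h; rw [h, map_zero]

/-- If `w` vanishes at the generic point and `N(j_V) w = t s`, then `s = 0`. -/
theorem eq_zero_of_t_eq_Nmap_of_genPt (hj : Function.Injective j) (V' : ValuationSubring K')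
    (hV : ∀ r, j r ∈ V'.toSubring) (w : η.N R) (h0 : w (genPt R) = 0) (s : V')
    (hs : η.t V' s = η.Nmap (j.codRestrict V'.toSubring hV) w) : s = 0 := by
  have h1 : η.Nmap (j.codRestrict V'.toSubring hV) w (genPt V') = 0 := by
    rw [Nmap_apply, apply_eq_zero_of_eq η w (comap_codRestrict_genPt R j hj V' hV).symm h0,
      map_zero]
  have h2 := congrFun hs (genPt V')
  rw [h1, t_apply] at h2
  have h3 := (map_eq_zero_iff _ (eta_injective η _)).1 h2
  exact (map_eq_zero_iff _ (algebraMap_genPt_injective V')).1 h3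

/-- Vanishing part of the descent. -/
theorem eq_zero_of_forall_valuationSubring (hj : Function.Injective j) (w : η.N R)
    (h0 : w (genPt R) = 0)
    (H : ∀ (V' : ValuationSubring K') (hV : ∀ r, j r ∈ V'.toSubring),
      η.Nmap (j.codRestrict V'.toSubring hV) w ∈ (η.t V').range) : w = 0 := by
  funext p
  have hker : RingHom.ker j ≤ p.asIdeal := by
    rw [(RingHom.injective_iff_ker_eq_bot j).1 hj]; exact bot_le
  obtain ⟨V', hV, hcomap⟩ := exists_valuationSubring_comap_eq j p.asIdeal hker
  obtain ⟨s, hs⟩ := H V' hV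
  have hs0 := eq_zero_of_t_eq_Nmap_of_genPt η R j hj V' hV w h0 s hs
  rw [hs0, map_zero] at hs
  have hcl : PrimeSpectrum.comap (j.codRestrict V'.toSubring hV) (IsLocalRing.closedPoint V') = p :=
    PrimeSpectrum.ext hcomap
  have h4 := congrFun hs (IsLocalRing.closedPoint V')
  rw [Nmap_apply] at h4
  have h5 : w (PrimeSpectrum.comap (j.codRestrict V'.toSubring hV) (IsLocalRing.closedPoint V')) = 0 :=
    (map_eq_zero_iff _ (map_injective η _)).1 h4.symm
  exact apply_eq_zero_of_eq η w hcl h5

variable [ValuationRing R]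

/-- Descent of membership in the range of `t` along extensions of valuation rings. -/
theorem mem_range_t_of_forall_valuationSubring (hR : η.InV R) (hj : Function.Injective j)
    (w : η.N R)
    (H : ∀ (V' : ValuationSubring K') (hV : ∀ r, j r ∈ V'.toSubring),
      η.Nmap (j.codRestrict V'.toSubring hV) w ∈ (η.t V').range) : w ∈ (η.t R).range := by
  obtain ⟨y, hy⟩ := (eta_bijective_genPt η R hR).2 (w (genPt R))
  -- first find `r` with `y = r`
  have hr : ∃ r : R, algebraMap R (genPt R).asIdeal.ResidueField r = y := by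
    obtain ⟨⟨a, b⟩, hab⟩ := IsLocalization.surj (nonZeroDivisors R) y
    have hab' : y * algebraMap R _ (b : R) = algebraMap R _ a := hab
    have hb0 : (b : R) ≠ 0 := nonZeroDivisors.ne_zero b.2
    have hb0' : algebraMap R (genPt R).asIdeal.ResidueField (b : R) ≠ 0 := fun h =>
      hb0 ((map_eq_zero_iff _ (algebraMap_genPt_injective R)).1 h)
    have hker : RingHom.ker j ≤ (IsLocalRing.closedPoint R).asIdeal := by
      rw [(RingHom.injective_iff_ker_eq_bot j).1 hj]; exact bot_le
    obtain ⟨V', hV, hcomap⟩ := exists_valuationSubring_comap_eq j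
      (IsLocalRing.closedPoint R).asIdeal hker
    obtain ⟨s, hs⟩ := H V' hV
    set jV := j.codRestrict V'.toSubring hV with hjV
    -- the element `u = t b * w - t a` vanishes at the generic point
    have hu0 : (η.t R (b : R) * w - η.t R a) (genPt R) = 0 := by
      show η.t R (b : R) (genPt R) * w (genPt R) - η.t R a (genPt R) = 0
      rw [t_apply, t_apply, ← hy, ← map_mul, ← map_sub, mul_comm, hab', sub_self, map_zero]
    have hu : η.t V' (jV (b : R) * s - jV a) = η.Nmap jV (η.t R (b : R) * w - η.t R a) := by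
      rw [map_sub, map_mul, map_sub, map_mul, η.Nmap_t_apply, η.Nmap_t_apply, hs]
      rfl
    have h1 := eq_zero_of_t_eq_Nmap_of_genPt η R j hj V' hV _ hu0 _ hu
    have h2 : jV (b : R) * s = jV a := sub_eq_zero.1 h1
    obtain ⟨c, hc | hc⟩ := ValuationRing.cond a (b : R)
    · -- a * c = b
      by_cases hcu : IsUnit c
      · obtain ⟨c', hc'⟩ := hcu.exists_right_inv
        refine ⟨c', ?_⟩
        have : a = (b : R) * c' := by rw [← hc, mul_assoc, hc', mul_one]
        apply mul_right_cancel₀ hb0'
        rw [hab', this, map_mul, mul_comm]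
      · exfalso
        have ha0 : a ≠ 0 := by
          rintro rfl
          rw [zero_mul] at hc
          exact hb0 hc.symm
        have hja0 : jV a ≠ 0 := by
          intro h
          have h' : j a = 0 := congrArg Subtype.val h
          exact ha0 ((map_eq_zero_iff _ hj).1 h')
        have h3 : jV a * (jV c * s) = jV a * 1 := by
          rw [← mul_assoc, ← map_mul, hc, h2, mul_one]
        have h4 : jV c * s = 1 := mul_left_cancel₀ hja0 h3
        have h5 : IsUnit (jV c) := isUnit_iff_exists_inv.2 ⟨s, h4⟩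
        have h6 : c ∈ Ideal.comap jV (IsLocalRing.maximalIdeal V') := by
          rw [hcomap]
          exact (IsLocalRing.mem_maximalIdeal c).2 hcu
        exact (IsLocalRing.mem_maximalIdeal _).1 (Ideal.mem_comap.1 h6) h5
    · -- b * c = a
      refine ⟨c, ?_⟩
      apply mul_right_cancel₀ hb0'
      rw [hab', ← hc, map_mul, mul_comm]
  obtain ⟨r, rfl⟩ := hr
  refine ⟨r, ?_⟩
  have h0 : (w - η.t R r) (genPt R) = 0 := by
    show w (genPt R) - η.t R r (genPt R) = 0
    rw [t_apply, hy, sub_self]
  have := eq_zero_of_forall_valuationSubring η R j hj (w - η.t R r) h0 (by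
    intro V' hV
    rw [map_sub, η.Nmap_t_apply]
    exact Subring.sub_mem _ (H V' hV) ⟨_, rfl⟩)
  exact (sub_eq_zero.1 this).symm

end Descent

end Groth.Agent.H69
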