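import Groth.Agent.H69.EtaVal
import Mathlib.RingTheory.Valuation.LocalSubring

set_option autoImplicit false
universe u

namespace Groth.Agent.H69

open EtaPt EtaPt.FieldEndo

variable (η : FieldEndo.{u})

/-- A valuation subring of `K` dominating the image of the localization of `A` at a prime `p`
containing the kernel of `φ : A → K`. -/
theorem exists_valuationSubring_comap_eq {A K : Type u} [CommRing A] [Field K] (φ : A →+* K)
    (p : Ideal A) [p.IsPrime] (hker : RingHom.ker φ ≤ p) :
    ∃ (V : ValuationSubring K) (h : ∀ a, φ a ∈ V.toSubring),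
      (IsLocalRing.maximalIdeal V).comap (φ.codRestrict V.toSubring h) = p := by
  have hu : ∀ y : p.primeCompl, IsUnit (φ y) := fun y => by
    rw [isUnit_iff_ne_zero]; intro h0; exact y.2 (hker h0)
  obtain ⟨V, h, hloc⟩ := IsLocalRing.exists_factor_valuationRing
    (IsLocalization.lift (M := p.primeCompl) (S := Localization.AtPrime p) hu)
  have hφ : ∀ a, φ a ∈ V.toSubring := fun a => by
    have := h (algebraMap A _ a)
    rwa [IsLocalization.lift_eq] at this
  refine ⟨V, hφ, ?_⟩
  have hcomp : φ.codRestrict V.toSubring hφ =
      ((IsLocalization.lift (M := p.primeCompl) (S := Localization.AtPrime p) hu).codRestrict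
        V.toSubring h).comp (algebraMap A (Localization.AtPrime p)) := by
    apply RingHom.ext
    intro a
    apply Subtype.ext
    show φ a = IsLocalization.lift (M := p.primeCompl) (S := Localization.AtPrime p) hu
      (algebraMap A _ a)
    rw [IsLocalization.lift_eq]
  rw [hcomp, ← Ideal.comap_comap, IsLocalRing.maximalIdeal_comap]
  exact IsLocalization.AtPrime.under_maximalIdeal (Localization.AtPrime p) p

/-- If `η` is bijective at `K`, every valuation subring of `K` is in `V_η`. -/
theorem inV_valuationSubring {K : Type u} [Field K] (V : ValuationSubring K)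
    (hK : Function.Bijective (η.eta K)) : η.InV V :=
  eta_bijective_of_ringEquiv η (FractionRing.algEquiv V K).symm.toRingEquiv hK


theorem apply_eq_zero_of_eq {A : Type u} [CommRing A] (d : η.N A) {p p' : PrimeSpectrum A}
    (h : p = p') (h0 : d p = 0) : d p' = 0 := by subst h; exact h0

/-- Specialization: an element of `M A` vanishing at a prime `P` with `η` bijective at `κ(P)`
vanishes at all specializations of `P`. -/
theorem M_apply_eq_zero_of_le {A : Type u} [CommRing A] (P p : PrimeSpectrum A)
    (hPp : P.asIdeal ≤ p.asIdeal) (hP : Function.Bijective (η.eta P.asIdeal.ResidueField))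
    {d : η.N A} (hd : d ∈ η.M A) (h0 : d P = 0) : d p = 0 := by
  have hker : RingHom.ker (algebraMap A P.asIdeal.ResidueField) ≤ p.asIdeal := by
    rw [Ideal.ker_algebraMap_residueField]; exact hPp
  obtain ⟨V, hφ, hcomap⟩ := exists_valuationSubring_comap_eq
    (algebraMap A P.asIdeal.ResidueField) p.asIdeal hker
  set g : A →+* V := (algebraMap A P.asIdeal.ResidueField).codRestrict V.toSubring hφ with hg
  have hV : η.InV V := inV_valuationSubring η V hP
  obtain ⟨r, hr⟩ := hd V hV g
  -- generic point
  have hgen : PrimeSpectrum.comap g (genPt V) = P := by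
    apply PrimeSpectrum.ext
    ext a
    show g a ∈ (⊥ : Ideal V) ↔ a ∈ P.asIdeal
    rw [Ideal.mem_bot, ← Ideal.algebraMap_residueField_eq_zero (I := P.asIdeal)]
    constructor
    · intro h; exact congrArg Subtype.val h
    · intro h; exact Subtype.ext h
  have h1 : η.Nmap g d (genPt V) = 0 := by
    rw [Nmap_apply, apply_eq_zero_of_eq η d hgen.symm h0, map_zero]
  have hr0 : r = 0 := by
    have h2 := congrFun hr (genPt V)
    rw [h1, t_apply] at h2
    have h3 := (map_eq_zero_iff _ (eta_injective η _)).1 h2
    exact (map_eq_zero_iff _ (algebraMap_genPt_injective V)).1 h3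
  rw [hr0, map_zero] at hr
  -- closed point
  have hcl : PrimeSpectrum.comap g (IsLocalRing.closedPoint V) = p := by
    apply PrimeSpectrum.ext
    exact hcomap
  have h4 := congrFun hr (IsLocalRing.closedPoint V)
  rw [Nmap_apply] at h4
  have h5 : d (PrimeSpectrum.comap g (IsLocalRing.closedPoint V)) = 0 :=
    (map_eq_zero_iff _ (map_injective η _)).1 h4.symm
  exact apply_eq_zero_of_eq η d hcl h5

end Groth.Agent.H69
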