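import Mathlib.FieldTheory.IsAlgClosed.Basic
import Mathlib.RingTheory.Ideal.GoingUp
import Mathlib.FieldTheory.IsAlgClosed.AlgebraicClosure

set_option autoImplicit false
universe u

namespace Groth.Agent.H69

/-- Extension of a ring hom into an algebraically closed field along an injective integral map. -/
theorem exists_extension_algClosed {E B Ω : Type u} [CommRing E] [CommRing B] [Algebra E B]
    [Algebra.IsIntegral E B] (hinj : Function.Injective (algebraMap E B))
    [Field Ω] [IsAlgClosed Ω] (α : E →+* Ω) :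
    ∃ α' : B →+* Ω, α'.comp (algebraMap E B) = α := by
  have hP : (RingHom.ker α).IsPrime := RingHom.ker_isPrime α
  obtain ⟨P', -, hP'prime, hP'⟩ := Ideal.exists_ideal_over_prime_of_isIntegral (RingHom.ker α)
    (⊥ : Ideal B) (by rw [Ideal.comap_bot_of_injective _ hinj]; exact bot_le)
  have hcp : (P'.comap (algebraMap E B)).IsPrime := Ideal.IsPrime.comap _
  let α₁ : E ⧸ P'.comap (algebraMap E B) →+* Ω :=
    Ideal.Quotient.lift _ α (fun a ha => by rw [hP'] at ha; exact ha)
  have hα₁inj : Function.Injective α₁ := by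
    rw [injective_iff_map_eq_zero]
    intro x hx
    obtain ⟨a, rfl⟩ := Ideal.Quotient.mk_surjective x
    rw [Ideal.Quotient.eq_zero_iff_mem, hP']
    exact hx
  let _ : Algebra (E ⧸ P'.comap (algebraMap E B)) Ω := α₁.toAlgebra
  have : Module.IsTorsionFree (E ⧸ P'.comap (algebraMap E B)) Ω :=
    Module.isTorsionFree_iff_algebraMap_injective.2 hα₁inj
  have : Module.IsTorsionFree (E ⧸ P'.comap (algebraMap E B)) (B ⧸ P') :=
    Module.isTorsionFree_iff_algebraMap_injective.2 Ideal.algebraMap_quotient_injective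
  have : Algebra.IsIntegral (E ⧸ P'.comap (algebraMap E B)) (B ⧸ P') := .tower_top E
  have : Algebra.IsAlgebraic (E ⧸ P'.comap (algebraMap E B)) (B ⧸ P') :=
    Algebra.IsIntegral.isAlgebraic
  let σ : (B ⧸ P') →ₐ[E ⧸ P'.comap (algebraMap E B)] Ω := IsAlgClosed.lift
  refine ⟨σ.toRingHom.comp (Ideal.Quotient.mk P'), ?_⟩
  apply RingHom.ext
  intro a
  show σ (Ideal.Quotient.mk P' (algebraMap E B a)) = α a
  have h1 : Ideal.Quotient.mk P' (algebraMap E B a) =
      algebraMap (E ⧸ P'.comap (algebraMap E B)) (B ⧸ P') (Ideal.Quotient.mk _ a) := rfl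
  rw [h1, σ.commutes]
  rfl

end Groth.Agent.H69
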