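import Groth.Agent.H69.EtaDescent

set_option autoImplicit false
universe u

namespace Groth.Agent.H69

open EtaPt EtaPt.FieldEndo

variable (η : FieldEndo.{u})

section

variable {A B : Type u} [CommRing A] [CommRing B]

/-- The image of an integral extension lands in any valuation subring containing the image of the
base. -/
theorem mem_valuationSubring_of_isIntegral {K' : Type u} [Field K'] (f : A →+* B)
    (hf : f.IsIntegral) (h : B →+* K') (V' : ValuationSubring K')
    (hV : ∀ a, h (f a) ∈ V'.toSubring) (b : B) : h b ∈ V'.toSubring := by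
  obtain ⟨p, hp, hpb⟩ := hf b
  let gV : A →+* V' := (h.comp f).codRestrict V'.toSubring hV
  have hI : IsIntegral V' (h b) := by
    refine ⟨p.map gV, hp.map gV, ?_⟩
    rw [Polynomial.eval₂_map]
    have hcomp : (algebraMap V' K').comp gV = h.comp f := RingHom.ext fun a => rfl
    rw [hcomp, ← Polynomial.hom_eval₂, hpb, map_zero]
  obtain ⟨v, hv⟩ := IsIntegrallyClosed.algebraMap_eq_of_integral hI
  have : (v : K') = h b := hv
  rw [← this]
  exact v.2

/-- For an integral map with surjective `Spec`, membership in `M` descends. -/
theorem mem_M_of_Nmap_mem_M (f : A →+* B) (hf : f.IsIntegral)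
    (hs : Function.Surjective (PrimeSpectrum.comap f)) (x : η.N A)
    (hx : η.Nmap f x ∈ η.M B) : x ∈ η.M A := by
  intro R _ _ _ hR g
  obtain ⟨Q, hQ⟩ := hs ⟨RingHom.ker g, RingHom.ker_isPrime g⟩
  have hker : (PrimeSpectrum.comap f Q).asIdeal = RingHom.ker g :=
    congrArg PrimeSpectrum.asIdeal hQ
  have hinjR : Function.Injective (algebraMap R (FractionRing R)) :=
    IsFractionRing.injective R (FractionRing R)
  let i₁ : (PrimeSpectrum.comap f Q).asIdeal.ResidueField →+* FractionRing R :=
    Ideal.ResidueField.lift _ ((algebraMap R (FractionRing R)).comp g)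
      (by
        intro a ha
        rw [hker] at ha
        rw [RingHom.mem_ker] at ha ⊢
        rw [RingHom.comp_apply, ha, map_zero])
      (by
        intro a ha
        rw [Submonoid.mem_comap]
        show IsUnit _
        rw [isUnit_iff_ne_zero, RingHom.comp_apply]
        intro h0
        have h1 : g a = 0 := (map_eq_zero_iff _ hinjR).1 h0
        apply ha
        show a ∈ (PrimeSpectrum.comap f Q).asIdeal
        rw [hker]
        exact h1)
  have hi₁ : ∀ a, i₁ (algebraMap A _ a) = algebraMap R (FractionRing R) (g a) := fun a =>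
    Ideal.ResidueField.lift_algebraMap _ _ _ _ a
  obtain ⟨L, instL, j₁, j₂, hj⟩ := exists_common_field_extension i₁ (resMap f Q)
  let jR : R →+* η.obj L := (η.eta L).comp (j₁.comp (algebraMap R (FractionRing R)))
  have hjR : Function.Injective jR := by
    intro a b hab
    apply hinjR
    apply j₁.injective
    exact eta_injective η L hab
  let h : B →+* η.obj L := (η.eta L).comp (j₂.comp (algebraMap B Q.asIdeal.ResidueField))
  have hhf : ∀ a, h (f a) = jR (g a) := by
    intro a
    show η.eta L (j₂ (algebraMap B _ (f a))) = η.eta L (j₁ (algebraMap R _ (g a)))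
    rw [← resMap_algebraMap, ← hi₁]
    exact congrArg (η.eta L) (congrArg (fun φ : _ →+* L => φ (algebraMap A _ a)) hj).symm
  apply mem_range_t_of_forall_valuationSubring η R jR hR hjR
  intro V' hV
  have hV' : η.InV V' := inV_valuationSubring η V' (eta_obj_bijective η L)
  have hB : ∀ b, h b ∈ V'.toSubring :=
    mem_valuationSubring_of_isIntegral f hf h V' (fun a => by rw [hhf]; exact hV _)
  let g' : B →+* V' := h.codRestrict V'.toSubring hB
  have hcomp : g'.comp f = (jR.codRestrict V'.toSubring hV).comp g :=
    RingHom.ext fun a => Subtype.ext (hhf a)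
  rw [← Nmap_comp_apply, ← hcomp, Nmap_comp_apply]
  exact hx V' hV' g'

end

end Groth.Agent.H69
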