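import Groth.Agent.H69.EtaNormal

set_option autoImplicit false
universe u

namespace Groth.Agent.H69

open EtaPt EtaPt.FieldEndo

variable (η : FieldEndo.{u})

/-- An element of a field lying in all valuation subrings containing the image of `φ` is integral
over `φ`. -/
theorem isIntegralElem_of_forall_valuationSubring {A K : Type u} [CommRing A] [Field K]
    (φ : A →+* K) (y : K)
    (h : ∀ V : ValuationSubring K, (∀ a, φ a ∈ V.toSubring) → y ∈ V) : φ.IsIntegralElem y := by
  have h1 : y ∈ (⨅ V : {V : ValuationSubring K // Set.range φ ⊆ V.toSubring}, V.1.toSubring) := by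
    rw [Subring.mem_iInf]
    rintro ⟨V, hV⟩
    exact h V fun a => hV ⟨a, rfl⟩
  rw [iInf_valuationSubring_superset] at h1
  have h2 : IsIntegral (Subring.closure (Set.range φ)) y := h1
  have hcl : Subring.closure (Set.range φ) = φ.range := by
    rw [← RingHom.coe_range, Subring.closure_eq]
  rw [hcl] at h2
  let _ : Algebra A K := φ.toAlgebra
  let _ : Algebra A φ.range := (φ.rangeRestrict).toAlgebra
  have : IsScalarTower A φ.range K := IsScalarTower.of_algebraMap_eq (fun _ => rfl)
  have : Algebra.IsIntegral A φ.range :=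
    Algebra.isIntegral_of_surjective φ.rangeRestrict_surjective
  exact isIntegral_trans (R := A) y h2

section

variable {A : Type u} [CommRing A]

/-- The kernel of `A → κ(P) → F(κ(P))` is `P`. -/
theorem ker_eta_comp_algebraMap (P : PrimeSpectrum A) :
    RingHom.ker ((η.eta P.asIdeal.ResidueField).comp (algebraMap A P.asIdeal.ResidueField)) =
      P.asIdeal := by
  ext a
  rw [RingHom.mem_ker, RingHom.comp_apply, map_eq_zero_iff _ (eta_injective η _),
    Ideal.algebraMap_residueField_eq_zero]

/-- Specialization: an element of `M A` vanishing at a prime `P` vanishes at all specializations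
of `P`. -/
theorem M_apply_eq_zero_of_le' (P p : PrimeSpectrum A)
    (hPp : P.asIdeal ≤ p.asIdeal) {d : η.N A} (hd : d ∈ η.M A) (h0 : d P = 0) : d p = 0 := by
  have hker : RingHom.ker ((η.eta P.asIdeal.ResidueField).comp
      (algebraMap A P.asIdeal.ResidueField)) ≤ p.asIdeal := by
    rw [ker_eta_comp_algebraMap]; exact hPp
  obtain ⟨V, hφ, hcomap⟩ := exists_valuationSubring_comap_eq
    ((η.eta P.asIdeal.ResidueField).comp (algebraMap A P.asIdeal.ResidueField)) p.asIdeal hker
  set g : A →+* V := ((η.eta P.asIdeal.ResidueField).comp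
    (algebraMap A P.asIdeal.ResidueField)).codRestrict V.toSubring hφ with hg
  have hV : η.InV V := inV_valuationSubring η V (eta_obj_bijective η _)
  obtain ⟨r, hr⟩ := hd V hV g
  have hgen : PrimeSpectrum.comap g (genPt V) = P := by
    apply PrimeSpectrum.ext
    ext a
    show g a ∈ (⊥ : Ideal V) ↔ a ∈ P.asIdeal
    rw [Ideal.mem_bot]
    refine Iff.trans ?_ (SetLike.ext_iff.1 (ker_eta_comp_algebraMap η P) a)
    rw [RingHom.mem_ker]
    constructor
    · intro h; exact congrArg Subtype.val h
    · intro h; exact Subtype.ext h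
  have h1 : η.Nmap g d (genPt V) = 0 := by
    rw [Nmap_apply, apply_eq_zero_of_eq η d hgen.symm h0, map_zero]
  have hr0 : r = 0 := by
    have h2 := congrFun hr (genPt V)
    rw [h1, t_apply] at h2
    have h3 := (map_eq_zero_iff _ (eta_injective η _)).1 h2
    exact (map_eq_zero_iff _ (algebraMap_genPt_injective V)).1 h3
  rw [hr0, map_zero] at hr
  have hcl : PrimeSpectrum.comap g (IsLocalRing.closedPoint V) = p := by
    apply PrimeSpectrum.ext
    exact hcomap
  have h4 := congrFun hr (IsLocalRing.closedPoint V)
  rw [Nmap_apply] at h4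
  have h5 : d (PrimeSpectrum.comap g (IsLocalRing.closedPoint V)) = 0 :=
    (map_eq_zero_iff _ (map_injective η _)).1 h4.symm
  exact apply_eq_zero_of_eq η d hcl h5

/-- Each component of an element of `M A` is integral over `A`. -/
theorem M_apply_isIntegralElem {x : η.N A} (hx : x ∈ η.M A) (P : PrimeSpectrum A) :
    ((η.eta P.asIdeal.ResidueField).comp (algebraMap A P.asIdeal.ResidueField)).IsIntegralElem
      (x P) := by
  apply isIntegralElem_of_forall_valuationSubring
  intro V hφ
  set g : A →+* V := ((η.eta P.asIdeal.ResidueField).comp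
    (algebraMap A P.asIdeal.ResidueField)).codRestrict V.toSubring hφ with hg
  have hV : η.InV V := inV_valuationSubring η V (eta_obj_bijective η _)
  obtain ⟨r, hr⟩ := hx V hV g
  have hgen : PrimeSpectrum.comap g (genPt V) = P := by
    apply PrimeSpectrum.ext
    ext a
    show g a ∈ (⊥ : Ideal V) ↔ a ∈ P.asIdeal
    rw [Ideal.mem_bot]
    refine Iff.trans ?_ (SetLike.ext_iff.1 (ker_eta_comp_algebraMap η P) a)
    rw [RingHom.mem_ker]
    constructor
    · intro h; exact congrArg Subtype.val h
    · intro h; exact Subtype.ext h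
  let ι : η.obj P.asIdeal.ResidueField ≃ₐ[V] (genPt V).asIdeal.ResidueField :=
    IsLocalization.algEquiv (nonZeroDivisors V) _ _
  have hι : ((ι : η.obj P.asIdeal.ResidueField →+* (genPt V).asIdeal.ResidueField).comp
      (η.eta P.asIdeal.ResidueField)).comp (algebraMap A P.asIdeal.ResidueField) =
      (algebraMap V (genPt V).asIdeal.ResidueField).comp g := by
    apply RingHom.ext
    intro a
    exact ι.commutes (g a)
  have h1 := Nmap_apply_of_comap_eq η g x (genPt V) P hgen _ hι
  rw [← hr, t_apply, map_comp_apply, ← eta_obj_eq_map_eta, map_eta] at h1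
  have h2 := eta_injective η _ h1
  have h3 : (ι : η.obj P.asIdeal.ResidueField →+* (genPt V).asIdeal.ResidueField) (r : _) =
      algebraMap V (genPt V).asIdeal.ResidueField r := ι.commutes r
  rw [← h3] at h2
  have h4 : (r : η.obj P.asIdeal.ResidueField) = x P := ι.injective h2
  exact h4 ▸ r.2

end

end Groth.Agent.H69
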