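import Groth.Agent.H69.EtaBasic

set_option autoImplicit false
universe u

namespace Groth.Agent.H69

open EtaPt EtaPt.FieldEndo

variable (η : FieldEndo.{u})

/-- The generic point of a domain. -/
abbrev genPt (R : Type u) [CommRing R] [IsDomain R] : PrimeSpectrum R := ⟨⊥, Ideal.isPrime_bot⟩

section ValRing

variable (R : Type u) [CommRing R] [IsDomain R]

theorem eta_bijective_genPt (hR : η.InV R) :
    Function.Bijective (η.eta (genPt R).asIdeal.ResidueField) :=
  eta_bijective_of_ringEquiv η
    (FractionRing.algEquiv R (genPt R).asIdeal.ResidueField).toRingEquiv hR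

theorem algebraMap_genPt_injective :
    Function.Injective (algebraMap R (genPt R).asIdeal.ResidueField) :=
  IsFractionRing.injective R (genPt R).asIdeal.ResidueField

variable [IsIntegrallyClosed R]

/-- Key lemma: an element of `N R` a power of which is in the image of `t`, is in the image of `t`,
provided that power map is injective on the residue fields. -/
theorem mem_range_t_of_pow (hR : η.InV R) (w : η.N R) (m : ℕ) (hm : 0 < m) (c : R)
    (hw : w ^ m = η.t R c)
    (hinj : ∀ (q : PrimeSpectrum R) (a b : η.obj q.asIdeal.ResidueField), a ^ m = b ^ m → a = b) :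
    w ∈ (η.t R).range := by
  obtain ⟨y, hy⟩ := (eta_bijective_genPt η R hR).2 (w (genPt R))
  have h1 : η.eta _ (y ^ m) = η.eta _ (algebraMap R (genPt R).asIdeal.ResidueField c) := by
    rw [map_pow, hy]
    exact congrFun hw (genPt R)
  have h2 : y ^ m = algebraMap R (genPt R).asIdeal.ResidueField c := eta_injective η _ h1
  have hint : IsIntegral R y := by
    refine ⟨Polynomial.X ^ m - Polynomial.C c, Polynomial.monic_X_pow_sub_C c hm.ne', ?_⟩
    simp [h2]
  obtain ⟨r, hr⟩ := IsIntegrallyClosed.algebraMap_eq_of_integral hint
  have hrc : r ^ m = c := by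
    apply algebraMap_genPt_injective R
    rw [map_pow, hr, h2]
  refine ⟨r, ?_⟩
  funext q
  apply hinj q
  have := congrFun hw q
  rw [Pi.pow_apply] at this
  rw [this, ← hrc, map_pow]
  rfl

end ValRing

end Groth.Agent.H69
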