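import Groth.Agent.H69.EtaSpec
import Groth.Agent.H69.EtaVal

set_option autoImplicit false
universe u

namespace Groth.Agent.H69

open EtaPt EtaPt.FieldEndo

variable (η : FieldEndo.{u})

/-- Corestrict a ring hom along an injective ring hom whose range contains its range. -/
theorem exists_ringHom_of_range_le {R K B : Type*} [CommRing R] [CommRing K] [CommRing B]
    (ι : R →+* K) (hι : Function.Injective ι) (φ : B →+* K) (h : ∀ b, φ b ∈ ι.range) :
    ∃ φ' : B →+* R, ∀ b, ι (φ' b) = φ b := by
  let e : R ≃+* ι.range := RingEquiv.ofBijective ι.rangeRestrict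
    ⟨fun a b hab => hι (congrArg Subtype.val hab), ι.rangeRestrict_surjective⟩
  refine ⟨e.symm.toRingHom.comp (φ.codRestrict ι.range h), fun b => ?_⟩
  have h1 : e (e.symm (φ.codRestrict ι.range h b)) = φ.codRestrict ι.range h b :=
    e.apply_symm_apply _
  exact congrArg Subtype.val h1

section

variable {A B : Type u} [CommRing A] [CommRing B]

/-- Extension of a map to a valuation ring in `V_η` along an integral map, at a prime where the
residue field extension is an `F`-isomorphism. -/
theorem exists_lift_of_map_resMap_bijective (f : A →+* B) (hf : f.IsIntegral)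
    (Q : PrimeSpectrum B) (hσ : Function.Bijective (η.map (resMap f Q)))
    (R : Type u) [CommRing R] [IsDomain R] [ValuationRing R] (hR : η.InV R) (g : A →+* R)
    (hker : (PrimeSpectrum.comap f Q).asIdeal = RingHom.ker g) :
    ∃ g' : B →+* R, g'.comp f = g := by
  have hinjR : Function.Injective (algebraMap R (FractionRing R)) :=
    IsFractionRing.injective R (FractionRing R)
  let j : (PrimeSpectrum.comap f Q).asIdeal.ResidueField →+* FractionRing R :=
    Ideal.ResidueField.lift _ ((algebraMap R (FractionRing R)).comp g)
      (by
        intro a ha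
        rw [hker] at ha
        rw [RingHom.mem_ker] at ha ⊢
        rw [RingHom.comp_apply, ha, map_zero])
      (by
        intro a ha
        rw [Submonoid.mem_comap]
        show IsUnit _
        rw [isUnit_iff_ne_zero, RingHom.comp_apply]
        intro h0
        have h1 : g a = 0 := (map_eq_zero_iff _ hinjR).1 h0
        apply ha
        show a ∈ (PrimeSpectrum.comap f Q).asIdeal
        rw [hker]
        exact h1)
  have hj : ∀ a, j (algebraMap A _ a) = algebraMap R (FractionRing R) (g a) := fun a =>
    Ideal.ResidueField.lift_algebraMap _ _ _ _ a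
  let eK : FractionRing R ≃+* η.obj (FractionRing R) := RingEquiv.ofBijective (η.eta _) hR
  let eσ := RingEquiv.ofBijective (η.map (resMap f Q)) hσ
  let h : Q.asIdeal.ResidueField →+* FractionRing R :=
    eK.symm.toRingHom.comp ((η.map j).comp (eσ.symm.toRingHom.comp (η.eta Q.asIdeal.ResidueField)))
  have hh : ∀ z, h (resMap f Q z) = j z := by
    intro z
    show eK.symm (η.map j (eσ.symm (η.eta _ (resMap f Q z)))) = j z
    rw [← map_eta]
    have h1 : eσ.symm (η.map (resMap f Q) (η.eta _ z)) = η.eta _ z := eσ.symm_apply_apply _
    rw [h1, map_eta]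
    exact eK.symm_apply_apply _
  let g'' : B →+* FractionRing R := h.comp (algebraMap B Q.asIdeal.ResidueField)
  have hg'' : ∀ a, g'' (f a) = algebraMap R (FractionRing R) (g a) := by
    intro a
    show h (algebraMap B _ (f a)) = _
    rw [← resMap_algebraMap, hh, hj]
  have hint : ∀ b, g'' b ∈ (algebraMap R (FractionRing R)).range := by
    intro b
    obtain ⟨p, hp, hpb⟩ := hf b
    have hI : IsIntegral R (g'' b) := by
      refine ⟨p.map g, hp.map g, ?_⟩
      rw [Polynomial.eval₂_map]
      have hcomp : (algebraMap R (FractionRing R)).comp g = g''.comp f :=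
        RingHom.ext fun a => (hg'' a).symm
      rw [hcomp, ← Polynomial.hom_eval₂, hpb, map_zero]
    exact IsIntegrallyClosed.algebraMap_eq_of_integral hI
  obtain ⟨g', hg'⟩ := exists_ringHom_of_range_le (algebraMap R (FractionRing R)) hinjR g'' hint
  refine ⟨g', RingHom.ext fun a => hinjR ?_⟩
  rw [RingHom.comp_apply, hg', hg'']

end

end Groth.Agent.H69
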