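import Groth.Agent.H69.EtaDom

set_option autoImplicit false
universe u

namespace Groth.Agent.H69

open EtaPt EtaPt.FieldEndo

variable (η : FieldEndo.{u})

/-- For an integrally closed domain `A` with fraction field `K`, an element of `K` not in `A` is
excluded by some valuation subring containing `A`. -/
theorem exists_valuationSubring_not_mem {A K : Type u} [CommRing A] [IsDomain A]
    [IsIntegrallyClosed A] [Field K] [Algebra A K] [IsFractionRing A K] (y : K)
    (hy : y ∉ (algebraMap A K).range) :
    ∃ V : ValuationSubring K, (∀ a, algebraMap A K a ∈ V.toSubring) ∧ y ∉ V := by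
  set R : Subring K := (algebraMap A K).range with hR
  let _ : Algebra A R := ((algebraMap A K).rangeRestrict).toAlgebra
  have : IsScalarTower A R K := IsScalarTower.of_algebraMap_eq (fun _ => rfl)
  have : Algebra.IsIntegral A R :=
    Algebra.isIntegral_of_surjective (algebraMap A K).rangeRestrict_surjective
  have : IsIntegrallyClosedIn R K := by
    rw [Subring.isIntegrallyClosedIn_iff]
    intro x hx
    have hx' : IsIntegral A x := isIntegral_trans x hx
    exact IsIntegrallyClosed.algebraMap_eq_of_integral hx'
  obtain ⟨V, hV, hyV⟩ := Subring.exists_le_valuationSubring_of_isIntegrallyClosedIn (R := R) hy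
  exact ⟨V, fun a => hV ⟨a, rfl⟩, hyV⟩

section

variable {A B : Type u} [CommRing A] [CommRing B]

/-- Computing a component of `Nmap f x` through any compatible residue field map. -/
theorem Nmap_apply_of_comap_eq (f : A →+* B) (x : η.N A) (q : PrimeSpectrum B)
    (p : PrimeSpectrum A) (h : PrimeSpectrum.comap f q = p)
    (ι : p.asIdeal.ResidueField →+* q.asIdeal.ResidueField)
    (hι : ι.comp (algebraMap A p.asIdeal.ResidueField) =
      (algebraMap B q.asIdeal.ResidueField).comp f) :
    η.Nmap f x q = η.map ι (x p) := by
  subst h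
  have : ι = resMap f q := by
    apply Ideal.ResidueField.ringHom_ext
    rw [hι]
    apply RingHom.ext
    intro a
    exact (resMap_algebraMap f q a).symm
  rw [this]
  rfl

end


/-- For an integrally closed domain `A` in `V_η`, the generic component of an element of `M A`
comes from `A`. -/
theorem M_genPt_mem_range {A : Type u} [CommRing A] [IsDomain A] [IsIntegrallyClosed A]
    (hA : η.InV A) {x : η.N A} (hx : x ∈ η.M A) :
    ∃ a : A, η.t A a (genPt A) = x (genPt A) := by
  have hP := eta_bijective_genPt η A hA
  obtain ⟨y, hy⟩ := hP.2 (x (genPt A))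
  by_cases hyA : y ∈ (algebraMap A (genPt A).asIdeal.ResidueField).range
  · obtain ⟨a, ha⟩ := hyA
    exact ⟨a, by rw [t_apply, ha, hy]⟩
  exfalso
  obtain ⟨V, hV, hyV⟩ := exists_valuationSubring_not_mem y hyA
  set g : A →+* V := (algebraMap A (genPt A).asIdeal.ResidueField).codRestrict V.toSubring hV
    with hg
  have hVin : η.InV V := inV_valuationSubring η V hP
  obtain ⟨r, hr⟩ := hx V hVin g
  let ι : (genPt A).asIdeal.ResidueField ≃ₐ[V] (genPt V).asIdeal.ResidueField :=
    IsLocalization.algEquiv (nonZeroDivisors V) _ _
  have hgen : PrimeSpectrum.comap g (genPt V) = genPt A := by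
    apply PrimeSpectrum.ext
    ext a
    show g a ∈ (⊥ : Ideal V) ↔ a ∈ (⊥ : Ideal A)
    rw [Ideal.mem_bot, Ideal.mem_bot]
    constructor
    · intro h
      have h' : algebraMap A (genPt A).asIdeal.ResidueField a = 0 := congrArg Subtype.val h
      exact (map_eq_zero_iff _ (algebraMap_genPt_injective A)).1 h'
    · intro h; rw [h, map_zero]
  have hι : (ι : (genPt A).asIdeal.ResidueField →+* (genPt V).asIdeal.ResidueField).comp
      (algebraMap A (genPt A).asIdeal.ResidueField) =
      (algebraMap V (genPt V).asIdeal.ResidueField).comp g := by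
    apply RingHom.ext
    intro a
    exact ι.commutes (g a)
  have h1 := Nmap_apply_of_comap_eq η g x (genPt V) (genPt A) hgen _ hι
  rw [← hr, t_apply, ← hy, map_eta] at h1
  have h2 := eta_injective η _ h1
  have h3 : (ι : (genPt A).asIdeal.ResidueField →+* (genPt V).asIdeal.ResidueField) (r : _) =
      algebraMap V (genPt V).asIdeal.ResidueField r := ι.commutes r
  rw [← h3] at h2
  have h4 : (r : (genPt A).asIdeal.ResidueField) = y := ι.injective h2
  exact hyV (h4 ▸ r.2)

end Groth.Agent.H69
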