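import Groth.Agent.H69.EtaPrimes
import Groth.Agent.H69.EtaProd
import Groth.Prelude.Def_EGA4b
import Mathlib.RingTheory.LocalProperties.Reduced
import Mathlib.RingTheory.Ideal.MinimalPrime.Localization

set_option autoImplicit false
universe u

namespace Groth.Agent.H69

open EtaPt EtaPt.FieldEndo

variable (η : FieldEndo.{u})

section

variable {A : Type u} [CommRing A]

/-- The ideal of denominators of an element of `N A`. -/
def denomIdeal (x : η.N A) : Ideal A where
  carrier := {s | ∃ b, η.t A s * x = η.t A b}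
  add_mem' := by
    rintro s s' ⟨b, hb⟩ ⟨b', hb'⟩
    exact ⟨b + b', by rw [map_add, add_mul, hb, hb', map_add]⟩
  zero_mem' := ⟨0, by rw [map_zero, zero_mul]⟩
  smul_mem' := by
    rintro c s ⟨b, hb⟩
    exact ⟨c * b, by rw [smul_eq_mul, map_mul, mul_assoc, hb, map_mul]⟩

theorem mem_denomIdeal {x : η.N A} {s : A} : s ∈ denomIdeal η x ↔ ∃ b, η.t A s * x = η.t A b :=
  Iff.rfl

/-- Local step for normal rings. -/
theorem exists_mem_denomIdeal_not_mem (hA : (minimalPrimes A).Finite)
    (hη : ∀ p : PrimeSpectrum A, p.asIdeal ∈ minimalPrimes A →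
      Function.Bijective (η.eta p.asIdeal.ResidueField))
    (p : Ideal A) [hp : p.IsPrime] [IsDomain (Localization.AtPrime p)]
    [IsIntegrallyClosed (Localization.AtPrime p)] {x : η.N A} (hx : x ∈ η.M A) :
    ∃ s ∈ denomIdeal η x, s ∉ p := by
  classical
  have hso : (algebraMap A (Localization.AtPrime p)).SurjectiveOnStalks :=
    RingHom.surjectiveOnStalks_of_isLocalization p.primeCompl (Localization.AtPrime p)
  -- the minimal prime below `p`
  obtain ⟨P₀, hP₀⟩ : ∃ P₀ : PrimeSpectrum A, P₀ = PrimeSpectrum.comap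
      (algebraMap A (Localization.AtPrime p)) (genPt (Localization.AtPrime p)) := ⟨_, rfl⟩
  have hP₀min : P₀.asIdeal ∈ minimalPrimes A := by
    have h1 := IsLocalization.minimalPrimes_map p.primeCompl (Localization.AtPrime p)
      (⊥ : Ideal A)
    rw [Ideal.map_bot] at h1
    have h2 : (⊥ : Ideal (Localization.AtPrime p)) ∈
        (⊥ : Ideal (Localization.AtPrime p)).minimalPrimes := by
      have := IsDomain.minimalPrimes_eq_singleton_bot (Localization.AtPrime p)
      show (⊥ : Ideal (Localization.AtPrime p)) ∈ minimalPrimes (Localization.AtPrime p)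
      rw [this]; rfl
    rw [h1] at h2
    rw [hP₀]
    exact h2
  have hP₀le : ∀ a ∈ P₀.asIdeal, ∃ u ∉ p, u * a = 0 := by
    intro a ha
    rw [hP₀] at ha
    have h0 : algebraMap A (Localization.AtPrime p) a = 0 := ha
    obtain ⟨⟨u, hu⟩, hua⟩ := (IsLocalization.map_eq_zero_iff p.primeCompl _ a).1 h0
    exact ⟨u, hu, hua⟩
  -- `η` is bijective at the fraction field of the localization
  have hbijres : Function.Bijective (resMap (algebraMap A (Localization.AtPrime p))
      (genPt (Localization.AtPrime p))) := hso.residueFieldMap_bijective _ _ rfl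
  have hInV : η.InV (Localization.AtPrime p) := by
    have h1 : Function.Bijective (η.eta (PrimeSpectrum.comap
        (algebraMap A (Localization.AtPrime p))
        (genPt (Localization.AtPrime p))).asIdeal.ResidueField) := by
      have := hη P₀ hP₀min
      rw [hP₀] at this
      exact this
    have h2 := eta_bijective_of_ringEquiv η (RingEquiv.ofBijective _ hbijres) h1
    exact eta_bijective_of_ringEquiv η
      (FractionRing.algEquiv (Localization.AtPrime p)
        (genPt (Localization.AtPrime p)).asIdeal.ResidueField).symm.toRingEquiv h2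
  have hxp : η.Nmap (algebraMap A (Localization.AtPrime p)) x ∈ η.M (Localization.AtPrime p) :=
    Nmap_mem_M η _ hx
  obtain ⟨a', ha'⟩ := M_genPt_mem_range η hInV hxp
  obtain ⟨⟨b, s⟩, hbs⟩ := IsLocalization.surj p.primeCompl a'
  have hbs' : a' * algebraMap A (Localization.AtPrime p) (s : A) =
      algebraMap A (Localization.AtPrime p) b := hbs
  -- `d = t s * x - t b` vanishes at `P₀`
  have hd : η.t A (s : A) * x - η.t A b ∈ η.M A :=
    Subring.sub_mem _ (Subring.mul_mem _ (η.t_mem_M A _) hx) (η.t_mem_M A _)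
  have hdP₀ : (η.t A (s : A) * x - η.t A b) P₀ = 0 := by
    have h1 : η.Nmap (algebraMap A (Localization.AtPrime p)) (η.t A (s : A) * x - η.t A b)
        (genPt (Localization.AtPrime p)) = 0 := by
      rw [map_sub, map_mul, η.Nmap_t_apply, η.Nmap_t_apply]
      show η.t _ (algebraMap A (Localization.AtPrime p) (s : A)) (genPt (Localization.AtPrime p)) *
        η.Nmap (algebraMap A (Localization.AtPrime p)) x (genPt (Localization.AtPrime p)) -
        η.t _ (algebraMap A (Localization.AtPrime p) b) (genPt (Localization.AtPrime p)) = 0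
      rw [← ha', t_apply, t_apply, t_apply, ← map_mul, ← map_mul, ← map_sub, ← map_sub, mul_comm,
        hbs', sub_self, map_zero, map_zero]
    rw [Nmap_apply] at h1
    have h2 := (map_eq_zero_iff _ (map_injective η _)).1 h1
    exact apply_eq_zero_of_eq η _ hP₀.symm h2
  -- elements of the other minimal primes outside `p`
  have hother : ∀ 𝔮 ∈ hA.toFinset.erase P₀.asIdeal, ∃ e ∈ 𝔮, e ∉ p := by
    intro 𝔮 h𝔮
    rw [Finset.mem_erase] at h𝔮
    obtain ⟨hne, hmin⟩ := h𝔮
    have hmin' := hA.mem_toFinset.1 hmin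
    by_contra hcon
    have hle : 𝔮 ≤ p := fun a ha => by
      by_contra hap
      exact hcon ⟨a, ha, hap⟩
    have h𝔮prime : 𝔮.IsPrime := hmin'.1.1
    have hP₀𝔮 : P₀.asIdeal ≤ 𝔮 := by
      intro a ha
      obtain ⟨u, hu, hua⟩ := hP₀le a ha
      have : u * a ∈ 𝔮 := hua ▸ zero_mem _
      rcases h𝔮prime.mem_or_mem this with h | h
      · exact (hu (hle h)).elim
      · exact h
    have : 𝔮 ≤ P₀.asIdeal := hmin'.2 ⟨P₀.isPrime, bot_le⟩ hP₀𝔮
    exact hne (le_antisymm this hP₀𝔮)
  choose! e he using hother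
  set s' : A := ∏ 𝔮 ∈ hA.toFinset.erase P₀.asIdeal, e 𝔮 with hs'
  have hs'p : s' ∉ p := by
    intro hmem
    obtain ⟨𝔮, h𝔮, h⟩ := Ideal.IsPrime.prod_mem_iff.1 hmem
    exact (he 𝔮 h𝔮).2 h
  have hs'q : ∀ 𝔮 ∈ hA.toFinset.erase P₀.asIdeal, s' ∈ 𝔮 := by
    intro 𝔮 h𝔮
    obtain ⟨c, hc⟩ := Finset.dvd_prod_of_mem e h𝔮
    rw [hs', hc]
    exact 𝔮.mul_mem_right c (he 𝔮 h𝔮).1
  refine ⟨s' * (s : A), ?_, ?_⟩
  · refine ⟨s' * b, ?_⟩
    have hd' : η.t A s' * (η.t A (s : A) * x - η.t A b) = 0 := by
      apply M_eq_zero_of_minimalPrimes η (Subring.mul_mem _ (η.t_mem_M A _) hd)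
      intro P hP
      show η.t A s' P * (η.t A (s : A) * x - η.t A b) P = 0
      by_cases hPP : P = P₀
      · rw [hPP, hdP₀, mul_zero]
      · have hmem : P.asIdeal ∈ hA.toFinset.erase P₀.asIdeal := by
          rw [Finset.mem_erase]
          refine ⟨fun h => hPP (PrimeSpectrum.ext h), hA.mem_toFinset.2 hP⟩
        have : η.t A s' P = 0 := by
          rw [t_apply, Ideal.algebraMap_residueField_eq_zero.2 (hs'q _ hmem), map_zero]
        rw [this, zero_mul]
    rw [mul_sub, sub_eq_zero] at hd'
    rw [map_mul, map_mul, mul_assoc]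
    exact hd'
  · intro hmem
    rcases hp.mem_or_mem hmem with h | h
    · exact hs'p h
    · exact s.2 h

end

end Groth.Agent.H69
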