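import Groth.Agent.H69.EtaBasic

set_option autoImplicit false
universe u

namespace Groth.Agent.H69

open EtaPt EtaPt.FieldEndo

variable (η : FieldEndo.{u})

section

variable {A B : Type u} [CommRing A] [CommRing B]

/-- `N f` injective implies `Spec f` surjective. -/
theorem comap_surjective_of_Nmap_injective (f : A →+* B)
    (h : Function.Injective (η.Nmap f)) : Function.Surjective (PrimeSpectrum.comap f) := by
  classical
  intro p
  by_contra hp
  have hp' : ∀ q, PrimeSpectrum.comap f q ≠ p := fun q hq => hp ⟨q, hq⟩
  let x : η.N A := fun p' => if p' = p then 1 else 0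
  have hx : η.Nmap f x = 0 := by
    funext q
    rw [Nmap_apply]
    have : x (PrimeSpectrum.comap f q) = 0 := if_neg (hp' q)
    rw [this, map_zero]; rfl
  have hx0 : x = 0 := h (by rw [hx, map_zero])
  have h1 : x p = 1 := if_pos rfl
  have h2 : x p = 0 := by rw [hx0]; rfl
  exact one_ne_zero (h1.symm.trans h2)

/-- `N f` surjective implies `Spec f` injective. -/
theorem comap_injective_of_Nmap_surjective (f : A →+* B)
    (h : Function.Surjective (η.Nmap f)) : Function.Injective (PrimeSpectrum.comap f) := by
  classical
  intro q₁ q₂ hq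
  by_contra hne
  let y : η.N B := fun q => if q = q₁ then 1 else 0
  obtain ⟨x, hx⟩ := h y
  have h1 : y q₁ = 1 := if_pos rfl
  have h2 : y q₂ = 0 := if_neg (Ne.symm hne)
  rw [← hx, Nmap_apply] at h1 h2
  have h3 : x (PrimeSpectrum.comap f q₂) = 0 := (map_eq_zero_iff _ (map_injective η _)).1 h2
  have h4 : x (PrimeSpectrum.comap f q₁) = 0 := by
    revert h3
    generalize PrimeSpectrum.comap f q₂ = p at hq
    subst hq
    exact id
  rw [h4, map_zero] at h1
  exact zero_ne_one h1

/-- `N f` surjective implies each `F(κ(f⁻¹ q) → κ(q))` is surjective. -/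
theorem map_resMap_surjective_of_Nmap_surjective (f : A →+* B)
    (h : Function.Surjective (η.Nmap f)) (q : PrimeSpectrum B) :
    Function.Surjective (η.map (resMap f q)) := by
  classical
  intro z
  obtain ⟨x, hx⟩ := h (Function.update 0 q z)
  refine ⟨x (PrimeSpectrum.comap f q), ?_⟩
  have := congrFun hx q
  rw [Function.update_self] at this
  exact this

theorem map_resMap_bijective_of_Nmap_surjective (f : A →+* B)
    (h : Function.Surjective (η.Nmap f)) (q : PrimeSpectrum B) :
    Function.Bijective (η.map (resMap f q)) :=
  ⟨map_injective η _, map_resMap_surjective_of_Nmap_surjective η f h q⟩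

/-- If `Spec f` is injective and the residue maps are `F`-surjective then `N f` is surjective. -/
theorem Nmap_surjective_of (f : A →+* B) (hinj : Function.Injective (PrimeSpectrum.comap f))
    (hres : ∀ q, Function.Surjective (η.map (resMap f q))) : Function.Surjective (η.Nmap f) := by
  classical
  intro y
  have key : ∀ p : PrimeSpectrum A, ∃ v : η.obj p.asIdeal.ResidueField,
      ∀ q (hq : PrimeSpectrum.comap f q = p), η.map (resMap f q) (hq ▸ v) = y q := by
    intro p
    by_cases hp : ∃ q, PrimeSpectrum.comap f q = p
    · obtain ⟨q, rfl⟩ := hp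
      obtain ⟨v, hv⟩ := hres q (y q)
      refine ⟨v, ?_⟩
      intro q' hq'
      obtain rfl : q' = q := hinj hq'
      exact hv
    · exact ⟨0, fun q hq => (hp ⟨q, hq⟩).elim⟩
  choose x hx using key
  refine ⟨x, ?_⟩
  funext q
  exact hx (PrimeSpectrum.comap f q) q rfl

end

end Groth.Agent.H69
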