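import Groth.Agent.H69.EtaPrimes
import Groth.Agent.H69.EtaSpec

set_option autoImplicit false
universe u

namespace Groth.Agent.H69

open EtaPt EtaPt.FieldEndo

variable (η : FieldEndo.{u})

section

variable {A : Type u} [CommRing A]

/-- The embedding `κ(Q) → F(κ(Q ∩ A))` for a prime `Q` of `M A`. -/
noncomputable def phiQ (hA : (minimalPrimes A).Finite) (Q : PrimeSpectrum (η.M A)) :
    Q.asIdeal.ResidueField →+* η.obj (PrimeSpectrum.comap (η.q A) Q).asIdeal.ResidueField :=
  Ideal.ResidueField.lift Q.asIdeal (evalM η (PrimeSpectrum.comap (η.q A) Q))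
    (by
      intro x hx
      rw [RingHom.mem_ker]
      exact (mem_prime_iff η hA Q x).1 hx)
    (by
      intro x hx
      rw [Submonoid.mem_comap]
      show IsUnit _
      rw [isUnit_iff_ne_zero]
      intro h0
      exact hx ((mem_prime_iff η hA Q x).2 h0))

theorem phiQ_algebraMap (hA : (minimalPrimes A).Finite) (Q : PrimeSpectrum (η.M A)) (x : η.M A) :
    phiQ η hA Q (algebraMap (η.M A) Q.asIdeal.ResidueField x) =
      (x : η.N A) (PrimeSpectrum.comap (η.q A) Q) :=
  Ideal.ResidueField.lift_algebraMap _ _ _ _ x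

theorem phiQ_comp (hA : (minimalPrimes A).Finite) (Q : PrimeSpectrum (η.M A)) :
    (phiQ η hA Q).comp (resMap (η.q A) Q) =
      η.eta (PrimeSpectrum.comap (η.q A) Q).asIdeal.ResidueField := by
  apply Ideal.ResidueField.ringHom_ext
  apply RingHom.ext
  intro a
  show phiQ η hA Q (resMap (η.q A) Q (algebraMap A _ a)) = _
  rw [resMap_algebraMap, phiQ_algebraMap]
  rfl

/-- `N(q_A)` restricted to `M A` is `t_{M A}`. -/
theorem Nmap_q_eq_t (hA : (minimalPrimes A).Finite) (x : η.M A) :
    η.Nmap (η.q A) (x : η.N A) = η.t (η.M A) x := by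
  funext Q
  rw [Nmap_apply, t_apply]
  apply map_injective η (phiQ η hA Q)
  rw [← map_comp_apply, map_eta, phiQ_algebraMap]
  have h1 : η.map ((phiQ η hA Q).comp (resMap (η.q A) Q))
      ((x : η.N A) (PrimeSpectrum.comap (η.q A) Q)) =
      η.map (η.eta _) ((x : η.N A) (PrimeSpectrum.comap (η.q A) Q)) :=
    congrArg (fun h => η.map h ((x : η.N A) (PrimeSpectrum.comap (η.q A) Q))) (phiQ_comp η hA Q)
  rw [h1, ← eta_obj_eq_map_eta]

theorem eq_zero_of_pow_eq_zero_aux {K : Type*} [Field K] {a : K} {n : ℕ} (h : a ^ n = 0) : a = 0 :=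
  pow_eq_zero_iff (n := n) (by rintro rfl; simp at h) |>.1 h

instance : IsReduced (η.N A) := by
  constructor
  intro x hx
  funext p
  obtain ⟨n, hn⟩ := hx
  have : (x p) ^ n = 0 := congrFun hn p
  exact eq_zero_of_pow_eq_zero_aux this

instance : IsReduced (η.M A) := by
  constructor
  intro x hx
  apply Subtype.ext
  have : IsNilpotent (x : η.N A) := hx.map (η.M A).subtype
  exact IsReduced.eq_zero _ this

end

end Groth.Agent.H69
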