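import Groth.Agent.H69.EtaIntegral

set_option autoImplicit false
universe u

namespace Groth.Agent.H69

open EtaPt EtaPt.FieldEndo

variable (η : FieldEndo.{u})

section

variable {A : Type u} [CommRing A]

/-- Evaluation of `M A` at a prime. -/
noncomputable def evalM (P : PrimeSpectrum A) : η.M A →+* η.obj P.asIdeal.ResidueField :=
  (Pi.evalRingHom (fun p : PrimeSpectrum A => η.obj p.asIdeal.ResidueField) P).comp (η.M A).subtype

theorem evalM_apply (P : PrimeSpectrum A) (x : η.M A) : evalM η P x = (x : η.N A) P := rfl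

theorem evalM_q (P : PrimeSpectrum A) (a : A) :
    evalM η P (η.q A a) = η.eta _ (algebraMap A P.asIdeal.ResidueField a) := rfl

/-- Generic point computation: for a valuation subring `V` of `F(κ(P))` and `g : A → V` lifting
`A → κ(P) → F(κ(P))`, the element `r` with `t V r = N g x` is `x P`. -/
theorem coe_eq_apply_of_t_eq_Nmap (P : PrimeSpectrum A)
    (V : ValuationSubring (η.obj P.asIdeal.ResidueField)) (g : A →+* V)
    (hg : ∀ a, (g a : η.obj P.asIdeal.ResidueField) =
      η.eta _ (algebraMap A P.asIdeal.ResidueField a))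
    (x : η.N A) (r : V) (hr : η.t V r = η.Nmap g x) :
    (r : η.obj P.asIdeal.ResidueField) = x P := by
  have hgen : PrimeSpectrum.comap g (genPt V) = P := by
    apply PrimeSpectrum.ext
    ext a
    show g a ∈ (⊥ : Ideal V) ↔ a ∈ P.asIdeal
    rw [Ideal.mem_bot]
    refine Iff.trans ?_ (SetLike.ext_iff.1 (ker_eta_comp_algebraMap η P) a)
    rw [RingHom.mem_ker]
    constructor
    · intro h
      have := congrArg Subtype.val h
      rw [hg] at this
      exact this
    · intro h
      apply Subtype.ext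
      rw [hg]
      exact h
  let ι : η.obj P.asIdeal.ResidueField ≃ₐ[V] (genPt V).asIdeal.ResidueField :=
    IsLocalization.algEquiv (nonZeroDivisors V) _ _
  have hι : ((ι : η.obj P.asIdeal.ResidueField →+* (genPt V).asIdeal.ResidueField).comp
      (η.eta P.asIdeal.ResidueField)).comp (algebraMap A P.asIdeal.ResidueField) =
      (algebraMap V (genPt V).asIdeal.ResidueField).comp g := by
    apply RingHom.ext
    intro a
    have h1 := ι.commutes (g a)
    show ι (η.eta _ (algebraMap A _ a)) = algebraMap V _ (g a)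
    rw [← hg]
    exact h1
  have h1 := Nmap_apply_of_comap_eq η g x (genPt V) P hgen _ hι
  rw [← hr, t_apply, map_comp_apply, ← eta_obj_eq_map_eta, map_eta] at h1
  have h2 := eta_injective η _ h1
  have h3 : (ι : η.obj P.asIdeal.ResidueField →+* (genPt V).asIdeal.ResidueField) (r : _) =
      algebraMap V (genPt V).asIdeal.ResidueField r := ι.commutes r
  rw [← h3] at h2
  exact ι.injective h2

/-- Closed point computation. -/
theorem apply_comap_eq_zero_iff {R : Type u} [CommRing R] (g : A →+* R) (m : PrimeSpectrum R)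
    (x : η.N A) (r : R) (hr : η.t R r = η.Nmap g x) :
    x (PrimeSpectrum.comap g m) = 0 ↔ r ∈ m.asIdeal := by
  have h1 := congrFun hr m
  rw [Nmap_apply, t_apply] at h1
  rw [← map_eq_zero_iff _ (map_injective η (resMap g m)), ← h1,
    map_eq_zero_iff _ (eta_injective η _), Ideal.algebraMap_residueField_eq_zero]

theorem apply_eq_zero_iff_of_eq (d : η.N A) {p p' : PrimeSpectrum A} (h : p = p') :
    d p = 0 ↔ d p' = 0 := by subst h; exact Iff.rfl

/-- With finitely many minimal primes, an element of `M A` vanishing at the minimal primes is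
zero. -/
theorem M_eq_zero_of_minimalPrimes {d : η.N A} (hd : d ∈ η.M A)
    (h : ∀ P : PrimeSpectrum A, P.asIdeal ∈ minimalPrimes A → d P = 0) : d = 0 := by
  funext p
  obtain ⟨𝔭, h𝔭, hle⟩ := Ideal.exists_minimalPrimes_le (bot_le : (⊥ : Ideal A) ≤ p.asIdeal)
  have h𝔭' : 𝔭.IsPrime := h𝔭.1.1
  exact M_apply_eq_zero_of_le' η ⟨𝔭, h𝔭'⟩ p hle hd (h ⟨𝔭, h𝔭'⟩ h𝔭)

/-- Every prime of `M A` contains the kernel of evaluation at some minimal prime. -/
theorem exists_minimalPrime_ker_evalM_le (hA : (minimalPrimes A).Finite)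
    (Q : PrimeSpectrum (η.M A)) :
    ∃ P : PrimeSpectrum A, P.asIdeal ∈ minimalPrimes A ∧ RingHom.ker (evalM η P) ≤ Q.asIdeal := by
  classical
  let f : Ideal A → Ideal (η.M A) := fun 𝔭 =>
    if h : 𝔭.IsPrime then RingHom.ker (evalM η ⟨𝔭, h⟩) else ⊤
  have hinf : hA.toFinset.inf f ≤ Q.asIdeal := by
    intro x hx
    have hx0 : x = 0 := by
      apply Subtype.ext
      apply M_eq_zero_of_minimalPrimes η x.2
      intro P hP
      have h1 : x ∈ f P.asIdeal := (Finset.inf_le (hA.mem_toFinset.2 hP) : _ ≤ f P.asIdeal) hx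
      have h2 : f P.asIdeal = RingHom.ker (evalM η P) := dif_pos P.isPrime
      rw [h2] at h1
      exact h1
    rw [hx0]
    exact zero_mem _
  obtain ⟨𝔭, h𝔭, hle⟩ := (Ideal.IsPrime.inf_le' Q.isPrime).1 hinf
  have hmin := hA.mem_toFinset.1 h𝔭
  have h𝔭' : 𝔭.IsPrime := hmin.1.1
  refine ⟨⟨𝔭, h𝔭'⟩, hmin, ?_⟩
  have h2 : f 𝔭 = RingHom.ker (evalM η ⟨𝔭, h𝔭'⟩) := dif_pos h𝔭'
  rw [← h2]
  exact hle

/-- Key: a prime `Q` of `M A` is the kernel of the evaluation at the prime `Q ∩ A`. -/
theorem mem_prime_iff (hA : (minimalPrimes A).Finite) (Q : PrimeSpectrum (η.M A)) (x : η.M A) :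
    x ∈ Q.asIdeal ↔ (x : η.N A) (PrimeSpectrum.comap (η.q A) Q) = 0 := by
  obtain ⟨𝔭, -, hker⟩ := exists_minimalPrime_ker_evalM_le η hA Q
  obtain ⟨V, hφ, hcomap⟩ := exists_valuationSubring_comap_eq (evalM η 𝔭) Q.asIdeal hker
  set φ' : η.M A →+* V := (evalM η 𝔭).codRestrict V.toSubring hφ with hφ'
  set g : A →+* V := φ'.comp (η.q A) with hg
  have hV : η.InV V := inV_valuationSubring η V (eta_obj_bijective η _)
  obtain ⟨r, hr⟩ := x.2 V hV g
  have hA1 : (r : η.obj 𝔭.asIdeal.ResidueField) = (x : η.N A) 𝔭 :=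
    coe_eq_apply_of_t_eq_Nmap η 𝔭 V g (fun a => rfl) x r hr
  have hrx : r = φ' x := Subtype.ext hA1
  have hcl : PrimeSpectrum.comap g (IsLocalRing.closedPoint V) = PrimeSpectrum.comap (η.q A) Q := by
    have : PrimeSpectrum.comap φ' (IsLocalRing.closedPoint V) = Q := PrimeSpectrum.ext hcomap
    rw [hg, PrimeSpectrum.comap_comp_apply, this]
  rw [← apply_eq_zero_iff_of_eq η (x : η.N A) hcl,
    apply_comap_eq_zero_iff η g (IsLocalRing.closedPoint V) x r hr, hrx]
  show x ∈ Q.asIdeal ↔ x ∈ Ideal.comap φ' (IsLocalRing.maximalIdeal V)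
  rw [hcomap]

end

end Groth.Agent.H69
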