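import Groth.Agent.H69.EtaRel
import Mathlib.RingTheory.Ideal.MinimalPrime.Localization

set_option autoImplicit false
universe u

namespace Groth.Agent.H69

open EtaPt EtaPt.FieldEndo

variable (η : FieldEndo.{u})

section

variable {C B : Type u} [CommRing C] [CommRing B]

/-- For an injective ring map `ι`, `N ι` is injective on `M`. -/
theorem M_eq_zero_of_Nmap_eq_zero_of_injective (ι : C →+* B) (hι : Function.Injective ι)
    {d : η.N C} (hd : d ∈ η.M C) (h0 : η.Nmap ι d = 0) : d = 0 := by
  apply M_eq_zero_of_minimalPrimes η hd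
  intro P hP
  obtain ⟨p', hp', hpP⟩ := Ideal.exists_comap_eq_of_mem_minimalPrimes_of_injective hι P.asIdeal hP
  have h1 := congrFun h0 ⟨p', hp'⟩
  rw [Nmap_apply] at h1
  have h2 : d (PrimeSpectrum.comap ι ⟨p', hp'⟩) = 0 :=
    (map_eq_zero_iff _ (map_injective η _)).1 h1
  have h3 : PrimeSpectrum.comap ι ⟨p', hp'⟩ = P := PrimeSpectrum.ext hpP
  exact apply_eq_zero_of_eq η d h3 h2

end

end Groth.Agent.H69
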