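import Groth.Agent.H69.EtaAway2

set_option autoImplicit false
universe u

namespace Groth.Agent.H69

open EtaPt EtaPt.FieldEndo

variable (η : FieldEndo.{u})

section

variable {A B Af Bf : Type u} [CommRing A] [CommRing B] [CommRing Af] [CommRing Bf]
  [Algebra A Af] [Algebra B Bf]

theorem rel_away (φ : A →+* B) (f : A) [IsLocalization.Away (φ f) Bf]
    (φf : Af →+* Bf) (hsq : φf.comp (algebraMap A Af) = (algebraMap B Bf).comp φ)
    (hloc : ∀ y ∈ η.M Af, ∃ x ∈ η.M A, ∃ n : ℕ,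
      y * η.t Af (algebraMap A Af f) ^ n = η.Nmap (algebraMap A Af) x) :
    (η.rel φ).map (algebraMap B Bf) ≤ η.rel φf ∧
      ∀ y ∈ η.rel φf, ∃ x ∈ η.rel φ, ∃ n : ℕ,
        y * algebraMap B Bf (φ f) ^ n = algebraMap B Bf x := by
  constructor
  · rintro _ ⟨b, ⟨x, hx, hxb⟩, rfl⟩
    have hxb' : η.Nmap φ x = η.t B b := hxb
    refine ⟨η.Nmap (algebraMap A Af) x, Nmap_mem_M η _ hx, ?_⟩
    rw [← Nmap_comp_apply, hsq, Nmap_comp_apply, hxb', η.Nmap_t_apply]
  · rintro y ⟨m', hm', hm'y⟩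
    have hm'y' : η.Nmap φf m' = η.t _ y := hm'y
    obtain ⟨m, hm, n₁, hn₁⟩ := hloc m' hm'
    obtain ⟨k, b, hkb⟩ := IsLocalization.Away.surj (φ f) y
    have e : φf (algebraMap A Af f) = algebraMap B Bf (φ f) :=
      congrArg (fun ψ : A →+* Bf => ψ f) hsq
    have hL : η.Nmap (algebraMap B Bf) (η.Nmap φ m) =
        η.t _ y * η.t _ (algebraMap B Bf (φ f)) ^ n₁ := by
      rw [← Nmap_comp_apply, ← hsq, Nmap_comp_apply, ← hn₁,
        map_mul, map_pow, hm'y', η.Nmap_t_apply, e]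
    have hR : η.t Bf (algebraMap B Bf b) = η.t _ y * η.t _ (algebraMap B Bf (φ f)) ^ k := by
      rw [← hkb, map_mul, map_pow]
    have hkey : η.Nmap (algebraMap B Bf) (η.Nmap φ m * η.t B (φ f) ^ (k + 1)) =
        η.Nmap (algebraMap B Bf) (η.t B b * η.t B (φ f) ^ (n₁ + 1)) := by
      rw [map_mul, map_mul, map_pow, map_pow, η.Nmap_t_apply, η.Nmap_t_apply, hL, hR]
      rw [mul_assoc, mul_assoc, ← pow_add, ← pow_add]
      congr 2
      omega
    have hmem : b * φ f ^ (n₁ + 1) ∈ η.rel φ := by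
      refine ⟨m * η.t A f ^ (k + 1), Subring.mul_mem _ hm (Subring.pow_mem _ (η.t_mem_M A f) _), ?_⟩
      show η.Nmap φ (m * η.t A f ^ (k + 1)) = η.t B (b * φ f ^ (n₁ + 1))
      rw [map_mul, map_pow, η.Nmap_t_apply, map_mul, map_pow]
      funext q
      show η.Nmap φ m q * η.t B (φ f) q ^ (k + 1) = η.t B b q * η.t B (φ f) q ^ (n₁ + 1)
      by_cases hq : φ f ∈ q.asIdeal
      · have : η.t B (φ f) q = 0 := by
          rw [t_apply, Ideal.algebraMap_residueField_eq_zero.2 hq, map_zero]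
        rw [this, zero_pow (Nat.succ_ne_zero _), zero_pow (Nat.succ_ne_zero _), mul_zero, mul_zero]
      · have hq' : q ∈ Set.range (PrimeSpectrum.comap (algebraMap B Bf)) := by
          rw [PrimeSpectrum.localization_away_comap_range Bf (φ f)]
          exact hq
        obtain ⟨q', rfl⟩ := hq'
        have h1 := congrFun hkey q'
        rw [Nmap_apply, Nmap_apply] at h1
        exact map_injective η _ h1
    refine ⟨_, hmem, k + (n₁ + 1), ?_⟩
    rw [pow_add, ← mul_assoc, hkb, map_mul, map_pow]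

end

end Groth.Agent.H69
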