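import Groth.Prelude.Def_HTop2
import Mathlib.AlgebraicGeometry.ResidueField
import Mathlib.AlgebraicGeometry.Morphisms.UniversallyInjective
import Mathlib.AlgebraicGeometry.Morphisms.Integral
import Mathlib.RingTheory.LocalRing.ResidueField.Ideal

set_option autoImplicit false
universe u

namespace Groth.Agent.H69

open CategoryTheory AlgebraicGeometry

section Square

variable {R S : CommRingCat.{u}} (φ : R ⟶ S) (y : Spec S)

set_option backward.isDefEq.respectTransparency.types false in
theorem aux_ΓSpecIso_evaluation :
    (Scheme.ΓSpecIso S).inv ≫ (Spec S).Γevaluation y ≫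
      (Scheme.Spec.residueFieldIso S y).hom =
    CommRingCat.ofHom (algebraMap S y.asIdeal.ResidueField) := by
  have h2 := Scheme.Spec.algebraMap_residueFieldIso_inv S y
  have h3 : (Scheme.ΓSpecIso S).inv ≫ (Spec S).Γevaluation y =
      CommRingCat.ofHom (algebraMap S y.asIdeal.ResidueField) ≫
        (Scheme.Spec.residueFieldIso S y).inv := h2.symm
  rw [← Category.assoc, h3, Category.assoc, Iso.inv_hom_id, Category.comp_id]

set_option backward.isDefEq.respectTransparency.types false in
/-- The scheme-theoretic residue field map of `Spec φ` is the algebraic one, up to the canonical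
isomorphisms. -/
theorem residueFieldMap_square :
    (Scheme.Spec.residueFieldIso R ((Spec.map φ) y)).inv ≫
      (Spec.map φ).residueFieldMap y ≫ (Scheme.Spec.residueFieldIso S y).hom =
    CommRingCat.ofHom (Ideal.ResidueField.map ((Spec.map φ) y).asIdeal y.asIdeal
      φ.hom rfl) := by
  apply CommRingCat.hom_ext
  apply Ideal.ResidueField.ringHom_ext
  have h1 : CommRingCat.ofHom (algebraMap R ((Spec.map φ) y).asIdeal.ResidueField) ≫
      ((Scheme.Spec.residueFieldIso R ((Spec.map φ) y)).inv ≫
      (Spec.map φ).residueFieldMap y ≫ (Scheme.Spec.residueFieldIso S y).hom) =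
      φ ≫ CommRingCat.ofHom (algebraMap S y.asIdeal.ResidueField) := by
    rw [← Category.assoc, Scheme.Spec.algebraMap_residueFieldIso_inv]
    simp only [Category.assoc]
    rw [Scheme.germ_residue_assoc]
    have := Scheme.Γevaluation_naturality_assoc (Spec.map φ) y (Scheme.Spec.residueFieldIso S y).hom
    erw [this]
    refine (Scheme.ΓSpecIso_inv_naturality_assoc φ _).symm.trans ?_
    exact congrArg (fun Z => φ ≫ Z) (aux_ΓSpecIso_evaluation y)
  have h4 := congrArg CommRingCat.Hom.hom h1
  refine h4.trans ?_
  apply RingHom.ext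
  intro a
  show algebraMap S y.asIdeal.ResidueField (φ.hom a) = _
  exact (Ideal.ResidueField.map_algebraMap _ _ φ.hom rfl a).symm

set_option backward.isDefEq.respectTransparency.types false in
theorem isIso_residueFieldMap_iff :
    IsIso ((Spec.map φ).residueFieldMap y) ↔
      Function.Bijective (Ideal.ResidueField.map ((Spec.map φ) y).asIdeal y.asIdeal φ.hom rfl) := by
  have hsq := residueFieldMap_square φ y
  constructor
  · intro h
    have h1 : IsIso (CommRingCat.ofHom
        (Ideal.ResidueField.map ((Spec.map φ) y).asIdeal y.asIdeal φ.hom rfl)) := by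
      rw [← hsq]; infer_instance
    exact ConcreteCategory.bijective_of_isIso (CommRingCat.ofHom
        (Ideal.ResidueField.map ((Spec.map φ) y).asIdeal y.asIdeal φ.hom rfl))
  · intro h
    have h1 : IsIso (CommRingCat.ofHom
        (Ideal.ResidueField.map ((Spec.map φ) y).asIdeal y.asIdeal φ.hom rfl)) :=
      (RingEquiv.ofBijective _ h).toCommRingCatIso.isIso_hom
    have h2 : (Spec.map φ).residueFieldMap y =
        (Scheme.Spec.residueFieldIso R ((Spec.map φ) y)).hom ≫
        CommRingCat.ofHom (Ideal.ResidueField.map ((Spec.map φ) y).asIdeal y.asIdeal φ.hom rfl) ≫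
        (Scheme.Spec.residueFieldIso S y).inv := by
      rw [← hsq]
      simp
    rw [h2]
    infer_instance

end Square

section RingHom

variable {A B : Type u} [CommRing A] [CommRing B] (φ : A →+* B)

set_option backward.isDefEq.respectTransparency.types false in
theorem residueFieldsIso_iff :
    HTop.ResidueFieldsIso (Spec.map (CommRingCat.ofHom φ)) ↔
      ∀ Q : PrimeSpectrum B, Function.Bijective
        (Ideal.ResidueField.map (PrimeSpectrum.comap φ Q).asIdeal Q.asIdeal φ rfl) := by
  constructor
  · intro h Q
    exact (isIso_residueFieldMap_iff (CommRingCat.ofHom φ) Q).1 (h Q)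
  · intro h y
    exact (isIso_residueFieldMap_iff (CommRingCat.ofHom φ) y).2 (h y)

/-- An integral ring map with surjective `Spec` and injective on field-valued points induces a
universal homeomorphism. -/
theorem isUnivHomeo_of (hint : φ.IsIntegral)
    (hsurj : Function.Surjective (PrimeSpectrum.comap φ))
    (hinj : ∀ (L : Type u) [Field L] (α β : B →+* L), α.comp φ = β.comp φ → α = β) :
    FlatMor.IsUnivHomeo (Spec.map (CommRingCat.ofHom φ)) := by
  set ψ : CommRingCat.of A ⟶ CommRingCat.of B := CommRingCat.ofHom φ with hψ
  have hI : IsIntegralHom (Spec.map ψ) := IsIntegralHom.SpecMap_iff.2 hint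
  have hS : Surjective (Spec.map ψ) := by
    rw [surjective_iff]
    exact hsurj
  have hUI : UniversallyInjective (Spec.map ψ) := by
    apply ((tfae_universallyInjective (Spec.map ψ)).out 0 1).2
    intro K' _ g₁ g₂ hg
    dsimp only at hg
    rw [← Spec.map_preimage g₁, ← Spec.map_preimage g₂] at hg ⊢
    set ψ₁ := Spec.preimage g₁
    set ψ₂ := Spec.preimage g₂
    rw [← Spec.map_comp, ← Spec.map_comp] at hg
    have hg' := Spec.map_injective hg
    congr 1
    apply CommRingCat.hom_ext
    apply hinj K' ψ₁.hom ψ₂.hom
    exact congrArg CommRingCat.Hom.hom hg'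
  intro X' Y' i₁ i₂ f' hpb
  have h1 : UniversallyClosed f' :=
    MorphismProperty.of_isPullback (P := @UniversallyClosed) hpb.flip inferInstance
  have h2 : Surjective f' :=
    MorphismProperty.of_isPullback (P := @Surjective) hpb.flip hS
  have h3 : UniversallyInjective f' :=
    MorphismProperty.of_isPullback (P := @UniversallyInjective) hpb.flip hUI
  show IsHomeomorph f'
  rw [isHomeomorph_iff_continuous_isClosedMap_bijective]
  exact ⟨f'.continuous, f'.isClosedMap, f'.injective, f'.surjective⟩

theorem isHomeomorph_of_isUnivHomeo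
    (h : FlatMor.IsUnivHomeo (Spec.map (CommRingCat.ofHom φ))) :
    IsHomeomorph (PrimeSpectrum.comap φ) := by
  have h1 := MorphismProperty.universally_le (P := topologically fun f => IsHomeomorph f) _ h
  exact h1

theorem isIntegral_of_isUnivHomeo
    (h : FlatMor.IsUnivHomeo (Spec.map (CommRingCat.ofHom φ))) : φ.IsIntegral := by
  have hUC : UniversallyClosed (Spec.map (CommRingCat.ofHom φ)) := by
    rw [universallyClosed_eq]
    refine MorphismProperty.universally_mono ?_ _ h
    intro X Y f hf
    exact (hf : IsHomeomorph f).isClosedMap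
  have hI : IsIntegralHom (Spec.map (CommRingCat.ofHom φ)) :=
    IsIntegralHom.iff_universallyClosed_and_isAffineHom.2 ⟨hUC, inferInstance⟩
  exact IsIntegralHom.SpecMap_iff.1 hI

end RingHom

end Groth.Agent.H69
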