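import Groth.Agent.H69.EtaSpec

set_option autoImplicit false
universe u

namespace Groth.Agent.H69

open EtaPt EtaPt.FieldEndo

variable (η : FieldEndo.{u})

section

variable {A B : Type u} [CommRing A] [CommRing B]

/-- If `N g` is surjective, the residue field extensions of `g` are purely inseparable:
every element of `κ(Q)` has a `p^n`-th power in `κ(g⁻¹ Q)`. -/
theorem exists_pow_eq_resMap (g : A →+* B) (hN : Function.Surjective (η.Nmap g))
    (Q : PrimeSpectrum B) (z : Q.asIdeal.ResidueField) :
    ∃ (n : ℕ) (c : (PrimeSpectrum.comap g Q).asIdeal.ResidueField),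
      z ^ ringExpChar (PrimeSpectrum.comap g Q).asIdeal.ResidueField ^ n = resMap g Q c := by
  obtain ⟨w, hw⟩ := map_resMap_surjective_of_Nmap_surjective η g hN Q (η.eta _ z)
  obtain ⟨n, c, hc⟩ := η.exists_pow_mem_range_eta _ w
  refine ⟨n, c, eta_injective η _ ?_⟩
  rw [map_pow, ← hw, ← map_pow, ← hc, map_eta]

/-- Two ring homs to a field which agree on the image of `g` are equal, if `N g` is bijective. -/
theorem ringHom_ext_of_Nmap_surjective (g : A →+* B) (hN : Function.Surjective (η.Nmap g))
    {L : Type u} [Field L] (α β : B →+* L) (h : α.comp g = β.comp g) : α = β := by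
  have hinj := comap_injective_of_Nmap_surjective η g hN
  have hQ : (⟨RingHom.ker α, RingHom.ker_isPrime α⟩ : PrimeSpectrum B) =
      ⟨RingHom.ker β, RingHom.ker_isPrime β⟩ := by
    apply hinj
    apply PrimeSpectrum.ext
    ext a
    show g a ∈ RingHom.ker α ↔ g a ∈ RingHom.ker β
    rw [RingHom.mem_ker, RingHom.mem_ker]
    have : α (g a) = β (g a) := congrArg (fun φ : A →+* L => φ a) h
    rw [this]
  have hker : RingHom.ker α = RingHom.ker β := congrArg PrimeSpectrum.asIdeal hQ
  obtain ⟨Q, hQα⟩ : ∃ Q : PrimeSpectrum B, Q.asIdeal = RingHom.ker α :=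
    ⟨⟨_, RingHom.ker_isPrime α⟩, rfl⟩
  have hu : ∀ (γ : B →+* L), RingHom.ker γ = RingHom.ker α →
      Q.asIdeal.primeCompl ≤ (IsUnit.submonoid L).comap γ := by
    intro γ hγ x hx
    rw [Submonoid.mem_comap]
    show IsUnit _
    rw [isUnit_iff_ne_zero]
    intro h0
    apply hx
    show x ∈ Q.asIdeal
    rw [hQα, ← hγ]
    exact h0
  let α' : Q.asIdeal.ResidueField →+* L :=
    Ideal.ResidueField.lift Q.asIdeal α (le_of_eq hQα) (hu α rfl)
  let β' : Q.asIdeal.ResidueField →+* L :=
    Ideal.ResidueField.lift Q.asIdeal β (le_of_eq (hQα.trans hker)) (hu β hker.symm)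
  have hα' : ∀ b, α' (algebraMap B _ b) = α b := fun b =>
    Ideal.ResidueField.lift_algebraMap _ _ _ _ b
  have hβ' : ∀ b, β' (algebraMap B _ b) = β b := fun b =>
    Ideal.ResidueField.lift_algebraMap _ _ _ _ b
  have hres : α'.comp (resMap g Q) = β'.comp (resMap g Q) := by
    apply Ideal.ResidueField.ringHom_ext
    apply RingHom.ext
    intro a
    show α' (resMap g Q (algebraMap A _ a)) = β' (resMap g Q (algebraMap A _ a))
    rw [resMap_algebraMap, hα', hβ']
    exact congrArg (fun φ : A →+* L => φ a) h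
  have key : α' = β' := by
    apply RingHom.ext
    intro z
    obtain ⟨n, c, hc⟩ := exists_pow_eq_resMap η g hN Q z
    apply pow_expChar_pow_inj (α'.comp (resMap g Q)) n
    rw [← map_pow, ← map_pow, hc]
    exact congrArg (fun φ : _ →+* L => φ c) hres
  apply RingHom.ext
  intro b
  rw [← hα', ← hβ', key]

end

end Groth.Agent.H69
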