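import Groth.Agent.H69.EtaIntegral
import Mathlib.FieldTheory.Perfect

set_option autoImplicit false
universe u

namespace Groth.Agent.H69

open EtaPt EtaPt.FieldEndo

variable (η : FieldEndo.{u})

/-- Cancel `η` in an integrality statement. -/
theorem isIntegralElem_of_eta {R K : Type u} [CommRing R] [Field K] (φ : R →+* K) (y₀ : K)
    (h : ((η.eta K).comp φ).IsIntegralElem (η.eta K y₀)) : φ.IsIntegralElem y₀ := by
  obtain ⟨P, hP, hPy⟩ := h
  refine ⟨P, hP, ?_⟩
  rw [← Polynomial.hom_eval₂] at hPy
  exact (map_eq_zero_iff _ (eta_injective η K)).1 hPy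

section

variable (R : Type u) [CommRing R] [IsDomain R] [ValuationRing R]

theorem exists_M_of_eta (y₀ : (genPt R).asIdeal.ResidueField)
    (h : ((η.eta _).comp (algebraMap R (genPt R).asIdeal.ResidueField)).IsIntegralElem
      (η.eta _ y₀)) :
    ∃ x ∈ η.M R, x (genPt R) = η.eta _ y₀ := by
  have h1 : IsIntegral R y₀ := isIntegralElem_of_eta η _ y₀ h
  obtain ⟨r, hr⟩ := IsIntegrallyClosed.algebraMap_eq_of_integral h1
  exact ⟨η.t R r, η.t_mem_M R r, by rw [t_apply, hr]⟩

/-- Every element of `F(K)` integral over the valuation ring `R` is the generic value of an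
element of `M R`. -/
theorem exists_M_of_isIntegralElem
    (hη : η.InV R ∨ ∀ (k : Type u) [Field k], ringChar k = ringChar R →
      Function.Bijective (η.eta k) → PerfectField k)
    (y : η.obj (genPt R).asIdeal.ResidueField)
    (hy : ((η.eta _).comp (algebraMap R (genPt R).asIdeal.ResidueField)).IsIntegralElem y) :
    ∃ x ∈ η.M R, x (genPt R) = y := by
  classical
  rcases hη with hR | hperf
  · obtain ⟨y₀, rfl⟩ := (eta_bijective_genPt η R hR).2 y
    exact exists_M_of_eta η R y₀ hy
  obtain ⟨n, c₀, hc₀⟩ := η.exists_pow_mem_range_eta _ y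
  have hc₀int : ((η.eta _).comp (algebraMap R (genPt R).asIdeal.ResidueField)).IsIntegralElem
      (η.eta _ c₀) := by
    rw [hc₀]
    let _ : Algebra R (η.obj (genPt R).asIdeal.ResidueField) :=
      ((η.eta _).comp (algebraMap R (genPt R).asIdeal.ResidueField)).toAlgebra
    exact IsIntegral.pow (R := R) hy _
  obtain ⟨e, he⟩ : ∃ e, ExpChar (genPt R).asIdeal.ResidueField e := ⟨_, ringExpChar.expChar _⟩
  have hee : ringExpChar (genPt R).asIdeal.ResidueField = e := ringExpChar.eq _ e
  rw [hee] at hc₀
  cases he with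
  | zero =>
    rw [one_pow, pow_one] at hc₀
    rw [← hc₀]
    exact exists_M_of_eta η R c₀ hc₀int
  | prime hprime =>
    rename_i hchar
    have hcR : CharP R e := (algebraMap R (genPt R).asIdeal.ResidueField).charP
      (algebraMap_genPt_injective R) e
    have hRe : ringChar R = e := ringChar.eq R e
    have h1 : IsIntegral R c₀ := isIntegralElem_of_eta η _ c₀ hc₀int
    obtain ⟨c, hc⟩ := IsIntegrallyClosed.algebraMap_eq_of_integral h1
    -- all `F(κ(𝔭))` are perfect of characteristic `e`
    have hchar' : ∀ 𝔭 : PrimeSpectrum R, CharP (η.obj 𝔭.asIdeal.ResidueField) e := by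
      intro 𝔭
      have h0 : ((e : ℕ) : η.obj 𝔭.asIdeal.ResidueField) = 0 := by
        have : ((e : ℕ) : R) = 0 := CharP.cast_eq_zero R e
        have h2 := congrArg ((η.eta _).comp (algebraMap R 𝔭.asIdeal.ResidueField)) this
        rwa [map_natCast, map_zero] at h2
      exact ringChar.of_eq (CharP.ringChar_of_prime_eq_zero hprime h0)
    have hroot : ∀ 𝔭 : PrimeSpectrum R, ∃ v : η.obj 𝔭.asIdeal.ResidueField,
        v ^ e ^ n = η.t R c 𝔭 := by
      intro 𝔭
      have := hchar' 𝔭
      have hpf : PerfectField (η.obj 𝔭.asIdeal.ResidueField) :=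
        hperf _ ((ringChar.eq _ e).trans hRe.symm) (eta_obj_bijective η _)
      have : ExpChar (η.obj 𝔭.asIdeal.ResidueField) e := ExpChar.prime hprime
      have : PerfectRing (η.obj 𝔭.asIdeal.ResidueField) e := PerfectField.toPerfectRing e
      obtain ⟨v, hv⟩ := (bijective_iterateFrobenius (η.obj 𝔭.asIdeal.ResidueField) e n).2
        (η.t R c 𝔭)
      exact ⟨v, by rw [← hv, iterateFrobenius_def]⟩
    choose x hx using hroot
    have hxpow : x ^ e ^ n = η.t R c := funext hx
    refine ⟨x, ?_, ?_⟩
    · intro R₁ _ _ _ hR₁ g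
      have hw : (η.Nmap g x) ^ e ^ n = η.t R₁ (g c) := by
        rw [← map_pow, hxpow, η.Nmap_t_apply]
      have : IsIntegrallyClosed R₁ := inferInstance
      refine mem_range_t_of_pow η R₁ hR₁ (η.Nmap g x) (e ^ n) (pow_pos hprime.pos n) (g c) hw ?_
      intro q a b hab
      have h0 : ((e : ℕ) : η.obj q.asIdeal.ResidueField) = 0 := by
        have : ((e : ℕ) : R) = 0 := CharP.cast_eq_zero R e
        have h2 := congrArg ((η.eta _).comp ((algebraMap R₁ q.asIdeal.ResidueField).comp g)) this
        rwa [map_natCast, map_zero] at h2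
      have : CharP (η.obj q.asIdeal.ResidueField) e :=
        ringChar.of_eq (CharP.ringChar_of_prime_eq_zero hprime h0)
      have : ExpChar (η.obj q.asIdeal.ResidueField) e := ExpChar.prime hprime
      exact iterateFrobenius_inj _ e n (by rw [iterateFrobenius_def, iterateFrobenius_def]; exact hab)
    · have := hchar' (genPt R)
      have : ExpChar (η.obj (genPt R).asIdeal.ResidueField) e := ExpChar.prime hprime
      apply iterateFrobenius_inj _ e n
      rw [iterateFrobenius_def, iterateFrobenius_def, hx, ← hc₀, t_apply, hc]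

end

end Groth.Agent.H69
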