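import Groth.Agent.H69.EtaValM
import Groth.Agent.H69.EtaPrimes

set_option autoImplicit false
universe u

namespace Groth.Agent.H69

open EtaPt EtaPt.FieldEndo

variable (η : FieldEndo.{u})

section

variable (R : Type u) [CommRing R] [IsDomain R]

theorem evalM_genPt_injective : Function.Injective (evalM η (genPt R)) := by
  rw [injective_iff_map_eq_zero]
  intro d hd
  apply Subtype.ext
  funext p
  exact M_apply_eq_zero_of_le' η (genPt R) p
    (by show (⊥ : Ideal R) ≤ p.asIdeal; exact bot_le) d.2 hd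

/-- an element of `F(K)` a `p`-power of which is `η` of an element of `R` is integral. -/
theorem isIntegralElem_of_pow_eq (y : η.obj (genPt R).asIdeal.ResidueField) (m : ℕ) (hm : 0 < m)
    (r : R) (h : y ^ m = η.eta _ (algebraMap R (genPt R).asIdeal.ResidueField r)) :
    ((η.eta _).comp (algebraMap R (genPt R).asIdeal.ResidueField)).IsIntegralElem y := by
  refine ⟨Polynomial.X ^ m - Polynomial.C r, Polynomial.monic_X_pow_sub_C r hm.ne', ?_⟩
  rw [Polynomial.eval₂_sub, Polynomial.eval₂_pow, Polynomial.eval₂_X, Polynomial.eval₂_C, h]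
  exact sub_self _

variable [ValuationRing R]

variable (hη : η.InV R ∨ ∀ (k : Type u) [Field k], ringChar k = ringChar R →
      Function.Bijective (η.eta k) → PerfectField k)

include hη in
theorem exists_evalM_eq_of_pow_eq (y : η.obj (genPt R).asIdeal.ResidueField) (m : ℕ) (hm : 0 < m)
    (r : R) (h : y ^ m = η.eta _ (algebraMap R (genPt R).asIdeal.ResidueField r)) :
    ∃ c : η.M R, evalM η (genPt R) c = y := by
  obtain ⟨x, hx, hxy⟩ := exists_M_of_isIntegralElem η R hη y
    (isIntegralElem_of_pow_eq η R y m hm r h)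
  exact ⟨⟨x, hx⟩, hxy⟩

include hη in
theorem preValuationRing_M : PreValuationRing (η.M R) := by
  constructor
  intro a b
  have hinj := evalM_genPt_injective η R
  by_cases hb : b = 0
  · exact ⟨0, Or.inl (by rw [mul_zero, hb])⟩
  by_cases ha : a = 0
  · exact ⟨0, Or.inr (by rw [mul_zero, ha])⟩
  have hα : evalM η (genPt R) a ≠ 0 := fun h => ha (hinj (by rw [h, map_zero]))
  have hβ : evalM η (genPt R) b ≠ 0 := fun h => hb (hinj (by rw [h, map_zero]))
  obtain ⟨n, c₀, hc₀⟩ := η.exists_pow_mem_range_eta _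
    (evalM η (genPt R) a / evalM η (genPt R) b)
  have hpos : 0 < ringExpChar (genPt R).asIdeal.ResidueField ^ n :=
    pow_pos (ringExpChar_pos _) n
  rcases ValuationRing.isInteger_or_isInteger R c₀ with ⟨r, hr⟩ | ⟨r, hr⟩
  · -- `a / b` is integral
    obtain ⟨c, hc⟩ := exists_evalM_eq_of_pow_eq η R hη _ _ hpos r (by rw [hr, hc₀])
    refine ⟨c, Or.inr (hinj ?_)⟩
    rw [map_mul, hc, mul_div_cancel₀ _ hβ]
  · -- `b / a` is integral
    obtain ⟨c, hc⟩ := exists_evalM_eq_of_pow_eq η R hη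
      (evalM η (genPt R) b / evalM η (genPt R) a) _ hpos r (by
        rw [hr, map_inv₀, hc₀, ← inv_pow, inv_div])
    refine ⟨c, Or.inl (hinj ?_)⟩
    rw [map_mul, hc, mul_div_cancel₀ _ hα]

include hη in
theorem exists_fraction_M (y : η.obj (genPt R).asIdeal.ResidueField) :
    ∃ a b : η.M R, (b : η.N R) (genPt R) ≠ 0 ∧
      y * (b : η.N R) (genPt R) = (a : η.N R) (genPt R) := by
  obtain ⟨n, c₀, hc₀⟩ := η.exists_pow_mem_range_eta _ y
  obtain ⟨⟨r, s⟩, hrs⟩ := IsLocalization.surj (nonZeroDivisors R) c₀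
  have hrs' : c₀ * algebraMap R _ (s : R) = algebraMap R _ r := hrs
  have hs0 : (s : R) ≠ 0 := nonZeroDivisors.ne_zero s.2
  set m := ringExpChar (genPt R).asIdeal.ResidueField ^ n with hm
  have hpos : 0 < m := pow_pos (ringExpChar_pos _) n
  obtain ⟨m', hm'⟩ : ∃ m', m = m' + 1 := ⟨m - 1, by omega⟩
  have hpow : (y * η.eta _ (algebraMap R (genPt R).asIdeal.ResidueField (s : R))) ^ m =
      η.eta _ (algebraMap R (genPt R).asIdeal.ResidueField (r * (s : R) ^ m')) := by
    rw [mul_pow, ← hc₀, ← map_pow, ← map_mul]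
    congr 1
    rw [hm', pow_succ, map_mul, map_pow, ← hrs']
    ring
  obtain ⟨a, ha⟩ := exists_evalM_eq_of_pow_eq η R hη _ m hpos _ hpow
  refine ⟨a, η.q R (s : R), ?_, ?_⟩
  · show η.t R (s : R) (genPt R) ≠ 0
    rw [t_apply]
    intro h0
    have h1 := (map_eq_zero_iff _ (eta_injective η _)).1 h0
    exact hs0 ((map_eq_zero_iff _ (algebraMap_genPt_injective R)).1 h1)
  · exact ha.symm

theorem image_inter_range :
    (fun x : η.N R => x (genPt R)) '' (η.M R : Set (η.N R)) ∩
        Set.range (η.eta (genPt R).asIdeal.ResidueField) =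
      Set.range ((η.eta (genPt R).asIdeal.ResidueField).comp
        (algebraMap R (genPt R).asIdeal.ResidueField)) := by
  apply Set.eq_of_subset_of_subset
  · rintro _ ⟨⟨x, hx, rfl⟩, ⟨z₀, hz₀⟩⟩
    have h1 := M_apply_isIntegralElem η hx (genPt R)
    have hz₀' : η.eta _ z₀ = x (genPt R) := hz₀
    show x (genPt R) ∈ _
    rw [← hz₀'] at h1 ⊢
    have h2 : IsIntegral R z₀ := isIntegralElem_of_eta η _ z₀ h1
    obtain ⟨r, hr⟩ := IsIntegrallyClosed.algebraMap_eq_of_integral h2
    exact ⟨r, by rw [RingHom.comp_apply, hr]⟩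
  · rintro _ ⟨r, rfl⟩
    exact ⟨⟨η.t R r, η.t_mem_M R r, rfl⟩, ⟨_, rfl⟩⟩

end

end Groth.Agent.H69
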