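import Groth.Agent.H69.EtaleDescMor
import Groth.Prelude.Def_Desc

/-!
# Fullness of the canonical-descent-datum functor on étale schemes (helper69)
-/

set_option autoImplicit false
universe u

namespace Groth.Agent.H69.EtaleDescMor

open AlgebraicGeometry CategoryTheory CategoryTheory.Limits

theorem toDD_map_surjective {X S : Scheme.{u}} (p : X ⟶ S)
    (hp : ∀ U : Over S, Etale U.hom → Topology.IsQuotientMap (pullback.snd p U.hom).base)
    (U₁ U₂ : Over S) [Etale U₁.hom] [Etale U₂.hom] :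
    Function.Surjective ((Desc.toDD p).map : (U₁ ⟶ U₂) → _) := by
  intro F
  have hg : ∀ {U U' : Scheme.{u}} (i₁ : U' ⟶ X) (i₂ : U ⟶ S) (f' : U' ⟶ U), Etale i₂ →
      IsPullback f' i₁ i₂ p → Topology.IsQuotientMap f'.base := by
    intro U U' i₁ i₂ f' hi₂ h
    have hq := hp (Over.mk i₂) hi₂
    have e : h.flip.isoPullback.hom ≫ pullback.snd p i₂ = f' := h.flip.isoPullback_hom_snd
    rw [← e, Scheme.Hom.comp_base, TopCat.coe_comp]
    exact hq.comp (Scheme.homeoOfIso h.flip.isoPullback).isQuotientMap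
  obtain ⟨Fl, hFl⟩ : ∃ Fl : pullback p U₁.hom ⟶ pullback p U₂.hom, Fl = F.hom.left := ⟨_, rfl⟩
  have hFl1 : Fl ≫ pullback.fst p U₂.hom = pullback.fst p U₁.hom := by
    rw [hFl]; exact Over.w F.hom
  obtain ⟨s₁, hs₁⟩ : ∃ s₁ : pullback U₁.hom p ⟶ pullback p U₁.hom,
    s₁ = (pullbackSymmetry U₁.hom p).hom := ⟨_, rfl⟩
  have hs₁f : s₁ ≫ pullback.fst p U₁.hom = pullback.snd U₁.hom p := by
    rw [hs₁, pullbackSymmetry_hom_comp_fst]
  have hs₁s : s₁ ≫ pullback.snd p U₁.hom = pullback.fst U₁.hom p := by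
    rw [hs₁, pullbackSymmetry_hom_comp_snd]
  have hs₁iso : IsIso s₁ := by rw [hs₁]; infer_instance
  obtain ⟨s₂, hs₂⟩ : ∃ s₂ : pullback p U₂.hom ⟶ pullback U₂.hom p,
    s₂ = (pullbackSymmetry p U₂.hom).hom := ⟨_, rfl⟩
  have hs₂f : s₂ ≫ pullback.fst U₂.hom p = pullback.snd p U₂.hom := by
    rw [hs₂, pullbackSymmetry_hom_comp_fst]
  have hs₂s : s₂ ≫ pullback.snd U₂.hom p = pullback.fst p U₂.hom := by
    rw [hs₂, pullbackSymmetry_hom_comp_snd]
  obtain ⟨f', hf'def⟩ : ∃ f' : pullback U₁.hom p ⟶ pullback U₂.hom p, f' = s₁ ≫ Fl ≫ s₂ :=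
    ⟨_, rfl⟩
  have hf'1 : f' ≫ pullback.fst U₂.hom p = s₁ ≫ Fl ≫ pullback.snd p U₂.hom := by
    rw [hf'def, Category.assoc, Category.assoc, hs₂f]
  have hf'2 : f' ≫ pullback.snd U₂.hom p = pullback.snd U₁.hom p := by
    rw [hf'def, Category.assoc, Category.assoc, hs₂s, hFl1, hs₁f]
  -- the cocycle condition
  have hcoc : pullback.map U₁.hom (pullback.fst p p ≫ p) U₁.hom p (𝟙 _) (pullback.fst p p) (𝟙 S)
        ((Category.comp_id _).trans (Category.id_comp _).symm) (Category.comp_id _) ≫ f' ≫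
          pullback.fst U₂.hom p =
      pullback.map U₁.hom (pullback.fst p p ≫ p) U₁.hom p (𝟙 _) (pullback.snd p p) (𝟙 S)
        ((Category.comp_id _).trans (Category.id_comp _).symm)
        ((Category.comp_id _).trans pullback.condition) ≫ f' ≫ pullback.fst U₂.hom p := by
    obtain ⟨c, hc⟩ : ∃ c : pullback U₁.hom (pullback.fst p p ≫ p) ⟶ U₁.left,
      c = pullback.fst U₁.hom (pullback.fst p p ≫ p) := ⟨_, rfl⟩
    obtain ⟨d, hd⟩ : ∃ d : pullback U₁.hom (pullback.fst p p ≫ p) ⟶ pullback p p,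
      d = pullback.snd U₁.hom (pullback.fst p p ≫ p) := ⟨_, rfl⟩
    have hcd : c ≫ U₁.hom = d ≫ pullback.fst p p ≫ p := by rw [hc, hd]; exact pullback.condition
    obtain ⟨P₁, hP₁⟩ : ∃ P₁ : pullback U₁.hom (pullback.fst p p ≫ p) ⟶ pullback U₁.hom p,
      P₁ = pullback.map U₁.hom (pullback.fst p p ≫ p) U₁.hom p (𝟙 _) (pullback.fst p p) (𝟙 S)
        ((Category.comp_id _).trans (Category.id_comp _).symm) (Category.comp_id _) := ⟨_, rfl⟩
    obtain ⟨P₂, hP₂⟩ : ∃ P₂ : pullback U₁.hom (pullback.fst p p ≫ p) ⟶ pullback U₁.hom p,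
      P₂ = pullback.map U₁.hom (pullback.fst p p ≫ p) U₁.hom p (𝟙 _) (pullback.snd p p) (𝟙 S)
        ((Category.comp_id _).trans (Category.id_comp _).symm)
        ((Category.comp_id _).trans pullback.condition) := ⟨_, rfl⟩
    rw [← hP₁, ← hP₂]
    have hP₁f : P₁ ≫ pullback.fst U₁.hom p = c := by
      rw [hP₁, hc, pullback.lift_fst, Category.comp_id]
    have hP₁s : P₁ ≫ pullback.snd U₁.hom p = d ≫ pullback.fst p p := by
      rw [hP₁, hd, pullback.lift_snd]
    have hP₂f : P₂ ≫ pullback.fst U₁.hom p = c := by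
      rw [hP₂, hc, pullback.lift_fst, Category.comp_id]
    have hP₂s : P₂ ≫ pullback.snd U₁.hom p = d ≫ pullback.snd p p := by
      rw [hP₂, hd, pullback.lift_snd]
    have hpp : pullback.fst p p ≫ p = pullback.snd p p ≫ p := pullback.condition
    have hx : (d ≫ pullback.fst p p) ≫ p = (d ≫ pullback.snd p p) ≫ p := by
      rw [Category.assoc, Category.assoc]
      exact congrArg (fun z => d ≫ z) hpp
    -- the point `v`
    have hv2 : (P₁ ≫ s₁) ≫ pullback.fst p U₁.hom = d ≫ pullback.fst p p := by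
      rw [Category.assoc, hs₁f, hP₁s]
    let v : Desc.Lifts ((Desc.toDD p).obj U₁).obj (d ≫ pullback.fst p p) := ⟨P₁ ≫ s₁, hv2⟩
    have hw2 : ((P₁ ≫ s₁) ≫ Fl) ≫ pullback.fst p U₂.hom = d ≫ pullback.fst p p := by
      rw [Category.assoc, hFl1, hv2]
    let w : Desc.Lifts ((Desc.toDD p).obj U₂).obj (d ≫ pullback.fst p p) := ⟨(P₁ ≫ s₁) ≫ Fl, hw2⟩
    have hcomm := F.comm (d ≫ pullback.fst p p) (d ≫ pullback.snd p p) hx v w (by rw [← hFl]; rfl)
    have hL : (((Desc.toDD p).obj U₂).φ (d ≫ pullback.fst p p) (d ≫ pullback.snd p p) hx w).1 ≫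
        pullback.snd p U₂.hom = ((P₁ ≫ s₁) ≫ Fl) ≫ pullback.snd p U₂.hom :=
      pullback.lift_snd _ _ _
    have hR : (((Desc.toDD p).obj U₁).φ (d ≫ pullback.fst p p) (d ≫ pullback.snd p p) hx v).1 =
        P₂ ≫ s₁ := by
      apply pullback.hom_ext
      · rw [Category.assoc, hs₁f, hP₂s]
        exact pullback.lift_fst _ _ _
      · rw [Category.assoc, hs₁s, hP₂f]
        refine (pullback.lift_snd _ _ _).trans ?_
        show (P₁ ≫ s₁) ≫ pullback.snd p U₁.hom = c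
        rw [Category.assoc, hs₁s, hP₁f]
    rw [hR, ← hFl] at hcomm
    rw [hcomm] at hL
    rw [hf'1]
    simp only [Category.assoc] at hL ⊢
    exact hL.symm
  obtain ⟨u, ⟨hu1, hu2⟩, -⟩ := descent_etale p hg U₁.hom U₂.hom f' hf'2 hcoc
  refine ⟨Over.homMk u hu1, ?_⟩
  apply Desc.SchDD.hom_ext
  apply Over.OverMorphism.ext
  rw [← hFl]
  apply pullback.hom_ext
  · refine (pullback.lift_fst _ _ _).trans ?_
    exact (Category.comp_id _).trans hFl1.symm
  · refine (pullback.lift_snd _ _ _).trans ?_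
    rw [hf'1, ← hs₁s, Category.assoc] at hu2
    exact ((cancel_epi s₁).1 hu2).symm

end Groth.Agent.H69.EtaleDescMor
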