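import Groth.Agent.H69.RpushVanish
import Groth.Agent.H69.EtFieldGalois
import Groth.Agent.H69.ExtTorsion
import Groth.Agent.H51.SpField
import Groth.Agent.S14451
import Groth.Agent.S3054

/-!
# Cohomology of quasi-compact étale schemes over a field is torsion (helper69)

* `isOfFinAddOrder_H_of_etale`: for `Z` étale and quasi-compact over a field, `H^i(Z, F)` is torsion, `i > 0`.
* `subsingleton_H_of_etale_of_div`: it vanishes if multiplication by positive integers is invertible on `F`.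
* `isZero_Rpush_of_div`: `R^{q+1} j_* G = 0` for `j : Spec k ⟶ X` quasi-compact and `G` uniquely divisible.
-/

set_option autoImplicit false
set_option backward.isDefEq.respectTransparency.types false
set_option linter.style.haveILetI false
universe u
open CategoryTheory CategoryTheory.Limits AlgebraicGeometry Opposite Abelian

namespace Groth.Agent.H69.FieldEtTorsion

variable {k : Type u} [Field k]

theorem isOfFinAddOrder_H_of_etale {Z : Scheme.{u}} (π : Z ⟶ Spec (CommRingCat.of k)) [Etale π]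
    [CompactSpace Z] (F : EtCoh.Ab Z) (i : ℕ) (hi : 0 < i) (x : EtCoh.H Z F i) :
    IsOfFinAddOrder x := by
  haveI : IsFinite π := Groth.Agent.H51.isFinite_of_etale_of_compact π
  have hR : ∀ q : ℕ, 0 < q → IsZero ((EtCoh.Rpush π q).obj F) :=
    fun q hq => Groth.Agent.S3054.result π F q hq
  obtain ⟨y, rfl⟩ := (Groth.Agent.S14451.result π F hR i).2 x
  exact AddMonoidHom.isOfFinAddOrder _ (EtFieldGalois.isOfFinAddOrder_H (k := k) _ i hi y)

theorem subsingleton_H_of_etale_of_div {Z : Scheme.{u}} (π : Z ⟶ Spec (CommRingCat.of k)) [Etale π]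
    [CompactSpace Z] (F : EtCoh.Ab Z) (hdiv : ∀ n : ℕ, 0 < n → IsIso (n • 𝟙 F)) (i : ℕ) (hi : 0 < i) :
    Subsingleton (EtCoh.H Z F i) := by
  refine ⟨fun x y => ?_⟩
  rw [ExtTorsion.eq_zero_of_isOfFinAddOrder_of_isIso x (isOfFinAddOrder_H_of_etale π F i hi x) hdiv,
    ExtTorsion.eq_zero_of_isOfFinAddOrder_of_isIso y (isOfFinAddOrder_H_of_etale π F i hi y) hdiv]

/-- unique divisibility is preserved by additive functors -/
lemma isIso_nsmul_map {𝒜 ℬ : Type*} [Category 𝒜] [Preadditive 𝒜] [Category ℬ] [Preadditive ℬ]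
    (Φ : 𝒜 ⥤ ℬ) [Φ.Additive] {G : 𝒜} (hdiv : ∀ n : ℕ, 0 < n → IsIso (n • 𝟙 G)) :
    ∀ n : ℕ, 0 < n → IsIso (n • 𝟙 (Φ.obj G)) := by
  intro n hn
  have := hdiv n hn
  have e : n • 𝟙 (Φ.obj G) = Φ.map (n • 𝟙 G) := by
    rw [Functor.map_nsmul, Φ.map_id]
  rw [e]
  infer_instance

theorem isZero_Rpush_of_div {X : Scheme.{u}} (j : Spec (CommRingCat.of k) ⟶ X) [QuasiCompact j]
    (G : EtCoh.Ab (Spec (CommRingCat.of k))) (hdiv : ∀ n : ℕ, 0 < n → IsIso (n • 𝟙 G)) (q : ℕ) :
    IsZero ((EtCoh.Rpush j (q + 1)).obj G) := by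
  apply RpushVanish.isZero_Rpush_succ'
  intro V v
  obtain ⟨_, ⟨V₀, hV, rfl⟩, hxV, -⟩ :=
    V.left.isBasis_affineOpens.exists_subset_of_mem_open (Set.mem_univ v) isOpen_univ
  let V₁ : V.left.Opens := V₀
  let V' : X.Etale := Scheme.Etale.mk (V₁.ι ≫ V.hom)
  let g₂ : V' ⟶ V := MorphismProperty.Over.homMk V₁.ι rfl trivial
  refine ⟨V', g₂, ⟨⟨v, hxV⟩, rfl⟩, ?_⟩
  have : IsAffine V₁.toScheme := hV
  have : CompactSpace V₁.toScheme := inferInstance
  let h : V₁.toScheme ⟶ X := V₁.ι ≫ V.hom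
  have hc' : CompactSpace ↑(pullback h j) := inferInstance
  have hc : CompactSpace ((EtCoh.bc j).obj V').left := hc'
  let π : ((EtCoh.bc j).obj V').left ⟶ Spec (CommRingCat.of k) := ((EtCoh.bc j).obj V').hom
  haveI : Etale π := ((EtCoh.bc j).obj V').prop
  exact subsingleton_H_of_etale_of_div π _ (isIso_nsmul_map (EtCoh.pull π) hdiv) (q + 1)
    (Nat.succ_pos q)

end Groth.Agent.H69.FieldEtTorsion
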