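import Groth.Agent.H3.HenselQF
import Groth.Agent.H67.HenselFinite
import Mathlib.FieldTheory.PurelyInseparable.Basic
import Mathlib.RingTheory.LocalRing.ResidueField.Basic

/-!
# Finite algebras over strictly henselian local rings (helper69)

* `isLocalHom_of_finite`, `henselian_isSepClosed_of_finite`: a local ring finite over a strictly
  henselian local ring is strictly henselian;
* `exists_idempotent`: for a maximal ideal `q` of a finite algebra `B` over a henselian local ring
  there is an idempotent `e ∉ q` such that every prime not containing `e` lies below `q`;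
* `surjective_algebraMap_atPrime`: the localisation of `B` at a maximal ideal is a quotient of `B`.
-/

set_option autoImplicit false
set_option backward.isDefEq.respectTransparency.types false
universe u

namespace Groth.Agent.H69.FiniteHensel

open IsLocalRing

section LocalFinite

variable (R : Type u) [CommRing R] [IsLocalRing R]
  (S : Type u) [CommRing S] [IsLocalRing S] [Algebra R S] [Module.Finite R S]

theorem comap_maximalIdeal_of_finite :
    (maximalIdeal S).comap (algebraMap R S) = maximalIdeal R := by
  have : Algebra.IsIntegral R S := inferInstance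
  have : ((maximalIdeal S).comap (algebraMap R S)).IsMaximal :=
    Ideal.isMaximal_comap_of_isIntegral_of_isMaximal (maximalIdeal S)
  exact IsLocalRing.eq_maximalIdeal inferInstance

theorem isLocalHom_of_finite : IsLocalHom (algebraMap R S) := by
  refine ⟨fun a ha => ?_⟩
  by_contra hna
  have h1 : a ∈ maximalIdeal R := (IsLocalRing.mem_maximalIdeal a).2 hna
  rw [← comap_maximalIdeal_of_finite R S, Ideal.mem_comap, IsLocalRing.mem_maximalIdeal] at h1
  exact h1 ha

end LocalFinite

theorem henselian_isSepClosed_of_finite (R : Type u) [CommRing R] [HenselianLocalRing R]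
    [IsSepClosed (ResidueField R)]
    (S : Type u) [CommRing S] [IsLocalRing S] [Algebra R S] [Module.Finite R S] :
    HenselianLocalRing S ∧ IsSepClosed (ResidueField S) := by
  refine ⟨Groth.Agent.H67.HenselFinite.henselian_of_finite R S, ?_⟩
  have := isLocalHom_of_finite R S
  exact Algebra.IsAlgebraic.isSepClosed (F := ResidueField R) (E := ResidueField S)

section Semilocal

variable (R : Type u) [CommRing R] [HenselianLocalRing R]
  (B : Type u) [CommRing B] [Algebra R B] [Module.Finite R B]

theorem comap_of_isMaximal (q : Ideal B) [q.IsMaximal] :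
    q.comap (algebraMap R B) = maximalIdeal R := by
  have : Algebra.IsIntegral R B := inferInstance
  have : (q.comap (algebraMap R B)).IsMaximal :=
    Ideal.isMaximal_comap_of_isIntegral_of_isMaximal q
  exact IsLocalRing.eq_maximalIdeal inferInstance

include R in
theorem exists_idempotent (q : Ideal B) [q.IsMaximal] :
    ∃ e : B, IsIdempotentElem e ∧ e ∉ q ∧ ∀ Q : Ideal B, Q.IsPrime → e ∉ Q → Q ≤ q := by
  have : q.LiesOver (maximalIdeal R) := ⟨(comap_of_isMaximal R B q).symm⟩
  obtain ⟨e, he, heq, -, huniq⟩ := Groth.Agent.H3.exists_idempotent_of_quasiFiniteAt R B q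
  refine ⟨e, he, heq, fun Q hQ heQ => ?_⟩
  -- a maximal ideal above `Q`
  obtain ⟨M, hM, hQM⟩ := Ideal.exists_le_maximal Q hQ.ne_top
  have h1e : 1 - e ∈ Q := by
    have h0 : e * (1 - e) ∈ Q := by
      have : e * (1 - e) = 0 := by
        rw [mul_sub, mul_one, he.eq, sub_self]
      rw [this]; exact Q.zero_mem
    exact (hQ.mem_or_mem h0).resolve_left heQ
  have heM : e ∉ M := by
    intro h
    apply hM.ne_top
    rw [Ideal.eq_top_iff_one]
    have := M.add_mem h (hQM h1e)
    rwa [add_sub_cancel] at this
  have : M.LiesOver (maximalIdeal R) := ⟨(comap_of_isMaximal R B M).symm⟩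
  have := huniq M hM.isPrime inferInstance heM
  rw [← this]
  exact hQM

include R in
theorem surjective_algebraMap_atPrime (q : Ideal B) [q.IsMaximal]
    (S : Type u) [CommRing S] [Algebra B S] [IsLocalization.AtPrime S q] :
    Function.Surjective (algebraMap B S) := by
  obtain ⟨e, he, heq, hle⟩ := exists_idempotent R B q
  have hunit : ∀ s : B, s ∉ q → ∃ t : B, algebraMap B S s * algebraMap B S t = 1 := by
    intro s hs
    -- the ideal `(s, 1 - e)` is the unit ideal
    have htop : Ideal.span {s, 1 - e} = ⊤ := by
      by_contra hne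
      obtain ⟨M, hM, hsM⟩ := Ideal.exists_le_maximal _ hne
      have hsM' : s ∈ M := hsM (Ideal.subset_span (by simp))
      have h1eM : 1 - e ∈ M := hsM (Ideal.subset_span (by simp))
      have heM : e ∉ M := by
        intro h
        apply hM.ne_top
        rw [Ideal.eq_top_iff_one]
        have := M.add_mem h h1eM
        rwa [add_sub_cancel] at this
      have hMq : M ≤ q := hle M hM.isPrime heM
      exact hs (hMq hsM')
    have h1 : (1 : B) ∈ Ideal.span {s, 1 - e} := by rw [htop]; trivial
    obtain ⟨t, c, htc⟩ := Ideal.mem_span_pair.1 h1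
    refine ⟨t, ?_⟩
    have he_unit : IsUnit (algebraMap B S e) :=
      IsLocalization.map_units S (⟨e, heq⟩ : q.primeCompl)
    have h2 : algebraMap B S e * (algebraMap B S s * algebraMap B S t) = algebraMap B S e := by
      rw [← map_mul, ← map_mul]
      congr 1
      have : e * (s * t) = e * (t * s + c * (1 - e)) - c * (e * (1 - e)) := by ring
      rw [this, htc, mul_sub e 1 e, mul_one, he.eq, sub_self, mul_zero, sub_zero]
    have h3 := he_unit.mul_left_cancel (h2.trans (mul_one _).symm)
    exact h3
  intro z
  obtain ⟨⟨b, s⟩, hbs⟩ := IsLocalization.surj q.primeCompl z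
  obtain ⟨t, ht⟩ := hunit s.1 s.2
  refine ⟨b * t, ?_⟩
  rw [map_mul, ← hbs]
  change z * algebraMap B S s.1 * algebraMap B S t = z
  rw [mul_assoc, ht, mul_one]

end Semilocal

end Groth.Agent.H69.FiniteHensel
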