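import Mathlib.LinearAlgebra.Matrix.Charpoly.Coeff
import Mathlib.LinearAlgebra.Matrix.MvPolynomial
import Mathlib.Algebra.Polynomial.RingDivision

/-!
# The generic determinant is a nonzerodivisor over any commutative ring (helper69)

Trick: the substitution `X ↦ X + T·1` sends the generic determinant to a monic polynomial in `T`.
-/

set_option autoImplicit false

namespace Groth.Agent.H69

open MvPolynomial

variable {m : Type*} [Fintype m] [DecidableEq m] (A : Type*) [CommRing A]

/-- The substitution `X_ij ↦ X_ij + δ_ij T`, with values in `A[X_ij][T]`. -/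
noncomputable def shiftT : MvPolynomial (m × m) A →+* Polynomial (MvPolynomial (m × m) A) :=
  MvPolynomial.eval₂Hom ((Polynomial.C : MvPolynomial (m × m) A →+* _).comp MvPolynomial.C)
    (fun p : m × m => (Matrix.charmatrix (-(Matrix.mvPolynomialX m m A))) p.1 p.2)

lemma shiftT_det : shiftT (m := m) A (Matrix.det (Matrix.mvPolynomialX m m A)) =
    (-(Matrix.mvPolynomialX m m A)).charpoly := by
  rw [shiftT, RingHom.map_det, Matrix.charpoly]
  congr 1
  exact Matrix.mvPolynomialX_map_eval₂ _ _

lemma eval_zero_shiftT (h : MvPolynomial (m × m) A) :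
    Polynomial.eval 0 (shiftT (m := m) A h) = h := by
  have : (Polynomial.evalRingHom (0 : MvPolynomial (m × m) A)).comp (shiftT (m := m) A) =
      RingHom.id _ := by
    apply MvPolynomial.ringHom_ext
    · intro a
      simp [shiftT]
    · rintro ⟨i, j⟩
      simp only [shiftT, RingHom.comp_apply, MvPolynomial.coe_eval₂Hom, MvPolynomial.eval₂_X,
        Polynomial.coe_evalRingHom, RingHom.id_apply, Matrix.charmatrix_apply]
      by_cases hp : i = j
      · subst hp; simp
      · simp [hp]
  exact congrArg (fun F : MvPolynomial (m × m) A →+* MvPolynomial (m × m) A => F h) this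

theorem det_mvPolynomialX_mem_nonZeroDivisors :
    Matrix.det (Matrix.mvPolynomialX m m A) ∈ nonZeroDivisors (MvPolynomial (m × m) A) := by
  rw [mem_nonZeroDivisors_iff_left]
  intro h hh
  have h1 : shiftT (m := m) A (Matrix.det (Matrix.mvPolynomialX m m A)) * shiftT (m := m) A h = 0 := by
    rw [← map_mul, hh, map_zero]
  rw [shiftT_det, (Matrix.charpoly_monic _).mul_right_eq_zero_iff] at h1
  rw [← eval_zero_shiftT A h, h1, Polynomial.eval_zero]

end Groth.Agent.H69
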