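import Groth.Agent.H69.GenericDet
import Mathlib.RingTheory.AdjoinRoot
import Mathlib.RingTheory.AlgebraTower
import Mathlib.RingTheory.MvPolynomial.Basic
import Mathlib.RingTheory.Flat.FaithfullyFlat.Basic

/-!
# `A[X_ij]/(det)` is free over `A` (helper69)

After the change of variables `X_ii ↦ X_ii + T` (`i ≠ i0`), `X_{i0 i0} ↦ T`, the generic determinant
becomes a characteristic polynomial, hence monic in `T`.
-/

set_option autoImplicit false

namespace Groth.Agent.H69

open MvPolynomial

variable {m : Type*} [Fintype m] [DecidableEq m] (A : Type*) [CommRing A] (i0 : m)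

/-- The variables other than `X_{i0 i0}`. -/
abbrev OffVars (i0 : m) := {p : m × m // p ≠ (i0, i0)}

/-- The matrix whose characteristic polynomial is the transformed generic determinant. -/
noncomputable def Nmat : Matrix m m (MvPolynomial (OffVars i0) A) :=
  Matrix.of fun i j => if h : (i, j) = (i0, i0) then 0 else -X ⟨(i, j), h⟩

lemma Nmat_apply_ne {i j : m} (h : (i, j) ≠ (i0, i0)) : Nmat A i0 i j = -X ⟨(i, j), h⟩ :=
  dif_neg h

lemma Nmat_apply_self : Nmat A i0 i0 i0 = 0 := dif_pos rfl

/-- `X_ij ↦ δ_ij T + X_ij` (with `X_{i0 i0} ↦ T`). -/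
noncomputable def toPoly : MvPolynomial (m × m) A →+* Polynomial (MvPolynomial (OffVars i0) A) :=
  MvPolynomial.eval₂Hom ((Polynomial.C : MvPolynomial (OffVars i0) A →+* _).comp MvPolynomial.C)
    (fun p : m × m => Matrix.charmatrix (Nmat A i0) p.1 p.2)

/-- `T ↦ X_{i0 i0}`, `X_ij ↦ X_ij - δ_ij X_{i0 i0}`. -/
noncomputable def ofPoly : Polynomial (MvPolynomial (OffVars i0) A) →+* MvPolynomial (m × m) A :=
  Polynomial.eval₂RingHom
    (MvPolynomial.eval₂Hom (MvPolynomial.C : A →+* MvPolynomial (m × m) A)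
      (fun s : OffVars i0 => X s.1 - if s.1.1 = s.1.2 then X (i0, i0) else 0))
    (X (i0, i0))

lemma toPoly_C (a : A) : toPoly A i0 (C a) = Polynomial.C (C a) := by
  simp [toPoly]

lemma toPoly_X (p : m × m) : toPoly A i0 (X p) = Matrix.charmatrix (Nmat A i0) p.1 p.2 := by
  simp [toPoly]

lemma toPoly_det : toPoly A i0 (Matrix.det (Matrix.mvPolynomialX m m A)) = (Nmat A i0).charpoly := by
  rw [toPoly, RingHom.map_det, Matrix.charpoly]
  congr 1
  exact Matrix.mvPolynomialX_map_eval₂ _ _

lemma ofPoly_toPoly : (ofPoly A i0).comp (toPoly A i0) = RingHom.id _ := by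
  apply MvPolynomial.ringHom_ext
  · intro a
    simp [toPoly, ofPoly]
  · rintro ⟨i, j⟩
    rw [RingHom.comp_apply, toPoly_X, RingHom.id_apply, Matrix.charmatrix_apply]
    by_cases hij : (i, j) = (i0, i0)
    · obtain ⟨rfl, rfl⟩ := Prod.mk.inj hij
      rw [Nmat_apply_self]
      simp [ofPoly]
    · rw [Nmat_apply_ne A i0 hij]
      by_cases h2 : i = j
      · subst h2
        simp [ofPoly]
      · simp [ofPoly, h2]

lemma toPoly_ofPoly : (toPoly A i0).comp (ofPoly A i0) = RingHom.id _ := by
  apply Polynomial.ringHom_ext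
  · intro b
    have : ((toPoly A i0).comp (ofPoly A i0)).comp Polynomial.C =
        (RingHom.id _).comp Polynomial.C := by
      apply MvPolynomial.ringHom_ext
      · intro a
        simp [toPoly, ofPoly]
      · rintro ⟨⟨i, j⟩, hij⟩
        simp only [RingHom.comp_apply, RingHom.id_apply, ofPoly, Polynomial.coe_eval₂RingHom,
          Polynomial.eval₂_C, MvPolynomial.coe_eval₂Hom, MvPolynomial.eval₂_X]
        rw [map_sub, toPoly_X, Matrix.charmatrix_apply, Nmat_apply_ne A i0 hij]
        by_cases h2 : i = j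
        · subst h2
          simp [toPoly_X, Matrix.charmatrix_apply, Nmat_apply_self]
        · simp [h2]
    exact congrArg (fun F : MvPolynomial (OffVars i0) A →+* _ => F b) this
  · simp [ofPoly, toPoly_X, Matrix.charmatrix_apply, Nmat_apply_self]

/-- The change of variables as an `A`-algebra isomorphism. -/
noncomputable def polyEquiv :
    MvPolynomial (m × m) A ≃ₐ[A] Polynomial (MvPolynomial (OffVars i0) A) :=
  AlgEquiv.ofRingEquiv (f := RingEquiv.ofRingHom (toPoly A i0) (ofPoly A i0)
    (toPoly_ofPoly A i0) (ofPoly_toPoly A i0)) (by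
      intro a
      show toPoly A i0 (C a) = _
      rw [toPoly_C]
      rfl)

lemma polyEquiv_det : polyEquiv A i0 (Matrix.det (Matrix.mvPolynomialX m m A)) =
    (Nmat A i0).charpoly := toPoly_det A i0

/-- The quotient by the generic determinant is an `AdjoinRoot` of a monic polynomial. -/
noncomputable def quotEquiv :
    (MvPolynomial (m × m) A ⧸ Ideal.span {Matrix.det (Matrix.mvPolynomialX m m A)}) ≃ₐ[A]
      AdjoinRoot (Nmat A i0).charpoly :=
  Ideal.quotientEquivAlg _ _ (polyEquiv A i0) (by
    rw [Ideal.map_span, Set.image_singleton]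
    congr 2
    exact (polyEquiv_det A i0).symm)

instance free_quot [Nonempty m] : Module.Free A
    (MvPolynomial (m × m) A ⧸ Ideal.span {Matrix.det (Matrix.mvPolynomialX m m A)}) := by
  obtain ⟨i0⟩ := ‹Nonempty m›
  have b1 : Module.Basis _ A (MvPolynomial (OffVars i0) A) := MvPolynomial.basisMonomials _ A
  have b2 : Module.Basis _ (MvPolynomial (OffVars i0) A) (AdjoinRoot (Nmat A i0).charpoly) :=
    (AdjoinRoot.powerBasis' (Matrix.charpoly_monic (Nmat A i0))).basis
  have : Module.Free A (AdjoinRoot (Nmat A i0).charpoly) := Module.Free.of_basis (b1.smulTower b2)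
  exact Module.Free.of_equiv (quotEquiv A i0).symm.toLinearEquiv

lemma nontrivial_quot [Nonempty m] [Nontrivial A] : Nontrivial
    (MvPolynomial (m × m) A ⧸ Ideal.span {Matrix.det (Matrix.mvPolynomialX m m A)}) := by
  rw [Ideal.Quotient.nontrivial_iff, Ne, Ideal.eq_top_iff_one, Ideal.mem_span_singleton]
  rintro ⟨g, hg⟩
  have h1 := congrArg (MvPolynomial.eval (fun _ : m × m => (0 : A))) hg
  rw [map_one, map_mul, RingHom.map_det] at h1
  have : (MvPolynomial.eval fun _ : m × m => (0 : A)).mapMatrix (Matrix.mvPolynomialX m m A) = 0 :=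
    Matrix.mvPolynomialX_mapMatrix_eval (0 : Matrix m m A)
  rw [this, Matrix.det_zero, zero_mul] at h1
  exact one_ne_zero h1

theorem faithfullyFlat_quot [Nonempty m] : Module.FaithfullyFlat A
    (MvPolynomial (m × m) A ⧸ Ideal.span {Matrix.det (Matrix.mvPolynomialX m m A)}) := by
  rcases subsingleton_or_nontrivial A with hA | hA
  · refine ⟨fun I hI => ?_⟩
    exact absurd (Subsingleton.elim I ⊤) hI.ne_top
  · have := nontrivial_quot (m := m) A
    infer_instance

end Groth.Agent.H69
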