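import Groth.Agent.H22.FinitePart
import Groth.Agent.H69.UnivSubmFF
import Groth.Prelude.Def_EtBase

/-!
# Finite étale covers of a henselian local scheme (helper69)

`FCover X`: finite étale surjective morphisms `W ⟶ X`, as objects of the small étale site.
`exists_fcover`: over `X = Spec A`, `A` henselian local, every étale `V ⟶ X` with a point over the
closed point receives a morphism from some finite étale cover.
-/

set_option autoImplicit false
set_option backward.isDefEq.respectTransparency.types false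
open CategoryTheory CategoryTheory.Limits AlgebraicGeometry Opposite
universe u

namespace Groth.Agent.H69.HenselCover

/-- finite étale surjective covers of `X` -/
structure FCover (X : Scheme.{u}) where
  W : Scheme.{u}
  f : W ⟶ X
  [etale : Etale f]
  [finite : IsFinite f]
  [surj : Surjective f]

attribute [instance] FCover.etale FCover.finite FCover.surj

/-- a cover as an object of the small étale site -/
noncomputable def FCover.obj {X : Scheme.{u}} (c : FCover X) : X.Etale := Scheme.Etale.mk c.f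

theorem exists_fcover (A : Type u) [CommRing A] [HenselianLocalRing A]
    (V : (Spec (CommRingCat.of A)).Etale) (v : V.left)
    (hv : V.hom v = IsLocalRing.closedPoint A) :
    ∃ (c : FCover (Spec (CommRingCat.of A))) (_ : c.obj ⟶ V), True := by
  obtain ⟨_, ⟨U₀', hU₀', rfl⟩, hvU₀', -⟩ :=
    V.left.isBasis_affineOpens.exists_subset_of_mem_open (Set.mem_univ v) isOpen_univ
  obtain ⟨U₀, hU₀, hvU₀⟩ : ∃ U₀ : V.left.Opens, IsAffineOpen U₀ ∧ v ∈ U₀ := ⟨U₀', hU₀', hvU₀'⟩
  have : IsAffine U₀.toScheme := hU₀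
  have hVet : Etale V.hom := V.prop
  let f₀ : (U₀ : Scheme.{u}) ⟶ Spec (CommRingCat.of A) := U₀.ι ≫ V.hom
  have hf₀ : Etale f₀ := inferInstance
  have hqf : LocallyQuasiFinite f₀ := Groth.Agent.H69.UnivSubmFF.locallyQuasiFinite_of_etale f₀
  have haff : IsAffineHom f₀ := isAffineHom_of_isAffine f₀
  obtain ⟨U, -, hUfin, hU⟩ := Groth.Agent.H22.FinitePart.exists_finite_part A U₀.toScheme f₀
  have hopen : IsOpenMap (U.ι ≫ f₀) := (U.ι ≫ f₀).isOpenMap
  have hsurj : Surjective (U.ι ≫ f₀) := by
    constructor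
    have hmem : IsLocalRing.closedPoint A ∈ Set.range (U.ι ≫ f₀) := by
      have hv' : (⟨v, hvU₀⟩ : ↥U₀) ∈ U := hU ⟨v, hvU₀⟩ hv
      exact ⟨⟨⟨v, hvU₀⟩, hv'⟩, hv⟩
    have hro : IsOpen (Set.range (U.ι ≫ f₀)) := hopen.isOpen_range
    have htop : (⟨Set.range (U.ι ≫ f₀), hro⟩ : TopologicalSpace.Opens (PrimeSpectrum A)) = ⊤ :=
      (IsLocalRing.closed_point_mem_iff (U := ⟨_, hro⟩)).1 hmem
    intro x
    have : x ∈ (⟨Set.range (U.ι ≫ f₀), hro⟩ : TopologicalSpace.Opens (PrimeSpectrum A)) := by
      rw [htop]; trivial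
    exact this
  let c : FCover (Spec (CommRingCat.of A)) := { W := U.toScheme, f := U.ι ≫ f₀ }
  refine ⟨c, MorphismProperty.Over.homMk (U.ι ≫ U₀.ι) ?_ trivial, trivial⟩
  change (U.ι ≫ U₀.ι) ≫ V.hom = U.ι ≫ U₀.ι ≫ V.hom
  rw [Category.assoc]

end Groth.Agent.H69.HenselCover
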