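import Groth.Agent.H69.HenselVanish
import Groth.Agent.H4.MapExtNat
import Groth.Agent.S0631

/-!
# Cohomology of a henselian local scheme is the cohomology of its closed point (helper69)
-/

set_option autoImplicit false
set_option backward.isDefEq.respectTransparency.types false
open CategoryTheory CategoryTheory.Limits AlgebraicGeometry Opposite Abelian
universe u

namespace Groth.Agent.H69.HenselLocalH

section Abstract

universe w v u'

variable {𝒜 : Type u'} [Category.{v} 𝒜] [Abelian 𝒜] [HasExt.{w} 𝒜] [EnoughInjectives 𝒜]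

attribute [local instance] Ext.subsingleton_of_injective in
/-- naturality of `η : 𝟭 ⟶ G` on `Ext` classes, for `G` exact -/
theorem unit_naturality_ext (G : 𝒜 ⥤ 𝒜) [G.Additive] [PreservesFiniteLimits G]
    [PreservesFiniteColimits G] (η : 𝟭 𝒜 ⟶ G) {A : 𝒜} :
    ∀ (n : ℕ) {B : 𝒜} (e : Ext.{w} A B n),
      e.comp (Ext.mk₀ (η.app B)) (add_zero n) =
        (Ext.mk₀ (η.app A)).comp (e.mapExactFunctor G) (zero_add n) := by
  intro n
  induction n with
  | zero =>
    intro B e
    rcases (Ext.mk₀_bijective A B).2 e with ⟨f, rfl⟩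
    rw [Ext.mapExactFunctor_mk₀, Ext.mk₀_comp_mk₀, Ext.mk₀_comp_mk₀]
    exact congrArg Ext.mk₀ (η.naturality f)
  | succ n ih =>
    intro B e
    let I : InjectivePresentation B := Classical.arbitrary _
    let S := ShortComplex.mk _ _ (cokernel.condition I.f)
    have : Injective S.X₂ := I.injective
    have hS : S.ShortExact := { exact := ShortComplex.exact_cokernel I.f }
    obtain ⟨e', rfl⟩ := Ext.covariant_sequence_exact₁ A hS e (by subsingleton) rfl
    have h1 := Groth.Agent.H69.AbsKill.step A η S hS e'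
    have h2 : e'.comp (Ext.mk₀ (Groth.Agent.H69.AbsKill.natSC η S).τ₃) (add_zero n) =
        (Ext.mk₀ (η.app A)).comp (e'.mapExactFunctor G) (zero_add n) := ih e'
    have h3 : ((e'.comp hS.extClass rfl).mapExactFunctor G : Ext.{w} _ _ (n + 1)) =
        (e'.mapExactFunctor G).comp (hS.map_of_exact G).extClass rfl :=
      (Ext.mapExactFunctor_comp G e' hS.extClass rfl).trans
        (congrArg (fun z => (e'.mapExactFunctor G).comp z rfl) (Ext.mapExactFunctor_extClass G hS))
    refine h1.trans ?_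
    rw [h2, h3]
    exact Ext.comp_assoc _ _ _ (zero_add n) rfl (by omega)

omit [EnoughInjectives 𝒜] in
/-- a morphism whose kernel and cokernel have no `Ext` from `Z` induces bijections on `Ext(Z, -)` -/
theorem postcomp_bijective_of_vanish (Z : 𝒜) {F F' : 𝒜} (φ : F ⟶ F')
    (hk : ∀ (n : ℕ) (α : Ext.{w} Z (kernel φ) n), α = 0)
    (hc : ∀ (n : ℕ) (α : Ext.{w} Z (cokernel φ) n), α = 0) (n : ℕ) :
    Function.Bijective (fun e : Ext.{w} Z F n => e.comp (Ext.mk₀ φ) (add_zero n)) := by
  -- the two short exact sequences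
  have z₁ : kernel.ι φ ≫ Abelian.factorThruImage φ = 0 := by
    rw [← cancel_mono (Abelian.image.ι φ), Category.assoc, Abelian.image.fac, kernel.condition,
      zero_comp]
  let S₁ : ShortComplex 𝒜 := ShortComplex.mk (kernel.ι φ) (Abelian.factorThruImage φ) z₁
  have hS₁ : S₁.ShortExact :=
    { exact := ShortComplex.exact_of_f_is_kernel _
        (isKernelOfComp (Abelian.image.ι φ) φ (kernelIsKernel φ) z₁ (Abelian.image.fac φ))
      mono_f := (inferInstance : Mono (kernel.ι φ))
      epi_g := (inferInstance : Epi (Abelian.factorThruImage φ)) }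
  let S₂ : ShortComplex 𝒜 := ShortComplex.mk (Abelian.image.ι φ) (cokernel.π φ)
    (kernel.condition (cokernel.π φ))
  have hS₂ : S₂.ShortExact :=
    { exact := ShortComplex.exact_kernel (cokernel.π φ)
      mono_f := (inferInstance : Mono (Abelian.image.ι φ))
      epi_g := (inferInstance : Epi (cokernel.π φ)) }
  have hfac : ∀ e : Ext.{w} Z F n, e.comp (Ext.mk₀ φ) (add_zero n) =
      (e.comp (Ext.mk₀ S₁.g) (add_zero n)).comp (Ext.mk₀ S₂.f) (add_zero n) := by
    intro e
    rw [Ext.comp_assoc _ _ _ (add_zero n) (add_zero 0) (by omega), Ext.mk₀_comp_mk₀]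
    exact congrArg (fun t => e.comp (Ext.mk₀ t) (add_zero n)) (Abelian.image.fac φ).symm
  -- step A
  have hA : Function.Bijective ((Ext.mk₀ S₁.g).postcomp Z (add_zero n) :
      Ext.{w} Z S₁.X₂ n →+ Ext.{w} Z S₁.X₃ n) := by
    constructor
    · rw [injective_iff_map_eq_zero]
      intro e he
      obtain ⟨x₁, hx₁⟩ := Ext.covariant_sequence_exact₂ Z hS₁ e he
      rw [← hx₁, hk n x₁, Ext.zero_comp]
    · intro y
      have h0 : y.comp hS₁.extClass (rfl : n + 1 = n + 1) = 0 := hk (n + 1) _
      obtain ⟨x₂, hx₂⟩ := Ext.covariant_sequence_exact₃ Z hS₁ y rfl h0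
      exact ⟨x₂, hx₂⟩
  -- step B
  have hB : Function.Bijective ((Ext.mk₀ S₂.f).postcomp Z (add_zero n) :
      Ext.{w} Z S₂.X₁ n →+ Ext.{w} Z S₂.X₂ n) := by
    constructor
    · rw [injective_iff_map_eq_zero]
      intro y hy
      cases n with
      | zero =>
        have hm : Mono S₂.f := hS₂.mono_f
        refine Ext.postcomp_mk₀_injective_of_mono Z S₂.f (hy.trans ?_)
        exact (Ext.zero_comp Z 0 (Ext.mk₀ S₂.f) 0 (add_zero 0)).symm
      | succ m =>
        obtain ⟨x₃, hx₃⟩ := Ext.covariant_sequence_exact₁ Z hS₂ y hy (n₀ := m) rfl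
        rw [← hx₃, hc m x₃, Ext.zero_comp]
    · intro z
      have h0 : z.comp (Ext.mk₀ S₂.g) (add_zero n) = 0 := hc n _
      obtain ⟨x₁, hx₁⟩ := Ext.covariant_sequence_exact₂ Z hS₂ z h0
      exact ⟨x₁, hx₁⟩
  have hAB := hB.comp hA
  refine ⟨fun e₁ e₂ h => hAB.1 ?_, fun z => ?_⟩
  · have h1 := hfac e₁
    have h2 := hfac e₂
    exact (h1.symm.trans (h.trans h2) : _)
  · obtain ⟨e, he⟩ := hAB.2 z
    exact ⟨e, (hfac e).trans he⟩

end Abstract

section Compat

open Groth.Agent.H4 Groth.Agent.H69.IntegralPushH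

variable {X Y : Scheme.{u}} (f : Y ⟶ X) [IsIntegralHom f]

/-- `H^n(X, G) → H^n(Y, f^* G) ≅ H^n(X, f_* f^* G)` is induced by the unit -/
theorem toPush_Hpull [PreservesFiniteLimits (EtCoh.pull f)] (G : EtCoh.Ab X) (n : ℕ)
    (e : EtCoh.H X G n) :
    toPush f ((EtCoh.pull f).obj G) n (EtCore.Hpull f G n e) =
      e.comp (Ext.mk₀ ((EtCoh.pullPushAdj f).unit.app G)) (add_zero n) := by
  have h1 : PreservesFiniteColimits (EtCoh.push f) :=
    Groth.Agent.H7.push_preservesFiniteColimits_of_propB f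
      (Groth.Agent.H7.propB_of_isIntegralHom f)
  have h2 : PreservesFiniteLimits (EtCoh.push f) := Groth.Agent.H7.push_preservesFiniteLimits f
  have h3 : (EtCoh.push f).Additive := (EtCoh.pullPushAdj f).right_adjoint_additive
  have hto : ∀ x : EtCoh.H Y ((EtCoh.pull f).obj G) n,
      toPush f ((EtCoh.pull f).obj G) n x =
        ExtAdj.phi (EtCoh.pullPushAdj f) _ ((EtCoh.pull f).obj G) n
          ((Ext.mk₀ (EtCore.pullConst f ℤ).hom).comp x (zero_add n)) := fun x => rfl
  rw [hto, HpullAPI.Hpull_apply,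
    ← Ext.comp_assoc _ _ _ (zero_add 0) (zero_add n) (by omega), Ext.mk₀_comp_mk₀,
    Iso.hom_inv_id, Ext.mk₀_id_comp, ExtAdj.phi_apply,
    ← MapExtNat.mapExactFunctor_comp_functor (EtCoh.pull f) (EtCoh.push f) e]
  exact (unit_naturality_ext (EtCoh.pull f ⋙ EtCoh.push f) (EtCoh.pullPushAdj f).unit n e).symm

end Compat

section Main

open Groth.Agent.H69.HenselVanish Groth.Agent.H69.IntegralPushH

variable (A : Type u) [CommRing A] [HenselianLocalRing A]

/-- **Main theorem**, assuming the counit `i^* i_* ⟶ 𝟭` of the closed point is invertible. -/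
theorem Hpull_bijective_of_counit (F : EtCoh.Ab (Spec (CommRingCat.of A)))
    [PreservesFiniteLimits (EtCoh.pull (ii A))] [IsIntegralHom (ii A)]
    (hcounit : ∀ M : EtCoh.Ab (Spec (CommRingCat.of (IsLocalRing.ResidueField A))),
      IsIso ((EtCoh.pullPushAdj (ii A)).counit.app M)) (n : ℕ) :
    Function.Bijective (EtCore.Hpull (ii A) F n) := by
  let η := (EtCoh.pullPushAdj (ii A)).unit.app F
  have hiso : IsIso ((EtCoh.pull (ii A)).map η) := by
    have h1 := (EtCoh.pullPushAdj (ii A)).left_triangle_components F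
    have h2 : IsIso ((EtCoh.pullPushAdj (ii A)).counit.app ((EtCoh.pull (ii A)).obj F)) :=
      hcounit _
    have h3 : IsIso ((EtCoh.pull (ii A)).map η ≫
        (EtCoh.pullPushAdj (ii A)).counit.app ((EtCoh.pull (ii A)).obj F)) := by
      rw [show (EtCoh.pull (ii A)).map η ≫
        (EtCoh.pullPushAdj (ii A)).counit.app ((EtCoh.pull (ii A)).obj F) = 𝟙 _ from h1]
      infer_instance
    exact IsIso.of_isIso_comp_right _
      ((EtCoh.pullPushAdj (ii A)).counit.app ((EtCoh.pull (ii A)).obj F))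
  have hker : IsZero ((EtCoh.pull (ii A)).obj (kernel η)) :=
    IsZero.of_iso (isZero_kernel_of_mono _) (PreservesKernel.iso (EtCoh.pull (ii A)) η)
  have hcoker : IsZero ((EtCoh.pull (ii A)).obj (cokernel η)) :=
    IsZero.of_iso (isZero_cokernel_of_epi _) (PreservesCokernel.iso (EtCoh.pull (ii A)) η)
  have hpost := postcomp_bijective_of_vanish (ZZ (Spec (CommRingCat.of A))) η
    (fun n α => ext_eq_zero A _ hker n α) (fun n α => ext_eq_zero A _ hcoker n α) n
  have hto := toPush_bijective (ii A) ((EtCoh.pull (ii A)).obj F) n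
  have hcomp : (toPush (ii A) ((EtCoh.pull (ii A)).obj F) n) ∘ (EtCore.Hpull (ii A) F n) =
      fun e => e.comp (Ext.mk₀ η) (add_zero n) := funext (toPush_Hpull (ii A) F n)
  have hb : Function.Bijective
      ((toPush (ii A) ((EtCoh.pull (ii A)).obj F) n) ∘ (EtCore.Hpull (ii A) F n)) := by
    rw [hcomp]; exact hpost
  exact (Function.Bijective.of_comp_iff' hto _).1 hb

end Main

end Groth.Agent.H69.HenselLocalH
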