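import Groth.Agent.H69.HenselCover
import Groth.Agent.H69.AbsKill
import Groth.Agent.H69.EtSecExact
import Groth.Agent.H69.IntegralPushH
import Groth.Agent.H4.StalkPull
import Groth.Agent.H4.HpullAPI
import Groth.Agent.H21.ConstSec
import Groth.Agent.S0621

/-!
# Vanishing of the cohomology of sheaves with trivial closed fibre on a henselian local scheme
(helper69)
-/

set_option autoImplicit false
set_option backward.isDefEq.respectTransparency.types false
open CategoryTheory CategoryTheory.Limits AlgebraicGeometry Opposite Abelian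
universe u

namespace Groth.Agent.H69.HenselVanish

open Groth.Agent.H69.HenselCover Groth.Agent.H4.EtRestr EtShriek

section Functor

variable {X W : Scheme.{u}} (f : W ⟶ X) [Etale f]

/-- `f_* f^*` for étale `f`, with explicit sections -/
noncomputable abbrev GG : EtCoh.Ab X ⥤ EtCoh.Ab X := restrAlong f ⋙ EtCoh.push f

/-- the unit `K ⟶ f_* f^* K` -/
noncomputable abbrev ηη : 𝟭 (EtCoh.Ab X) ⟶ GG f := (restrPushAdj f).unit

instance : (restrAlong f).Additive := (restrPushAdj f).left_adjoint_additive

instance : PreservesFiniteLimits (restrAlong f) :=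
  have : PreservesLimitsOfSize.{0, 0} (restrAlong f) := (extZeroAdj f).rightAdjoint_preservesLimits
  PreservesLimitsOfSize.preservesFiniteLimits _

instance : PreservesFiniteColimits (restrAlong f) :=
  have : PreservesColimitsOfSize.{0, 0} (restrAlong f) :=
    (restrPushAdj f).leftAdjoint_preservesColimits
  PreservesColimitsOfSize.preservesFiniteColimits _

theorem push_preservesFiniteColimits [IsIntegralHom f] :
    PreservesFiniteColimits (EtCoh.push f) :=
  Groth.Agent.H7.push_preservesFiniteColimits_of_propB f (Groth.Agent.H7.propB_of_isIntegralHom f)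

theorem push_preservesFiniteLimits : PreservesFiniteLimits (EtCoh.push f) :=
  Groth.Agent.H7.push_preservesFiniteLimits f

theorem mono_unit [Surjective f] (K : EtCoh.Ab X) : Mono ((ηη f).app K) := by
  have h1 : Mono ((EtCoh.pullPushAdj f).unit.app K) := by
    have hinj := Groth.Agent.H4.StalkPull.unit_injective_of_surjective f K
    have hm : Mono ((sheafToPresheaf _ _).map ((EtCoh.pullPushAdj f).unit.app K)) := by
      apply (config := { allowSynthFailures := true }) NatTrans.mono_of_mono_app
      intro V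
      exact (AddCommGrpCat.mono_iff_injective _).2 (hinj V.unop)
    exact (sheafToPresheaf _ _).mono_of_mono_map hm
  have h2 := Adjunction.unit_leftAdjointUniq_hom_app (EtCoh.pullPushAdj f) (restrPushAdj f) K
  have h3 : ((ηη f).app K) = (EtCoh.pullPushAdj f).unit.app K ≫
      (EtCoh.push f).map ((pullRestrIso f).hom.app K) := h2.symm
  rw [h3]
  infer_instance

end Functor

section BaseChange

variable {X W x : Scheme.{u}} (f : W ⟶ X) [Etale f] [IsFinite f] (i : x ⟶ X)

/-- `f_* f^* K` has trivial fibre along `i` if `K` does (finite base change) -/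
theorem isZero_pull_GG (K : EtCoh.Ab X) (hK : IsZero ((EtCoh.pull i).obj K)) :
    IsZero ((EtCoh.pull i).obj ((GG f).obj K)) := by
  have hpb : IsPullback (pullback.fst f i) (pullback.snd f i) f i := IsPullback.of_hasPullback f i
  have hiso := Groth.Agent.S0621.result f i (pullback.snd f i) (pullback.fst f i) hpb
    ((restrAlong f).obj K)
  refine IsZero.of_iso ?_ (asIso (EtCoh.baseChange0 f i _ _ hpb.w ((restrAlong f).obj K)))
  apply Functor.map_isZero
  have e1 : (EtCoh.pull (pullback.fst f i)).obj ((restrAlong f).obj K) ≅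
      (EtCoh.pull (pullback.fst f i)).obj ((EtCoh.pull f).obj K) :=
    (EtCoh.pull _).mapIso ((pullRestrIso f).app K).symm
  have e2 : (EtCoh.pull (pullback.fst f i)).obj ((EtCoh.pull f).obj K) ≅
      (EtCoh.pull (pullback.fst f i ≫ f)).obj K := ((EtCore.pullComp _ _).app K).symm
  have e3 : (EtCoh.pull (pullback.fst f i ≫ f)).obj K ≅
      (EtCoh.pull (pullback.snd f i ≫ i)).obj K := (EtCore.pullCongr hpb.w).app K
  have e4 : (EtCoh.pull (pullback.snd f i ≫ i)).obj K ≅
      (EtCoh.pull (pullback.snd f i)).obj ((EtCoh.pull i).obj K) := (EtCore.pullComp _ _).app K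
  refine IsZero.of_iso ?_ (e1 ≪≫ e2 ≪≫ e3 ≪≫ e4)
  exact Functor.map_isZero _ hK

omit [Etale f] [IsFinite f] in
theorem isZero_pull_X₃ (S : ShortComplex (EtCoh.Ab X)) (hS : S.ShortExact)
    (h2 : IsZero ((EtCoh.pull i).obj S.X₂)) : IsZero ((EtCoh.pull i).obj S.X₃) := by
  have := hS.epi_g
  have : Epi ((EtCoh.pull i).map S.g) := inferInstance
  exact IsZero.of_epi ((EtCoh.pull i).map S.g) h2

end BaseChange

section Sections

open Groth.Agent.H69.EtSecExact Groth.Agent.H4.Stalks

variable {X : Scheme.{u}} (c : FCover X)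

/-- `(W ×_X X → W → X)`, the object over which `f_* f^* K` has its global sections -/
noncomputable abbrev Wt : X.Etale := (compEtale c.f).obj ((EtCoh.bc c.f).obj (EtCoh.top X))

/-- the canonical map `W ×_X X ⟶ W` in the small étale site of `X` -/
noncomputable def rr : Wt c ⟶ c.obj :=
  MorphismProperty.Over.homMk (pullback.snd (EtCoh.top X).hom c.f) rfl trivial

lemma unit_app (K : EtCoh.Ab X) (V : X.Etale) :
    ((ηη c.f).app K).hom.app (op V) = K.obj.map ((compBcAdj c.f).counit.app V).op := by
  change (((compBcAdj c.f).op.whiskerLeft _).unit.app K.obj).app (op V) = _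
  rw [Adjunction.whiskerLeft_unit_app_app]
  rfl

/-- the value of the unit on a global section is the restriction to `W` -/
lemma unit_app_top (K : EtCoh.Ab X) (σ : EtCoh.sect K (EtCoh.top X)) (g : c.obj ⟶ EtCoh.top X) :
    (((ηη c.f).app K).hom.app (op (EtCoh.top X))).hom σ =
      (K.obj.map (rr c).op).hom ((K.obj.map g.op).hom σ) := by
  rw [unit_app]
  have h : (compBcAdj c.f).counit.app (EtCoh.top X) = rr c ≫ g :=
    (EtCore.topIsTerminal X).hom_ext _ _
  rw [h, op_comp, K.obj.map_comp]
  rfl

end Sections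

section Hensel

open Groth.Agent.H69.EtSecExact Groth.Agent.H4.Stalks Groth.Agent.H4.StalkPull

variable (A : Type u) [CommRing A] [HenselianLocalRing A]

/-- the closed point of `Spec A` -/
noncomputable abbrev ii : Spec (CommRingCat.of (IsLocalRing.ResidueField A)) ⟶
    Spec (CommRingCat.of A) :=
  Spec.map (CommRingCat.ofHom (IsLocalRing.residue A))

/-- the constant sheaf `ℤ` -/
noncomputable abbrev ZZ (X : Scheme.{u}) : EtCoh.Ab X :=
  (constantSheaf X.smallEtaleTopology AddCommGrpCat.{u+1}).obj (AddCommGrpCat.of (ULift.{u+1} ℤ))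

/-- global sections of a sheaf with trivial closed fibre die on a finite étale cover -/
theorem L0 (K : EtCoh.Ab (Spec (CommRingCat.of A))) (hK : IsZero ((EtCoh.pull (ii A)).obj K))
    (s : ZZ (Spec (CommRingCat.of A)) ⟶ K) :
    ∃ c : FCover (Spec (CommRingCat.of A)), s ≫ (ηη c.f).app K = 0 := by
  let k := IsLocalRing.ResidueField A
  let y : Spec (CommRingCat.of (SeparableClosure k)) ⟶ Spec (CommRingCat.of k) :=
    Spec.map (CommRingCat.ofHom (algebraMap k (SeparableClosure k)))
  let ξ : Spec (CommRingCat.of (SeparableClosure k)) ⟶ Spec (CommRingCat.of A) := y ≫ ii A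
  have hξ : ξ default = IsLocalRing.closedPoint A :=
    IsLocalRing.PrimeSpectrum.comap_residue A (y default)
  obtain ⟨x₀, hx₀⟩ := Fib.exists_of_point (ξ := ξ) (EtCoh.top (Spec (CommRingCat.of A))) (ξ default) rfl
  let σ := homEquivGsec (Spec (CommRingCat.of A)) K s
  have hstalk : IsZero ((EtCoh.stalk ξ).obj K) :=
    IsZero.of_iso (Functor.map_isZero (EtCoh.stalk y) hK) ((stalkPullIso (ii A) y).app K)
  have hgerm : germ K x₀ σ = 0 := by
    have := AddCommGrpCat.subsingleton_of_isZero hstalk
    exact Subsingleton.elim _ _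
  obtain ⟨V, g, v, hv, hσ⟩ := (germ_eq_zero_iff' K x₀ σ).1 hgerm
  have hVv : V.hom v = IsLocalRing.closedPoint A := by
    have h1 : g.left ≫ (EtCoh.top (Spec (CommRingCat.of A))).hom = V.hom := Over.w g.hom
    have h2 : V.hom v = (EtCoh.top (Spec (CommRingCat.of A))).hom (g.left v) := by
      rw [← h1]; rfl
    rw [h2, hv, hx₀]
    exact hξ
  obtain ⟨c, g', -⟩ := exists_fcover A V v hVv
  refine ⟨c, ?_⟩
  apply (homEquivGsec (Spec (CommRingCat.of A)) ((GG c.f).obj K)).injective
  rw [homEquivGsec_comp, map_zero]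
  change (((ηη c.f).app K).hom.app (op (EtCoh.top (Spec (CommRingCat.of A))))).hom σ = 0
  rw [unit_app_top c K σ (g' ≫ g), op_comp, K.obj.map_comp]
  change (K.obj.map (rr c).op).hom ((K.obj.map g'.op).hom ((K.obj.map g.op).hom σ)) = 0
  rw [hσ, map_zero, map_zero]

/-- global sections lift along epimorphisms after passing to a finite étale cover -/
theorem L1 {I C : EtCoh.Ab (Spec (CommRingCat.of A))} (p : I ⟶ C) (hp : Epi p)
    (c₀ : ZZ (Spec (CommRingCat.of A)) ⟶ C) :
    ∃ (c : FCover (Spec (CommRingCat.of A))) (t : ZZ (Spec (CommRingCat.of A)) ⟶ (GG c.f).obj I),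
      t ≫ (GG c.f).map p = c₀ ≫ (ηη c.f).app C := by
  let b := homEquivGsec (Spec (CommRingCat.of A)) C c₀
  obtain ⟨R, hR, hloc⟩ := locally_surjective_of_epi p (EtCoh.top (Spec (CommRingCat.of A))) b
  obtain ⟨V, g, v, hg, hv⟩ := (Groth.Agent.H21.ConstSec.mem_iff R).1 hR (IsLocalRing.closedPoint A)
  have hVv : V.hom v = IsLocalRing.closedPoint A := by
    have h1 : g.left ≫ (EtCoh.top (Spec (CommRingCat.of A))).hom = V.hom := Over.w g.hom
    have h2 : V.hom v = (EtCoh.top (Spec (CommRingCat.of A))).hom (g.left v) := by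
      rw [← h1]; rfl
    rw [h2, hv]
    rfl
  obtain ⟨c, g', -⟩ := exists_fcover A V v hVv
  obtain ⟨s₁, hs₁⟩ := hloc (g' ≫ g) (R.downward_closed hg g')
  refine ⟨c, (homEquivGsec (Spec (CommRingCat.of A)) ((GG c.f).obj I)).symm
    ((I.obj.map (rr c).op).hom s₁), ?_⟩
  apply (homEquivGsec (Spec (CommRingCat.of A)) ((GG c.f).obj C)).injective
  rw [homEquivGsec_comp, homEquivGsec_comp, AddEquiv.apply_symm_apply]
  change (p.hom.app (op (Wt c))).hom ((I.obj.map (rr c).op).hom s₁) =
    (((ηη c.f).app C).hom.app (op (EtCoh.top (Spec (CommRingCat.of A))))).hom b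
  rw [unit_app_top c C b (g' ≫ g), ← hs₁]
  exact congrArg (fun k => k.hom s₁) (p.hom.naturality (rr c).op)

instance (X : Scheme.{u}) (c : FCover X) : PreservesFiniteColimits (EtCoh.push c.f) :=
  push_preservesFiniteColimits c.f

instance (X : Scheme.{u}) (c : FCover X) : PreservesFiniteLimits (EtCoh.push c.f) :=
  push_preservesFiniteLimits c.f

/-- **Vanishing.** On a henselian local scheme, a sheaf with trivial closed fibre has no
cohomology. -/
theorem ext_eq_zero (K : EtCoh.Ab (Spec (CommRingCat.of A)))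
    (hK : IsZero ((EtCoh.pull (ii A)).obj K)) (n : ℕ)
    (α : Ext (ZZ (Spec (CommRingCat.of A))) K n) : α = 0 :=
  Groth.Agent.H69.AbsKill.ext_eq_zero (ZZ (Spec (CommRingCat.of A)))
    (fun c : FCover (Spec (CommRingCat.of A)) => GG c.f) (fun c => ηη c.f)
    (fun c K => mono_unit c.f K)
    (fun K => IsZero ((EtCoh.pull (ii A)).obj K))
    (fun c K hK => isZero_pull_GG c.f (ii A) K hK)
    (fun S hS _ h2 => isZero_pull_X₃ (ii A) S hS h2)
    (L0 A) (fun p hp c₀ => L1 A p hp c₀) n K hK α

end Hensel

end Groth.Agent.H69.HenselVanish
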