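import Groth.Agent.H3.HenselEtale2
import Groth.Agent.H3.UnionEtaleProps

/-!
# Algebra maps from a union of étale images into a henselian local ring (helper69)

Let `R` be a flat local `A`-algebra that is a union of images of étale `A`-algebras and `T` a
henselian local ring with an `A`-algebra structure (not necessarily local). Then composition with the
residue map is a bijection `Hom_A(R, T) ≃ Hom_A(R, κ(T))`.
-/

set_option autoImplicit false
set_option backward.isDefEq.respectTransparency.types false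
universe u

namespace Groth.Agent.H69.IndEtHom

open Groth.Agent.H3 Groth.Agent.H3.UnionEtale IsLocalRing TensorProduct

variable {A : Type u} [CommRing A] {R : Type u} [CommRing R] [Algebra A R]
  {T : Type u} [CommRing T] [HenselianLocalRing T] [Algebra A T]

/-- the tensor product of étale algebras is étale -/
instance etale_tensor {C₁ C₂ : Type u} [CommRing C₁] [Algebra A C₁] [Algebra.Etale A C₁]
    [CommRing C₂] [Algebra A C₂] [Algebra.Etale A C₂] : Algebra.Etale A (C₁ ⊗[A] C₂) :=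
  Algebra.Etale.comp A C₁ _

/-- injectivity -/
theorem algHom_ext_of_residue (hU : IsUnion A R) (φ₁ φ₂ : R →ₐ[A] T)
    (h : ∀ r, residue T (φ₁ r) = residue T (φ₂ r)) : φ₁ = φ₂ := by
  ext r
  obtain ⟨C, _, _, hC, ψ, hψ⟩ := hU r
  obtain ⟨c, hc⟩ := hψ rfl
  obtain ⟨f, -, hf⟩ := existsUnique_lift_of_etale A T C
    ((IsScalarTower.toAlgHom A T (ResidueField T)).comp (φ₁.comp ψ))
  have h1 : φ₁.comp ψ = f := hf _ rfl
  have h2 : φ₂.comp ψ = f := hf _ (by
    ext x
    exact (h (ψ x)).symm)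
  rw [← hc]
  exact (congrArg (fun g : C →ₐ[A] T => g c) (h1.trans h2.symm) : _)

section Surj

variable [IsLocalRing R] [Module.Flat A R] (χ : R →ₐ[A] ResidueField T)

/-- the unique lift of `χ ∘ ψ` for an étale chart `ψ : C → R` -/
noncomputable def lift {C : Type u} [CommRing C] [Algebra A C] [Algebra.Etale A C]
    (ψ : C →ₐ[A] R) : C →ₐ[A] T :=
  (existsUnique_lift_of_etale A T C (χ.comp ψ)).exists.choose

lemma lift_spec {C : Type u} [CommRing C] [Algebra A C] [Algebra.Etale A C] (ψ : C →ₐ[A] R) :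
    (IsScalarTower.toAlgHom A T (ResidueField T)).comp (lift χ ψ) = χ.comp ψ :=
  (existsUnique_lift_of_etale A T C (χ.comp ψ)).exists.choose_spec

lemma residue_lift {C : Type u} [CommRing C] [Algebra A C] [Algebra.Etale A C] (ψ : C →ₐ[A] R)
    (c : C) : residue T (lift χ ψ c) = χ (ψ c) :=
  congrArg (fun g : C →ₐ[A] ResidueField T => g c) (lift_spec χ ψ)

lemma lift_unique {C : Type u} [CommRing C] [Algebra A C] [Algebra.Etale A C] (ψ : C →ₐ[A] R)
    (f : C →ₐ[A] T) (hf : (IsScalarTower.toAlgHom A T (ResidueField T)).comp f = χ.comp ψ) :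
    f = lift χ ψ :=
  (existsUnique_lift_of_etale A T C (χ.comp ψ)).unique hf (lift_spec χ ψ)

lemma lift_comp {C₁ C₂ : Type u} [CommRing C₁] [Algebra A C₁] [Algebra.Etale A C₁]
    [CommRing C₂] [Algebra A C₂] [Algebra.Etale A C₂] (θ : C₁ →ₐ[A] C₂) (ψ₂ : C₂ →ₐ[A] R) :
    (lift χ ψ₂).comp θ = lift χ (ψ₂.comp θ) := by
  apply lift_unique
  rw [← AlgHom.comp_assoc, lift_spec, AlgHom.comp_assoc]

lemma lift_eq_zero {C : Type u} [CommRing C] [Algebra A C] [Algebra.Etale A C] (ψ : C →ₐ[A] R)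
    (z : C) (hz : ψ z = 0) : lift χ ψ z = 0 := by
  obtain ⟨k, hk, hkz⟩ := exists_mul_eq_zero_of_local ψ z hz
  have hu : IsUnit (lift χ ψ k) := by
    rw [← notMem_maximalIdeal, ← residue_eq_zero_iff, residue_lift]
    exact (hk.map χ).ne_zero
  have h0 : lift χ ψ k * lift χ ψ z = 0 := by
    rw [← map_mul, hkz, map_zero]
  exact (hu.mul_right_eq_zero).1 h0

lemma lift_eq {C₁ C₂ : Type u} [CommRing C₁] [Algebra A C₁] [Algebra.Etale A C₁]
    [CommRing C₂] [Algebra A C₂] [Algebra.Etale A C₂] (ψ₁ : C₁ →ₐ[A] R) (ψ₂ : C₂ →ₐ[A] R)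
    (c₁ : C₁) (c₂ : C₂) (h : ψ₁ c₁ = ψ₂ c₂) : lift χ ψ₁ c₁ = lift χ ψ₂ c₂ := by
  let ψ : C₁ ⊗[A] C₂ →ₐ[A] R := Algebra.TensorProduct.lift ψ₁ ψ₂ (fun _ _ => Commute.all _ _)
  have e1 : lift χ ψ₁ = (lift χ ψ).comp Algebra.TensorProduct.includeLeft := by
    rw [lift_comp]
    congr 1
    exact (Algebra.TensorProduct.lift_comp_includeLeft ψ₁ ψ₂ (fun _ _ => Commute.all _ _)).symm
  have e2 : lift χ ψ₂ = (lift χ ψ).comp Algebra.TensorProduct.includeRight := by
    rw [lift_comp]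
    congr 1
    exact (Algebra.TensorProduct.lift_comp_includeRight ψ₁ ψ₂ (fun _ _ => Commute.all _ _)).symm
  have hz : ψ (c₁ ⊗ₜ 1 - 1 ⊗ₜ c₂) = 0 := by
    rw [map_sub]
    simp only [ψ, Algebra.TensorProduct.lift_tmul, map_one, mul_one, one_mul]
    exact sub_eq_zero.2 h
  have h0 := lift_eq_zero χ ψ _ hz
  rw [map_sub, sub_eq_zero] at h0
  rw [e1, e2]
  exact h0

/-- an étale chart containing a given element -/
structure Chart (A : Type u) [CommRing A] {R : Type u} [CommRing R] [Algebra A R] (r : R) where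
  C : Type u
  [ring : CommRing C]
  [alg : Algebra A C]
  [etale : Algebra.Etale A C]
  ψ : C →ₐ[A] R
  c : C
  h : ψ c = r

attribute [instance] Chart.ring Chart.alg Chart.etale

omit [IsLocalRing R] [Module.Flat A R] in
lemma nonempty_chart (hU : IsUnion A R) (r : R) : Nonempty (Chart A r) := by
  obtain ⟨C, _, _, hC, ψ, hψ⟩ := hU r
  obtain ⟨c, hc⟩ := hψ rfl
  exact ⟨{ C := C, ψ := ψ, c := c, h := hc }⟩

/-- the value of the lifted map -/
noncomputable def φ (hU : IsUnion A R) (r : R) : T :=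
  lift χ (Classical.choice (nonempty_chart hU r)).ψ (Classical.choice (nonempty_chart hU r)).c

lemma φ_eq (hU : IsUnion A R) {r : R} (k : Chart A r) : φ χ hU r = lift χ k.ψ k.c :=
  lift_eq χ _ _ _ _ ((Classical.choice (nonempty_chart hU r)).h.trans k.h.symm)

lemma φ_eq' (hU : IsUnion A R) {C : Type u} [CommRing C] [Algebra A C] [Algebra.Etale A C]
    (ψ : C →ₐ[A] R) (c : C) : φ χ hU (ψ c) = lift χ ψ c :=
  φ_eq χ hU { C := C, ψ := ψ, c := c, h := rfl }

omit [IsLocalRing R] [Module.Flat A R] in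
/-- two elements lie in a common chart -/
lemma exists_common (hU : IsUnion A R) (r r' : R) :
    ∃ (C : Type u) (_ : CommRing C) (_ : Algebra A C) (_ : Algebra.Etale A C) (ψ : C →ₐ[A] R)
      (x y : C), ψ x = r ∧ ψ y = r' := by
  obtain ⟨C₁, _, _, hC₁, ψ₁, hψ₁⟩ := hU r
  obtain ⟨c₁, hc₁⟩ := hψ₁ rfl
  obtain ⟨C₂, _, _, hC₂, ψ₂, hψ₂⟩ := hU r'
  obtain ⟨c₂, hc₂⟩ := hψ₂ rfl
  refine ⟨C₁ ⊗[A] C₂, inferInstance, inferInstance, inferInstance,
    Algebra.TensorProduct.lift ψ₁ ψ₂ (fun _ _ => Commute.all _ _), c₁ ⊗ₜ 1, 1 ⊗ₜ c₂, ?_, ?_⟩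
  · simp only [Algebra.TensorProduct.lift_tmul, map_one, mul_one, hc₁]
  · simp only [Algebra.TensorProduct.lift_tmul, map_one, one_mul, hc₂]

lemma φ_add (hU : IsUnion A R) (r r' : R) : φ χ hU (r + r') = φ χ hU r + φ χ hU r' := by
  obtain ⟨C, _, _, _, ψ, x, y, rfl, rfl⟩ := exists_common hU r r'
  rw [← map_add, φ_eq', φ_eq', φ_eq', map_add]

lemma φ_mul (hU : IsUnion A R) (r r' : R) : φ χ hU (r * r') = φ χ hU r * φ χ hU r' := by
  obtain ⟨C, _, _, _, ψ, x, y, rfl, rfl⟩ := exists_common hU r r'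
  rw [← map_mul, φ_eq', φ_eq', φ_eq', map_mul]

lemma φ_algebraMap (hU : IsUnion A R) (a : A) :
    φ χ hU (algebraMap A R a) = algebraMap A T a := by
  have h := φ_eq' χ hU (Algebra.ofId A R) a
  exact h.trans ((lift χ (Algebra.ofId A R)).commutes a)

/-- the lifted algebra map -/
noncomputable def liftHom (hU : IsUnion A R) : R →ₐ[A] T :=
  { toFun := φ χ hU
    map_one' := by
      have := φ_algebraMap χ hU (1 : A)
      rwa [map_one, map_one] at this
    map_mul' := φ_mul χ hU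
    map_zero' := by
      have := φ_algebraMap χ hU (0 : A)
      rwa [map_zero, map_zero] at this
    map_add' := φ_add χ hU
    commutes' := φ_algebraMap χ hU }

theorem residue_liftHom (hU : IsUnion A R) (r : R) : residue T (liftHom χ hU r) = χ r := by
  obtain ⟨k⟩ := nonempty_chart hU r
  change residue T (φ χ hU r) = χ r
  rw [φ_eq χ hU k, residue_lift, k.h]

end Surj

end Groth.Agent.H69.IndEtHom
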