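import Groth.Agent.H69.IndEtHom
import Mathlib.RingTheory.Etale.Field
import Mathlib.RingTheory.Flat.FaithfullyFlat.Basic
import Mathlib.FieldTheory.IsSepClosed

/-!
# Points of a faithfully flat union of étale images in a separably closed field (helper69)

If `R` is a faithfully flat `A`-algebra that is a union of images of étale `A`-algebras, then every
separably closed field `Ω` over `A` admits an `A`-algebra map `R → Ω`.
-/

set_option autoImplicit false
set_option backward.isDefEq.respectTransparency.types false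
universe u

namespace Groth.Agent.H69.IndEtPoint

open Groth.Agent.H3 Groth.Agent.H3.UnionEtale TensorProduct

variable {A : Type u} [CommRing A] {R : Type u} [CommRing R] [Algebra A R]

/-- an algebra map from an étale algebra over a separably closed field to a field has values in
the base field -/
theorem mem_range_of_etale (Ω : Type u) [Field Ω] [IsSepClosed Ω] (E : Type u) [CommRing E]
    [Algebra Ω E] [Algebra.Etale Ω E] (L : Type u) [Field L] [Algebra Ω L] (θ : E →ₐ[Ω] L) (e : E) :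
    θ e ∈ Set.range (algebraMap Ω L) := by
  have hprime : (RingHom.ker θ.toRingHom).IsPrime := RingHom.ker_isPrime _
  have hfin : Module.Finite Ω E := Algebra.FormallyUnramified.finite_of_free Ω E
  have hart : IsArtinianRing E := .of_finite Ω E
  have hmax : (RingHom.ker θ.toRingHom).IsMaximal := inferInstance
  let _ : Field (E ⧸ RingHom.ker θ.toRingHom) := Ideal.Quotient.field _
  have hsep : Algebra.IsSeparable Ω (E ⧸ RingHom.ker θ.toRingHom) := inferInstance
  obtain ⟨ω, hω⟩ := IsSepClosed.algebraMap_surjective Ω (E ⧸ RingHom.ker θ.toRingHom)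
    (Ideal.Quotient.mk _ e)
  refine ⟨ω, ?_⟩
  have h1 : algebraMap Ω (E ⧸ RingHom.ker θ.toRingHom) ω =
      Ideal.Quotient.mk _ (algebraMap Ω E ω) := rfl
  rw [h1, Ideal.Quotient.eq, RingHom.mem_ker, map_sub, sub_eq_zero] at hω
  rw [← θ.commutes ω]
  exact hω

/-- **Existence of points.** -/
theorem exists_algHom_of_isSepClosed (hU : IsUnion A R) [Module.FaithfullyFlat A R]
    (Ω : Type u) [Field Ω] [IsSepClosed Ω] [Algebra A Ω] : Nonempty (R →ₐ[A] Ω) := by
  have hnt : Nontrivial (Ω ⊗[A] R) := inferInstance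
  obtain ⟨m, hm⟩ := Ideal.exists_maximal (Ω ⊗[A] R)
  let _ : Field ((Ω ⊗[A] R) ⧸ m) := Ideal.Quotient.field m
  have hsurj : Function.Surjective (algebraMap Ω ((Ω ⊗[A] R) ⧸ m)) := by
    intro l
    obtain ⟨b, rfl⟩ := Ideal.Quotient.mk_surjective l
    induction b using TensorProduct.induction_on with
    | zero => exact ⟨0, by simp⟩
    | tmul ω r =>
      obtain ⟨C, _, _, hC, ψ, hψ⟩ := hU r
      obtain ⟨c, rfl⟩ := hψ rfl
      let θ : Ω ⊗[A] C →ₐ[Ω] (Ω ⊗[A] R) ⧸ m :=
        (Ideal.Quotient.mkₐ Ω m).comp (Algebra.TensorProduct.map (AlgHom.id Ω Ω) ψ)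
      obtain ⟨ω', hω'⟩ := mem_range_of_etale Ω (Ω ⊗[A] C) ((Ω ⊗[A] R) ⧸ m) θ (ω ⊗ₜ c)
      refine ⟨ω', hω'.trans ?_⟩
      simp [θ]
    | add x y hx hy =>
      obtain ⟨a, ha⟩ := hx
      obtain ⟨b, hb⟩ := hy
      exact ⟨a + b, by rw [map_add, map_add, ha, hb]⟩
  have hbij : Function.Bijective (algebraMap Ω ((Ω ⊗[A] R) ⧸ m)) :=
    ⟨(algebraMap Ω ((Ω ⊗[A] R) ⧸ m)).injective, hsurj⟩
  let e : Ω ≃+* (Ω ⊗[A] R) ⧸ m := RingEquiv.ofBijective _ hbij
  let g : R →+* Ω := (e.symm : ((Ω ⊗[A] R) ⧸ m) →+* Ω).comp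
    ((Ideal.Quotient.mk m).comp
      (Algebra.TensorProduct.includeRight : R →ₐ[A] Ω ⊗[A] R).toRingHom)
  refine ⟨{ g with commutes' := ?_ }⟩
  intro a
  change e.symm (Ideal.Quotient.mk m ((1 : Ω) ⊗ₜ[A] (algebraMap A R a))) = algebraMap A Ω a
  rw [RingEquiv.symm_apply_eq]
  change _ = algebraMap Ω _ (algebraMap A Ω a)
  have h1 : (1 : Ω) ⊗ₜ[A] (algebraMap A R a) = (algebraMap A Ω a) ⊗ₜ[A] (1 : R) := by
    rw [Algebra.algebraMap_eq_smul_one, Algebra.algebraMap_eq_smul_one, TensorProduct.tmul_smul,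
      TensorProduct.smul_tmul']
  rw [h1]
  rfl

end Groth.Agent.H69.IndEtPoint
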