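import Mathlib.LinearAlgebra.FiniteDimensional.Lemmas
import Mathlib.Tactic

set_option autoImplicit false
universe u v

namespace Groth.Agent.H69

open Module

theorem exists_submodule_between {k : Type u} [Field k] {E : Type v} [AddCommGroup E] [Module k E]
    [FiniteDimensional k E] (d : ℕ) :
    ∀ (W₁ W₂ : Submodule k E), W₁ ≤ W₂ → ∀ n : ℕ, finrank k W₁ + d = n → n ≤ finrank k W₂ →
      ∃ W : Submodule k E, W₁ ≤ W ∧ W ≤ W₂ ∧ finrank k W = n := by
  induction d with
  | zero =>
    intro W₁ W₂ h n h1 _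
    exact ⟨W₁, le_rfl, h, by simpa using h1⟩
  | succ d ih =>
    intro W₁ W₂ h n h1 h2
    have hlt : W₁ < W₂ := by
      refine lt_of_le_of_ne h ?_
      rintro rfl
      omega
    obtain ⟨v, hv2, hv1⟩ := SetLike.exists_of_lt hlt
    have hle : W₁ ⊔ Submodule.span k {v} ≤ W₂ :=
      sup_le h ((Submodule.span_singleton_le_iff_mem v W₂).2 hv2)
    have hfr := Submodule.finrank_sup_span_singleton (K := k) hv1
    obtain ⟨W, hW1, hW2, hW3⟩ := ih (W₁ ⊔ Submodule.span k {v}) W₂ hle n (by omega) h2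
    exact ⟨W, le_sup_left.trans hW1, hW2, hW3⟩

end Groth.Agent.H69
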