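import Groth.Agent.H69.FieldEtTorsion
import Groth.Agent.H21.SepClosedPush2
import Groth.Agent.H69.FieldConstH1

/-!
# Cohomology of uniquely divisible constant sheaves on normal schemes (helper69)

* `subsingleton_H_cst_of_integral_normal`: `H^{q+1}(X, M_X) = 0` for `X` integral normal and `M` uniquely
  divisible.
-/

set_option autoImplicit false
set_option backward.isDefEq.respectTransparency.types false
set_option linter.style.haveILetI false
universe u
open CategoryTheory CategoryTheory.Limits AlgebraicGeometry Opposite Abelian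

namespace Groth.Agent.H69.NormalRatCoh

open Groth.Agent.H21.ConstSec Groth.Agent.H21.ConstUnit

/-- constant sheaves on uniquely divisible groups are uniquely divisible -/
lemma isIso_nsmul_cst (X : Scheme.{u}) {M : AddCommGrpCat.{u + 1}}
    (hdiv : ∀ n : ℕ, 0 < n → IsIso (n • 𝟙 M)) : ∀ n : ℕ, 0 < n → IsIso (n • 𝟙 (cst X M)) := by
  have hadd : (Δ X).Additive := (adjΔ X).left_adjoint_additive
  exact FieldEtTorsion.isIso_nsmul_map (Δ X) hdiv

theorem subsingleton_H_cst_of_integral_normal {X : Scheme.{u}} [IsIntegral X]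
    (hN : ∀ x : X, IsIntegrallyClosed (X.presheaf.stalk x)) (M : AddCommGrpCat.{u + 1})
    (hdiv : ∀ n : ℕ, 0 < n → IsIso (n • 𝟙 M)) (q : ℕ) :
    Subsingleton (EtCoh.H X (cst X M) (q + 1)) := by
  obtain ⟨e⟩ := Groth.Agent.H21.SepClosedPush.nonempty_cst_iso_push hN M
  let j : Spec (CommRingCat.of X.functionField) ⟶ X := X.fromSpecStalk (genericPoint X)
  let G : EtCoh.Ab (Spec (CommRingCat.of X.functionField)) := cst _ M
  have hdivG : ∀ n : ℕ, 0 < n → IsIso (n • 𝟙 G) := isIso_nsmul_cst _ hdiv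
  have hR : ∀ p : ℕ, 0 < p → IsZero ((EtCoh.Rpush j p).obj G) := by
    intro p hp
    obtain ⟨p', rfl⟩ : ∃ p', p = p' + 1 := ⟨p - 1, by omega⟩
    exact FieldEtTorsion.isZero_Rpush_of_div j G hdivG p'
  have hbij := Groth.Agent.S14451.result j G hR (q + 1)
  have h1 : Subsingleton (EtCoh.H (Spec (CommRingCat.of X.functionField)) G (q + 1)) :=
    FieldEtTorsion.subsingleton_H_of_etale_of_div (𝟙 _) G hdivG (q + 1) (Nat.succ_pos q)
  have h2 : Subsingleton (EtCoh.H X ((EtCoh.push j).obj G) (q + 1)) := hbij.1.subsingleton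
  exact Groth.Agent.H21.SepClosedCoh.subsingleton_ext_of_iso_right e (q + 1) h2

end Groth.Agent.H69.NormalRatCoh
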