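import Groth.Agent.H69.NormalRatCoh
import Groth.Agent.H62.GW1
import Groth.Agent.S0659
import Groth.Agent.H20.EtaleNormal

/-!
# Cohomology of uniquely divisible constant sheaves on Noetherian normal schemes (helper69)

* `subsingleton_H_of_isEmpty`: the cohomology of the empty scheme vanishes.
* `subsingleton_H_cst_of_normal`: `H^{q+1}(X, M_X) = 0` for `X` quasi-compact, locally Noetherian and normal
  and `M` uniquely divisible (Mayer–Vietoris induction on a finite cover by irreducible opens).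
-/

set_option autoImplicit false
set_option backward.isDefEq.respectTransparency.types false
set_option linter.style.haveILetI false
universe u
open CategoryTheory CategoryTheory.Limits AlgebraicGeometry Opposite Abelian TopologicalSpace

namespace Groth.Agent.H69.NormalRatCoh

open Groth.Agent.H21.ConstSec Groth.Agent.H21.ConstUnit

/-- the cohomology of the empty scheme vanishes -/
theorem subsingleton_H_of_isEmpty (Z : Scheme.{u}) [IsEmpty Z] (F : EtCoh.Ab Z) (n : ℕ) :
    Subsingleton (EtCoh.H Z F n) := by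
  have hF : IsZero F := RpushVanish.isZero_of_locally_zero F (fun U s x => by
    let g : U.left ⟶ Z := U.hom
    exact (IsEmpty.false (g x)).elim)
  have h0 : ∀ z : EtCoh.H Z F n, z = 0 := fun z => by
    have h1 : z = Ext.comp z (Ext.mk₀ (𝟙 F)) (add_zero n) := (Ext.comp_mk₀_id z).symm
    rw [h1, hF.eq_of_src (𝟙 F) 0, Ext.mk₀_zero, Ext.comp_zero]
  exact ⟨fun x y => (h0 x).trans (h0 y).symm⟩

section Top

variable {T : Type*} [TopologicalSpace T]

/-- the generic point of an irreducible open subset of a quasi-sober space -/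
lemma exists_generic_of_isOpen [QuasiSober T] {S : Set T} (hS : IsIrreducible S) (hO : IsOpen S) :
    ∃ ξ ∈ S, S ⊆ closure {ξ} := by
  have h : closure ({hS.genericPoint} : Set T) = closure S := hS.genericPoint_closure_eq
  refine ⟨hS.genericPoint, ?_, ?_⟩
  · obtain ⟨s, hs⟩ := hS.nonempty
    have hs' : s ∈ closure ({hS.genericPoint} : Set T) := h ▸ subset_closure hs
    exact (specializes_iff_mem_closure.mpr hs').mem_open hO hs
  · rw [h]
    exact subset_closure

lemma subset_closure_of_mem {S S' : Set T} {ξ : T} (hS' : IsIrreducible S')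
    (hS : S ⊆ closure {ξ}) (hO : IsOpen S) (hξS : ξ ∈ S) (hξ : ξ ∈ S') : S' ⊆ closure {ξ} := by
  have h1 : S' ⊆ closure (S' ∩ S) :=
    subset_closure_inter_of_isPreirreducible_of_isOpen hS'.isPreirreducible hO ⟨ξ, hξ, hξS⟩
  exact h1.trans (closure_minimal (Set.inter_subset_right.trans hS) isClosed_closure)

lemma isIrreducible_of_mem_of_subset_closure {S : Set T} {ξ : T} (hξ : ξ ∈ S)
    (hS : S ⊆ closure {ξ}) : IsIrreducible S := by
  rw [← isIrreducible_iff_closure]
  have : closure S = closure {ξ} :=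
    (closure_minimal hS isClosed_closure).antisymm (closure_mono (Set.singleton_subset_iff.2 hξ))
  rw [this]
  exact isIrreducible_singleton.closure

end Top

variable (M : AddCommGrpCat.{u + 1}) (hdiv : ∀ n : ℕ, 0 < n → IsIso (n • 𝟙 M))

omit hdiv in
/-- Mayer–Vietoris step: disjoint open cover -/
theorem subsingleton_H_cst_of_disjoint_cover (X : Scheme.{u}) (A B : X.Opens) (hAB : A ⊔ B = ⊤)
    (hdisj : A ⊓ B = ⊥) (q : ℕ)
    (hA : Subsingleton (EtCoh.H ↑A (cst ↑A M) (q + 1)))
    (hB : Subsingleton (EtCoh.H ↑B (cst ↑B M) (q + 1))) :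
    Subsingleton (EtCoh.H X (cst X M) (q + 1)) := by
  obtain ⟨δ, -, h1, -, -⟩ := Groth.Agent.S0659.result X A B hAB (cst X M)
  haveI : IsEmpty ↥(↑(A ⊓ B) : Scheme.{u}) := ⟨fun x => by
    obtain ⟨x, hx⟩ := x
    rw [hdisj] at hx
    exact hx⟩
  haveI := subsingleton_H_of_isEmpty ↑(A ⊓ B) ((EtCoh.pull (A ⊓ B).ι).obj (cst X M)) q
  have hA' : Subsingleton (EtCoh.H ↑A ((EtCoh.pull A.ι).obj (cst X M)) (q + 1)) :=
    Groth.Agent.H21.SepClosedCoh.subsingleton_ext_of_iso_right ((e A.ι).app M) (q + 1) hA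
  have hB' : Subsingleton (EtCoh.H ↑B ((EtCoh.pull B.ι).obj (cst X M)) (q + 1)) :=
    Groth.Agent.H21.SepClosedCoh.subsingleton_ext_of_iso_right ((e B.ι).app M) (q + 1) hB
  have hker := h1 q
  have hr : (δ q).range = ⊥ := by
    rw [eq_bot_iff]
    rintro _ ⟨y, rfl⟩
    rw [Subsingleton.elim y 0, map_zero]
    exact AddSubgroup.zero_mem _
  rw [hr] at hker
  refine ⟨fun x y => ?_⟩
  have hxy : x - y ∈ (AddMonoidHom.prod (EtCore.Hpull A.ι (cst X M) (q + 1))
      (EtCore.Hpull B.ι (cst X M) (q + 1))).ker := by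
    rw [AddMonoidHom.mem_ker]
    exact Subsingleton.elim _ _
  rw [hker, AddSubgroup.mem_bot] at hxy
  exact sub_eq_zero.1 hxy

include hdiv in
theorem aux (n : ℕ) : ∀ (X : Scheme.{u}) [IsLocallyNoetherian X]
    (_ : ∀ x : X, IsDomain (X.presheaf.stalk x) ∧ IsIntegrallyClosed (X.presheaf.stalk x))
    (ι : Type u) [Finite ι] (_ : Nat.card ι ≤ n) (U : ι → X.Opens)
    (_ : ∀ i, IsIrreducible (U i : Set X)) (_ : ⨆ i, U i = ⊤) (q : ℕ),
    Subsingleton (EtCoh.H X (cst X M) (q + 1)) := by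
  induction n with
  | zero =>
    intro X _ hN ι _ hcard U hirr hcov q
    have hι : IsEmpty ι := by
      rcases Nat.card_eq_zero.1 (Nat.le_zero.1 hcard) with h | h
      · exact h
      · exact (h.false).elim
    haveI : IsEmpty X := ⟨fun x => by
      have hx : x ∈ (⊤ : X.Opens) := trivial
      rw [← hcov, iSup_of_empty] at hx
      exact hx⟩
    exact subsingleton_H_of_isEmpty X _ _
  | succ n ih =>
    intro X _ hN ι _ hcard U hirr hcov q
    rcases isEmpty_or_nonempty ι with hι | ⟨⟨i₀⟩⟩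
    · haveI : IsEmpty X := ⟨fun x => by
        have hx : x ∈ (⊤ : X.Opens) := trivial
        rw [← hcov, iSup_of_empty] at hx
        exact hx⟩
      exact subsingleton_H_of_isEmpty X _ _
    obtain ⟨ξ, hξ0, hcl0⟩ := exists_generic_of_isOpen (hirr i₀) (U i₀).isOpen
    let A : X.Opens := ⨆ i : {i : ι // ξ ∈ U i}, U i.1
    let B : X.Opens := ⨆ i : {i : ι // ξ ∉ U i}, U i.1
    have hclA : ∀ i : {i : ι // ξ ∈ U i}, (U i.1 : Set X) ⊆ closure {ξ} := fun i =>
      subset_closure_of_mem (hirr i.1) hcl0 (U i₀).isOpen hξ0 i.2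
    have hξA : ξ ∈ A := Opens.mem_iSup.2 ⟨⟨i₀, hξ0⟩, hξ0⟩
    have hAcl : (A : Set X) ⊆ closure {ξ} := by
      intro x hx
      obtain ⟨i, hi⟩ := Opens.mem_iSup.1 (show x ∈ A from hx)
      exact hclA i hi
    have hAB : A ⊔ B = ⊤ := by
      rw [eq_top_iff]
      intro x _
      have hx : x ∈ ⨆ i, U i := by rw [hcov]; trivial
      obtain ⟨i, hi⟩ := Opens.mem_iSup.1 hx
      by_cases hξi : ξ ∈ U i
      · exact Or.inl (Opens.mem_iSup.2 ⟨⟨i, hξi⟩, hi⟩)
      · exact Or.inr (Opens.mem_iSup.2 ⟨⟨i, hξi⟩, hi⟩)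
    have hdisj : A ⊓ B = ⊥ := by
      rw [eq_bot_iff]
      rintro x ⟨hxA, hxB⟩
      obtain ⟨k, hk⟩ := Opens.mem_iSup.1 (show x ∈ B from hxB)
      have hsp : ξ ⤳ x := specializes_iff_mem_closure.mpr (hAcl hxA)
      exact (k.2 (hsp.mem_open (U k.1).isOpen hk)).elim
    -- the irreducible part
    have hAirr : IsIrreducible (A : Set X) := isIrreducible_of_mem_of_subset_closure hξA hAcl
    have hNA : ∀ y : ↥A, IsDomain ((A : Scheme.{u}).presheaf.stalk y) ∧
        IsIntegrallyClosed ((A : Scheme.{u}).presheaf.stalk y) := fun y =>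
      Groth.Agent.H20.isDomain_and_isIntegrallyClosed_stalk_of_etale A.ι y (hN _)
    have hNB : ∀ y : ↥B, IsDomain ((B : Scheme.{u}).presheaf.stalk y) ∧
        IsIntegrallyClosed ((B : Scheme.{u}).presheaf.stalk y) := fun y =>
      Groth.Agent.H20.isDomain_and_isIntegrallyClosed_stalk_of_etale B.ι y (hN _)
    have hA : Subsingleton (EtCoh.H ↑A (cst ↑A M) (q + 1)) := by
      haveI : IrreducibleSpace ↥(A : Scheme.{u}) := Subtype.irreducibleSpace hAirr
      haveI : IsReduced (A : Scheme.{u}) := by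
        haveI : ∀ y : ↥A, _root_.IsReduced ((A : Scheme.{u}).presheaf.stalk y) := fun y => by
          haveI := (hNA y).1
          infer_instance
        exact isReduced_of_isReduced_stalk _
      haveI : IsIntegral (A : Scheme.{u}) := isIntegral_of_irreducibleSpace_of_isReduced _
      exact subsingleton_H_cst_of_integral_normal (fun y => (hNA y).2) M hdiv q
    have hB : Subsingleton (EtCoh.H ↑B (cst ↑B M) (q + 1)) := by
      refine ih ↑B hNB {i : ι // ξ ∉ U i} ?_ (fun i => B.ι ⁻¹ᵁ U i.1) ?_ ?_ q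
      · have hlt : Nat.card {i : ι // ξ ∉ U i} < Nat.card ι := by
          classical
          haveI := Fintype.ofFinite ι
          rw [Nat.card_eq_fintype_card, Nat.card_eq_fintype_card]
          exact Fintype.card_subtype_lt (x := i₀) (fun h => h hξ0)
        omega
      · intro i
        have hle : U i.1 ≤ B := le_iSup (fun k : {i : ι // ξ ∉ U i} => U k.1) i
        refine (hirr i.1).preimage B.ι.isOpenEmbedding ?_
        obtain ⟨x, hx⟩ := (hirr i.1).nonempty
        exact ⟨x, hx, ⟨⟨x, hle hx⟩, rfl⟩⟩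
      · rw [eq_top_iff]
        intro y _
        obtain ⟨y, hy⟩ := y
        obtain ⟨k, hk⟩ := Opens.mem_iSup.1 (show y ∈ B from hy)
        exact Opens.mem_iSup.2 ⟨k, hk⟩
    exact subsingleton_H_cst_of_disjoint_cover M X A B hAB hdisj q hA hB

include hdiv in
/-- **`H^{q+1}(X, M_X) = 0`** for `X` quasi-compact, locally Noetherian and normal, `M` uniquely divisible -/
theorem subsingleton_H_cst_of_normal (X : Scheme.{u}) [IsLocallyNoetherian X] [CompactSpace X]
    (hN : ∀ x : X, IsDomain (X.presheaf.stalk x) ∧ IsIntegrallyClosed (X.presheaf.stalk x))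
    (q : ℕ) : Subsingleton (EtCoh.H X (cst X M) (q + 1)) := by
  have hex : ∀ x : X, ∃ W : Set X, IsOpen W ∧ IsIrreducible W ∧ x ∈ W := fun x => by
    haveI := (hN x).1
    exact Groth.Agent.H62.GW.exists_irreducible_open_nhd x
  choose W hWo hWi hWx using hex
  obtain ⟨t, ht⟩ := isCompact_univ.elim_nhds_subcover W (fun x _ => (hWo x).mem_nhds (hWx x))
  refine aux M hdiv (Nat.card {x // x ∈ t}) X hN {x // x ∈ t} le_rfl
    (fun i => ⟨W i.1, hWo i.1⟩) (fun i => hWi i.1) ?_ q
  rw [eq_top_iff]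
  intro x _
  obtain ⟨y, hy, hxy⟩ := Set.mem_iUnion₂.1 (ht.2 (Set.mem_univ x))
  exact Opens.mem_iSup.2 ⟨⟨y, hy⟩, hxy⟩

end Groth.Agent.H69.NormalRatCoh
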