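import Groth.Prelude.Def_W4c1stackycurvesGalP1
import Mathlib.LinearAlgebra.Projectivization.Action
import Mathlib.LinearAlgebra.FiniteDimensional.Lemmas
import Mathlib.LinearAlgebra.Matrix.Determinant.Basic
import Mathlib.FieldTheory.Galois.Basic
import Mathlib.RingTheory.Trace.Basic

/-!
# Galois-equivariant 3-transitivity on the projective line (helper69)
-/

set_option autoImplicit false

namespace Groth.Agent.H69.P1

open W4c1stackycurves Projectivization Matrix
open scoped LinearAlgebra.Projectivization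

section Field

variable {K : Type*} [Field K]

/-- The determinant of two vectors of `K²`. -/
def wedge (v w : Fin 2 → K) : K := v 0 * w 1 - v 1 * w 0

lemma wedge_smul_left (c : K) (v w : Fin 2 → K) : wedge (c • v) w = c * wedge v w := by
  simp only [wedge, Pi.smul_apply, smul_eq_mul]; ring

lemma wedge_smul_right (c : K) (v w : Fin 2 → K) : wedge v (c • w) = c * wedge v w := by
  simp only [wedge, Pi.smul_apply, smul_eq_mul]; ring

lemma wedge_add_left (v v' w : Fin 2 → K) : wedge (v + v') w = wedge v w + wedge v' w := by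
  simp only [wedge, Pi.add_apply]; ring

lemma wedge_zero_left (w : Fin 2 → K) : wedge 0 w = 0 := by
  simp [wedge]

lemma exists_smul_of_wedge_eq_zero {u w : Fin 2 → K} (hw : w ≠ 0) (h : wedge u w = 0) :
    ∃ c : K, c • w = u := by
  have h' : u 0 * w 1 = u 1 * w 0 := sub_eq_zero.1 h
  by_cases h0 : w 0 = 0
  · have h1 : w 1 ≠ 0 := by
      intro h1
      apply hw
      funext i
      fin_cases i
      · exact h0
      · exact h1
    refine ⟨u 1 / w 1, ?_⟩
    funext i
    fin_cases i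
    · simp only [Fin.zero_eta, Pi.smul_apply, smul_eq_mul, h0, mul_zero]
      rw [h0, mul_zero] at h'
      rcases mul_eq_zero.1 h' with h2 | h2
      · exact h2.symm
      · exact absurd h2 h1
    · simp only [Fin.mk_one, Pi.smul_apply, smul_eq_mul]
      field_simp
  · refine ⟨u 0 / w 0, ?_⟩
    funext i
    fin_cases i
    · simp only [Fin.zero_eta, Pi.smul_apply, smul_eq_mul]
      field_simp
    · simp only [Fin.mk_one, Pi.smul_apply, smul_eq_mul]
      field_simp
      linear_combination h'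

lemma wedge_mulVec (M : Matrix (Fin 2) (Fin 2) K) (v w : Fin 2 → K) :
    wedge (M *ᵥ v) (M *ᵥ w) = M.det * wedge v w := by
  simp only [wedge, Matrix.mulVec, dotProduct, Fin.sum_univ_two, Matrix.det_fin_two]
  ring

/-- `M` sends the point `x` into the line `y`. -/
def Sends (M : Matrix (Fin 2) (Fin 2) K) (x y : ℙ K (Fin 2 → K)) : Prop :=
  wedge (M *ᵥ x.rep) y.rep = 0

lemma sends_mk_iff (M : Matrix (Fin 2) (Fin 2) K) {v w : Fin 2 → K} (hv : v ≠ 0) (hw : w ≠ 0) :
    Sends M (mk K v hv) (mk K w hw) ↔ wedge (M *ᵥ v) w = 0 := by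
  obtain ⟨a, ha⟩ := exists_smul_eq_mk_rep K v hv
  obtain ⟨b, hb⟩ := exists_smul_eq_mk_rep K w hw
  rw [Sends, ← ha, ← hb, Units.smul_def, Units.smul_def, Matrix.mulVec_smul, wedge_smul_left,
    wedge_smul_right]
  simp

lemma sends_iff (M : Matrix (Fin 2) (Fin 2) K) {x y : ℙ K (Fin 2 → K)} {v w : Fin 2 → K}
    (hv : v ≠ 0) (hw : w ≠ 0) (hx : mk K v hv = x) (hy : mk K w hw = y) :
    Sends M x y ↔ wedge (M *ᵥ v) w = 0 := by
  subst hx hy
  exact sends_mk_iff M hv hw

lemma Sends.add {M M' : Matrix (Fin 2) (Fin 2) K} {x y : ℙ K (Fin 2 → K)} (h : Sends M x y)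
    (h' : Sends M' x y) : Sends (M + M') x y := by
  rw [Sends, Matrix.add_mulVec, wedge_add_left, h, h', add_zero]

lemma Sends.smul {M : Matrix (Fin 2) (Fin 2) K} {x y : ℙ K (Fin 2 → K)} (c : K) (h : Sends M x y) :
    Sends (c • M) x y := by
  rw [Sends, Matrix.smul_mulVec, wedge_smul_left, h, mul_zero]

lemma sends_zero (x y : ℙ K (Fin 2 → K)) : Sends (0 : Matrix (Fin 2) (Fin 2) K) x y := by
  rw [Sends, Matrix.zero_mulVec, wedge_zero_left]

lemma sends_sum {ι : Type*} (s : Finset ι) (M : ι → Matrix (Fin 2) (Fin 2) K)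
    {x y : ℙ K (Fin 2 → K)} (h : ∀ i ∈ s, Sends (M i) x y) : Sends (∑ i ∈ s, M i) x y := by
  classical
  induction s using Finset.induction_on with
  | empty => simpa using sends_zero x y
  | insert a s ha ih =>
    rw [Finset.sum_insert ha]
    exact (h a (Finset.mem_insert_self _ _)).add
      (ih fun i hi => h i (Finset.mem_insert_of_mem hi))

lemma eq_of_wedge_rep_eq_zero {x y : ℙ K (Fin 2 → K)} (h : wedge x.rep y.rep = 0) : x = y := by
  obtain ⟨c, hc⟩ := exists_smul_of_wedge_eq_zero y.rep_nonzero h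
  rw [← mk_rep x, ← mk_rep y, mk_eq_mk_iff']
  exact ⟨c, hc⟩

/-- An invertible matrix sending `x` into the line `y` maps `x` to `y`. -/
lemma smul_eq_of_sends (g : GL (Fin 2) K) {x y : ℙ K (Fin 2 → K)}
    (h : Sends (g : Matrix (Fin 2) (Fin 2) K) x y) :
    (Matrix.GeneralLinearGroup.toLin g) • x = y := by
  have hne : (g : Matrix (Fin 2) (Fin 2) K) *ᵥ x.rep ≠ 0 := by
    intro h0
    apply x.rep_nonzero
    have := congrArg (fun v => ((g⁻¹ : GL (Fin 2) K) : Matrix (Fin 2) (Fin 2) K) *ᵥ v) h0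
    simpa [Matrix.mulVec_mulVec] using this
  have h1 : (Matrix.GeneralLinearGroup.toLin g) • x =
      mk K ((g : Matrix (Fin 2) (Fin 2) K) *ᵥ x.rep) hne := by
    conv_lhs => rw [← mk_rep x]
    rfl
  rw [h1]
  obtain ⟨c, hc⟩ := exists_smul_of_wedge_eq_zero y.rep_nonzero h
  conv_rhs => rw [← mk_rep y]
  rw [mk_eq_mk_iff']
  exact ⟨c, hc⟩

/-- Two distinct points cannot both be killed by a nonzero matrix. -/
lemma eq_zero_of_mulVec_rep_eq_zero {M : Matrix (Fin 2) (Fin 2) K} {x x' : ℙ K (Fin 2 → K)}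
    (hxx : x ≠ x') (h : M *ᵥ x.rep = 0) (h' : M *ᵥ x'.rep = 0) : M = 0 := by
  have hw : wedge x.rep x'.rep ≠ 0 := fun h0 => hxx (eq_of_wedge_rep_eq_zero h0)
  -- the matrix with columns the two representatives is invertible
  set v := x.rep with hv
  set v' := x'.rep with hv'
  have e0 := congrFun h 0
  have e1 := congrFun h 1
  have e0' := congrFun h' 0
  have e1' := congrFun h' 1
  simp only [Matrix.mulVec, dotProduct, Fin.sum_univ_two, Pi.zero_apply] at e0 e1 e0' e1'
  simp only [wedge] at hw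
  ext i j
  fin_cases i <;> fin_cases j
  · show M 0 0 = 0
    have : M 0 0 * (v 0 * v' 1 - v 1 * v' 0) = 0 := by linear_combination v' 1 * e0 - v 1 * e0'
    exact (mul_eq_zero.1 this).resolve_right hw
  · show M 0 1 = 0
    have : M 0 1 * (v 0 * v' 1 - v 1 * v' 0) = 0 := by linear_combination v 0 * e0' - v' 0 * e0
    exact (mul_eq_zero.1 this).resolve_right hw
  · show M 1 0 = 0
    have : M 1 0 * (v 0 * v' 1 - v 1 * v' 0) = 0 := by linear_combination v' 1 * e1 - v 1 * e1'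
    exact (mul_eq_zero.1 this).resolve_right hw
  · show M 1 1 = 0
    have : M 1 1 * (v 0 * v' 1 - v 1 * v' 0) = 0 := by linear_combination v 0 * e1' - v' 0 * e1
    exact (mul_eq_zero.1 this).resolve_right hw

/-- A singular matrix sends all points it does not kill to the same point. -/
lemma eq_of_sends_of_det_eq_zero {M : Matrix (Fin 2) (Fin 2) K} (hdet : M.det = 0)
    {x x' y y' : ℙ K (Fin 2 → K)} (h : Sends M x y) (h' : Sends M x' y')
    (hne : M *ᵥ x.rep ≠ 0) (hne' : M *ᵥ x'.rep ≠ 0) : y = y' := by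
  obtain ⟨c, hc⟩ := exists_smul_of_wedge_eq_zero y.rep_nonzero h
  obtain ⟨c', hc'⟩ := exists_smul_of_wedge_eq_zero y'.rep_nonzero h'
  have hc0 : c ≠ 0 := by
    rintro rfl
    rw [zero_smul] at hc
    exact hne hc.symm
  have hc0' : c' ≠ 0 := by
    rintro rfl
    rw [zero_smul] at hc'
    exact hne' hc'.symm
  have := wedge_mulVec M x.rep x'.rep
  rw [hdet, zero_mul, ← hc, ← hc', wedge_smul_left, wedge_smul_right] at this
  apply eq_of_wedge_rep_eq_zero
  rcases mul_eq_zero.1 this with h1 | h1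
  · exact absurd h1 hc0
  · rcases mul_eq_zero.1 h1 with h2 | h2
    · exact absurd h2 hc0'
    · exact h2

/-- A nonzero matrix sending three distinct points to three distinct points is invertible. -/
lemma det_ne_zero_of_sends {M : Matrix (Fin 2) (Fin 2) K} (hM : M ≠ 0)
    {x₁ x₂ x₃ y₁ y₂ y₃ : ℙ K (Fin 2 → K)} (h12 : x₁ ≠ x₂) (h13 : x₁ ≠ x₃) (h23 : x₂ ≠ x₃)
    (k12 : y₁ ≠ y₂) (k13 : y₁ ≠ y₃) (k23 : y₂ ≠ y₃)
    (s1 : Sends M x₁ y₁) (s2 : Sends M x₂ y₂) (s3 : Sends M x₃ y₃) : M.det ≠ 0 := by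
  intro hdet
  by_cases z1 : M *ᵥ x₁.rep = 0
  · have z2 : M *ᵥ x₂.rep ≠ 0 := fun z2 => hM (eq_zero_of_mulVec_rep_eq_zero h12 z1 z2)
    have z3 : M *ᵥ x₃.rep ≠ 0 := fun z3 => hM (eq_zero_of_mulVec_rep_eq_zero h13 z1 z3)
    exact k23 (eq_of_sends_of_det_eq_zero hdet s2 s3 z2 z3)
  · by_cases z2 : M *ᵥ x₂.rep = 0
    · have z3 : M *ᵥ x₃.rep ≠ 0 := fun z3 => hM (eq_zero_of_mulVec_rep_eq_zero h23 z2 z3)
      exact k13 (eq_of_sends_of_det_eq_zero hdet s1 s3 z1 z3)
    · exact k12 (eq_of_sends_of_det_eq_zero hdet s1 s2 z1 z2)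

/-- Three conditions on a 2×2 matrix have a nonzero solution. -/
lemma exists_ne_zero_sends (x₁ x₂ x₃ y₁ y₂ y₃ : ℙ K (Fin 2 → K)) :
    ∃ M : Matrix (Fin 2) (Fin 2) K, M ≠ 0 ∧ Sends M x₁ y₁ ∧ Sends M x₂ y₂ ∧ Sends M x₃ y₃ := by
  let Φ : Matrix (Fin 2) (Fin 2) K →ₗ[K] (Fin 3 → K) :=
    { toFun := fun M => ![wedge (M *ᵥ x₁.rep) y₁.rep, wedge (M *ᵥ x₂.rep) y₂.rep,
        wedge (M *ᵥ x₃.rep) y₃.rep]
      map_add' := by
        intro M M'
        funext i
        fin_cases i <;> simp [Matrix.add_mulVec, wedge_add_left]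
      map_smul' := by
        intro c M
        funext i
        fin_cases i <;> simp [Matrix.smul_mulVec, wedge_smul_left] }
  have hker : LinearMap.ker Φ ≠ ⊥ := by
    apply LinearMap.ker_ne_bot_of_finrank_lt
    simp [Module.finrank_matrix]
  obtain ⟨M, hM, hM0⟩ := (Submodule.ne_bot_iff _).1 hker
  have h := LinearMap.mem_ker.1 hM
  refine ⟨M, hM0, ?_, ?_, ?_⟩
  · exact congrFun h 0
  · exact congrFun h 1
  · exact congrFun h 2

end Field

section Galois

variable {k K : Type*} [Field k] [Field K] [Algebra k K]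

lemma galVec_ne_zero (σ : K ≃ₐ[k] K) {v : Fin 2 → K} (hv : v ≠ 0) : galVec σ (Fin 2) v ≠ 0 := by
  intro h
  apply hv
  apply galVec_injective σ (Fin 2)
  rw [h, map_zero]

lemma galP_mk (σ : K ≃ₐ[k] K) {v : Fin 2 → K} (hv : v ≠ 0) :
    galP σ (mk K v hv) = mk K (galVec σ (Fin 2) v) (galVec_ne_zero σ hv) :=
  Projectivization.map_mk _ _ _ _

lemma galVec_mulVec (σ : K ≃ₐ[k] K) (M : Matrix (Fin 2) (Fin 2) K) (v : Fin 2 → K) :
    galVec σ (Fin 2) (M *ᵥ v) = (M.map σ) *ᵥ (galVec σ (Fin 2) v) := by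
  funext i
  simp [galVec_apply, Matrix.mulVec, dotProduct]

lemma wedge_galVec (σ : K ≃ₐ[k] K) (v w : Fin 2 → K) :
    wedge (galVec σ (Fin 2) v) (galVec σ (Fin 2) w) = σ (wedge v w) := by
  simp [wedge, galVec_apply]

lemma Sends.galois (σ : K ≃ₐ[k] K) {M : Matrix (Fin 2) (Fin 2) K} {x y : ℙ K (Fin 2 → K)}
    (h : Sends M x y) : Sends (M.map σ) (galP σ x) (galP σ y) := by
  have hx : mk K (galVec σ (Fin 2) x.rep) (galVec_ne_zero σ x.rep_nonzero) = galP σ x := by
    conv_rhs => rw [← mk_rep x]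
    exact (galP_mk σ _).symm
  have hy : mk K (galVec σ (Fin 2) y.rep) (galVec_ne_zero σ y.rep_nonzero) = galP σ y := by
    conv_rhs => rw [← mk_rep y]
    exact (galP_mk σ _).symm
  rw [sends_iff _ _ _ hx hy, ← galVec_mulVec, wedge_galVec]
  rw [Sends] at h
  rw [h, map_zero]

lemma galP_galP_symm (σ : K ≃ₐ[k] K) (x : ℙ K (Fin 2 → K)) : galP σ (galP σ.symm x) = x := by
  induction x using Projectivization.ind with
  | h v hv =>
    rw [galP_mk, galP_mk]
    congr 1
    funext i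
    simp [galVec_apply]

variable [FiniteDimensional k K] [IsGalois k K]

/-- Averaging over the Galois group produces a nonzero rational solution. -/
lemma exists_rational_sends (S : Finset (ℙ K (Fin 2 → K)))
    (β : ℙ K (Fin 2 → K) → ℙ K (Fin 2 → K))
    (hS : ∀ (σ : K ≃ₐ[k] K) (x : ℙ K (Fin 2 → K)), x ∈ S → galP σ x ∈ S)
    (hβ : ∀ (σ : K ≃ₐ[k] K), ∀ x ∈ S, β (galP σ x) = galP σ (β x))
    {M : Matrix (Fin 2) (Fin 2) K} (hM : M ≠ 0) (hs : ∀ x ∈ S, Sends M x (β x)) :
    ∃ N : Matrix (Fin 2) (Fin 2) k, N ≠ 0 ∧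
      ∀ x ∈ S, Sends (N.map (algebraMap k K)) x (β x) := by
  classical
  obtain ⟨i, j, hij⟩ : ∃ i j, M i j ≠ 0 := by
    by_contra hcon
    push Not at hcon
    exact hM (Matrix.ext hcon)
  obtain ⟨y, hy⟩ := Algebra.trace_surjective k K (1 : k)
  set a : K := y / M i j with ha
  let N : Matrix (Fin 2) (Fin 2) k := Matrix.of fun i' j' => Algebra.trace k K (a * M i' j')
  have hN : N.map (algebraMap k K) = ∑ σ : K ≃ₐ[k] K, (a • M).map σ := by
    ext i' j'
    rw [Matrix.sum_apply]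
    simp only [Matrix.map_apply, N, Matrix.of_apply, Matrix.smul_apply, smul_eq_mul]
    exact trace_eq_sum_automorphisms (a * M i' j')
  refine ⟨N, ?_, fun x hx => ?_⟩
  · intro h0
    have h1 : N i j = 0 := by rw [h0]; rfl
    have h2 : N i j = 1 := by
      show Algebra.trace k K (a * M i j) = 1
      rw [ha, div_mul_cancel₀ _ hij, hy]
    rw [h2] at h1
    exact one_ne_zero h1
  · rw [hN]
    apply sends_sum
    intro σ _
    have hx' : galP σ.symm x ∈ S := hS σ.symm x hx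
    have h1 := ((hs _ hx').smul a).galois σ
    rw [← hβ σ _ hx', galP_galP_symm] at h1
    exact h1

/-- The case of three points. -/
lemma exists_gl_of_card_three (S : Finset (ℙ K (Fin 2 → K)))
    (β : ℙ K (Fin 2 → K) → ℙ K (Fin 2 → K)) (hcard : S.card = 3)
    (hS : ∀ (σ : K ≃ₐ[k] K) (x : ℙ K (Fin 2 → K)), x ∈ S → galP σ x ∈ S)
    (hinj : Set.InjOn β S)
    (hβ : ∀ (σ : K ≃ₐ[k] K), ∀ x ∈ S, β (galP σ x) = galP σ (β x)) :
    ∃ g : GL (Fin 2) k, ∀ x ∈ S,
      (Matrix.GeneralLinearGroup.toLin ((Matrix.GeneralLinearGroup.map (algebraMap k K)) g)) • x =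
        β x := by
  classical
  obtain ⟨x₁, x₂, x₃, h12, h13, h23, hSeq⟩ := Finset.card_eq_three.1 hcard
  have m1 : x₁ ∈ S := by rw [hSeq]; simp
  have m2 : x₂ ∈ S := by rw [hSeq]; simp
  have m3 : x₃ ∈ S := by rw [hSeq]; simp
  obtain ⟨M, hM, s1, s2, s3⟩ := exists_ne_zero_sends x₁ x₂ x₃ (β x₁) (β x₂) (β x₃)
  have hs : ∀ x ∈ S, Sends M x (β x) := by
    intro x hx
    rw [hSeq] at hx
    simp only [Finset.mem_insert, Finset.mem_singleton] at hx
    rcases hx with rfl | rfl | rfl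
    · exact s1
    · exact s2
    · exact s3
  obtain ⟨N, hN, hNs⟩ := exists_rational_sends S β hS hβ hM hs
  have hN' : N.map (algebraMap k K) ≠ 0 := by
    intro h0
    apply hN
    ext i j
    have := congrFun (congrFun h0 i) j
    simp only [Matrix.map_apply, Matrix.zero_apply] at this
    exact (map_eq_zero_iff _ (algebraMap k K).injective).1 this
  have hdet : (N.map (algebraMap k K)).det ≠ 0 :=
    det_ne_zero_of_sends hN' h12 h13 h23 (fun h => h12 (hinj m1 m2 h)) (fun h => h13 (hinj m1 m3 h))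
      (fun h => h23 (hinj m2 m3 h)) (hNs _ m1) (hNs _ m2) (hNs _ m3)
  have hdetN : N.det ≠ 0 := by
    intro h0
    apply hdet
    have : (N.map (algebraMap k K)).det = algebraMap k K N.det := by
      rw [RingHom.map_det]; rfl
    rw [this, h0, map_zero]
  refine ⟨Matrix.GeneralLinearGroup.mkOfDetNeZero N hdetN, fun x hx => ?_⟩
  apply smul_eq_of_sends
  exact hNs x hx

end Galois

section Rational

variable {k K : Type*} [Field k] [Field K] [Algebra k K]

lemma vec10_ne : (![1, 0] : Fin 2 → K) ≠ 0 := fun h => one_ne_zero (congrFun h 0)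
lemma vec01_ne : (![0, 1] : Fin 2 → K) ≠ 0 := fun h => one_ne_zero (congrFun h 1)
lemma vec11_ne : (![1, 1] : Fin 2 → K) ≠ 0 := fun h => one_ne_zero (congrFun h 0)

/-- The three standard rational points. -/
noncomputable def r0 : ℙ K (Fin 2 → K) := mk K ![1, 0] vec10_ne
noncomputable def r1 : ℙ K (Fin 2 → K) := mk K ![0, 1] vec01_ne
noncomputable def r2 : ℙ K (Fin 2 → K) := mk K ![1, 1] vec11_ne

lemma mk_ne_of_wedge {v w : Fin 2 → K} (hv : v ≠ 0) (hw : w ≠ 0) (h : wedge v w ≠ 0) :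
    mk K v hv ≠ mk K w hw := by
  intro heq
  rw [mk_eq_mk_iff'] at heq
  obtain ⟨a, rfl⟩ := heq
  apply h
  rw [wedge_smul_left]
  simp [wedge, mul_comm]

lemma r0_ne_r1 : (r0 : ℙ K (Fin 2 → K)) ≠ r1 := mk_ne_of_wedge _ _ (by simp [wedge])
lemma r0_ne_r2 : (r0 : ℙ K (Fin 2 → K)) ≠ r2 := mk_ne_of_wedge _ _ (by simp [wedge])
lemma r1_ne_r2 : (r1 : ℙ K (Fin 2 → K)) ≠ r2 := mk_ne_of_wedge _ _ (by simp [wedge])

lemma galP_r0 (σ : K ≃ₐ[k] K) : galP σ (r0 : ℙ K (Fin 2 → K)) = r0 := by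
  rw [r0, galP_mk]
  congr 1
  funext i
  fin_cases i <;> simp [galVec_apply]

lemma galP_r1 (σ : K ≃ₐ[k] K) : galP σ (r1 : ℙ K (Fin 2 → K)) = r1 := by
  rw [r1, galP_mk]
  congr 1
  funext i
  fin_cases i <;> simp [galVec_apply]

lemma galP_r2 (σ : K ≃ₐ[k] K) : galP σ (r2 : ℙ K (Fin 2 → K)) = r2 := by
  rw [r2, galP_mk]
  congr 1
  funext i
  fin_cases i <;> simp [galVec_apply]

/-- Outside any set of at most two points there is a rational point. -/
lemma exists_rational_notMem [DecidableEq (ℙ K (Fin 2 → K))] (S : Finset (ℙ K (Fin 2 → K)))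
    (hS : S.card < 3) :
    ∃ z : ℙ K (Fin 2 → K), z ∉ S ∧ ∀ σ : K ≃ₐ[k] K, galP σ z = z := by
  let R : Finset (ℙ K (Fin 2 → K)) := {r0, r1, r2}
  have hR : R.card = 3 := by
    rw [Finset.card_eq_three]
    exact ⟨r0, r1, r2, r0_ne_r1, r0_ne_r2, r1_ne_r2, rfl⟩
  obtain ⟨z, hzR, hzS⟩ := Finset.exists_mem_notMem_of_card_lt_card (hR.symm ▸ hS)
  refine ⟨z, hzS, fun σ => ?_⟩
  simp only [R, Finset.mem_insert, Finset.mem_singleton] at hzR
  rcases hzR with rfl | rfl | rfl
  · exact galP_r0 σ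
  · exact galP_r1 σ
  · exact galP_r2 σ

variable [FiniteDimensional k K] [IsGalois k K]

/-- Galois-equivariant transitivity on at most three points of the projective line. -/
theorem exists_gl (n : ℕ) : ∀ (S : Finset (ℙ K (Fin 2 → K)))
    (β : ℙ K (Fin 2 → K) → ℙ K (Fin 2 → K)), S.card + n = 3 →
    (∀ (σ : K ≃ₐ[k] K) (x : ℙ K (Fin 2 → K)), x ∈ S → galP σ x ∈ S) →
    Set.InjOn β S →
    (∀ (σ : K ≃ₐ[k] K), ∀ x ∈ S, β (galP σ x) = galP σ (β x)) →
    ∃ g : GL (Fin 2) k, ∀ x ∈ S,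
      (Matrix.GeneralLinearGroup.toLin ((Matrix.GeneralLinearGroup.map (algebraMap k K)) g)) • x =
        β x := by
  classical
  induction n with
  | zero =>
    intro S β hcard hS hinj hβ
    exact exists_gl_of_card_three S β (by simpa using hcard) hS hinj hβ
  | succ n ih =>
    intro S β hcard hS hinj hβ
    obtain ⟨z, hzS, hz⟩ := exists_rational_notMem (k := k) S (by omega)
    have hcard' : (S.image β).card < 3 := lt_of_le_of_lt Finset.card_image_le (by omega)
    obtain ⟨z', hzS', hz'⟩ := exists_rational_notMem (k := k) (S.image β) hcard'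
    let β' : ℙ K (Fin 2 → K) → ℙ K (Fin 2 → K) := Function.update β z z'
    have hβz : β' z = z' := Function.update_self ..
    have hβS : ∀ x ∈ S, β' x = β x := fun x hx =>
      Function.update_of_ne (fun h : x = z => hzS (h ▸ hx)) ..
    obtain ⟨g, hg⟩ := ih (insert z S) β' (by rw [Finset.card_insert_of_notMem hzS]; omega)
      (by
        intro σ x hx
        rcases Finset.mem_insert.1 hx with hxz | hx
        · rw [hxz, hz σ]; exact Finset.mem_insert_self _ _
        · exact Finset.mem_insert_of_mem (hS σ x hx))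
      (by
        intro x hx y hy hxy
        rcases Finset.mem_insert.1 (Finset.mem_coe.1 hx) with hxz | hx <;>
          rcases Finset.mem_insert.1 (Finset.mem_coe.1 hy) with hyz | hy
        · rw [hxz, hyz]
        · rw [hxz, hβz, hβS y hy] at hxy
          exact absurd (Finset.mem_image.2 ⟨y, hy, hxy.symm⟩) hzS'
        · rw [hyz, hβz, hβS x hx] at hxy
          exact absurd (Finset.mem_image.2 ⟨x, hx, hxy⟩) hzS'
        · rw [hβS x hx, hβS y hy] at hxy
          exact hinj hx hy hxy)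
      (by
        intro σ x hx
        rcases Finset.mem_insert.1 hx with hxz | hx
        · rw [hxz, hz σ, hβz, hz' σ]
        · rw [hβS _ (hS σ x hx), hβS x hx, hβ σ x hx])
    exact ⟨g, fun x hx => by rw [hg x (Finset.mem_insert_of_mem hx), hβS x hx]⟩

end Rational

end Groth.Agent.H69.P1
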