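import Groth.Prelude.Def_PLie
import Mathlib.Algebra.Lie.Subalgebra
import Mathlib.Algebra.Lie.Abelian

set_option autoImplicit false
universe u v w

namespace Groth.Agent.H69

open PLie

section Words

variable {R : Type u} [CommRing R]
variable {L : Type v} [LieRing L] [LieAlgebra R L] {L' : Type w} [LieRing L'] [LieAlgebra R L']

theorem bracketWord_map {ι : Type*} (f : L →ₗ⁅R⁆ L') (x : ι → L) (x₁ : L) (l : List ι) :
    f (bracketWord x x₁ l) = bracketWord (fun i => f (x i)) (f x₁) l := by
  induction l with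
  | nil => rfl
  | cons i l ih => simp [bracketWord_cons, ih, LieHom.map_lie]

theorem bracketWord_zero {ι : Type*} (x : ι → L) (l : List ι) :
    bracketWord x (0 : L) l = 0 := by
  induction l with
  | nil => rfl
  | cons i l ih => simp [bracketWord_cons, ih]

theorem pair_map (f : L →ₗ⁅R⁆ L') (x₀ x₁ : L) :
    (fun b => f (pair x₀ x₁ b)) = pair (f x₀) (f x₁) := by
  funext b
  cases b <;> simp [pair]

theorem lieHom_ad_pow (f : L →ₗ⁅R⁆ L') (x : L) (n : ℕ) (y : L) :
    f ((LieAlgebra.ad R L x ^ n) y) = (LieAlgebra.ad R L' (f x) ^ n) (f y) := by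
  induction n generalizing y with
  | zero => simp
  | succ n ih =>
    rw [pow_succ, pow_succ, Module.End.mul_apply, Module.End.mul_apply, ih]
    simp [LieAlgebra.ad_apply, LieHom.map_lie]

end Words

section Jac

variable {R : Type u} [CommRing R] {p : ℕ} [CharP R p]
variable {L : Type v} [LieRing L] [LieAlgebra R L] {L' : Type w} [LieRing L'] [LieAlgebra R L']

theorem jacobson_map (f : L →ₗ⁅R⁆ L') (x₀ x₁ : L) :
    f (jacobson R p x₀ x₁) = jacobson R p (f x₀) (f x₁) := by
  unfold jacobson
  rw [map_sum]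
  refine Finset.sum_congr rfl fun t _ => ?_
  rw [map_smul, bracketWord_map, pair_map]

theorem jacobson_zero_right (x₀ : L) : jacobson R p x₀ (0 : L) = 0 := by
  unfold jacobson
  refine Finset.sum_eq_zero fun t _ => ?_
  rw [bracketWord_zero, smul_zero]

theorem PMap_ext {φ ψ : PMap R p L} (h : ∀ x, φ x = ψ x) : φ = ψ := by
  cases φ; cases ψ
  congr
  funext x
  exact h x

theorem PMap_map_zero (hp : p ≠ 0) (φ : PMap R p L) : φ 0 = 0 := by
  have := φ.map_smul 0 0
  rw [zero_smul, zero_pow hp, zero_smul] at this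
  exact this

end Jac

end Groth.Agent.H69
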