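import Groth.Prelude.Def_PP16
import Mathlib.Tactic

set_option autoImplicit false
universe u

namespace Groth.Agent.H69

open scoped TensorProduct

section

variable {R S : Type u} [CommRing R] [CommRing S] [Algebra R S] (σ : S →ₐ[R] R)

/-- `θ (s ⊗ s') = σ s • s'`. -/
noncomputable def ppTheta : S ⊗[R] S →ₐ[R] S :=
  Algebra.TensorProduct.lift ((Algebra.ofId R S).comp σ) (AlgHom.id R S) (fun _ _ => Commute.all _ _)

theorem ppTheta_tmul (s s' : S) : ppTheta σ (s ⊗ₜ[R] s') = algebraMap R S (σ s) * s' := by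
  simp [ppTheta, Algebra.TensorProduct.lift_tmul, Algebra.ofId_apply]

/-- `d b = 1 ⊗ b - b ⊗ 1`. -/
noncomputable def ppD (b : S) : S ⊗[R] S := (1 : S) ⊗ₜ[R] b - b ⊗ₜ[R] (1 : S)

theorem ppD_add (a b : S) : ppD (R := R) (a + b) = ppD a + ppD b := by
  simp only [ppD, TensorProduct.tmul_add, TensorProduct.add_tmul]; abel

theorem ppD_smul (r : R) (b : S) : ppD (R := R) (r • b) = r • ppD b := by
  simp only [ppD, TensorProduct.tmul_smul, TensorProduct.smul_tmul', smul_sub]

theorem ppD_algebraMap (r : R) : ppD (R := R) (algebraMap R S r) = 0 := by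
  rw [Algebra.algebraMap_eq_smul_one, ppD_smul]
  simp [ppD]

theorem ppD_sub (a b : S) : ppD (R := R) (a - b) = ppD a - ppD b := by
  simp only [ppD, TensorProduct.tmul_sub, TensorProduct.sub_tmul]; abel

theorem ppD_mul (u v : S) : ppD (R := R) (u * v) =
    (u ⊗ₜ[R] (1 : S)) * ppD v + ppD u * ppD v + (v ⊗ₜ[R] (1 : S)) * ppD u := by
  simp only [ppD, mul_sub, sub_mul, Algebra.TensorProduct.tmul_mul_tmul, mul_one, one_mul]
  rw [mul_comm v u]
  abel

theorem ppD_mem (b : S) : ppD (R := R) b ∈ KaehlerDifferential.ideal R S :=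
  KaehlerDifferential.one_smul_sub_smul_one_mem_ideal R b

theorem ppTheta_D (b : S) : ppTheta σ (ppD b) = b - algebraMap R S (σ b) := by
  simp [ppD, ppTheta_tmul]

theorem sigma_algebraMap (r : R) : σ (algebraMap R S r) = r := by
  rw [AlgHom.commutes]; rfl

theorem sub_sigma_mem_ker (b : S) : b - algebraMap R S (σ b) ∈ RingHom.ker σ.toRingHom := by
  rw [RingHom.mem_ker]
  show σ (b - algebraMap R S (σ b)) = 0
  rw [map_sub, sigma_algebraMap, sub_self]

theorem ppTheta_mem_ker {x : S ⊗[R] S} (hx : x ∈ KaehlerDifferential.ideal R S) :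
    ppTheta σ x ∈ RingHom.ker σ.toRingHom := by
  have : KaehlerDifferential.ideal R S ≤ (RingHom.ker σ.toRingHom).comap (ppTheta σ).toRingHom := by
    rw [← KaehlerDifferential.span_range_eq_ideal, Ideal.span_le]
    rintro _ ⟨b, rfl⟩
    show ppTheta σ (ppD b) ∈ RingHom.ker σ.toRingHom
    rw [ppTheta_D]
    exact sub_sigma_mem_ker σ b
  exact this hx

/-- The ideal `(I ⊗ 1) · J`. -/
noncomputable def ppK : Ideal (S ⊗[R] S) :=
  (RingHom.ker σ.toRingHom).map (Algebra.TensorProduct.includeLeftRingHom : S →+* S ⊗[R] S) *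
    KaehlerDifferential.ideal R S

theorem incl_mul_mem_ppK {i : S} (hi : i ∈ RingHom.ker σ.toRingHom) {j : S ⊗[R] S}
    (hj : j ∈ KaehlerDifferential.ideal R S) : (i ⊗ₜ[R] (1 : S)) * j ∈ ppK σ :=
  Ideal.mul_mem_mul (Ideal.mem_map_of_mem _ hi) hj

theorem ppK_le_ker : ppK σ ≤ RingHom.ker (ppTheta σ).toRingHom := by
  have h1 : (RingHom.ker σ.toRingHom).map
      (Algebra.TensorProduct.includeLeftRingHom : S →+* S ⊗[R] S) ≤
      RingHom.ker (ppTheta σ).toRingHom := by
    rw [Ideal.map_le_iff_le_comap]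
    intro i hi
    rw [Ideal.mem_comap, RingHom.mem_ker]
    show ppTheta σ (i ⊗ₜ[R] (1 : S)) = 0
    rw [ppTheta_tmul]
    have : σ i = 0 := hi
    rw [this, map_zero, zero_mul]
  exact (Ideal.mul_le_inf.trans inf_le_left).trans h1

theorem ppTheta_mem_pow_of_mem {e : ℕ} {x : S ⊗[R] S}
    (hx : x ∈ ppK σ ⊔ KaehlerDifferential.ideal R S ^ e) :
    ppTheta σ x ∈ RingHom.ker σ.toRingHom ^ e := by
  obtain ⟨a, ha, b, hb, rfl⟩ := Submodule.mem_sup.1 hx
  rw [map_add]
  have h0 : ppTheta σ a = 0 := ppK_le_ker σ ha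
  rw [h0, zero_add]
  have h2 : (KaehlerDifferential.ideal R S ^ e).map (ppTheta σ).toRingHom ≤
      RingHom.ker σ.toRingHom ^ e := by
    rw [Ideal.map_pow]
    apply Ideal.pow_right_mono
    rw [Ideal.map_le_iff_le_comap]
    intro y hy
    exact ppTheta_mem_ker σ hy
  exact h2 (Ideal.mem_map_of_mem _ hb)

theorem sub_D_theta_mem_ppK {x : S ⊗[R] S} (hx : x ∈ KaehlerDifferential.ideal R S) :
    x - ppD (ppTheta σ x) ∈ ppK σ := by
  have hx' : x ∈ (KaehlerDifferential.ideal R S).restrictScalars S := hx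
  rw [← KaehlerDifferential.submodule_span_range_eq_ideal] at hx'
  clear hx
  induction hx' using Submodule.span_induction with
  | mem x h =>
    obtain ⟨b, rfl⟩ := h
    show ppD b - ppD (ppTheta σ (ppD b)) ∈ ppK σ
    rw [ppTheta_D, ppD_sub, ppD_algebraMap, sub_zero, sub_self]
    exact zero_mem _
  | zero => simp [ppD]
  | add x y _ _ hx hy =>
    rw [map_add, ppD_add]
    have : x + y - (ppD (ppTheta σ x) + ppD (ppTheta σ y)) =
      (x - ppD (ppTheta σ x)) + (y - ppD (ppTheta σ y)) := by abel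
    rw [this]
    exact add_mem hx hy
  | smul s x hxs hx =>
    have hxJ : x ∈ KaehlerDifferential.ideal R S := by
      have := hxs
      rw [KaehlerDifferential.submodule_span_range_eq_ideal] at this
      exact this
    have hsx : s • x = (s ⊗ₜ[R] (1 : S)) * x := by
      rw [Algebra.smul_def]; rfl
    have hθ : ppTheta σ (s • x) = σ s • ppTheta σ x := by
      rw [hsx, map_mul, ppTheta_tmul, mul_one, Algebra.smul_def]
    rw [hθ, ppD_smul]
    have hD : ppD (R := R) (ppTheta σ x) ∈ KaehlerDifferential.ideal R S := ppD_mem _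
    have e1 : s • x - σ s • ppD (ppTheta σ x) =
        (s ⊗ₜ[R] (1 : S)) * (x - ppD (ppTheta σ x)) +
          ((s - algebraMap R S (σ s)) ⊗ₜ[R] (1 : S)) * ppD (ppTheta σ x) := by
      rw [hsx, TensorProduct.sub_tmul, Algebra.algebraMap_eq_smul_one, ← TensorProduct.smul_tmul',
        sub_mul, smul_mul_assoc, ← Algebra.TensorProduct.one_def, one_mul]
      ring
    rw [e1]
    exact add_mem (Ideal.mul_mem_left _ _ hx) (incl_mul_mem_ppK σ (sub_sigma_mem_ker σ s) hD)

theorem D_mem_of_mem_pow (e : ℕ) {i : S} (hi : i ∈ RingHom.ker σ.toRingHom ^ (e + 1)) :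
    ppD (R := R) i ∈ ppK σ ⊔ KaehlerDifferential.ideal R S ^ (e + 1) := by
  induction e generalizing i with
  | zero =>
    rw [zero_add, pow_one]
    exact Ideal.mem_sup_right (ppD_mem i)
  | succ e ih =>
    rw [pow_succ] at hi
    refine Submodule.mul_induction_on hi ?_ ?_
    · intro u hu v hv
      rw [ppD_mul]
      have huI : u ∈ RingHom.ker σ.toRingHom := Ideal.pow_le_self (Nat.succ_ne_zero e) hu
      refine add_mem (add_mem ?_ ?_) ?_
      · exact Ideal.mem_sup_left (incl_mul_mem_ppK σ huI (ppD_mem v))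
      · have h1 := ih hu
        obtain ⟨a, ha, b, hb, hab⟩ := Submodule.mem_sup.1 h1
        rw [← hab, add_mul]
        refine add_mem ?_ ?_
        · exact Ideal.mem_sup_left (Ideal.mul_mem_right _ _ ha)
        · refine Ideal.mem_sup_right ?_
          rw [pow_succ (KaehlerDifferential.ideal R S) (e + 1)]
          exact Ideal.mul_mem_mul hb (ppD_mem v)
      · exact Ideal.mem_sup_left (incl_mul_mem_ppK σ hv (ppD_mem u))
    · intro x y hx hy
      rw [ppD_add]
      exact add_mem hx hy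

theorem mem_of_ppTheta_mem_pow (e : ℕ) {x : S ⊗[R] S} (hx : x ∈ KaehlerDifferential.ideal R S)
    (hθ : ppTheta σ x ∈ RingHom.ker σ.toRingHom ^ (e + 1)) :
    x ∈ ppK σ ⊔ KaehlerDifferential.ideal R S ^ (e + 1) := by
  have h1 := sub_D_theta_mem_ppK σ hx
  have h2 := D_mem_of_mem_pow σ e hθ
  have : x = (x - ppD (ppTheta σ x)) + ppD (ppTheta σ x) := by abel
  rw [this]
  exact add_mem (Ideal.mem_sup_left h1) h2

end

end Groth.Agent.H69
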