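import Groth.Prelude.Def_W4c1hilbchowincPtFun
import Groth.Agent.H69.EtaScheme

/-!
# Pointwise functions on `Spec A` in ring-theoretic terms (helper69)

A pointwise function `f` on `Spec A` is represented by numerators/denominators
`num den : PrimeSpectrum A → A` (`den P ∉ P`, `f P = num P / den P` in `κ(P)`); the conditions
"varies along (complete) DVRs" and "is the function of a section" become statements about ring
maps to DVRs.
-/

set_option autoImplicit false
universe u

namespace Groth.Agent.H69.PtFunT

open CategoryTheory AlgebraicGeometry W4c1hilbchowinc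

variable {A : Type u} [CommRing A]

/-- every element of a residue field is a fraction -/
theorem exists_frac (P : Ideal A) [P.IsPrime] (x : P.ResidueField) :
    ∃ b c : A, c ∉ P ∧ x * algebraMap A P.ResidueField c = algebraMap A P.ResidueField b := by
  obtain ⟨y, rfl⟩ := IsLocalRing.residue_surjective x
  obtain ⟨b, ⟨c, hc⟩, rfl⟩ := IsLocalization.exists_mk'_eq P.primeCompl y
  refine ⟨b, c, hc, ?_⟩
  rw [IsScalarTower.algebraMap_apply A (Localization.AtPrime P) P.ResidueField,
    IsScalarTower.algebraMap_apply A (Localization.AtPrime P) P.ResidueField,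
    IsLocalRing.ResidueField.algebraMap_eq, ← map_mul]
  congr 1
  exact IsLocalization.mk'_spec' _ b ⟨c, hc⟩ |> fun h => by rw [mul_comm]; exact h

/-- the ring-theoretic form of "varies along DVRs" -/
def AlgVaries (num den : PrimeSpectrum A → A) : Prop :=
  ∀ (R : Type u) [CommRing R] [IsDomain R] [IsDiscreteValuationRing R] (ψ : A →+* R),
    ∃ r : R, ∀ Q : PrimeSpectrum R,
      r * ψ (den (Q.comap ψ)) - ψ (num (Q.comap ψ)) ∈ Q.asIdeal

/-- the ring-theoretic form of "varies along complete DVRs" -/
def AlgVariesComplete (num den : PrimeSpectrum A → A) : Prop :=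
  ∀ (R : Type u) [CommRing R] [IsDomain R] [IsDiscreteValuationRing R]
    [IsAdicComplete (IsLocalRing.maximalIdeal R) R] (ψ : A →+* R),
    ∃ r : R, ∀ Q : PrimeSpectrum R,
      r * ψ (den (Q.comap ψ)) - ψ (num (Q.comap ψ)) ∈ Q.asIdeal

theorem AlgVaries.complete {num den : PrimeSpectrum A → A} (h : AlgVaries num den) :
    AlgVariesComplete num den := fun R _ _ _ _ ψ => h R ψ

/-- `num / den` represents the pointwise function `f`. -/
def Represents (f : PtFun (Spec (CommRingCat.of A))) (num den : PrimeSpectrum A → A) : Prop :=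
  (∀ P : PrimeSpectrum A, den P ∉ P.asIdeal) ∧
  ∀ P : PrimeSpectrum A,
    (Scheme.Spec.residueFieldIso (CommRingCat.of A) P).hom (f P) *
      algebraMap A P.asIdeal.ResidueField (den P) = algebraMap A P.asIdeal.ResidueField (num P)

theorem exists_represents (f : PtFun (Spec (CommRingCat.of A))) :
    ∃ num den : PrimeSpectrum A → A, Represents f num den := by
  choose b c hc h using fun P : PrimeSpectrum A =>
    exists_frac P.asIdeal ((Scheme.Spec.residueFieldIso (CommRingCat.of A) P).hom (f P))
  exact ⟨b, c, hc, h⟩

section Translate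

set_option backward.isDefEq.respectTransparency.types false in
theorem evaluation_apply (S : CommRingCat.{u}) (y : Spec S) (s : Γ(Spec S, ⊤)) :
    (Scheme.Spec.residueFieldIso S y).hom ((Spec S).Γevaluation y s) =
      algebraMap S y.asIdeal.ResidueField ((Scheme.ΓSpecIso S).hom s) := by
  have h := congrArg (fun φ => φ.hom ((Scheme.ΓSpecIso S).hom s))
    (Groth.Agent.H69.aux_ΓSpecIso_evaluation y)
  simp only [CommRingCat.hom_comp, RingHom.coe_comp, Function.comp_apply,
    CommRingCat.hom_ofHom] at h
  rw [← h]
  congr 2
  exact (Iso.hom_inv_id_apply (Scheme.ΓSpecIso S) s).symm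

set_option backward.isDefEq.respectTransparency.types false in
theorem residueFieldMap_apply {R S : CommRingCat.{u}} (φ : R ⟶ S) (y : Spec S)
    (x : (Spec R).residueField ((Spec.map φ) y)) :
    (Scheme.Spec.residueFieldIso S y).hom ((Spec.map φ).residueFieldMap y x) =
      Ideal.ResidueField.map ((Spec.map φ) y).asIdeal y.asIdeal φ.hom rfl
        ((Scheme.Spec.residueFieldIso R ((Spec.map φ) y)).hom x) := by
  have h := congrArg (fun ψ => ψ.hom ((Scheme.Spec.residueFieldIso R ((Spec.map φ) y)).hom x))
    (Groth.Agent.H69.residueFieldMap_square φ y)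
  simp only [CommRingCat.hom_comp, RingHom.coe_comp, Function.comp_apply,
    CommRingCat.hom_ofHom] at h
  rw [← h]
  congr 2
  exact (Iso.hom_inv_id_apply (Scheme.Spec.residueFieldIso R ((Spec.map φ) y)) x).symm

variable {f : PtFun (Spec (CommRingCat.of A))} {num den : PrimeSpectrum A → A}

set_option backward.isDefEq.respectTransparency.types false in
theorem ofSection_eq_iff (hrep : Represents f num den) (a : Γ(Spec (CommRingCat.of A), ⊤)) :
    PtFun.ofSection (Spec (CommRingCat.of A)) a = f ↔
      ∀ P : PrimeSpectrum A,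
        (Scheme.ΓSpecIso (CommRingCat.of A)).hom a * den P - num P ∈ P.asIdeal := by
  have key : ∀ P : PrimeSpectrum A,
      (PtFun.ofSection (Spec (CommRingCat.of A)) a P = f P ↔
        (Scheme.ΓSpecIso (CommRingCat.of A)).hom a * den P - num P ∈ P.asIdeal) := by
    intro P
    have hinj : Function.Injective (Scheme.Spec.residueFieldIso (CommRingCat.of A) P).hom :=
      (ConcreteCategory.bijective_of_isIso
        (Scheme.Spec.residueFieldIso (CommRingCat.of A) P).hom).1
    have hev := evaluation_apply (CommRingCat.of A) P a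
    have hden : algebraMap A P.asIdeal.ResidueField (den P) ≠ 0 := by
      rw [Ne, Ideal.algebraMap_residueField_eq_zero]
      exact hrep.1 P
    rw [← Ideal.algebraMap_residueField_eq_zero, map_sub, map_mul, sub_eq_zero, ← hrep.2 P]
    constructor
    · intro h
      have h' : (Scheme.Spec.residueFieldIso (CommRingCat.of A) P).hom
          ((Spec (CommRingCat.of A)).Γevaluation P a) =
          (Scheme.Spec.residueFieldIso (CommRingCat.of A) P).hom (f P) := congrArg _ h
      rw [hev] at h'
      rw [← h']
    · intro h
      apply hinj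
      have h' := mul_right_cancel₀ hden h
      refine Eq.trans ?_ h'
      exact hev
  constructor
  · intro h P
    exact (key P).1 (congrFun h P)
  · intro h
    funext P
    exact (key P).2 (h P)

set_option backward.isDefEq.respectTransparency.types false in
/-- the key pointwise computation for morphisms from `Spec R` -/
theorem pullback_eq_iff (hrep : Represents f num den) {R : Type u} [CommRing R]
    (φ : CommRingCat.of A ⟶ CommRingCat.of R) (s : Γ(Spec (CommRingCat.of R), ⊤))
    (Q : PrimeSpectrum R) :
    PtFun.ofSection (Spec (CommRingCat.of R)) s Q = PtFun.pullback (Spec.map φ) f Q ↔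
      (Scheme.ΓSpecIso (CommRingCat.of R)).hom s * φ.hom (den (Q.comap φ.hom)) -
        φ.hom (num (Q.comap φ.hom)) ∈ Q.asIdeal := by
  have hinj : Function.Injective (Scheme.Spec.residueFieldIso (CommRingCat.of R) Q).hom :=
    (ConcreteCategory.bijective_of_isIso
      (Scheme.Spec.residueFieldIso (CommRingCat.of R) Q).hom).1
  have hev := evaluation_apply (CommRingCat.of R) Q s
  have hmap := residueFieldMap_apply φ Q (f ((Spec.map φ) Q))
  set P : PrimeSpectrum A := Q.comap φ.hom with hP
  have hden : algebraMap R Q.asIdeal.ResidueField (φ.hom (den P)) ≠ 0 := by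
    rw [Ne, Ideal.algebraMap_residueField_eq_zero]
    exact hrep.1 P
  have h2 := congrArg (Ideal.ResidueField.map P.asIdeal Q.asIdeal φ.hom rfl) (hrep.2 P)
  rw [map_mul, Ideal.ResidueField.map_algebraMap, Ideal.ResidueField.map_algebraMap] at h2
  rw [← Ideal.algebraMap_residueField_eq_zero, map_sub, map_mul, sub_eq_zero, ← h2]
  constructor
  · intro h
    have h' : (Scheme.Spec.residueFieldIso (CommRingCat.of R) Q).hom
        ((Spec (CommRingCat.of R)).Γevaluation Q s) =
        (Scheme.Spec.residueFieldIso (CommRingCat.of R) Q).hom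
          ((Spec.map φ).residueFieldMap Q (f ((Spec.map φ) Q))) := congrArg _ h
    rw [hev, hmap] at h'
    rw [h']
    rfl
  · intro h
    apply hinj
    have h' := mul_right_cancel₀ hden h
    refine Eq.trans hev (h'.trans ?_)
    exact hmap.symm

theorem algVaries_of_variesAlongDVR (hrep : Represents f num den) (hf : f.VariesAlongDVR) :
    AlgVaries num den := by
  intro R _ _ _ ψ
  obtain ⟨s, hs⟩ := hf R (Spec.map (CommRingCat.ofHom ψ))
  refine ⟨(Scheme.ΓSpecIso (CommRingCat.of R)).hom s, fun Q => ?_⟩
  exact (pullback_eq_iff hrep (CommRingCat.ofHom ψ) s Q).1 (congrFun hs Q)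

theorem algVariesComplete_of_variesAlongCompleteDVR (hrep : Represents f num den)
    (hf : f.VariesAlongCompleteDVR) : AlgVariesComplete num den := by
  intro R _ _ _ _ ψ
  obtain ⟨s, hs⟩ := hf R (Spec.map (CommRingCat.ofHom ψ))
  refine ⟨(Scheme.ΓSpecIso (CommRingCat.of R)).hom s, fun Q => ?_⟩
  exact (pullback_eq_iff hrep (CommRingCat.ofHom ψ) s Q).1 (congrFun hs Q)

theorem variesAlongDVR_of_algVaries (hrep : Represents f num den) (h : AlgVaries num den) :
    f.VariesAlongDVR := by
  intro R _ _ _ g
  obtain ⟨φ, rfl⟩ : ∃ φ : CommRingCat.of A ⟶ CommRingCat.of R, Spec.map φ = g :=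
    ⟨Spec.preimage g, Spec.map_preimage g⟩
  obtain ⟨r, hr⟩ := h R φ.hom
  refine ⟨(Scheme.ΓSpecIso (CommRingCat.of R)).inv r, ?_⟩
  funext Q
  rw [pullback_eq_iff hrep φ _ Q]
  have : (Scheme.ΓSpecIso (CommRingCat.of R)).hom ((Scheme.ΓSpecIso (CommRingCat.of R)).inv r)
      = r := Iso.inv_hom_id_apply (Scheme.ΓSpecIso (CommRingCat.of R)) r
  rw [this]
  exact hr Q

set_option backward.isDefEq.respectTransparency.types false in
/-- the pointwise function with values `num P / den P` -/
noncomputable def ofFrac (num den : PrimeSpectrum A → A) : PtFun (Spec (CommRingCat.of A)) :=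
  fun P => (Scheme.Spec.residueFieldIso (CommRingCat.of A) P).inv
    (algebraMap A P.asIdeal.ResidueField (num P) / algebraMap A P.asIdeal.ResidueField (den P))

set_option backward.isDefEq.respectTransparency.types false in
theorem represents_ofFrac (num den : PrimeSpectrum A → A)
    (hden : ∀ P : PrimeSpectrum A, den P ∉ P.asIdeal) :
    Represents (ofFrac num den) num den := by
  refine ⟨hden, fun P => ?_⟩
  have hne : algebraMap A P.asIdeal.ResidueField (den P) ≠ 0 := by
    rw [Ne, Ideal.algebraMap_residueField_eq_zero]
    exact hden P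
  have : (Scheme.Spec.residueFieldIso (CommRingCat.of A) P).hom (ofFrac num den P) =
      algebraMap A P.asIdeal.ResidueField (num P) /
        algebraMap A P.asIdeal.ResidueField (den P) :=
    CategoryTheory.Iso.inv_hom_id_apply (Scheme.Spec.residueFieldIso (CommRingCat.of A) P) _
  rw [this, div_mul_cancel₀ _ hne]

end Translate

end Groth.Agent.H69.PtFunT
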