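import Groth.Prelude.Def_HTop2
import Mathlib.RingTheory.Ideal.GoingUp
import Mathlib.RingTheory.Ideal.MinimalPrime.Localization
import Mathlib.RingTheory.Finiteness.Basic

set_option autoImplicit false
universe u

namespace Groth.Agent.H69

section MinimalPrime

variable {R : Type*} [CommRing R]

/-- For a minimal prime `p` over `I` and `x ∈ p`, some `y ∉ p` and power `x ^ n` have
`y * x ^ n ∈ I`. -/
theorem exists_notMem_mul_pow_mem {I p : Ideal R} (hp : p ∈ I.minimalPrimes) {x : R}
    (hx : x ∈ p) : ∃ y ∉ p, ∃ n : ℕ, y * x ^ n ∈ I := by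
  obtain ⟨⟨hp₁, hp₂⟩, hp₃⟩ := hp
  have : p.map (algebraMap R (Localization.AtPrime p)) ≤
      (I.map (algebraMap R (Localization.AtPrime p))).radical := by
    rw [Ideal.radical_eq_sInf, le_sInf_iff]
    rintro q ⟨hq', hq⟩
    obtain ⟨h₁, h₂⟩ := ((IsLocalization.AtPrime.orderIsoOfPrime _ p) ⟨q, hq⟩).2
    rw [Ideal.map_le_iff_le_comap] at hq' ⊢
    exact hp₃ ⟨h₁, hq'⟩ h₂
  obtain ⟨n, hn⟩ := this (Ideal.mem_map_of_mem _ hx)
  rw [IsLocalization.mem_map_algebraMap_iff (M := p.primeCompl)] at hn
  obtain ⟨⟨a, b⟩, hn⟩ := hn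
  rw [← map_pow, ← map_mul, IsLocalization.eq_iff_exists p.primeCompl] at hn
  obtain ⟨t, ht⟩ := hn
  refine ⟨t.1 * b.1, (t * b).2, n, ?_⟩
  simp only at ht
  have : t.1 * b.1 * x ^ n = t.1 * a.1 := by rw [← ht]; ring
  rw [this]
  exact I.mul_mem_left _ a.2

end MinimalPrime

section SN

variable {C D C' : Type u} [CommRing C] [CommRing D] [CommRing C']

/-- In a seminormal ring `C` mapping injectively to a reduced ring `D`, an element of `D` all of
whose large powers come from `C` comes from `C`. -/
theorem mem_range_of_pow_mem_range [IsReduced D] (g : C →+* D) (hC : HTop.IsSeminormalRing C)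
    (hginj : Function.Injective g) (y : D) (N : ℕ) (hy : ∀ m, N ≤ m → y ^ m ∈ g.range) :
    y ∈ g.range := by
  induction N with
  | zero => simpa using hy 1 (Nat.zero_le _)
  | succ N ih =>
    rcases Nat.eq_zero_or_pos N with hN | hN
    · subst hN
      simpa using hy 1 le_rfl
    apply ih
    intro m hm
    rcases Nat.lt_or_ge N m with hlt | hge
    · exact hy m hlt
    have hmN : m = N := le_antisymm hge hm
    subst hmN
    obtain ⟨a2, ha2⟩ := hy (2 * m) (by omega)
    obtain ⟨a3, ha3⟩ := hy (3 * m) (by omega)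
    have h32 : a2 ^ 3 = a3 ^ 2 := by
      apply hginj
      rw [map_pow, map_pow, ha2, ha3]
      ring
    obtain ⟨a, ⟨h2, h3⟩, -⟩ := hC a2 a3 h32
    refine ⟨a, ?_⟩
    set z := y ^ m with hz
    have hz2 : g a ^ 2 = z ^ 2 := by
      rw [← map_pow, ← h2, ha2, hz]; ring
    have hz3 : g a ^ 3 = z ^ 3 := by
      rw [← map_pow, ← h3, ha3, hz]; ring
    have hnil : (g a - z) ^ 3 = 0 := by
      linear_combination 4 * hz3 - (3 * z + 3 * g a) * hz2
    have := IsReduced.eq_zero _ ⟨3, hnil⟩
    exact sub_eq_zero.1 this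

/-- A seminormal ring has no proper finite extension (inside a reduced ring) that is injective on
spectra and has trivial residue field extensions. -/
theorem surjective_of_isSeminormalRing [IsReduced D] (g : C →+* D)
    (hC : HTop.IsSeminormalRing C) (hginj : Function.Injective g) (hfin : g.Finite)
    (hspec : Function.Injective (PrimeSpectrum.comap g))
    (hres : ∀ (P : PrimeSpectrum D) (x : D),
      ∃ c s : C, g s ∉ P.asIdeal ∧ g s * x - g c ∈ P.asIdeal) :
    Function.Surjective g := by
  classical
  algebraize [g]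
  have hint : Algebra.IsIntegral C D := Algebra.IsIntegral.of_finite C D
  -- the conductor as an ideal of `D`
  let J : Ideal D :=
    { carrier := {y | ∀ x : D, y * x ∈ g.range}
      add_mem' := by
        intro a b ha hb x
        rw [add_mul]
        exact add_mem (ha x) (hb x)
      zero_mem' := by
        intro x
        rw [zero_mul]
        exact zero_mem _
      smul_mem' := by
        intro c a ha x
        rw [smul_eq_mul, mul_comm c a, mul_assoc]
        exact ha _ }
  have hJ : ∀ y, y ∈ J ↔ ∀ x : D, y * x ∈ g.range := fun y => Iff.rfl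
  have hJrange : ∀ y ∈ J, y ∈ g.range := fun y hy => by simpa using hy 1
  -- `J` is radical
  have hJrad : ∀ (y : D) (n : ℕ), y ^ n ∈ J → y ∈ J := by
    intro y n hy x
    apply mem_range_of_pow_mem_range g hC hginj (y * x) n
    intro m hm
    rw [mul_pow]
    have : y ^ m = y ^ n * y ^ (m - n) := by rw [← pow_add]; congr 1; omega
    rw [this, mul_assoc]
    exact hy _
  by_contra hsurj
  have h1J : (1 : D) ∉ J := by
    intro h1
    apply hsurj
    intro x
    have := h1 x
    rwa [one_mul] at this
  let I : Ideal C := J.comap (algebraMap C D)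
  have hIne : I ≠ ⊤ := by
    intro h
    apply h1J
    have : (1 : C) ∈ I := by rw [h]; trivial
    simpa [I] using this
  obtain ⟨m, hm, hIm⟩ := Ideal.exists_le_maximal I hIne
  obtain ⟨p, hp, -⟩ := Ideal.exists_minimalPrimes_le hIm
  have hpprime : p.IsPrime := hp.1.1
  -- a prime of `D` over `p` containing `J`
  obtain ⟨P, hJP, hPprime, hPp⟩ := Ideal.exists_ideal_over_prime_of_isIntegral p J hp.1.2
  -- uniqueness of the prime over `p`
  have huniq : ∀ Q : Ideal D, Q.IsPrime → Q.comap (algebraMap C D) = p → Q = P := by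
    intro Q hQ hQp
    have := @hspec ⟨Q, hQ⟩ ⟨P, hPprime⟩ (by
      apply PrimeSpectrum.ext
      show Q.comap g = P.comap g
      exact hQp.trans hPp.symm)
    exact congrArg PrimeSpectrum.asIdeal this
  -- `P` is minimal over `J`
  have hPmin : P ∈ J.minimalPrimes := by
    refine ⟨⟨hPprime, hJP⟩, ?_⟩
    rintro Q ⟨hQprime, hJQ⟩ hQP
    have h1 : Q.comap (algebraMap C D) = p := by
      apply le_antisymm
      · rw [← hPp]; exact Ideal.comap_mono hQP
      · exact hp.2 ⟨Ideal.comap_isPrime _ _, Ideal.comap_mono hJQ⟩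
          (by rw [← hPp]; exact Ideal.comap_mono hQP)
    rw [huniq Q hQprime h1]
  -- key: for `u ∈ P` some `c ∉ p` has `g c * u ∈ J`
  have key : ∀ u ∈ P, ∃ c : C, c ∉ p ∧ g c * u ∈ J := by
    intro u hu
    obtain ⟨t, htP, n, htn⟩ := exists_notMem_mul_pow_mem hPmin hu
    have htu : t * u ∈ J := by
      apply hJrad (t * u) (n + 1)
      have : (t * u) ^ (n + 1) = (t ^ n * u) * (t * u ^ n) := by ring
      rw [this]
      exact J.mul_mem_left _ htn
    -- the colon ideal
    let J' : Ideal D :=
      { carrier := {d | d * u ∈ J}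
        add_mem' := by
          intro a b ha hb
          show (a + b) * u ∈ J
          rw [add_mul]; exact J.add_mem ha hb
        zero_mem' := by
          show (0 : D) * u ∈ J
          rw [zero_mul]; exact J.zero_mem
        smul_mem' := by
          intro c a ha
          show (c • a) * u ∈ J
          rw [smul_eq_mul, mul_assoc]; exact J.mul_mem_left _ ha }
    by_contra hcon
    push Not at hcon
    have hle : J'.comap (algebraMap C D) ≤ p := by
      intro c hc
      by_contra hcp
      exact hcon c hcp hc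
    obtain ⟨Q, hJQ, hQprime, hQp⟩ := Ideal.exists_ideal_over_prime_of_isIntegral p J' hle
    have hQP := huniq Q hQprime hQp
    apply htP
    rw [← hQP]
    exact hJQ htu
  -- generators
  obtain ⟨S, hS⟩ := (Module.Finite.fg_top : (⊤ : Submodule C D).FG)
  have hgen : ∀ d ∈ S, ∃ r : C, r ∉ p ∧ g r * d ∈ g.range := by
    intro d _
    obtain ⟨c, s, hs, hsc⟩ := hres ⟨P, hPprime⟩ d
    obtain ⟨t, htp, ht⟩ := key _ hsc
    have hsp : s ∉ p := by
      intro hsp
      apply hs
      have : s ∈ P.comap (algebraMap C D) := by rw [hPp]; exact hsp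
      exact this
    refine ⟨t * s, fun h => (hpprime.mem_or_mem h).elim htp hsp, ?_⟩
    have := hJrange _ ht
    have h2 : g (t * s) * d = g t * (g s * d - g c) + g (t * c) := by
      rw [map_mul, map_mul]; ring
    rw [h2]
    exact add_mem this ⟨_, rfl⟩
  choose! r hrp hr using hgen
  let r₀ : C := ∏ d ∈ S, r d
  have hr₀p : r₀ ∉ p := by
    intro h
    obtain ⟨d, hd, hdp⟩ := (hpprime.prod_mem_iff).1 h
    exact hrp d hd hdp
  have hr₀ : g r₀ ∈ J := by
    intro x
    have hx : x ∈ Submodule.span C (S : Set D) := by rw [hS]; trivial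
    induction hx using Submodule.span_induction with
    | mem d hd =>
      have hdvd : r d ∣ r₀ := Finset.dvd_prod_of_mem r hd
      obtain ⟨e, he⟩ := hdvd
      rw [he, map_mul, mul_comm (g (r d)), mul_assoc]
      obtain ⟨w, hw⟩ := hr d hd
      rw [← hw, ← map_mul]
      exact ⟨_, rfl⟩
    | zero => rw [mul_zero]; exact zero_mem _
    | add a b _ _ ha hb => rw [mul_add]; exact add_mem ha hb
    | smul c a _ ha =>
      rw [Algebra.smul_def, mul_left_comm]
      obtain ⟨w, hw⟩ := ha
      rw [← hw]
      show g c * g w ∈ g.range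
      rw [← map_mul]
      exact ⟨_, rfl⟩
  exact hr₀p (hp.1.2 hr₀)

/-- A seminormal ring is reduced. -/
theorem isReduced_of_isSeminormalRing (hC : HTop.IsSeminormalRing C) : IsReduced C := by
  rw [isReduced_iff_pow_one_lt 2 (by norm_num)]
  intro x hx
  obtain ⟨a, -, huniq⟩ := hC 0 0 (by ring)
  have h1 : x = a := huniq x ⟨hx.symm, by rw [pow_succ, hx, zero_mul]⟩
  have h2 : (0 : C) = a := huniq 0 ⟨by ring, by ring⟩
  rw [h1, ← h2]

/-- Let `C` be a Noetherian seminormal ring and `g : C → C'` a finite ring map to a reduced ring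
which is bijective on spectra. An element of `C'` whose value in each residue field of `C'` comes
from the residue field of `C` lies in the image of `C`. -/
theorem mem_range_of_pointwise [IsReduced C'] [IsNoetherianRing C]
    (g : C →+* C') (hC : HTop.IsSeminormalRing C) (hfin : g.Finite)
    (hbij : Function.Bijective (PrimeSpectrum.comap g)) (x' : C')
    (hx' : ∀ P' : PrimeSpectrum C',
      ∃ c s : C, g s ∉ P'.asIdeal ∧ g s * x' - g c ∈ P'.asIdeal) :
    x' ∈ g.range := by
  have hCred : IsReduced C := isReduced_of_isSeminormalRing hC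
  have hginj : Function.Injective g := by
    rw [injective_iff_map_eq_zero]
    intro x hx
    have hnil : x ∈ nilradical C := by
      rw [nilradical_eq_sInf, Ideal.mem_sInf]
      intro p hp
      obtain ⟨q', hq'⟩ := hbij.2 ⟨p, hp⟩
      have : x ∈ (PrimeSpectrum.comap g q').asIdeal := by
        show g x ∈ q'.asIdeal
        rw [hx]; exact zero_mem _
      rw [hq'] at this
      exact this
    exact IsReduced.eq_zero _ (mem_nilradical.1 hnil)
  algebraize [g]
  have hgalg : ∀ c : C, algebraMap C C' c = g c := fun c => rfl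
  let D : Subalgebra C C' :=
    { carrier := {y | ∀ P' : PrimeSpectrum C',
        ∃ c s : C, g s ∉ P'.asIdeal ∧ g s * y - g c ∈ P'.asIdeal}
      mul_mem' := by
        intro x1 x2 h1 h2 P'
        obtain ⟨c1, s1, hs1, hc1⟩ := h1 P'
        obtain ⟨c2, s2, hs2, hc2⟩ := h2 P'
        refine ⟨c1 * c2, s1 * s2, ?_, ?_⟩
        · rw [map_mul]
          exact fun h => (P'.isPrime.mem_or_mem h).elim hs1 hs2
        · have : g (s1 * s2) * (x1 * x2) - g (c1 * c2) =
              g s2 * x2 * (g s1 * x1 - g c1) + g c1 * (g s2 * x2 - g c2) := by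
            rw [map_mul, map_mul]; ring
          rw [this]
          exact add_mem (Ideal.mul_mem_left _ _ hc1) (Ideal.mul_mem_left _ _ hc2)
      one_mem' := by
        intro P'
        refine ⟨1, 1, ?_, ?_⟩
        · rw [map_one]; exact P'.isPrime.one_notMem
        · rw [map_one, mul_one, sub_self]; exact zero_mem _
      add_mem' := by
        intro x1 x2 h1 h2 P'
        obtain ⟨c1, s1, hs1, hc1⟩ := h1 P'
        obtain ⟨c2, s2, hs2, hc2⟩ := h2 P'
        refine ⟨s2 * c1 + s1 * c2, s1 * s2, ?_, ?_⟩
        · rw [map_mul]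
          exact fun h => (P'.isPrime.mem_or_mem h).elim hs1 hs2
        · have : g (s1 * s2) * (x1 + x2) - g (s2 * c1 + s1 * c2) =
              g s2 * (g s1 * x1 - g c1) + g s1 * (g s2 * x2 - g c2) := by
            rw [map_mul, map_add, map_mul, map_mul]; ring
          rw [this]
          exact add_mem (Ideal.mul_mem_left _ _ hc1) (Ideal.mul_mem_left _ _ hc2)
      zero_mem' := by
        intro P'
        refine ⟨0, 1, ?_, ?_⟩
        · rw [map_one]; exact P'.isPrime.one_notMem
        · rw [map_zero, mul_zero, sub_self]; exact zero_mem _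
      algebraMap_mem' := by
        intro r P'
        refine ⟨r, 1, ?_, ?_⟩
        · rw [map_one]; exact P'.isPrime.one_notMem
        · rw [map_one, one_mul, hgalg, sub_self]; exact zero_mem _ }
  have hxD : x' ∈ D := hx'
  have hDred : IsReduced D := isReduced_of_injective D.val Subtype.val_injective
  have hNoeth : IsNoetherian C C' := isNoetherian_of_isNoetherianRing_of_finite C C'
  have hDfin : Module.Finite C D := Module.Finite.of_injective D.val.toLinearMap Subtype.val_injective
  have hintC : Algebra.IsIntegral C C' := Algebra.IsIntegral.of_finite C C'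
  have hintD : Algebra.IsIntegral D C' := Algebra.IsIntegral.tower_top (R := C)
  have hDinj : Function.Injective (algebraMap D C') := Subtype.val_injective
  -- lifting primes of `D` to `C'`
  have hlift : ∀ P : PrimeSpectrum D, ∃ P' : PrimeSpectrum C',
      P'.asIdeal.comap (algebraMap D C') = P.asIdeal := by
    intro P
    obtain ⟨P', -, hP'prime, hP'P⟩ := Ideal.exists_ideal_over_prime_of_isIntegral P.asIdeal
      (⊥ : Ideal C') (by
        rw [Ideal.comap_bot_of_injective _ hDinj]; exact bot_le)
    exact ⟨⟨P', hP'prime⟩, hP'P⟩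
  have hsurj : Function.Surjective (algebraMap C D) := by
    apply surjective_of_isSeminormalRing (algebraMap C D) hC
    · intro a b hab
      apply hginj
      exact congrArg Subtype.val hab
    · exact RingHom.finite_algebraMap.2 hDfin
    · intro P₁ P₂ h12
      obtain ⟨P₁', h1⟩ := hlift P₁
      obtain ⟨P₂', h2⟩ := hlift P₂
      have hP' : P₁' = P₂' := by
        apply hbij.1
        apply PrimeSpectrum.ext
        show P₁'.asIdeal.comap g = P₂'.asIdeal.comap g
        have e1 : P₁'.asIdeal.comap g = P₁.asIdeal.comap (algebraMap C D) := by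
          rw [← h1, Ideal.comap_comap]; rfl
        have e2 : P₂'.asIdeal.comap g = P₂.asIdeal.comap (algebraMap C D) := by
          rw [← h2, Ideal.comap_comap]; rfl
        rw [e1, e2]
        exact congrArg PrimeSpectrum.asIdeal h12
      apply PrimeSpectrum.ext
      rw [← h1, ← h2, hP']
    · intro P y
      obtain ⟨P', hP'⟩ := hlift P
      obtain ⟨c, s, hs, hc⟩ := y.2 P'
      refine ⟨c, s, ?_, ?_⟩
      · rw [← hP']
        exact hs
      · rw [← hP']
        exact hc
  obtain ⟨c, hc⟩ := hsurj ⟨x', hxD⟩
  exact ⟨c, congrArg Subtype.val hc⟩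

end SN

end Groth.Agent.H69
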