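import Groth.Agent.H69.PtFunDVR
import Groth.Agent.H69.PtFunT
import Groth.Agent.H69.SemiNormal

/-!
# Pointwise functions varying along complete DVRs: the ring-theoretic core (helper69)
-/

set_option autoImplicit false
universe u

namespace Groth.Agent.H69.PtFunCore

open Groth.Agent.H69.PtFunT IsLocalRing

section Core

variable {A : Type u} [CommRing A] [IsNoetherianRing A] {num den : PrimeSpectrum A → A}

/-- specialisation step along a complete DVR -/
theorem spec_step (hden : ∀ P : PrimeSpectrum A, den P ∉ P.asIdeal)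
    (hvar : AlgVariesComplete num den)
    (D : Type u) [CommRing D] [IsNoetherianRing D] (g : A →+* D) (z : D)
    (𝔭 P : PrimeSpectrum D) (hle : 𝔭 ≤ P)
    (h0 : z * g (den (𝔭.comap g)) - g (num (𝔭.comap g)) ∈ 𝔭.asIdeal) :
    z * g (den (P.comap g)) - g (num (P.comap g)) ∈ P.asIdeal := by
  rcases eq_or_lt_of_le hle with h | hlt
  · subst h; exact h0
  · have hlt' : 𝔭.asIdeal < P.asIdeal := hlt
    obtain ⟨R, _, _, _, _, ψ, hker, hmax⟩ :=
      Groth.Agent.H69.PtFunDVR.exists_completeDVR_of_lt D 𝔭.asIdeal P.asIdeal hlt'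
    obtain ⟨r, hr⟩ := hvar R (ψ.comp g)
    let Q₀ : PrimeSpectrum R := ⟨⊥, Ideal.isPrime_bot⟩
    let Q₁ : PrimeSpectrum R := ⟨maximalIdeal R, inferInstance⟩
    have e0 : Q₀.comap (ψ.comp g) = 𝔭.comap g := by
      apply PrimeSpectrum.ext
      ext a
      show ψ (g a) ∈ (⊥ : Ideal R) ↔ g a ∈ 𝔭.asIdeal
      rw [← hker, RingHom.mem_ker, Ideal.mem_bot]
    have e1 : Q₁.comap (ψ.comp g) = P.comap g := by
      apply PrimeSpectrum.ext
      ext a
      show ψ (g a) ∈ maximalIdeal R ↔ g a ∈ P.asIdeal
      rw [← hmax, Ideal.mem_comap]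
    have h1 := hr Q₀
    rw [e0] at h1
    have h1' : r * ψ (g (den (𝔭.comap g))) = ψ (g (num (𝔭.comap g))) := by
      have : r * (ψ.comp g) (den (𝔭.comap g)) - (ψ.comp g) (num (𝔭.comap g)) = 0 := h1
      exact sub_eq_zero.1 this
    have h2 : ψ z * ψ (g (den (𝔭.comap g))) = ψ (g (num (𝔭.comap g))) := by
      have : ψ (z * g (den (𝔭.comap g)) - g (num (𝔭.comap g))) = 0 := by
        rw [← RingHom.mem_ker, hker]; exact h0
      rw [map_sub, map_mul] at this
      exact sub_eq_zero.1 this
    have hne : ψ (g (den (𝔭.comap g))) ≠ 0 := by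
      intro h
      have : g (den (𝔭.comap g)) ∈ 𝔭.asIdeal := by rw [← hker, RingHom.mem_ker]; exact h
      exact hden (𝔭.comap g) this
    have hrz : r = ψ z := mul_right_cancel₀ hne (h1'.trans h2.symm)
    have h3 := hr Q₁
    rw [e1, hrz] at h3
    have h3' : ψ (z * g (den (P.comap g)) - g (num (P.comap g))) ∈ maximalIdeal R := by
      rw [map_sub, map_mul]; exact h3
    rw [← hmax]
    exact h3'

/-- the values are integral over `A` -/
theorem isIntegral_value (hden : ∀ P : PrimeSpectrum A, den P ∉ P.asIdeal)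
    (hvar : AlgVariesComplete num den) (P : PrimeSpectrum A) :
    IsIntegral A (algebraMap A P.asIdeal.ResidueField (num P) /
      algebraMap A P.asIdeal.ResidueField (den P)) := by
  by_contra hnot
  obtain ⟨R, _, _, _, _, ψ, hker, hno⟩ :=
    Groth.Agent.H69.PtFunDVR.exists_completeDVR_not_mem A P.asIdeal (num P) (den P) (hden P) hnot
  obtain ⟨r, hr⟩ := hvar R ψ
  let Q₀ : PrimeSpectrum R := ⟨⊥, Ideal.isPrime_bot⟩
  have e0 : Q₀.comap ψ = P := by
    apply PrimeSpectrum.ext
    ext a
    show ψ a ∈ (⊥ : Ideal R) ↔ a ∈ P.asIdeal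
    rw [← hker, RingHom.mem_ker, Ideal.mem_bot]
  have h1 := hr Q₀
  rw [e0] at h1
  have : r * ψ (den P) - ψ (num P) = 0 := h1
  exact hno ⟨r, sub_eq_zero.1 this⟩

/-- it suffices to know the section at the minimal primes -/
theorem of_minimal (hden : ∀ P : PrimeSpectrum A, den P ∉ P.asIdeal)
    (hvar : AlgVariesComplete num den) (a : A)
    (ha : ∀ P : PrimeSpectrum A, P.asIdeal ∈ minimalPrimes A →
      a * den P - num P ∈ P.asIdeal) (P : PrimeSpectrum A) :
    a * den P - num P ∈ P.asIdeal := by
  obtain ⟨𝔭, h𝔭, hle⟩ := Ideal.exists_minimalPrimes_le (bot_le : ⊥ ≤ P.asIdeal)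
  let 𝔭' : PrimeSpectrum A := ⟨𝔭, h𝔭.1.1⟩
  have h := spec_step hden hvar A (RingHom.id A) a 𝔭' P hle
    (by
      have := ha 𝔭' h𝔭
      simpa using this)
  simpa using h

end Core

section Prod

variable (A : Type u) [CommRing A]

/-- the index type of minimal primes -/
abbrev MinIdx : Type u := {𝔭 : Ideal A // 𝔭 ∈ minimalPrimes A}

instance (i : MinIdx A) : i.1.IsPrime := i.2.1.1

/-- the product of the residue fields at the minimal primes -/
abbrev PiK : Type u := ∀ i : MinIdx A, i.1.ResidueField

instance [IsNoetherianRing A] : Finite (MinIdx A) :=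
  (minimalPrimes.finite_of_isNoetherianRing A).to_subtype

variable {A}

theorem eq_zero_of_forall_mem [IsReduced A] {a : A} (h : ∀ i : MinIdx A, a ∈ i.1) : a = 0 := by
  apply IsReduced.eq_zero
  rw [← mem_nilradical, nilradical, ← Ideal.sInf_minimalPrimes, Ideal.mem_sInf]
  intro 𝔭 h𝔭
  exact h ⟨𝔭, h𝔭⟩

theorem algebraMap_piK_injective [IsReduced A] : Function.Injective (algebraMap A (PiK A)) := by
  rw [injective_iff_map_eq_zero]
  intro a ha
  apply eq_zero_of_forall_mem
  intro i
  have := congrFun ha i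
  rw [Pi.algebraMap_apply, Pi.zero_apply, Ideal.algebraMap_residueField_eq_zero] at this
  exact this

theorem mem_nonZeroDivisors_of_forall_notMem [IsReduced A] {d : A}
    (h : ∀ i : MinIdx A, d ∉ i.1) : d ∈ nonZeroDivisors A := by
  rw [mem_nonZeroDivisors_iff_right]
  intro x hx
  apply eq_zero_of_forall_mem
  intro i
  have : x * d ∈ i.1 := by rw [hx]; exact zero_mem _
  rcases i.2.1.1.mem_or_mem this with h1 | h1
  · exact h1
  · exact absurd h1 (h i)

theorem exists_sep [IsNoetherianRing A] (i : MinIdx A) :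
    ∃ s : A, s ∉ i.1 ∧ ∀ j : MinIdx A, j ≠ i → s ∈ j.1 := by
  classical
  by_contra hcon
  push Not at hcon
  cases nonempty_fintype (MinIdx A)
  have hle : (Finset.univ.erase i).inf (fun j : MinIdx A => j.1) ≤ i.1 := by
    intro s hs
    by_contra hsi
    obtain ⟨j, hji, hsj⟩ := hcon s hsi
    apply hsj
    have h1 : (Finset.univ.erase i).inf (fun j : MinIdx A => j.1) ≤ j.1 :=
      Finset.inf_le (f := fun j : MinIdx A => j.1)
        (Finset.mem_erase.2 ⟨hji, Finset.mem_univ j⟩)
    exact h1 hs
  obtain ⟨j, hj, hjle⟩ := (Ideal.IsPrime.inf_le' (inferInstance : i.1.IsPrime)).1 hle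
  have hji : j ≠ i := (Finset.mem_erase.1 hj).1
  have : i.1 ≤ j.1 := i.2.2 ⟨j.2.1.1, bot_le⟩ hjle
  exact hji (Subtype.ext (le_antisymm hjle this))

theorem isFractionRing_piK [IsNoetherianRing A] [IsReduced A] : IsFractionRing A (PiK A) := by
  classical
  cases nonempty_fintype (MinIdx A)
  refine ⟨?_, ?_, ?_⟩
  · rintro ⟨d, hd⟩
    rw [Pi.isUnit_iff]
    intro i
    rw [Pi.algebraMap_apply, isUnit_iff_ne_zero, Ne, Ideal.algebraMap_residueField_eq_zero]
    intro hdi
    exact Set.disjoint_left.1 (Ideal.disjoint_nonZeroDivisors_of_mem_minimalPrimes i.2) hdi hd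
  · intro z
    choose b c hc hbc using fun i : MinIdx A => exists_frac i.1 (z i)
    choose s hs hs' using fun i : MinIdx A => exists_sep i
    have hd : (∑ i, s i * c i) ∈ nonZeroDivisors A := by
      apply mem_nonZeroDivisors_of_forall_notMem
      intro k hk
      have h1 : ∑ i ∈ Finset.univ.erase k, s i * c i ∈ k.1 := by
        apply Ideal.sum_mem
        intro i hi
        exact Ideal.mul_mem_right _ _ (hs' i k (Finset.mem_erase.1 hi).1.symm)
      rw [← Finset.add_sum_erase _ _ (Finset.mem_univ k)] at hk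
      have h2 : s k * c k ∈ k.1 := (Ideal.add_mem_iff_left _ h1).1 hk
      rcases k.2.1.1.mem_or_mem h2 with h3 | h3
      · exact hs k h3
      · exact hc k h3
    refine ⟨(∑ i, s i * b i, ⟨∑ i, s i * c i, hd⟩), ?_⟩
    funext k
    show z k * algebraMap A k.1.ResidueField (∑ i, s i * c i) =
      algebraMap A k.1.ResidueField (∑ i, s i * b i)
    rw [map_sum, map_sum]
    simp only [map_mul]
    have hzero : ∀ i : MinIdx A, i ≠ k → algebraMap A k.1.ResidueField (s i) = 0 := by
      intro i hik
      rw [Ideal.algebraMap_residueField_eq_zero]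
      exact hs' i k hik.symm
    rw [Finset.sum_eq_single k (fun i _ hik => by rw [hzero i hik, zero_mul])
        (fun h => absurd (Finset.mem_univ k) h),
      Finset.sum_eq_single k (fun i _ hik => by rw [hzero i hik, zero_mul])
        (fun h => absurd (Finset.mem_univ k) h)]
    rw [← hbc k]
    ring
  · intro x y hxy
    exact ⟨1, by rw [algebraMap_piK_injective hxy]⟩

/-- integrality in a finite product is componentwise -/
theorem isIntegral_pi {ι : Type*} [Finite ι] (K : ι → Type*) [∀ i, CommRing (K i)]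
    [∀ i, Algebra A (K i)] (x : ∀ i, K i) (h : ∀ i, IsIntegral A (x i)) : IsIntegral A x := by
  classical
  cases nonempty_fintype ι
  choose p hp hpx using h
  refine ⟨∏ i, p i, Polynomial.monic_prod_of_monic _ _ (fun i _ => hp i), ?_⟩
  funext j
  have h1 : (Polynomial.aeval x (∏ i, p i)) j = Polynomial.aeval (x j) (∏ i, p i) := by
    have := Polynomial.aeval_algHom_apply (Pi.evalAlgHom A K j) x (∏ i, p i)
    exact this.symm
  have h2 : Polynomial.eval₂ (algebraMap A (∀ i, K i)) x (∏ i, p i) =
      Polynomial.aeval x (∏ i, p i) := rfl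
  rw [h2, h1, map_prod, Pi.zero_apply]
  exact Finset.prod_eq_zero (Finset.mem_univ j) (hpx j)

end Prod

section Normal

variable {A : Type u} [CommRing A] [IsNoetherianRing A] {num den : PrimeSpectrum A → A}

/-- the value tuple at the minimal primes -/
noncomputable def qval (num den : PrimeSpectrum A → A) : PiK A := fun i =>
  algebraMap A i.1.ResidueField (num ⟨i.1, i.2.1.1⟩) /
    algebraMap A i.1.ResidueField (den ⟨i.1, i.2.1.1⟩)

theorem isIntegral_qval (hden : ∀ P : PrimeSpectrum A, den P ∉ P.asIdeal)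
    (hvar : AlgVariesComplete num den) : IsIntegral A (qval num den) :=
  isIntegral_pi _ _ fun i => isIntegral_value hden hvar ⟨i.1, i.2.1.1⟩

/-- an element of `A` mapping to the value tuple is a section with the given values -/
theorem of_algebraMap_eq_qval (hden : ∀ P : PrimeSpectrum A, den P ∉ P.asIdeal)
    (hvar : AlgVariesComplete num den) (a : A) (ha : algebraMap A (PiK A) a = qval num den)
    (P : PrimeSpectrum A) : a * den P - num P ∈ P.asIdeal := by
  apply of_minimal hden hvar
  intro P hP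
  have h1 := congrFun ha ⟨P.asIdeal, hP⟩
  have hne : algebraMap A P.asIdeal.ResidueField (den P) ≠ 0 := by
    rw [Ne, Ideal.algebraMap_residueField_eq_zero]; exact hden P
  rw [Pi.algebraMap_apply] at h1
  change algebraMap A P.asIdeal.ResidueField a =
    algebraMap A P.asIdeal.ResidueField (num P) / algebraMap A P.asIdeal.ResidueField (den P) at h1
  rw [eq_div_iff hne] at h1
  rw [← Ideal.algebraMap_residueField_eq_zero, map_sub, map_mul, h1, sub_self]

theorem exists_of_isIntegrallyClosed [IsReduced A] [IsIntegrallyClosed A]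
    (hden : ∀ P : PrimeSpectrum A, den P ∉ P.asIdeal) (hvar : AlgVariesComplete num den) :
    ∃ a : A, ∀ P : PrimeSpectrum A, a * den P - num P ∈ P.asIdeal := by
  have := isFractionRing_piK (A := A)
  obtain ⟨a, ha⟩ := IsIntegrallyClosed.isIntegral_iff.1 (isIntegral_qval hden hvar)
  exact ⟨a, of_algebraMap_eq_qval hden hvar a ha⟩

end Normal

section Unique

open CategoryTheory AlgebraicGeometry W4c1hilbchowinc

variable {A : Type u} [CommRing A] {num den : PrimeSpectrum A → A}
  {f : PtFun (Spec (CommRingCat.of A))}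

theorem existsUnique_section [IsReduced A] (hrep : Represents f num den) (a : A)
    (ha : ∀ P : PrimeSpectrum A, a * den P - num P ∈ P.asIdeal) :
    ∃! s : Γ(Spec (CommRingCat.of A), ⊤), PtFun.ofSection (Spec (CommRingCat.of A)) s = f := by
  refine ⟨(Scheme.ΓSpecIso (CommRingCat.of A)).inv a, ?_, ?_⟩
  · show PtFun.ofSection (Spec (CommRingCat.of A)) _ = f
    rw [ofSection_eq_iff hrep]
    intro P
    have : (Scheme.ΓSpecIso (CommRingCat.of A)).hom ((Scheme.ΓSpecIso (CommRingCat.of A)).inv a)
        = a := Iso.inv_hom_id_apply (Scheme.ΓSpecIso (CommRingCat.of A)) a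
    rw [this]
    exact ha P
  · intro b hb
    rw [ofSection_eq_iff hrep] at hb
    set b' : A := (Scheme.ΓSpecIso (CommRingCat.of A)).hom b with hb'
    have hzero : b' - a = 0 := by
      apply IsReduced.eq_zero
      rw [nilpotent_iff_mem_prime]
      intro J hJ
      let P : PrimeSpectrum A := ⟨J, hJ⟩
      have h1 : (b' - a) * den P ∈ J := by
        have : (b' - a) * den P = (b' * den P - num P) - (a * den P - num P) := by ring
        rw [this]
        exact sub_mem (hb P) (ha P)
      rcases hJ.mem_or_mem h1 with h2 | h2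
      · exact h2
      · exact absurd h2 (hrep.1 P)
    have hba : b' = a := sub_eq_zero.1 hzero
    rw [← hba, hb']
    exact (Iso.hom_inv_id_apply (Scheme.ΓSpecIso (CommRingCat.of A)) b).symm

end Unique

end Groth.Agent.H69.PtFunCore
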