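import Groth.Agent.H22.DVRDom
import Groth.Agent.Lead.RegularCompletion
import Mathlib.RingTheory.LocalRing.ResidueField.Ideal

/-!
# Complete discrete valuation rings through prescribed primes (helper69)

Uses helper22's `DVRDom` (DVRs dominating Noetherian local domains, via Krull–Akizuki) and the
lead's `exists_isDiscreteValuationRing_adicCompletion_iff`.
-/

set_option autoImplicit false
universe u

namespace Groth.Agent.H69.PtFunDVR

open IsLocalRing

/-- the completion of a DVR is a complete DVR; the canonical map is injective and local -/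
theorem exists_complete (R : Type u) [CommRing R] [IsDomain R] [IsDiscreteValuationRing R] :
    ∃ (R' : Type u) (_ : CommRing R') (_ : IsDomain R') (_ : IsDiscreteValuationRing R')
      (_ : IsAdicComplete (maximalIdeal R') R') (ι : R →+* R'),
      Function.Injective ι ∧ IsLocalHom ι := by
  obtain ⟨hdom, hdvr⟩ :=
    (Groth.Agent.Lead.RLR.exists_isDiscreteValuationRing_adicCompletion_iff R).1
      ⟨inferInstance, inferInstance⟩
  refine ⟨AdicCompletion (maximalIdeal R) R, inferInstance, hdom, hdvr, inferInstance,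
    algebraMap R (AdicCompletion (maximalIdeal R) R), ?_, inferInstance⟩
  intro a b hab
  rw [AdicCompletion.algebraMap_apply, AdicCompletion.algebraMap_apply] at hab
  exact AdicCompletion.of_injective (maximalIdeal R) R hab

/-- a chain of two primes in a Noetherian ring is the image of `Spec` of a complete DVR -/
theorem exists_completeDVR_of_lt (D : Type u) [CommRing D] [IsNoetherianRing D]
    (𝔭 P : Ideal D) [𝔭.IsPrime] [P.IsPrime] (hlt : 𝔭 < P) :
    ∃ (R : Type u) (_ : CommRing R) (_ : IsDomain R) (_ : IsDiscreteValuationRing R)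
      (_ : IsAdicComplete (maximalIdeal R) R) (ψ : D →+* R),
      RingHom.ker ψ = 𝔭 ∧ (maximalIdeal R).comap ψ = P := by
  classical
  let B := D ⧸ 𝔭
  let L := FractionRing B
  let 𝔫 : Ideal B := P.map (Ideal.Quotient.mk 𝔭)
  have hker : RingHom.ker (Ideal.Quotient.mk 𝔭) ≤ P := by
    rw [Ideal.mk_ker]; exact hlt.le
  have h𝔫 : 𝔫.IsPrime :=
    Ideal.map_isPrime_of_surjective Ideal.Quotient.mk_surjective hker
  have hcomap : 𝔫.comap (Ideal.Quotient.mk 𝔭) = P := by
    rw [Ideal.comap_map_of_surjective _ Ideal.Quotient.mk_surjective]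
    rw [← RingHom.ker_eq_comap_bot, Ideal.mk_ker]
    exact sup_eq_left.2 hlt.le
  have h0 : 𝔫 ≠ ⊥ := by
    intro h
    have : P ≤ 𝔭 := by
      rw [← hcomap, h, ← RingHom.ker_eq_comap_bot, Ideal.mk_ker]
    exact absurd this (not_le_of_gt hlt)
  have hs : Subfield.closure (Set.range (algebraMap B L) ∪ ((∅ : Finset L) : Set L)) = ⊤ := by
    rw [Finset.coe_empty, Set.union_empty]
    exact IsFractionRing.closure_range_algebraMap B L
  obtain ⟨R₀, hR₀, hB, h𝔫R⟩ := Groth.Agent.H22.DVRDom.exists_dvr_of_prime' 𝔫 h0 (∅ : Finset L) hs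
  let ψ₀ : D →+* R₀ :=
    ((algebraMap B L).comp (Ideal.Quotient.mk 𝔭)).codRestrict R₀.toSubring (fun d => hB _)
  have hψ₀ : ∀ d, ((ψ₀ d : R₀) : L) = algebraMap B L (Ideal.Quotient.mk 𝔭 d) := fun d => rfl
  have hker₀ : RingHom.ker ψ₀ = 𝔭 := by
    ext d
    rw [RingHom.mem_ker]
    constructor
    · intro h
      have h1 : algebraMap B L (Ideal.Quotient.mk 𝔭 d) = 0 := by
        rw [← hψ₀, h]; rfl
      have h2 := (IsFractionRing.injective B L) (h1.trans (map_zero _).symm)
      exact Ideal.Quotient.eq_zero_iff_mem.1 h2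
    · intro h
      apply Subtype.ext
      rw [hψ₀, Ideal.Quotient.eq_zero_iff_mem.2 h, map_zero]
      rfl
  have hmax₀ : (maximalIdeal R₀).comap ψ₀ = P := by
    ext d
    rw [Ideal.mem_comap, ValuationSubring.valuation_lt_one_iff, hψ₀, ← h𝔫R, ← hcomap,
      Ideal.mem_comap]
  obtain ⟨R, i1, i2, i3, i4, ι, hι, hloc⟩ := exists_complete R₀
  refine ⟨R, i1, i2, i3, i4, ι.comp ψ₀, ?_, ?_⟩
  · refine Eq.trans ?_ hker₀
    ext d
    rw [RingHom.mem_ker, RingHom.mem_ker, RingHom.comp_apply]
    exact ⟨fun h => hι (h.trans (map_zero ι).symm), fun h => by rw [h, map_zero]⟩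
  · have h1 : (maximalIdeal R).comap ι = maximalIdeal R₀ :=
      ((IsLocalRing.local_hom_TFAE ι).out 0 4).1 hloc
    rw [← Ideal.comap_comap, h1, hmax₀]

/-- a non-integral element of a residue field is excluded by a complete DVR -/
theorem exists_completeDVR_not_mem (A : Type u) [CommRing A] [IsNoetherianRing A]
    (𝔭 : Ideal A) [𝔭.IsPrime] (b c : A) (hc : c ∉ 𝔭)
    (hnot : ¬ IsIntegral A
      (algebraMap A 𝔭.ResidueField b / algebraMap A 𝔭.ResidueField c)) :
    ∃ (R : Type u) (_ : CommRing R) (_ : IsDomain R) (_ : IsDiscreteValuationRing R)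
      (_ : IsAdicComplete (maximalIdeal R) R) (ψ : A →+* R),
      RingHom.ker ψ = 𝔭 ∧ ¬ ∃ r : R, r * ψ c = ψ b := by
  classical
  let B := A ⧸ 𝔭
  let L := 𝔭.ResidueField
  set x : L := algebraMap A L b / algebraMap A L c with hx
  have hxB : ¬ IsIntegral B x := by
    intro hB
    apply hnot
    obtain ⟨p, hp, hpx⟩ := hB
    have hlifts : p ∈ Polynomial.lifts (Ideal.Quotient.mk 𝔭) := by
      rw [Polynomial.mem_lifts]
      exact Polynomial.map_surjective _ Ideal.Quotient.mk_surjective p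
    obtain ⟨q, hq, -, hqm⟩ := Polynomial.lifts_and_degree_eq_and_monic hlifts hp
    refine ⟨q, hqm, ?_⟩
    rw [← hpx, ← hq, Polynomial.eval₂_map]
    congr 1
  have hs : Subfield.closure (Set.range (algebraMap B L) ∪ ((∅ : Finset L) : Set L)) = ⊤ := by
    rw [Finset.coe_empty, Set.union_empty]
    exact IsFractionRing.closure_range_algebraMap B L
  obtain ⟨R₀, hR₀, hB, hxR⟩ :=
    Groth.Agent.H22.DVRDom.exists_dvr_not_mem_of_not_isIntegral (∅ : Finset L) hs hxB
  let ψ₀ : A →+* R₀ :=
    (algebraMap A L).codRestrict R₀.toSubring (fun a => by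
      rw [IsScalarTower.algebraMap_apply A B L]; exact hB _)
  have hψ₀ : ∀ a, ((ψ₀ a : R₀) : L) = algebraMap A L a := fun a => rfl
  have hker₀ : RingHom.ker ψ₀ = 𝔭 := by
    ext a
    rw [RingHom.mem_ker, ← Ideal.algebraMap_residueField_eq_zero (I := 𝔭)]
    constructor
    · intro h
      rw [← hψ₀, h]; rfl
    · intro h
      apply Subtype.ext
      rw [hψ₀, h]; rfl
  obtain ⟨R, i1, i2, i3, i4, ι, hι, hloc⟩ := exists_complete R₀
  refine ⟨R, i1, i2, i3, i4, ι.comp ψ₀, ?_, ?_⟩
  · refine Eq.trans ?_ hker₀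
    ext d
    rw [RingHom.mem_ker, RingHom.mem_ker, RingHom.comp_apply]
    exact ⟨fun h => hι (h.trans (map_zero ι).symm), fun h => by rw [h, map_zero]⟩
  · rintro ⟨r, hr⟩
    rw [RingHom.comp_apply, RingHom.comp_apply] at hr
    have hc0 : ψ₀ c ≠ 0 := by
      intro h
      exact hc (hker₀ ▸ (RingHom.mem_ker.2 h))
    have hcL : algebraMap A L c ≠ 0 := by
      rw [Ne, Ideal.algebraMap_residueField_eq_zero]; exact hc
    rcases ValuationRing.dvd_total (ψ₀ c) (ψ₀ b) with ⟨t, ht⟩ | ⟨t, ht⟩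
    · -- x = t ∈ R₀
      apply hxR
      have : x = (t : L) := by
        rw [hx, div_eq_iff hcL, ← hψ₀, ← hψ₀, ht, mul_comm]
        rfl
      rw [this]
      exact t.2
    · -- ψ₀ c = ψ₀ b * t, t not a unit
      have hb0 : ψ₀ b ≠ 0 := by
        intro h; rw [h, zero_mul] at ht; exact hc0 ht
      have h1 : ι (ψ₀ b) * (r * ι t - 1) = 0 := by
        have : r * (ι (ψ₀ b) * ι t) = ι (ψ₀ b) := by rw [← map_mul, ← ht]; exact hr
        linear_combination this
      have hιb : ι (ψ₀ b) ≠ 0 := fun h => hb0 (hι (h.trans (map_zero ι).symm))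
      have h2 : r * ι t = 1 := by
        rcases mul_eq_zero.1 h1 with h | h
        · exact absurd h hιb
        · exact sub_eq_zero.1 h
      have h3 : IsUnit (ι t) := IsUnit.of_mul_eq_one _ (by rw [mul_comm]; exact h2)
      have h4 : IsUnit t := hloc.map_nonunit t h3
      obtain ⟨u, hu⟩ := h4
      apply hxR
      have : x = ((↑u⁻¹ : R₀) : L) := by
        rw [hx, div_eq_iff hcL, ← hψ₀, ← hψ₀, ht, ← hu]
        have : (↑u⁻¹ : R₀) * (ψ₀ b * (u : R₀)) = ψ₀ b := by
          rw [mul_comm (ψ₀ b), ← mul_assoc, Units.inv_mul, one_mul]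
        exact (congrArg (fun z : R₀ => (z : L)) this).symm
      rw [this]
      exact (↑u⁻¹ : R₀).2

end Groth.Agent.H69.PtFunDVR
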