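import Groth.Agent.H69.PtFunCore

/-!
# Pointwise functions varying along complete DVRs on a seminormal Noetherian ring (helper69)
-/

set_option autoImplicit false
universe u

namespace Groth.Agent.H69.PtFunSN

open Groth.Agent.H69.PtFunT Groth.Agent.H69.PtFunCore IsLocalRing

variable {A : Type u} [CommRing A] [IsNoetherianRing A] {num den : PrimeSpectrum A → A}

theorem exists_of_isSeminormalRing (hA : HTop.IsSeminormalRing A)
    (hden : ∀ P : PrimeSpectrum A, den P ∉ P.asIdeal) (hvar : AlgVariesComplete num den) :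
    ∃ a : A, ∀ P : PrimeSpectrum A, a * den P - num P ∈ P.asIdeal := by
  classical
  have hred : IsReduced A := Groth.Agent.H69.isReduced_of_isSeminormalRing hA
  cases nonempty_fintype (MinIdx A)
  set q : PiK A := qval num den with hq
  have hqint : IsIntegral A q := isIntegral_qval hden hvar
  let D : Subalgebra A (PiK A) := Algebra.adjoin A {q}
  have hfinD : Module.Finite A D :=
    (Module.Finite.iff_fg (N := (Algebra.adjoin A {q}).toSubmodule)).2 hqint.fg_adjoin_singleton
  have hnoeth : IsNoetherianRing D := IsNoetherianRing.of_finite A D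
  have hredD : IsReduced D := isReduced_of_injective D.val Subtype.val_injective
  let g : A →+* D := algebraMap A D
  have hgval : ∀ a : A, ((g a : D) : PiK A) = algebraMap A (PiK A) a := fun a => rfl
  have hginj : Function.Injective g := by
    intro a b hab
    apply algebraMap_piK_injective
    rw [← hgval, ← hgval, hab]
  have hgfin : g.Finite := RingHom.finite_algebraMap.2 hfinD
  let zq : D := ⟨q, Algebra.subset_adjoin (Set.mem_singleton q)⟩
  -- the primes of `D` cut out by the factors
  let ev : ∀ i : MinIdx A, D →+* i.1.ResidueField := fun i =>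
    (Pi.evalRingHom (fun i : MinIdx A => i.1.ResidueField) i).comp D.val.toRingHom
  have hev : ∀ (i : MinIdx A) (x : D), ev i x = (x : PiK A) i := fun i x => rfl
  let 𝔮 : MinIdx A → PrimeSpectrum D := fun i => ⟨RingHom.ker (ev i), RingHom.ker_isPrime _⟩
  have h𝔮comap : ∀ i : MinIdx A, (𝔮 i).comap g = ⟨i.1, i.2.1.1⟩ := by
    intro i
    apply PrimeSpectrum.ext
    ext a
    show g a ∈ RingHom.ker (ev i) ↔ a ∈ i.1
    rw [RingHom.mem_ker, hev, hgval, Pi.algebraMap_apply, Ideal.algebraMap_residueField_eq_zero]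
  have key : ∀ P'' : PrimeSpectrum D,
      zq * g (den (P''.comap g)) - g (num (P''.comap g)) ∈ P''.asIdeal := by
    intro P''
    have hinf : (Finset.univ.inf fun i : MinIdx A => (𝔮 i).asIdeal) ≤ P''.asIdeal := by
      intro x hx
      have hx0 : x = 0 := by
        apply Subtype.ext
        funext i
        have : x ∈ (𝔮 i).asIdeal := by
          have h1 : (Finset.univ.inf fun i : MinIdx A => (𝔮 i).asIdeal) ≤ (𝔮 i).asIdeal :=
            Finset.inf_le (f := fun i : MinIdx A => (𝔮 i).asIdeal) (Finset.mem_univ i)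
          exact h1 hx
        exact RingHom.mem_ker.1 this
      rw [hx0]; exact zero_mem _
    obtain ⟨i, -, hi⟩ := (Ideal.IsPrime.inf_le' P''.isPrime).1 hinf
    refine spec_step hden hvar D g zq (𝔮 i) P'' hi ?_
    rw [h𝔮comap i]
    show _ ∈ RingHom.ker (ev i)
    rw [RingHom.mem_ker, map_sub, map_mul, hev, hev, hev, hgval, hgval, Pi.algebraMap_apply,
      Pi.algebraMap_apply]
    have hne : algebraMap A i.1.ResidueField (den ⟨i.1, i.2.1.1⟩) ≠ 0 := by
      rw [Ne, Ideal.algebraMap_residueField_eq_zero]; exact hden ⟨i.1, i.2.1.1⟩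
    show q i * _ - _ = 0
    rw [hq, qval, div_mul_cancel₀ _ hne, sub_self]
  -- fractions: every element of `D` is a fraction of elements of `A` modulo each prime
  have hfrac : ∀ (P : PrimeSpectrum A) (y : PiK A) (hy : y ∈ Algebra.adjoin A {q}),
      ∃ c s : A, s ∉ P.asIdeal ∧ ∀ P'' : PrimeSpectrum D, P''.comap g = P →
        g s * (⟨y, hy⟩ : D) - g c ∈ P''.asIdeal := by
    intro P y hy
    induction hy using Algebra.adjoin_induction with
    | mem x hx =>
      have hxq : x = q := hx
      subst hxq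
      refine ⟨num P, den P, hden P, fun P'' hP'' => ?_⟩
      have := key P''
      rw [hP''] at this
      rw [mul_comm]
      exact this
    | algebraMap r =>
      refine ⟨r, 1, P.isPrime.one_notMem, fun P'' _ => ?_⟩
      have : g 1 * (⟨algebraMap A (PiK A) r, Subalgebra.algebraMap_mem _ r⟩ : D) - g r = 0 := by
        rw [map_one, one_mul, sub_eq_zero]; rfl
      rw [this]; exact zero_mem _
    | add x1 x2 hx1 hx2 h1 h2 =>
      obtain ⟨c1, s1, hs1, hc1⟩ := h1
      obtain ⟨c2, s2, hs2, hc2⟩ := h2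
      refine ⟨s2 * c1 + s1 * c2, s1 * s2, fun h => (P.isPrime.mem_or_mem h).elim hs1 hs2,
        fun P'' hP'' => ?_⟩
      have : g (s1 * s2) * (⟨x1 + x2, add_mem hx1 hx2⟩ : D) - g (s2 * c1 + s1 * c2) =
          g s2 * (g s1 * (⟨x1, hx1⟩ : D) - g c1) + g s1 * (g s2 * (⟨x2, hx2⟩ : D) - g c2) := by
        have e : (⟨x1 + x2, add_mem hx1 hx2⟩ : D) = (⟨x1, hx1⟩ : D) + ⟨x2, hx2⟩ := rfl
        rw [e, map_mul, map_add, map_mul, map_mul]; ring
      rw [this]
      exact add_mem (Ideal.mul_mem_left _ _ (hc1 P'' hP'')) (Ideal.mul_mem_left _ _ (hc2 P'' hP''))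
    | mul x1 x2 hx1 hx2 h1 h2 =>
      obtain ⟨c1, s1, hs1, hc1⟩ := h1
      obtain ⟨c2, s2, hs2, hc2⟩ := h2
      refine ⟨c1 * c2, s1 * s2, fun h => (P.isPrime.mem_or_mem h).elim hs1 hs2,
        fun P'' hP'' => ?_⟩
      have : g (s1 * s2) * (⟨x1 * x2, mul_mem hx1 hx2⟩ : D) - g (c1 * c2) =
          g s2 * (⟨x2, hx2⟩ : D) * (g s1 * (⟨x1, hx1⟩ : D) - g c1) +
            g c1 * (g s2 * (⟨x2, hx2⟩ : D) - g c2) := by
        have e : (⟨x1 * x2, mul_mem hx1 hx2⟩ : D) = (⟨x1, hx1⟩ : D) * ⟨x2, hx2⟩ := rfl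
        rw [e, map_mul, map_mul]; ring
      rw [this]
      exact add_mem (Ideal.mul_mem_left _ _ (hc1 P'' hP'')) (Ideal.mul_mem_left _ _ (hc2 P'' hP''))
  have hres : ∀ (P'' : PrimeSpectrum D) (x : D),
      ∃ c s : A, g s ∉ P''.asIdeal ∧ g s * x - g c ∈ P''.asIdeal := by
    intro P'' x
    obtain ⟨c, s, hs, hcs⟩ := hfrac (P''.comap g) x.1 x.2
    exact ⟨c, s, hs, hcs P'' rfl⟩
  have hspec : Function.Injective (PrimeSpectrum.comap g) := by
    intro P1 P2 h12
    apply PrimeSpectrum.ext
    ext x
    obtain ⟨c, s, hs, hcs⟩ := hfrac (P1.comap g) x.1 x.2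
    have h1 := hcs P1 rfl
    have h2 := hcs P2 h12.symm
    have hs1 : g s ∉ P1.asIdeal := hs
    have hs2 : g s ∉ P2.asIdeal := by
      rw [h12] at hs; exact hs
    have hx1 : x ∈ P1.asIdeal ↔ c ∈ (P1.comap g).asIdeal := by
      constructor
      · intro hx
        have : g c = g s * x - (g s * x - g c) := by ring
        show g c ∈ P1.asIdeal
        rw [this]
        exact sub_mem (Ideal.mul_mem_left _ _ hx) h1
      · intro hc
        have hc' : g c ∈ P1.asIdeal := hc
        have : g s * x ∈ P1.asIdeal := by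
          have e : g s * x = (g s * x - g c) + g c := by ring
          rw [e]; exact add_mem h1 hc'
        exact (P1.isPrime.mem_or_mem this).resolve_left hs1
    have hx2 : x ∈ P2.asIdeal ↔ c ∈ (P2.comap g).asIdeal := by
      constructor
      · intro hx
        have : g c = g s * x - (g s * x - g c) := by ring
        show g c ∈ P2.asIdeal
        rw [this]
        exact sub_mem (Ideal.mul_mem_left _ _ hx) h2
      · intro hc
        have hc' : g c ∈ P2.asIdeal := hc
        have : g s * x ∈ P2.asIdeal := by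
          have e : g s * x = (g s * x - g c) + g c := by ring
          rw [e]; exact add_mem h2 hc'
        exact (P2.isPrime.mem_or_mem this).resolve_left hs2
    rw [hx1, hx2, h12]
  obtain ⟨a, ha⟩ := Groth.Agent.H69.surjective_of_isSeminormalRing g hA hginj hgfin hspec hres zq
  refine ⟨a, of_algebraMap_eq_qval hden hvar a ?_⟩
  rw [← hgval, ha]

end Groth.Agent.H69.PtFunSN
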