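import Groth.Agent.H69.ExtTorsion

/-!
# Torsion of `Ext^q(A, T F)` for a left exact functor `T` (helper69)

Abstract dimension shifting: let `T : 𝒜 ⥤ ℬ` be additive, left exact and preserve injective objects, and `A : ℬ`.
Assume that for every short exact sequence `0 → F → I → Q → 0` with `I` injective
* all `Ext^p(A, coker (T I → T Q))` are torsion, and
* a positive multiple of every `A ⟶ T Q` lifts to `T I`.
Then `Ext^{q+1}(A, T F)` is torsion for all `q` and `F`.
-/

set_option autoImplicit false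
set_option backward.isDefEq.respectTransparency.types false
set_option linter.style.haveILetI false
open CategoryTheory CategoryTheory.Limits Abelian

namespace Groth.Agent.H69.PushTorsion

variable {𝒜 ℬ : Type*} [Category 𝒜] [Abelian 𝒜] [EnoughInjectives 𝒜] [Category ℬ] [Abelian ℬ]
  (T : 𝒜 ⥤ ℬ) [T.Additive] [PreservesFiniteLimits T]

lemma nsmul_isOfFinAddOrder {M : Type*} [AddCommGroup M] {x : M} {n : ℕ} (hn : 0 < n)
    (h : IsOfFinAddOrder (n • x)) : IsOfFinAddOrder x := by
  obtain ⟨m, hm, hm0⟩ := isOfFinAddOrder_iff_nsmul_eq_zero.1 h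
  rw [isOfFinAddOrder_iff_nsmul_eq_zero]
  exact ⟨m * n, Nat.mul_pos hm hn, by rw [mul_nsmul', hm0]⟩

/-- `0 → F → I → Q → 0` with `I` an injective hull -/
noncomputable abbrev S₀ (F : 𝒜) : ShortComplex 𝒜 :=
  ShortComplex.mk (Injective.ι F) (cokernel.π (Injective.ι F)) (cokernel.condition _)

omit [EnoughInjectives 𝒜] in
lemma shortExact_of_cokernel {F G : 𝒜} (ι : F ⟶ G) [Mono ι] :
    (ShortComplex.mk ι (cokernel.π ι) (cokernel.condition ι)).ShortExact :=
  { exact := ShortComplex.exact_cokernel ι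
    mono_f := (inferInstance : Mono ι)
    epi_g := (inferInstance : Epi (cokernel.π ι)) }

lemma S₀_shortExact (F : 𝒜) : (S₀ F).ShortExact := shortExact_of_cokernel (Injective.ι F)

variable {T} in
omit [EnoughInjectives 𝒜] [T.Additive] [PreservesFiniteLimits T] in
lemma w₁ (S : ShortComplex 𝒜) [T.PreservesZeroMorphisms] :
    T.map S.f ≫ Abelian.factorThruImage (T.map S.g) = 0 := by
  rw [← cancel_mono (Abelian.image.ι (T.map S.g)), Category.assoc, Abelian.image.fac, zero_comp,
    ← T.map_comp, S.zero, T.map_zero]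

/-- `0 → T F → T I → im(T I → T Q) → 0` -/
noncomputable abbrev S₁ (S : ShortComplex 𝒜) : ShortComplex ℬ :=
  ShortComplex.mk (T.map S.f) (Abelian.factorThruImage (T.map S.g)) (w₁ S)

omit [EnoughInjectives 𝒜] in
lemma S₁_shortExact (S : ShortComplex 𝒜) (hS : S.ShortExact) : (S₁ T S).ShortExact := by
  have hTex : (S.map T).Exact := hS.exact.map_of_mono_of_preservesKernel T hS.mono_f inferInstance
  have hTmono : Mono (T.map S.f) := by
    haveI := hS.mono_f
    infer_instance
  exact
    { exact := by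
        have hk : IsLimit (KernelFork.ofι (T.map S.f) (show T.map S.f ≫ T.map S.g = 0 by
            rw [← T.map_comp, S.zero, T.map_zero])) :=
          haveI : Mono (S.map T).f := hTmono
          hTex.fIsKernel
        apply ShortComplex.exact_of_f_is_kernel
        refine KernelFork.IsLimit.ofι' _ _ (fun {W} k hk' => ?_)
        have hk'' : k ≫ T.map S.g = 0 := by
          rw [← Abelian.image.fac (T.map S.g), ← Category.assoc]
          exact hk' ▸ zero_comp
        exact ⟨hk.lift (KernelFork.ofι k hk''), hk.fac _ WalkingParallelPair.zero⟩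
      mono_f := hTmono
      epi_g := (inferInstance : Epi (Abelian.factorThruImage (T.map S.g))) }

variable {T} in
omit [EnoughInjectives 𝒜] [T.Additive] [PreservesFiniteLimits T] in
lemma w₂ (S : ShortComplex 𝒜) :
    Abelian.image.ι (T.map S.g) ≫ cokernel.π (T.map S.g) = 0 := by
  rw [← cancel_epi (Abelian.factorThruImage (T.map S.g)), ← Category.assoc, Abelian.image.fac,
    cokernel.condition, comp_zero]

/-- `0 → im(T I → T Q) → T Q → coker → 0` -/
noncomputable abbrev S₂ (S : ShortComplex 𝒜) : ShortComplex ℬ :=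
  ShortComplex.mk (Abelian.image.ι (T.map S.g)) (cokernel.π (T.map S.g)) (w₂ S)

omit [EnoughInjectives 𝒜] [T.Additive] [PreservesFiniteLimits T] in
lemma S₂_shortExact (S : ShortComplex 𝒜) : (S₂ T S).ShortExact :=
  { exact := by
      apply ShortComplex.exact_of_g_is_cokernel
      refine CokernelCofork.IsColimit.ofπ' _ _ (fun {W} k hk' => ?_)
      have hk'' : T.map S.g ≫ k = 0 := by
        rw [← Abelian.image.fac (T.map S.g), Category.assoc]
        exact hk' ▸ comp_zero
      exact ⟨cokernel.desc _ k hk'', cokernel.π_desc _ _ _⟩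
    mono_f := (inferInstance : Mono (Abelian.image.ι (T.map S.g)))
    epi_g := (inferInstance : Epi (cokernel.π (T.map S.g))) }

variable [HasExt ℬ] (hTinj : ∀ I : 𝒜, Injective I → Injective (T.obj I)) (A : ℬ)

include hTinj in
theorem ext_succ_torsion
    (H1 : ∀ S : ShortComplex 𝒜, S.ShortExact → Injective S.X₂ →
      ∀ (p : ℕ) (x : Ext A (cokernel (T.map S.g)) p), IsOfFinAddOrder x)
    (H2 : ∀ S : ShortComplex 𝒜, S.ShortExact → Injective S.X₂ →
      ∀ φ : A ⟶ T.obj S.X₃, ∃ n : ℕ, 0 < n ∧ ∃ ρ : A ⟶ T.obj S.X₂, ρ ≫ T.map S.g = n • φ) :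
    ∀ (q : ℕ) (F : 𝒜) (x : Ext A (T.obj F) (q + 1)), IsOfFinAddOrder x := by
  intro q
  induction q with
  | zero =>
    intro F x
    have hS := S₀_shortExact F
    have hI : Injective (S₀ F).X₂ := inferInstanceAs (Injective (Injective.under F))
    have hS₁ := S₁_shortExact T (S₀ F) hS
    haveI : Injective (S₁ T (S₀ F)).X₂ := hTinj _ hI
    refine ExtTorsion.ext_one_torsion_of_lift hS₁ A ?_ x (Ext.eq_zero_of_injective _)
    intro ψ
    obtain ⟨n, hn, ρ, hρ⟩ := H2 (S₀ F) hS hI (ψ ≫ Abelian.image.ι (T.map (S₀ F).g))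
    refine ⟨n, hn, ρ, ?_⟩
    rw [← cancel_mono (Abelian.image.ι (T.map (S₀ F).g)), Category.assoc]
    change ρ ≫ Abelian.factorThruImage (T.map (S₀ F).g) ≫ Abelian.image.ι (T.map (S₀ F).g) = _
    rw [Abelian.image.fac, hρ, Preadditive.nsmul_comp]
  | succ q ih =>
    intro F x
    have hS := S₀_shortExact F
    have hI : Injective (S₀ F).X₂ := inferInstanceAs (Injective (Injective.under F))
    have hS₁ := S₁_shortExact T (S₀ F) hS
    have hS₂ := S₂_shortExact T (S₀ F)
    haveI : Injective (S₁ T (S₀ F)).X₂ := hTinj _ hI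
    obtain ⟨y, rfl⟩ := Ext.covariant_sequence_exact₁ A hS₁ x (Ext.eq_zero_of_injective _)
      (rfl : q + 1 + 1 = q + 2)
    -- `y ∈ Ext^{q+1}(A, im)`
    have hy : IsOfFinAddOrder y := by
      obtain ⟨n, hn, hn0⟩ := isOfFinAddOrder_iff_nsmul_eq_zero.1
        (ih (S₀ F).X₃ (y.comp (Ext.mk₀ (S₂ T (S₀ F)).f) (add_zero (q + 1))))
      have h1 : (n • y).comp (Ext.mk₀ (S₂ T (S₀ F)).f) (add_zero (q + 1)) = 0 := by
        rw [ExtTorsion.nsmul_comp, hn0]
      obtain ⟨z, hz⟩ := Ext.covariant_sequence_exact₁ A hS₂ (n • y) h1 (rfl : q + 1 = q + 1)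
      obtain ⟨m, hm, hm0⟩ := isOfFinAddOrder_iff_nsmul_eq_zero.1 (H1 (S₀ F) hS hI q z)
      apply nsmul_isOfFinAddOrder hn
      rw [isOfFinAddOrder_iff_nsmul_eq_zero]
      refine ⟨m, hm, ?_⟩
      rw [← hz, ← ExtTorsion.nsmul_comp, hm0, Ext.zero_comp]
    obtain ⟨m, hm, hm0⟩ := isOfFinAddOrder_iff_nsmul_eq_zero.1 hy
    rw [isOfFinAddOrder_iff_nsmul_eq_zero]
    exact ⟨m, hm, by rw [← ExtTorsion.nsmul_comp, hm0, Ext.zero_comp]⟩

end Groth.Agent.H69.PushTorsion
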