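import Groth.Agent.H69.RelFrobU
import Mathlib.RingTheory.Etale.Basic
import Mathlib.RingTheory.IsTensorProduct

/-!
# A pushout criterion for étale maps along radicial maps in characteristic `p`

Given a commutative square of rings in characteristic `p`
```
R  →  S
↓     ↓
R' →  S'
```
with `R → R'` and `S → S'` étale, every `p`-th power in `S` (resp. `S'`) coming from `R` (resp. `R'`),
and `Spec S' → Spec R'` surjective, the square is a pushout.
-/

set_option autoImplicit false
universe u₁ u₂ u₃ u₄

namespace Groth.Agent.H69.PushoutRadicial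

open TensorProduct

theorem etale_of_comp {R : Type u₁} {S : Type u₂} {T : Type u₃} [CommRing R] [CommRing S]
    [CommRing T] (f : R →+* S) (g : S →+* T) (hf : f.Etale) (hgf : (g.comp f).Etale) :
    g.Etale := by
  algebraize [f, g, g.comp f]
  exact Algebra.Etale.of_restrictScalars R S T

attribute [local instance] Algebra.TensorProduct.rightAlgebra

theorem isPushout_of_etale_of_radicial
    {R : Type u₁} {S : Type u₂} {R' : Type u₃} {S' : Type u₄}
    [CommRing R] [CommRing S] [CommRing R'] [CommRing S']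
    [Algebra R S] [Algebra R R'] [Algebra R' S'] [Algebra S S'] [Algebra R S']
    [IsScalarTower R S S'] [IsScalarTower R R' S']
    [Algebra.Etale R R'] [Algebra.Etale S S']
    (p : ℕ) [hp : Fact p.Prime] (hpS : (p : S) = 0)
    (h1 : ∀ s : S, ∃ r : R, s ^ p = algebraMap R S r)
    (h2 : ∀ x : S', ∃ y : R', x ^ p = algebraMap R' S' y)
    (h3 : Function.Surjective (PrimeSpectrum.comap (algebraMap R' S'))) :
    Algebra.IsPushout R S R' S' := by
  set Ψ : S ⊗[R] R' →ₐ[S] S' :=
    Algebra.TensorProduct.lift (Algebra.ofId S S') (IsScalarTower.toAlgHom R R' S')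
      (fun _ _ => Commute.all _ _) with hΨ
  set j : R' →+* S ⊗[R] R' := algebraMap R' (S ⊗[R] R') with hj
  have hΨj : ∀ y : R', Ψ (j y) = algebraMap R' S' y := by
    intro y
    rw [hΨ, hj, Algebra.TensorProduct.right_algebraMap_apply, Algebra.TensorProduct.lift_tmul,
      map_one, one_mul]
    rfl
  have hΨet : Ψ.toRingHom.Etale := by
    refine etale_of_comp (algebraMap S (S ⊗[R] R')) Ψ.toRingHom
      (RingHom.etale_algebraMap.2 inferInstance) ?_
    have : Ψ.toRingHom.comp (algebraMap S (S ⊗[R] R')) = algebraMap S S' := Ψ.comp_algebraMap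
    rw [this]
    exact RingHom.etale_algebraMap.2 inferInstance
  have hpT : (p : S ⊗[R] R') = 0 := by
    have : (p : S ⊗[R] R') = algebraMap S (S ⊗[R] R') (p : S) := by rw [map_natCast]
    rw [this, hpS, map_zero]
  have hpS' : (p : S') = 0 := by
    have : (p : S') = algebraMap S S' (p : S) := by rw [map_natCast]
    rw [this, hpS, map_zero]
  -- `p`-th powers come from `R'`
  have hpow : Nontrivial (S ⊗[R] R') → ∀ z : S ⊗[R] R', ∃ y : R', z ^ p = j y := by
    intro hnt z
    have : CharP (S ⊗[R] R') p := (CharP.charP_iff_prime_eq_zero hp.out).2 hpT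
    induction z using TensorProduct.induction_on with
    | zero => exact ⟨0, by rw [zero_pow hp.out.ne_zero, map_zero]⟩
    | tmul s r' =>
      obtain ⟨r, hr⟩ := h1 s
      refine ⟨algebraMap R R' r * r' ^ p, ?_⟩
      rw [Algebra.TensorProduct.tmul_pow, hr, hj, Algebra.TensorProduct.right_algebraMap_apply,
        Algebra.algebraMap_eq_smul_one, TensorProduct.smul_tmul, Algebra.smul_def]
    | add x y hx hy =>
      obtain ⟨a, ha⟩ := hx
      obtain ⟨b, hb⟩ := hy
      exact ⟨a + b, by rw [add_pow_char, ha, hb, map_add]⟩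
  have hs : Function.Surjective (PrimeSpectrum.comap Ψ.toRingHom) := by
    intro q
    have : Nontrivial (S ⊗[R] R') :=
      ⟨0, 1, fun h => q.isPrime.ne_top ((Ideal.eq_top_iff_one _).2 (h ▸ q.asIdeal.zero_mem))⟩
    obtain ⟨Q, hQ⟩ := h3 (PrimeSpectrum.comap j q)
    refine ⟨Q, ?_⟩
    apply PrimeSpectrum.ext
    ext z
    obtain ⟨y, hy⟩ := hpow this z
    have e1 : z ∈ (PrimeSpectrum.comap Ψ.toRingHom Q).asIdeal ↔
        z ^ p ∈ (PrimeSpectrum.comap Ψ.toRingHom Q).asIdeal :=
      ((PrimeSpectrum.comap Ψ.toRingHom Q).isPrime.pow_mem_iff_mem p hp.out.pos).symm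
    have e2 : z ∈ q.asIdeal ↔ z ^ p ∈ q.asIdeal := (q.isPrime.pow_mem_iff_mem p hp.out.pos).symm
    rw [e1, e2, hy]
    have e3 := congrArg (fun I : PrimeSpectrum R' => y ∈ I.asIdeal) hQ
    simp only [PrimeSpectrum.comap_asIdeal, Ideal.mem_comap] at e3
    simp only [PrimeSpectrum.comap_asIdeal, Ideal.mem_comap, AlgHom.toRingHom_eq_coe,
      RingHom.coe_coe, hΨj]
    exact Iff.of_eq e3
  have hext : ∀ (L : Type (max (max u₂ u₃) u₄)) [Field L] (α β : S' →+* L),
      α.comp Ψ.toRingHom = β.comp Ψ.toRingHom → α = β := by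
    intro L _ α β h
    have hpL : (p : L) = 0 := by
      have : (p : L) = α (p : S') := by rw [map_natCast]
      rw [this, hpS', map_zero]
    have : CharP L p := (CharP.charP_iff_prime_eq_zero hp.out).2 hpL
    ext x
    obtain ⟨y, hy⟩ := h2 x
    have h4 := RingHom.congr_fun h (j y)
    simp only [RingHom.comp_apply, AlgHom.toRingHom_eq_coe, RingHom.coe_coe, hΨj, ← hy,
      map_pow] at h4
    exact frobenius_inj L p h4
  have hbij : Function.Bijective Ψ :=
    RelFrobU.ringHom_bijective_of_etale_of_radicial Ψ.toRingHom hΨet hs hext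
  have hpo : Algebra.IsPushout R S R' (S ⊗[R] R') := inferInstance
  exact Algebra.IsPushout.of_equiv (AlgEquiv.ofBijective Ψ hbij) (by
    ext y
    exact hΨj y)

end Groth.Agent.H69.PushoutRadicial
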