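import Groth.Agent.H69.RelFrobMvPoly
import Groth.Agent.H69.PushoutRadicial

/-!
# Relative Frobenius and étale maps

If `P → E` is an étale map of `A`-algebras of characteristic `p`, then the square formed by the
relative Frobenii of `P` and `E` is a pushout: `E = E^{(p)} ⊗_{P^{(p)}} P`.

To avoid instance diamonds, the targets of the relative Frobenii are the type synonyms `Tg P`,
`Tg E`.
-/

set_option autoImplicit false
universe u v w

namespace Groth.Agent.H69.RelFrobEtaleBC

open FrobAlg TensorProduct

/-- A copy of `B`, used as the target of the relative Frobenius (to avoid instance diamonds). -/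
def Tg (B : Type w) : Type w := B

instance (B : Type w) [CommRing B] : CommRing (Tg B) := inferInstanceAs (CommRing B)

/-- The identity `B ≃+* Tg B`. -/
def toTg (B : Type w) [CommRing B] : B ≃+* Tg B := RingEquiv.refl B

section

variable (p : ℕ) [hp : Fact p.Prime] (A : Type u) [CommRing A] [CharP A p]
  (P : Type v) [CommRing P] [Algebra A P] [CharP P p]
  (E : Type w) [CommRing E] [Algebra A E] [CharP E p] [Algebra P E] [IsScalarTower A P E]

/-- `Tg B` is an algebra over the Frobenius twist of `B` through the relative Frobenius. -/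
noncomputable instance relFrobAlg : Algebra (BaseChange p A P) (Tg P) :=
  ((toTg P : P →+* Tg P).comp (relFrob p A P)).toAlgebra

theorem algebraMap_relFrobAlg (z : BaseChange p A P) :
    algebraMap (BaseChange p A P) (Tg P) z = toTg P (relFrob p A P z) := rfl

noncomputable instance tgAlg : Algebra (Tg P) (Tg E) := inferInstanceAs (Algebra P E)

theorem algebraMap_tgAlg (x : P) : algebraMap (Tg P) (Tg E) (toTg P x) = toTg E (algebraMap P E x) :=
  rfl

instance [Algebra.Etale P E] : Algebra.Etale (Tg P) (Tg E) := inferInstanceAs (Algebra.Etale P E)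

/-- The map on Frobenius twists induced by `P → E`. -/
noncomputable def twistMap : BaseChange p A P →ₐ[A] BaseChange p A E :=
  Algebra.TensorProduct.map (IsScalarTower.toAlgHom A P E) (AlgHom.id A (Twist p A))

omit [CharP P p] [CharP E p] in
theorem twistMap_tmul (x : P) (t : Twist p A) :
    twistMap p A P E (x ⊗ₜ[A] t) = (algebraMap P E x) ⊗ₜ[A] t := rfl

/-- `E^{(p)}` as a `P^{(p)}`-algebra. -/
noncomputable abbrev twistAlgebra : Algebra (BaseChange p A P) (BaseChange p A E) :=
  (twistMap p A P E).toRingHom.toAlgebra

/-- `Tg E` as a `P^{(p)}`-algebra. -/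
noncomputable abbrev compAlgebra : Algebra (BaseChange p A P) (Tg E) :=
  ((algebraMap (Tg P) (Tg E)).comp (algebraMap (BaseChange p A P) (Tg P))).toAlgebra

attribute [local instance 900] twistAlgebra compAlgebra

instance : IsScalarTower (BaseChange p A P) (Tg P) (Tg E) := IsScalarTower.of_algebraMap_eq' rfl

instance : IsScalarTower (BaseChange p A P) (BaseChange p A E) (Tg E) := by
  have h : algebraMap (BaseChange p A P) (Tg E) =
      (algebraMap (BaseChange p A E) (Tg E)).comp
        (algebraMap (BaseChange p A P) (BaseChange p A E)) :=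
    RingHom.ext fun z => (RelFrobU.relFrob_map p A (IsScalarTower.toAlgHom A P E) z).symm
  exact IsScalarTower.of_algebraMap_eq' h

instance : IsScalarTower P (BaseChange p A P) (BaseChange p A E) := by
  have h : algebraMap P (BaseChange p A E) =
      (algebraMap (BaseChange p A P) (BaseChange p A E)).comp (algebraMap P (BaseChange p A P)) := by
    ext x
    rfl
  exact IsScalarTower.of_algebraMap_eq' h

theorem isPushout_twist : Algebra.IsPushout P E (BaseChange p A P) (BaseChange p A E) :=
  Algebra.IsPushout.tensorProduct_tensorProduct A (Twist p A) P E (by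
    ext t
    show twistMap p A P E ((1 : P) ⊗ₜ[A] t) = (1 : E) ⊗ₜ[A] t
    rw [twistMap_tmul, map_one])

instance [Algebra.Etale P E] : Algebra.Etale (BaseChange p A P) (BaseChange p A E) :=
  haveI : Algebra.IsPushout P (BaseChange p A P) E (BaseChange p A E) :=
    (isPushout_twist p A P E).symm
  Algebra.Etale.of_equiv (Algebra.IsPushout.equiv P (BaseChange p A P) E (BaseChange p A E))

/-- The relative Frobenius square of an étale map is a pushout. -/
theorem isPushout_relFrob [Algebra.Etale P E] :
    Algebra.IsPushout (BaseChange p A P) (Tg P) (BaseChange p A E) (Tg E) := by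
  refine PushoutRadicial.isPushout_of_etale_of_radicial p ?_ ?_ ?_ ?_
  · exact CharP.cast_eq_zero P p
  · intro s
    exact ⟨s ⊗ₜ[A] (1 : Twist p A), (RelFrobU.relFrob_tmul_one p A P s).symm⟩
  · intro x
    exact ⟨x ⊗ₜ[A] (1 : Twist p A), (RelFrobU.relFrob_tmul_one p A E x).symm⟩
  · exact (RelFrobU.comap_relFrob_bijective p A E).surjective

end

end Groth.Agent.H69.RelFrobEtaleBC
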