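import Groth.Agent.H69.RelFrobU
import Mathlib.RingTheory.MvPolynomial.Expand
import Mathlib.RingTheory.TensorProduct.MvPolynomial

/-!
# Relative Frobenius of a polynomial ring

`MvPolynomial (Fin n) A` is free of rank `p ^ n` over its Frobenius twist through the relative
Frobenius, with basis the monomials with all exponents `< p`.
-/

set_option autoImplicit false
universe u w

namespace Groth.Agent.H69.RelFrobMvPoly

open FrobAlg TensorProduct MvPolynomial

section General

variable (p : ℕ) [hp : Fact p.Prime] (A : Type u) [CommRing A] [CharP A p] (σ : Type w)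

/-- The twist of a polynomial ring is the polynomial ring over the twist. -/
noncomputable def psi : BaseChange p A (MvPolynomial σ A) ≃ₐ[A] MvPolynomial σ (Twist p A) :=
  (Algebra.TensorProduct.comm A (MvPolynomial σ A) (Twist p A)).trans
    ((algebraTensorAlgEquiv A (Twist p A)).restrictScalars A)

theorem psi_tmul (f : MvPolynomial σ A) (t : Twist p A) :
    psi p A σ (f ⊗ₜ[A] t) = t • map (algebraMap A (Twist p A)) f := by
  simp [psi]

theorem relFrob_eq (z : BaseChange p A (MvPolynomial σ A)) :
    relFrob p A (MvPolynomial σ A) z =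
      expand p (map ((toTwist p A).symm : Twist p A →+* A) (psi p A σ z)) := by
  induction z using TensorProduct.induction_on with
  | zero => simp
  | tmul f t =>
    have hfrob : ((toTwist p A).symm : Twist p A →+* A).comp (algebraMap A (Twist p A)) =
        frobenius A p := by
      ext a
      rfl
    rw [RelFrobU.relFrob_tmul, psi_tmul, smul_eq_C_mul, map_mul, map_mul, map_C, algHom_C,
      MvPolynomial.map_map, hfrob, ← map_expand, map_frobenius_expand, mul_comm]
    rfl
  | add x y hx hy => rw [map_add, map_add, map_add, map_add, hx, hy]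

theorem coeff_relFrob_smul (z : BaseChange p A (MvPolynomial σ A)) (q : σ →₀ ℕ) :
    coeff (p • q) (relFrob p A (MvPolynomial σ A) z) =
      (toTwist p A).symm (coeff q (psi p A σ z)) := by
  rw [relFrob_eq, coeff_expand_smul p hp.out.ne_zero, coeff_map]
  rfl

theorem coeff_relFrob_of_not_dvd (z : BaseChange p A (MvPolynomial σ A)) {m : σ →₀ ℕ} {i : σ}
    (h : ¬ p ∣ m i) : coeff m (relFrob p A (MvPolynomial σ A) z) = 0 := by
  rw [relFrob_eq, coeff_expand_of_not_dvd _ h]

end General

/-- The algebra structure on `B` over its Frobenius twist given by the relative Frobenius. -/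
noncomputable abbrev relFrobAlgebra (p : ℕ) [Fact p.Prime] (A : Type u) [CommRing A] [CharP A p]
    (B : Type w) [CommRing B] [Algebra A B] [CharP B p] : Algebra (BaseChange p A B) B :=
  (relFrob p A B).toAlgebra

section Fin

variable (p : ℕ) [hp : Fact p.Prime] (A : Type u) [CommRing A] [CharP A p] (n : ℕ)

/-- The exponent vector attached to `e : Fin n → Fin p`. -/
noncomputable def mono (e : Fin n → Fin p) : Fin n →₀ ℕ := Finsupp.equivFunOnFinite.symm (fun i => (e i : ℕ))

omit hp in
@[simp] theorem mono_apply (e : Fin n → Fin p) (i : Fin n) : mono p n e i = (e i : ℕ) := rfl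

/-- The monomial `X ^ e`. -/
noncomputable def vec (e : Fin n → Fin p) : MvPolynomial (Fin n) A := monomial (mono p n e) 1

theorem coeff_relFrob_mul_vec (z : BaseChange p A (MvPolynomial (Fin n) A)) (e e₀ : Fin n → Fin p)
    (q : Fin n →₀ ℕ) :
    coeff (p • q + mono p n e₀) (relFrob p A (MvPolynomial (Fin n) A) z * vec p A n e) =
      if e = e₀ then (toTwist p A).symm (coeff q (psi p A (Fin n) z)) else 0 := by
  classical
  rw [vec, coeff_mul_monomial', mul_one]
  split_ifs with h1 h2 h2
  · subst h2
    rw [add_tsub_cancel_right, coeff_relFrob_smul p]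
  · obtain ⟨i, hi⟩ := Function.ne_iff.1 h2
    apply coeff_relFrob_of_not_dvd p A (Fin n) z (i := i)
    have hle : (e i : ℕ) ≤ p * q i + (e₀ i : ℕ) := by
      have := h1 i
      simpa using this
    have hlt1 : (e i : ℕ) < p := (e i).2
    have hlt2 : (e₀ i : ℕ) < p := (e₀ i).2
    intro hdvd
    apply hi
    apply Fin.ext
    have hval : (p • q + mono p n e₀ - mono p n e) i = p * q i + (e₀ i : ℕ) - (e i : ℕ) := by
      simp
    rw [hval] at hdvd
    obtain ⟨d, hd⟩ := hdvd
    have h3 : (p * q i + (e₀ i : ℕ)) % p = (p * d + (e i : ℕ)) % p := by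
      rw [← hd, Nat.sub_add_cancel hle]
    rw [Nat.mul_add_mod, Nat.mul_add_mod, Nat.mod_eq_of_lt hlt1, Nat.mod_eq_of_lt hlt2] at h3
    exact h3.symm
  · exfalso
    apply h1
    rw [h2]
    exact le_add_self
  · rfl

attribute [local instance] relFrobAlgebra

theorem linearIndependent_vec :
    LinearIndependent (BaseChange p A (MvPolynomial (Fin n) A)) (vec p A n) := by
  classical
  rw [Fintype.linearIndependent_iff]
  intro g hg e₀
  apply (psi p A (Fin n)).injective
  rw [map_zero]
  ext q
  have h1 := congrArg (coeff (p • q + mono p n e₀)) hg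
  rw [coeff_sum] at h1
  simp only [Algebra.smul_def, RingHom.algebraMap_toAlgebra, coeff_relFrob_mul_vec,
    Finset.sum_ite_eq', Finset.mem_univ, if_true, coeff_zero] at h1
  rw [coeff_zero]
  exact (toTwist p A).symm.injective (h1.trans (map_zero _).symm)

theorem monomial_eq_smul_vec (m : Fin n →₀ ℕ) (a : A) :
    (monomial m a : MvPolynomial (Fin n) A) =
      ((monomial (Finsupp.mapRange (· / p) (Nat.zero_div p) m) (1 : A)) ⊗ₜ[A] toTwist p A a :
        BaseChange p A (MvPolynomial (Fin n) A)) •
        vec p A n (fun i => ⟨m i % p, Nat.mod_lt _ hp.out.pos⟩) := by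
  have hm : p • Finsupp.mapRange (· / p) (Nat.zero_div p) m +
      mono p n (fun i => ⟨m i % p, Nat.mod_lt _ hp.out.pos⟩) = m := by
    ext i
    simp [Nat.div_add_mod]
  rw [Algebra.smul_def, RingHom.algebraMap_toAlgebra, RelFrobU.relFrob_tmul,
    RingEquiv.symm_apply_apply, vec, monomial_pow, one_pow, MvPolynomial.algebraMap_eq,
    mul_comm (monomial _ _) (C a), C_mul_monomial, monomial_mul, mul_one, mul_one, hm]

theorem span_vec :
    ⊤ ≤ Submodule.span (BaseChange p A (MvPolynomial (Fin n) A)) (Set.range (vec p A n)) := by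
  have key : ∀ f : MvPolynomial (Fin n) A,
      f ∈ Submodule.span (BaseChange p A (MvPolynomial (Fin n) A)) (Set.range (vec p A n)) := by
    intro f
    induction f using MvPolynomial.induction_on' with
    | monomial m a =>
      rw [monomial_eq_smul_vec p A n m a]
      exact Submodule.smul_mem _ _ (Submodule.subset_span ⟨_, rfl⟩)
    | add f g hf hg => exact Submodule.add_mem _ hf hg
  exact fun f _ => key f

/-- The basis of `MvPolynomial (Fin n) A` over its Frobenius twist. -/
noncomputable def basis :
    Module.Basis (Fin n → Fin p) (BaseChange p A (MvPolynomial (Fin n) A))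
      (MvPolynomial (Fin n) A) :=
  Module.Basis.mk (linearIndependent_vec p A n) (span_vec p A n)

end Fin

end Groth.Agent.H69.RelFrobMvPoly
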