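import Groth.Agent.H69.RelFrobSmooth
import Mathlib.RingTheory.Etale.Kaehler
import Mathlib.RingTheory.Kaehler.Polynomial
import Mathlib.RingTheory.Finiteness.ModuleFinitePresentation
import Mathlib.RingTheory.Flat.EquationalCriterion
import Mathlib.RingTheory.Flat.Rank
import Mathlib.RingTheory.FiniteStability

/-!
# The relative Frobenius of a smooth algebra of relative dimension `r` is finite locally free of
rank `p ^ r`
-/

set_option autoImplicit false
universe u v w

namespace Groth.Agent.H69.RelFrobRank

open FrobAlg TensorProduct RelFrobEtaleBC RelFrobSmooth Polynomial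

section Finite

variable (p : ℕ) [hp : Fact p.Prime] (A : Type u) [CommRing A] [CharP A p]
  (B : Type v) [CommRing B] [Algebra A B] [CharP B p]

theorem relFrob_comp_algebraMap :
    (relFrob p A B).comp (algebraMap (Twist p A) (BaseChange p A B)) =
      (algebraMap A B).comp ((toTwist p A).symm : Twist p A →+* A) := by
  ext t
  show relFrob p A B ((1 : B) ⊗ₜ[A] t) = _
  rw [RelFrobU.relFrob_tmul, one_pow, one_mul]
  rfl

theorem relFrob_isIntegral : (relFrob p A B).IsIntegral := by
  intro b
  refine ⟨X ^ p - C (b ⊗ₜ[A] (1 : Twist p A)), monic_X_pow_sub_C _ hp.out.ne_zero, ?_⟩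
  rw [eval₂_sub, eval₂_pow, eval₂_X, eval₂_C, RelFrobU.relFrob_tmul_one, sub_self]

/-- The base change `B ⊗[A] Twist p A`, as an algebra over `Twist p A` through the right factor,
is isomorphic to the usual (left) base change. -/
noncomputable def commEquiv :
    (Twist p A ⊗[A] B) ≃ₐ[Twist p A] BaseChange p A B :=
  AlgEquiv.ofRingEquiv (f := (Algebra.TensorProduct.comm A (Twist p A) B).toRingEquiv)
    (fun t => by
      show (Algebra.TensorProduct.comm A (Twist p A) B) (t ⊗ₜ[A] (1 : B)) = (1 : B) ⊗ₜ[A] t
      exact Algebra.TensorProduct.comm_tmul A t 1)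

theorem algebraMap_twist_finiteType [Algebra.FiniteType A B] :
    (algebraMap (Twist p A) (BaseChange p A B)).FiniteType :=
  RingHom.finiteType_algebraMap.2 (Algebra.FiniteType.equiv (inferInstance : Algebra.FiniteType (Twist p A) (Twist p A ⊗[A] B))
    (commEquiv p A B) : Algebra.FiniteType (Twist p A) (BaseChange p A B))


theorem relFrob_finiteType [Algebra.FiniteType A B] : (relFrob p A B).FiniteType := by
  refine RingHom.FiniteType.of_comp_finiteType
    (f := algebraMap (Twist p A) (BaseChange p A B)) ?_
  rw [relFrob_comp_algebraMap]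
  exact RingHom.FiniteType.comp (RingHom.finiteType_algebraMap.2 inferInstance)
    (RingHom.FiniteType.of_surjective _ (toTwist p A).symm.surjective)

theorem relFrob_finite [Algebra.FiniteType A B] : (relFrob p A B).Finite :=
  (relFrob_isIntegral p A B).to_finite (relFrob_finiteType p A B)

theorem relFrob_finitePresentation [Algebra.FinitePresentation A B] :
    (relFrob p A B).FinitePresentation := by
  refine RingHom.FinitePresentation.of_comp_finiteType
    (algebraMap (Twist p A) (BaseChange p A B)) ?_ (algebraMap_twist_finiteType p A B)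
  rw [relFrob_comp_algebraMap]
  exact RingHom.FinitePresentation.comp (RingHom.finitePresentation_algebraMap.2 inferInstance)
    (RingHom.FinitePresentation.of_bijective (toTwist p A).symm.bijective)

end Finite

section Rank

variable (p : ℕ) [hp : Fact p.Prime] (A : Type u) [CommRing A] [CharP A p]
  (B : Type v) [CommRing B] [Algebra A B] [CharP B p]

attribute [local instance 900] twistAlgebra compAlgebra

theorem flat_tg (h : (relFrob p A B).Flat) : Module.Flat (BaseChange p A B) (Tg B) := by
  have h1 : ((toTg B : B →+* Tg B).comp (relFrob p A B)).Flat :=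
    RingHom.Flat.comp h (RingHom.Flat.of_bijective (toTg B).bijective)
  exact RingHom.flat_algebraMap_iff.1 h1

theorem finite_tg (h : (relFrob p A B).Finite) : Module.Finite (BaseChange p A B) (Tg B) := by
  have h1 : ((toTg B : B →+* Tg B).comp (relFrob p A B)).Finite :=
    RingHom.Finite.comp (RingHom.Finite.of_surjective _ (toTg B).surjective) h
  exact RingHom.finite_algebraMap.1 h1

/-- The number of polynomial variables of a chart is the rank of the differentials. -/
theorem chart_dim_eq [Nontrivial A] [Algebra.Smooth A B] (r : ℕ)
    (hr : ∀ q : PrimeSpectrum B, Module.rankAtStalk (R := B) (KaehlerDifferential A B) q = r)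
    (f : B) (Q' : PrimeSpectrum (Localization.Away f)) (n : ℕ)
    [Algebra (MvPolynomial (Fin n) A) (Localization.Away f)]
    [IsScalarTower A (MvPolynomial (Fin n) A) (Localization.Away f)]
    [Algebra.Etale (MvPolynomial (Fin n) A) (Localization.Away f)] : n = r := by
  have e1 := KaehlerDifferential.tensorKaehlerEquivOfFormallyEtale A (MvPolynomial (Fin n) A)
    (Localization.Away f)
  have e2 := KaehlerDifferential.tensorKaehlerEquivOfFormallyEtale A B (Localization.Away f)
  have hfree : Module.Free (MvPolynomial (Fin n) A) (KaehlerDifferential A (MvPolynomial (Fin n) A)) :=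
    Module.Free.of_basis (KaehlerDifferential.mvPolynomialBasis A (Fin n))
  have hfin : Module.Finite (MvPolynomial (Fin n) A)
      (KaehlerDifferential A (MvPolynomial (Fin n) A)) :=
    Module.Finite.of_basis (KaehlerDifferential.mvPolynomialBasis A (Fin n))
  have h1 : Module.rankAtStalk (R := Localization.Away f)
      (KaehlerDifferential A (Localization.Away f)) Q' = n := by
    rw [← Module.rankAtStalk_eq_of_equiv e1, Module.rankAtStalk_baseChange,
      Module.rankAtStalk_eq_finrank_of_free,
      Module.finrank_eq_card_basis (KaehlerDifferential.mvPolynomialBasis A (Fin n))]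
    simp
  have h2 : Module.rankAtStalk (R := Localization.Away f)
      (KaehlerDifferential A (Localization.Away f)) Q' = r := by
    rw [← Module.rankAtStalk_eq_of_equiv e2, Module.rankAtStalk_baseChange, hr]
  exact h1.symm.trans h2

/-- The rank of `B` over its Frobenius twist is `p ^ r`. -/
theorem rankAtStalk_tg [Algebra.Smooth A B] (r : ℕ)
    (hr : ∀ q : PrimeSpectrum B, Module.rankAtStalk (R := B) (KaehlerDifferential A B) q = r)
    (q : PrimeSpectrum (BaseChange p A B)) :
    Module.rankAtStalk (R := BaseChange p A B) (Tg B) q = p ^ r := by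
  have hntA : Nontrivial A := CharP.nontrivial_of_char_ne_one (R := A) hp.out.ne_one
  obtain ⟨Q, hQ⟩ := (RelFrobU.comap_relFrob_bijective p A B).surjective q
  have hex : ∃ f ∈ chart A B, f ∉ Q.asIdeal := by
    by_contra h
    push_neg at h
    have hle : Ideal.span (chart A B) ≤ Q.asIdeal := Ideal.span_le.2 h
    rw [span_chart] at hle
    exact Q.isPrime.ne_top (top_le_iff.1 hle)
  obtain ⟨f, ⟨hnt, n, alg, tower, het⟩, hfQ⟩ := hex
  have hpf : (p : Localization.Away f) = 0 := by
    have : (p : Localization.Away f) = algebraMap B _ (p : B) := by rw [map_natCast]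
    rw [this, CharP.cast_eq_zero, map_zero]
  have : CharP (Localization.Away f) p := (CharP.charP_iff_prime_eq_zero hp.out).2 hpf
  -- the prime of `B[1/f]` over `Q`
  have hdisj : Disjoint (Submonoid.powers f : Set B) (Q.asIdeal : Set B) :=
    (Ideal.disjoint_powers_iff_notMem_of_isPrime _).mpr hfQ
  have hQ'prime : (Ideal.map (algebraMap B (Localization.Away f)) Q.asIdeal).IsPrime :=
    IsLocalization.isPrime_of_isPrime_disjoint (Submonoid.powers f) _ _ Q.isPrime hdisj
  set Q' : PrimeSpectrum (Localization.Away f) :=
    ⟨Ideal.map (algebraMap B (Localization.Away f)) Q.asIdeal, hQ'prime⟩ with hQ'def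
  have hQ' : PrimeSpectrum.comap (algebraMap B (Localization.Away f)) Q' = Q := by
    apply PrimeSpectrum.ext
    exact IsLocalization.comap_map_of_isPrime_disjoint (Submonoid.powers f) _ Q.isPrime hdisj
  have hnr : n = r := chart_dim_eq A B r hr f Q' n
  set x : PrimeSpectrum (BaseChange p A (Localization.Away f)) :=
    PrimeSpectrum.comap (relFrob p A (Localization.Away f)) Q' with hxdef
  have hx : PrimeSpectrum.comap
      (algebraMap (BaseChange p A B) (BaseChange p A (Localization.Away f))) x = q := by
    have hcomp : (relFrob p A (Localization.Away f)).comp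
        (algebraMap (BaseChange p A B) (BaseChange p A (Localization.Away f))) =
        (algebraMap B (Localization.Away f)).comp (relFrob p A B) :=
      RingHom.ext fun z =>
        (RelFrobU.relFrob_map p A (IsScalarTower.toAlgHom A B (Localization.Away f)) z)
    rw [hxdef, ← PrimeSpectrum.comap_comp_apply, hcomp, PrimeSpectrum.comap_comp_apply, hQ', hQ]
  have hflat : Module.Flat (BaseChange p A B) (Tg B) := flat_tg p A B (relFrob_flat p A B)
  have hfin : Module.Finite (BaseChange p A B) (Tg B) := finite_tg p A B (relFrob_finite p A B)
  have hpo : Algebra.IsPushout (BaseChange p A B) (Tg B)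
      (BaseChange p A (Localization.Away f)) (Tg (Localization.Away f)) :=
    isPushout_relFrob p A B (Localization.Away f)
  have h1 := Algebra.rankAtStalk_eq_of_isPushout (BaseChange p A B) (Tg B)
      (BaseChange p A (Localization.Away f)) (Tg (Localization.Away f)) x
  obtain ⟨b⟩ := nonempty_basis_of_etale p A (MvPolynomial (Fin n) A) (Localization.Away f)
    (basisTg p A n)
  have hfree : Module.Free (BaseChange p A (Localization.Away f)) (Tg (Localization.Away f)) :=
    Module.Free.of_basis b
  have h2 : Module.rankAtStalk (R := BaseChange p A (Localization.Away f))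
      (Tg (Localization.Away f)) x = p ^ n := by
    rw [Module.rankAtStalk_eq_finrank_of_free, Module.finrank_eq_card_basis b]
    simp
  rw [← hx, ← h1, h2, hnr]

end Rank

end Groth.Agent.H69.RelFrobRank
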