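import Groth.Agent.H69.RelFrobEtaleBC
import Mathlib.RingTheory.Unramified.LocalStructure
import Mathlib.RingTheory.Smooth.Locus
import Mathlib.RingTheory.RingHom.Flat

/-!
# The relative Frobenius of a smooth algebra is flat
-/

set_option autoImplicit false
universe u v w

namespace Groth.Agent.H69.RelFrobSmooth

open FrobAlg TensorProduct RelFrobEtaleBC

/-- Universe-polymorphic version of `RingHom.Flat.ofLocalizationSpanTarget`. -/
theorem flat_of_localization_span {R : Type u} {S : Type v} [CommRing R] [CommRing S]
    (φ : R →+* S) (s : Set S) (hs : Ideal.span s = ⊤)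
    (H : ∀ r : s, ((algebraMap S (Localization.Away (r : S))).comp φ).Flat) : φ.Flat := by
  algebraize_only [φ]
  refine Module.flat_of_isLocalized_span _ _ s hs _
    (fun r ↦ Algebra.linearMap S <| Localization.Away r.1) ?_
  dsimp only [RingHom.Flat] at H
  convert! H; ext
  apply Algebra.smul_def

section Etale

variable (p : ℕ) [hp : Fact p.Prime] (A : Type u) [CommRing A] [CharP A p]
  (P : Type v) [CommRing P] [Algebra A P] [CharP P p]
  (E : Type w) [CommRing E] [Algebra A E] [CharP E p] [Algebra P E] [IsScalarTower A P E]

attribute [local instance 900] twistAlgebra compAlgebra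

/-- A basis of `P` over its Frobenius twist induces a basis of an étale `P`-algebra over its
Frobenius twist. -/
theorem nonempty_basis_of_etale [Algebra.Etale P E] {ι : Type*}
    (b : Module.Basis ι (BaseChange p A P) (Tg P)) :
    Nonempty (Module.Basis ι (BaseChange p A E) (Tg E)) := by
  have : Algebra.IsPushout (BaseChange p A P) (BaseChange p A E) (Tg P) (Tg E) :=
    (isPushout_relFrob p A P E).symm
  exact ⟨(Algebra.TensorProduct.basis (BaseChange p A E) b).map
    (Algebra.IsPushout.equiv (BaseChange p A P) (BaseChange p A E) (Tg P) (Tg E)).toLinearEquiv⟩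

/-- If `Tg B` is flat over the twist, the relative Frobenius is flat. -/
theorem relFrob_flat_of_flat [Module.Flat (BaseChange p A P) (Tg P)] : (relFrob p A P).Flat := by
  have h1 : ((toTg P : P →+* Tg P).comp (relFrob p A P)).Flat :=
    RingHom.flat_algebraMap_iff.2 ‹_›
  have h2 : relFrob p A P = ((toTg P).symm : Tg P →+* P).comp
      ((toTg P : P →+* Tg P).comp (relFrob p A P)) := RingHom.ext fun z => rfl
  rw [h2]
  exact RingHom.Flat.comp h1 (RingHom.Flat.of_bijective (toTg P).symm.bijective)

/-- Base change of a flat map to the Frobenius twists is flat. -/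
theorem twistMap_flat_of_flat [Module.Flat P E] : (twistMap p A P E).toRingHom.Flat := by
  have h : Algebra.IsPushout P (BaseChange p A P) E (BaseChange p A E) :=
    (isPushout_twist p A P E).symm
  have : Module.Flat (BaseChange p A P) (BaseChange p A E) :=
    Module.Flat.isBaseChange (R := P) (M := E) (S := BaseChange p A P) (N := BaseChange p A E)
      h.out
  exact RingHom.flat_algebraMap_iff.2 this

end Etale

section Smooth

variable (p : ℕ) [hp : Fact p.Prime] (A : Type u) [CommRing A] [CharP A p]
  (B : Type v) [CommRing B] [Algebra A B] [CharP B p]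

/-- The basis of the polynomial ring over its twist, on the type synonym. -/
noncomputable def basisTg (n : ℕ) :
    Module.Basis (Fin n → Fin p) (BaseChange p A (MvPolynomial (Fin n) A))
      (Tg (MvPolynomial (Fin n) A)) :=
  RelFrobMvPoly.basis p A n

/-- Elements `f` of `B` such that `B[1/f]` is (nonzero and) étale over a polynomial ring. -/
def chart : Set B :=
  {f | Nontrivial (Localization.Away f) ∧
    ∃ (n : ℕ) (_ : Algebra (MvPolynomial (Fin n) A) (Localization.Away f)),
      IsScalarTower A (MvPolynomial (Fin n) A) (Localization.Away f) ∧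
      Algebra.Etale (MvPolynomial (Fin n) A) (Localization.Away f)}

omit [CharP A p] [CharP B p] hp in
theorem span_chart [Algebra.Smooth A B] : Ideal.span (chart A B) = ⊤ := by
  by_contra h
  obtain ⟨m, hm, hle⟩ := Ideal.exists_le_maximal _ h
  have hmp : m.IsPrime := hm.isPrime
  have hsm : Algebra.IsSmoothAt A m := by
    have : (⟨m, hmp⟩ : PrimeSpectrum B) ∈ Algebra.smoothLocus A B := by
      rw [Algebra.smoothLocus_eq_univ]
      trivial
    exact this
  obtain ⟨f, hfm, n, alg, tower, hse⟩ :=
    Algebra.IsSmoothAt.exists_isStandardEtale_mvPolynomial (R := A) (p := m)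
  refine hfm (hle (Ideal.subset_span ⟨?_, n, alg, tower, inferInstance⟩))
  by_contra hnt
  rw [not_nontrivial_iff_subsingleton,
    IsLocalization.subsingleton_iff (M := Submonoid.powers f)] at hnt
  obtain ⟨k, hk⟩ := hnt
  have hk' : f ^ k = 0 := hk
  exact hfm (hmp.mem_of_pow_mem k (hk'.symm ▸ m.zero_mem))

/-- **The relative Frobenius of a smooth algebra is flat.** -/
theorem relFrob_flat [Algebra.Smooth A B] : (relFrob p A B).Flat := by
  apply flat_of_localization_span (relFrob p A B) (chart A B) (span_chart A B)
  rintro ⟨f, hnt, n, alg, tower, het⟩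
  have hpf : (p : Localization.Away f) = 0 := by
    have : (p : Localization.Away f) = algebraMap B _ (p : B) := by rw [map_natCast]
    rw [this, CharP.cast_eq_zero, map_zero]
  have : CharP (Localization.Away f) p := (CharP.charP_iff_prime_eq_zero hp.out).2 hpf
  have hcomp : (algebraMap B (Localization.Away f)).comp (relFrob p A B) =
      (relFrob p A (Localization.Away f)).comp
        (twistMap p A B (Localization.Away f)).toRingHom :=
    RingHom.ext fun z =>
      (RelFrobU.relFrob_map p A (IsScalarTower.toAlgHom A B (Localization.Away f)) z).symm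
  show ((algebraMap B (Localization.Away f)).comp (relFrob p A B)).Flat
  rw [hcomp]
  obtain ⟨b⟩ := nonempty_basis_of_etale p A (MvPolynomial (Fin n) A) (Localization.Away f)
    (basisTg p A n)
  have : Module.Free (BaseChange p A (Localization.Away f)) (Tg (Localization.Away f)) :=
    Module.Free.of_basis b
  exact RingHom.Flat.comp (twistMap_flat_of_flat p A B (Localization.Away f))
    (relFrob_flat_of_flat p A (Localization.Away f))

end Smooth

end Groth.Agent.H69.RelFrobSmooth
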