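import Groth.Prelude.Def_FrobAlg
import Groth.Agent.H69.EtaleRadicial

/-!
# Relative Frobenius: universe-polymorphic basics

Universe-polymorphic versions of the basic lemmas on `FrobAlg.relFrob`, and a two-universe version
of "étale + radicial + surjective ⇒ bijective".
-/

set_option autoImplicit false
universe u v w

namespace Groth.Agent.H69.RelFrobU

open FrobAlg TensorProduct

section TwoUniv

theorem etale_comp {R : Type u} {S : Type v} {T : Type w} [CommRing R] [CommRing S] [CommRing T]
    (f : R →+* S) (g : S →+* T) (hf : f.Etale) (hg : g.Etale) : (g.comp f).Etale := by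
  algebraize [f, g, g.comp f]
  exact RingHom.etale_algebraMap.2 (Algebra.Etale.comp R S T)

variable {C : Type u} {B : Type v} [CommRing C] [CommRing B]

theorem ringHom_bijective_of_etale_of_radicial (f : C →+* B) (hf : f.Etale)
    (hs : Function.Surjective (PrimeSpectrum.comap f))
    (hext : ∀ (L : Type (max u v)) [Field L] (α β : B →+* L), α.comp f = β.comp f → α = β) :
    Function.Bijective f := by
  let eC : ULift.{v} C ≃+* C := ULift.ringEquiv
  let eB : ULift.{u} B ≃+* B := ULift.ringEquiv
  let f' : ULift.{v} C →+* ULift.{u} B :=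
    (eB.symm : B →+* ULift.{u} B).comp (f.comp (eC : ULift.{v} C →+* C))
  have hf' : f'.Etale :=
    etale_comp _ _
      (etale_comp _ _ (RingHom.Etale.of_bijective eC.bijective) hf)
      (RingHom.Etale.of_bijective eB.symm.bijective)
  have hs' : Function.Surjective (PrimeSpectrum.comap f') := by
    intro P
    obtain ⟨Q, hQ⟩ := hs (PrimeSpectrum.comap (eC.symm : C →+* ULift.{v} C) P)
    refine ⟨PrimeSpectrum.comap (eB : ULift.{u} B →+* B) Q, ?_⟩
    apply PrimeSpectrum.ext
    ext x
    have h1 := congrArg (fun R : PrimeSpectrum C => eC x ∈ R.asIdeal) hQ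
    simp only [PrimeSpectrum.comap_asIdeal, Ideal.mem_comap] at h1
    simp only [PrimeSpectrum.comap_asIdeal, Ideal.mem_comap, f', RingHom.comp_apply,
      RingHom.coe_coe, RingEquiv.apply_symm_apply]
    rw [h1, RingHom.coe_coe, RingEquiv.symm_apply_apply]
  have hext' : ∀ (L : Type (max u v)) [Field L] (α β : ULift.{u} B →+* L),
      α.comp f' = β.comp f' → α = β := by
    intro L _ α β h
    have h2 : (α.comp (eB.symm : B →+* ULift.{u} B)) = (β.comp (eB.symm : B →+* ULift.{u} B)) := by
      apply hext
      ext c
      have := RingHom.congr_fun h (eC.symm c)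
      simpa [f'] using this
    ext x
    have := RingHom.congr_fun h2 (eB x)
    simpa using this
  have hb := EtaleRadicial.ringHom_bijective_of_etale_of_radicial f' hf' hs' hext'
  have hfe : ⇑f = eB ∘ f' ∘ eC.symm := by
    ext c
    simp [f']
  rw [hfe]
  exact eB.bijective.comp (hb.comp eC.symm.bijective)

end TwoUniv

section Basic

variable (p : ℕ) [hp : Fact p.Prime] (A : Type u) [CommRing A] [CharP A p]
  (B : Type v) [CommRing B] [Algebra A B] [CharP B p]

theorem relFrob_tmul (b : B) (t : Twist p A) :
    relFrob p A B (b ⊗ₜ[A] t) = b ^ p * algebraMap A B ((toTwist p A).symm t) := rfl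

theorem relFrob_tmul_one (b : B) : relFrob p A B (b ⊗ₜ[A] (1 : Twist p A)) = b ^ p := by
  rw [relFrob_tmul, map_one, map_one, mul_one]

theorem relFrob_one_tmul (a : A) : relFrob p A B ((1 : B) ⊗ₜ[A] toTwist p A a) = algebraMap A B a := by
  rw [relFrob_tmul, one_pow, one_mul, RingEquiv.symm_apply_apply]

instance : Nontrivial (BaseChange p A B) :=
  haveI : Nontrivial B := CharP.nontrivial_of_char_ne_one (R := B) hp.out.ne_one
  (relFrob p A B).domain_nontrivial

omit [CharP B p] in
theorem natCast_baseChange_eq_zero : (p : BaseChange p A B) = 0 := by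
  have : (p : BaseChange p A B) = algebraMap A (BaseChange p A B) (p : A) := by
    rw [map_natCast]
  rw [this, CharP.cast_eq_zero, map_zero]

instance : CharP (BaseChange p A B) p :=
  (CharP.charP_iff_prime_eq_zero hp.out).2 (natCast_baseChange_eq_zero p A B)

/-- `z ^ p = relFrob z ⊗ 1`. -/
theorem pow_eq_relFrob_tmul (z : BaseChange p A B) :
    z ^ p = (relFrob p A B z) ⊗ₜ[A] (1 : Twist p A) := by
  induction z using TensorProduct.induction_on with
  | zero => rw [zero_pow hp.out.ne_zero, map_zero, zero_tmul]
  | tmul b t =>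
    rw [Algebra.TensorProduct.tmul_pow, relFrob_tmul]
    obtain ⟨a, rfl⟩ := (toTwist p A).surjective t
    rw [RingEquiv.symm_apply_apply, mul_comm, ← Algebra.smul_def, TensorProduct.smul_tmul]
    congr 1
    rw [Algebra.smul_def, mul_one, algebraMap_twist, map_pow]
  | add x y hx hy => rw [add_pow_char, hx, hy, map_add, add_tmul]

theorem comap_relFrob_bijective :
    Function.Bijective (PrimeSpectrum.comap (relFrob p A B)) := by
  refine (PrimeSpectrum.isHomeomorph_comap (relFrob p A B)
    (fun b => ⟨p, hp.out.pos, b ⊗ₜ[A] (1 : Twist p A), relFrob_tmul_one p A B b⟩) ?_).bijective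
  intro z hz
  rw [RingHom.mem_ker] at hz
  refine mem_nilradical.2 ⟨p, ?_⟩
  rw [pow_eq_relFrob_tmul, hz, zero_tmul]

theorem ringHom_ext_of_comp_relFrob (L : Type w) [Field L] (α β : B →+* L)
    (h : α.comp (relFrob p A B) = β.comp (relFrob p A B)) : α = β := by
  have hpL : (p : L) = 0 := by
    have : (p : L) = α (p : B) := by rw [map_natCast]
    rw [this, CharP.cast_eq_zero, map_zero]
  have : CharP L p := (CharP.charP_iff_prime_eq_zero hp.out).2 hpL
  ext b
  have h1 := RingHom.congr_fun h (b ⊗ₜ[A] (1 : Twist p A))
  simp only [RingHom.comp_apply, relFrob_tmul_one, map_pow] at h1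
  exact frobenius_inj L p h1

variable {B} in
/-- Naturality of the relative Frobenius. -/
theorem relFrob_map {B' : Type w} [CommRing B'] [Algebra A B'] [CharP B' p] (φ : B →ₐ[A] B')
    (z : BaseChange p A B) :
    relFrob p A B' (Algebra.TensorProduct.map φ (AlgHom.id A (Twist p A)) z) =
      φ (relFrob p A B z) := by
  induction z using TensorProduct.induction_on with
  | zero => simp
  | tmul b t =>
    rw [Algebra.TensorProduct.map_tmul, relFrob_tmul, relFrob_tmul, map_mul, map_pow,
      AlgHom.commutes]
    rfl
  | add x y hx hy => rw [map_add, map_add, hx, hy, map_add, map_add]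

end Basic

end Groth.Agent.H69.RelFrobU
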