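import Groth.Agent.H43.LTors3
import Groth.Agent.H69.EtSecGlue

/-!
# Vanishing of higher direct images from local vanishing of cohomology (helper69)

* `isZero_of_locally_zero`: an abelian étale sheaf all of whose sections vanish locally is zero.
* `exists_coboundary`: if `Ext^{q+1}(W_! ℤ, G) = 0`, every cocycle of degree `q + 1` over `W` of an injective
  resolution of `G` is a coboundary.
* `isZero_Rpush_succ`: `R^{q+1} f_* G = 0` if every point of every étale `Y`-scheme has an étale neighbourhood
  `V'` with `Ext^{q+1}((X ×_Y V')_! ℤ, G) = 0`.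
* `isZero_Rpush_succ'`: the same with `H^{q+1}(X ×_Y V', G|) = 0`.
(Adapted from helper43's `H43/LTors3`.)
-/

set_option autoImplicit false
set_option backward.isDefEq.respectTransparency.types false
universe u
open CategoryTheory CategoryTheory.Limits AlgebraicGeometry Opposite Abelian

namespace Groth.Agent.H69.RpushVanish

open EtCoh EtCore EtShriek Groth.Agent.H21.ConstSec Groth.Agent.H4.EtRestr
  Groth.Agent.H4.HpullEt Groth.Agent.H4.FlasquePush Groth.Agent.H43.LTors

/-- an abelian étale sheaf all of whose sections vanish locally is zero -/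
theorem isZero_of_locally_zero {Y : Scheme.{u}} (A : Ab Y)
    (h : ∀ (U : Y.Etale) (s : Sec A U) (x : U.left), ∃ (V : Y.Etale) (g : V ⟶ U),
      (∃ v : V.left, g.left.base v = x) ∧ res A g s = 0) : IsZero A := by
  have key : ∀ (U : Y.Etale) (s : Sec A U), s = 0 := by
    intro U s
    let S : Sieve U :=
      { arrows := fun V g => res A g s = 0
        downward_closed := by
          intro V W g hg k
          change res A (k ≫ g) s = 0
          rw [← res_res, hg, map_zero] }
    have hS : S ∈ Y.smallEtaleTopology U := by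
      rw [mem_iff]
      intro x
      obtain ⟨V, g, ⟨v, hv⟩, hg⟩ := h U s x
      exact ⟨V, g, v, hg, hv⟩
    have hsep := (Groth.Agent.H69.EtSecExact.isSheaf_forget A) S hS
    refine hsep.isSeparatedFor.ext (fun V g hg => ?_)
    change res A g s = res A g 0
    rw [map_zero]
    exact hg
  rw [IsZero.iff_id_eq_zero]
  apply ObjectProperty.hom_ext
  ext U s
  exact (key U.unop _).trans (key U.unop _).symm

variable {X : Scheme.{u}} {G : Ab X}

/-- if `Ext^{q+1}(W_! ℤ, G) = 0`, every cocycle of degree `q + 1` over `W` is a coboundary -/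
theorem exists_coboundary (W : X.Etale) (I : InjectiveResolution G) (q : ℕ)
    (hW : Subsingleton (Ext (ZJ W.hom) G (q + 1)))
    (z : Sec (I.cocomplex.X (q + 1)) W)
    (hz : app (I.cocomplex.d (q + 1) (q + 2)) W z = 0) :
    ∃ y : Sec (I.cocomplex.X q) W, app (I.cocomplex.d q (q + 1)) W y = z := by
  obtain ⟨ζ, hζ⟩ := evW_surjective W _ z
  have hζd : ζ ≫ I.cocomplex.d (q + 1) (q + 2) = 0 := by
    apply evW_injective W
    rw [evW_comp, hζ, hz, evW_zero]
  have h0 : I.extMk ζ (q + 2) rfl hζd = 0 := Subsingleton.elim _ _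
  rw [InjectiveResolution.extMk_eq_zero_iff _ _ _ _ _ q rfl] at h0
  obtain ⟨g, hg⟩ := h0
  refine ⟨evW W _ g, ?_⟩
  rw [← evW_comp, hg, hζ]

variable {Y : Scheme.{u}} (f : X ⟶ Y)

/-- **local criterion for the vanishing of higher direct images** -/
theorem isZero_Rpush_succ (G : Ab X) (q : ℕ)
    (h : ∀ (V : Y.Etale) (v : V.left), ∃ (V' : Y.Etale) (g : V' ⟶ V),
      (∃ v' : V'.left, g.left.base v' = v) ∧
        Subsingleton (Ext (ZJ ((EtCoh.bc f).obj V').hom) G (q + 1))) :
    IsZero ((EtCoh.Rpush f (q + 1)).obj G) := by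
  let I : InjectiveResolution G := Classical.choice (HasInjectiveResolution.out (Z := G))
  let K := ((EtCoh.push f).mapHomologicalComplex (ComplexShape.up ℕ)).obj I.cocomplex
  refine IsZero.of_iso ?_ (I.isoRightDerivedObj (EtCoh.push f) (q + 1))
  change IsZero (K.homology (q + 1))
  apply isZero_of_locally_zero
  intro U s x
  -- lift `s` locally to a cycle
  have hls : Sheaf.IsLocallySurjective (K.homologyπ (q + 1)) := by
    rw [Sheaf.isLocallySurjective_iff_epi']
    infer_instance
  have hS := Presheaf.imageSieve_mem Y.smallEtaleTopology (K.homologyπ (q + 1)).hom s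
  rw [mem_iff] at hS
  obtain ⟨W₁, g₁, w₁, ⟨z', hz'⟩, hw₁⟩ := hS x
  obtain ⟨V', g₂, ⟨v', hv'⟩, hV'⟩ := h W₁ w₁
  let z'' : Sec (K.cycles (q + 1)) V' := res _ g₂ z'
  let z : Sec (I.cocomplex.X (q + 1)) ((EtCoh.bc f).obj V') := app (K.iCycles (q + 1)) V' z''
  have hz : app (I.cocomplex.d (q + 1) (q + 2)) ((EtCoh.bc f).obj V') z = 0 := by
    have := congrArg (fun φ => app φ V' z'') (K.iCycles_d (q + 1) (q + 2))
    exact this
  obtain ⟨y, hy⟩ := exists_coboundary ((EtCoh.bc f).obj V') I q hV' z hz
  refine ⟨V', g₂ ≫ g₁, ⟨v', ?_⟩, ?_⟩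
  · have : (g₂ ≫ g₁).left.base v' = g₁.left.base (g₂.left.base v') := rfl
    rw [this, hv']
    exact hw₁
  · have h1 : res (K.homology (q + 1)) (g₂ ≫ g₁) s = app (K.homologyπ (q + 1)) V' z'' := by
      rw [app_res, ← res_res]
      exact congrArg (res _ g₂) hz'.symm
    have h2 : z'' = app (K.toCycles q (q + 1)) V' y := by
      have hmono : Mono ((K.iCycles (q + 1)).hom.app (op V')) := by
        have h1 : Mono (K.iCycles (q + 1)).hom :=
          (Sheaf.Hom.mono_iff_presheaf_mono _ _ _).1 inferInstance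
        exact inferInstance
      have hinj : Function.Injective (app (K.iCycles (q + 1)) V') :=
        (AddCommGrpCat.mono_iff_injective _).1 hmono
      apply hinj
      have := congrArg (fun φ => app φ V' y) (K.toCycles_i q (q + 1))
      exact hy.symm.trans this.symm
    rw [h1, h2]
    have := congrArg (fun φ => app φ V' y) (K.toCycles_comp_homologyπ q (q + 1))
    exact this

/-- the same criterion, in terms of the cohomology of the schemes `X ×_Y V'` -/
theorem isZero_Rpush_succ' (G : Ab X) (q : ℕ)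
    (h : ∀ (V : Y.Etale) (v : V.left), ∃ (V' : Y.Etale) (g : V' ⟶ V),
      (∃ v' : V'.left, g.left.base v' = v) ∧
        Subsingleton (EtCoh.H ((EtCoh.bc f).obj V').left
          ((EtCoh.pull ((EtCoh.bc f).obj V').hom).obj G) (q + 1))) :
    IsZero ((EtCoh.Rpush f (q + 1)).obj G) := by
  apply isZero_Rpush_succ
  intro V v
  obtain ⟨V', g, hv, hV'⟩ := h V v
  exact ⟨V', g, hv, (phiJ ((EtCoh.bc f).obj V').hom G (q + 1)).toEquiv.subsingleton⟩

end Groth.Agent.H69.RpushVanish
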