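import Groth.Prelude.Def_Flat
import Groth.Prelude.Def_CInt
import Mathlib.AlgebraicGeometry.Morphisms.Separated
import Mathlib.AlgebraicGeometry.Morphisms.Proper
import Mathlib.AlgebraicGeometry.Morphisms.QuasiFinite
import Mathlib.AlgebraicGeometry.ZariskisMainTheorem

/-!
# Morphisms with a surjective closed section are universal homeomorphisms (helper69)
-/

set_option autoImplicit false
universe u

namespace Groth.Agent.H69.SectionUnivHomeo

open CategoryTheory AlgebraicGeometry

/-- A morphism with a section that is a surjective closed immersion is a universal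
homeomorphism. -/
theorem isUnivHomeo_of_section {X S : Scheme.{u}} (f : X ⟶ S) (e : S ⟶ X) (he : e ≫ f = 𝟙 S)
    [IsClosedImmersion e] [Surjective e] : FlatMor.IsUnivHomeo f := by
  intro X' S' i₁ i₂ f' hpb
  let e' : S' ⟶ X' := hpb.lift (𝟙 S') (i₂ ≫ e)
    (by rw [Category.id_comp, Category.assoc, he, Category.comp_id])
  have he'1 : e' ≫ f' = 𝟙 S' := hpb.lift_fst _ _ _
  have he'2 : e' ≫ i₁ = i₂ ≫ e := hpb.lift_snd _ _ _
  have houter : IsPullback (e' ≫ f') i₂ i₂ (e ≫ f) := by
    rw [he'1, he]
    exact IsPullback.of_horiz_isIso ⟨by simp⟩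
  have hsq : IsPullback e' i₂ i₁ e := IsPullback.of_right houter he'2 hpb
  have hci : IsClosedImmersion e' := MorphismProperty.of_isPullback hsq.flip inferInstance
  have hsurj : Surjective e' := MorphismProperty.of_isPullback hsq.flip inferInstance
  have hhomeo : IsHomeomorph e' :=
    isHomeomorph_iff_isEmbedding_surjective.2 ⟨e'.isClosedEmbedding.isEmbedding, e'.surjective⟩
  show IsHomeomorph f'
  have hfe : ∀ y, f' (e' y) = y := by
    intro y
    have := congrArg (fun g : S' ⟶ S' => g y) he'1
    simpa using this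
  have heq : ⇑f' = ⇑hhomeo.homeomorph.symm := by
    funext x
    obtain ⟨y, rfl⟩ := e'.surjective x
    rw [hfe]
    exact (hhomeo.homeomorph.symm_apply_apply y).symm
  rw [heq]
  exact hhomeo.homeomorph.symm.isHomeomorph

/-- A schematically dense open is dense. -/
theorem dense_of_isSchematicallyDense {X : Scheme.{u}} (U : X.Opens)
    (h : CInt.IsSchematicallyDense U) : Dense (U : Set X) := by
  rw [dense_iff_inter_open]
  intro V hV hVne
  by_contra hempty
  rw [Set.not_nonempty_iff_eq_empty] at hempty
  let V' : X.Opens := ⟨V, hV⟩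
  have hbot : V' ⊓ U = ⊥ := by
    ext x
    simp only [TopologicalSpace.Opens.coe_inf, TopologicalSpace.Opens.coe_bot]
    rw [show (V' : Set X) = V from rfl, hempty]
  have hinj := h V'
  have hsub : Subsingleton Γ(X, V' ⊓ U) := by rw [hbot]; infer_instance
  have hsubV : Subsingleton Γ(X, V') := hinj.subsingleton
  have h1 : X.basicOpen (1 : Γ(X, V')) = V' := X.basicOpen_of_isUnit isUnit_one
  have h2 : X.basicOpen (1 : Γ(X, V')) = ⊥ := by
    rw [Subsingleton.elim (1 : Γ(X, V')) 0, X.basicOpen_zero]
  rw [h1] at h2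
  obtain ⟨x, hx⟩ := hVne
  have : x ∈ (V' : Set X) := hx
  rw [h2] at this
  exact this

theorem main {X S : Scheme.{u}} (f : X ⟶ S) [QuasiCompact f] [IsSeparated f] (U : S.Opens)
    (hdense : CInt.IsSchematicallyDense (f ⁻¹ᵁ U)) (hU : IsHomeomorph (f ∣_ U).base)
    (e : S ⟶ X) (he : e ≫ f = 𝟙 S) :
    FlatMor.IsUnivHomeo f ∧ (LocallyOfFiniteType f → IsFinite f) := by
  have hfe : ∀ y, f (e y) = y := by
    intro y
    have := congrArg (fun g : S ⟶ S => g y) he
    simpa using this
  haveI : IsClosedImmersion (e ≫ f) := by rw [he]; infer_instance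
  haveI hci : IsClosedImmersion e := IsClosedImmersion.of_comp e f
  -- injectivity of `f` on the preimage of `U`
  have hinj : ∀ x x' : X, x ∈ f ⁻¹ᵁ U → x' ∈ f ⁻¹ᵁ U → f x = f x' → x = x' := by
    intro x x' hx hx' hxx
    let a : ↥((f ⁻¹ᵁ U).toScheme) := ⟨x, hx⟩
    let a' : ↥((f ⁻¹ᵁ U).toScheme) := ⟨x', hx'⟩
    have h1 : (f ∣_ U) a = (f ∣_ U) a' := by
      apply Subtype.ext
      exact (morphismRestrict_base_coe f U a).trans (hxx.trans (morphismRestrict_base_coe f U a').symm)
    have h2 : a = a' := hU.injective h1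
    exact congrArg Subtype.val h2
  have hrange : ((f ⁻¹ᵁ U : X.Opens) : Set X) ⊆ Set.range e := by
    intro x hx
    have hx' : f x ∈ U := hx
    refine ⟨f x, hinj _ _ ?_ hx (hfe _)⟩
    show f (e (f x)) ∈ U
    rw [hfe]; exact hx'
  haveI hsurj : Surjective e := by
    constructor
    have hclosed : IsClosed (Set.range e) := e.isClosedEmbedding.isClosed_range
    have hd := dense_of_isSchematicallyDense _ hdense
    have : closure ((f ⁻¹ᵁ U : X.Opens) : Set X) ⊆ Set.range e :=
      hclosed.closure_subset_iff.2 hrange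
    rw [hd.closure_eq] at this
    intro x
    exact this (Set.mem_univ x)
  have huh : FlatMor.IsUnivHomeo f := isUnivHomeo_of_section f e he
  refine ⟨huh, fun hlft => ?_⟩
  haveI := hlft
  haveI : UniversallyClosed f := by
    rw [universallyClosed_eq]
    refine MorphismProperty.universally_mono ?_ _ huh
    intro X Y g hg
    exact (hg : IsHomeomorph g).isClosedMap
  haveI : IsProper f := {}
  have hinjf : Function.Injective f := by
    have h1 : IsHomeomorph f :=
      MorphismProperty.universally_le (P := topologically fun f => IsHomeomorph f) _ huh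
    exact h1.injective
  haveI : LocallyQuasiFinite f := LocallyQuasiFinite.of_injective hinjf
  exact IsFinite.of_isProper_of_locallyQuasiFinite f

end Groth.Agent.H69.SectionUnivHomeo
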