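import Mathlib
import Groth.Prelude.Def_SGA4b
import Groth.Agent.H4.EtRestr

/-!
# The sheaf of closed sieves as a subobject classifier (helper69)

* `Om J`: the sheaf of `J`-closed sieves.
* `chi u : G ⟶ Om J` and `tt G : G ⟶ Om J` for a monomorphism `u : F ⟶ G` of sheaves of types, with
  `u ≫ chi u = u ≫ tt G` and `chi_eq_tt_iff`: `chi u t = tt G t ↔ t ∈ range u`.
* `pullSh_preservesFiniteLimits`: inverse image of sheaves of sets on small étale sites is exact.
* `secPull_naturality`.
-/

set_option autoImplicit false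
set_option backward.isDefEq.respectTransparency.types false
open CategoryTheory CategoryTheory.Limits AlgebraicGeometry Opposite
universe u v₁ u₁

namespace Groth.Agent.H69.ShClassifier

section General

variable {C : Type u₁} [Category.{v₁} C] (J : GrothendieckTopology C)

/-- The sheaf of `J`-closed sieves. -/
def Om : Sheaf J (Type (max v₁ u₁)) :=
  ⟨(Functor.closedSieves J).toFunctor, (isSheaf_iff_isSheaf_of_type _ _).2 (classifier_isSheaf J)⟩

variable {J} {F G : Sheaf J (Type (max v₁ u₁))} (u : F ⟶ G)

theorem injective_app [Mono u] (V : Cᵒᵖ) : Function.Injective (u.hom.app V) := by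
  have : Mono u.hom := (sheafToPresheaf _ _).map_mono u
  have : Mono (u.hom.app V) := inferInstance
  exact (mono_iff_injective _).1 inferInstance

/-- The sieve of arrows along which `t` comes from `F`. -/
def chiSieve {U : C} (t : G.obj.obj (op U)) : Sieve U where
  arrows V f := G.obj.map f.op t ∈ Set.range (u.hom.app (op V))
  downward_closed := by
    rintro V W f ⟨s, hs⟩ g
    refine ⟨F.obj.map g.op s, ?_⟩
    have h1 := ConcreteCategory.congr_hom (u.hom.naturality g.op) s
    simp only [ConcreteCategory.comp_apply] at h1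
    rw [h1, hs, op_comp, Functor.map_comp_apply]

theorem chiSieve_apply {U V : C} (t : G.obj.obj (op U)) (f : V ⟶ U) :
    chiSieve u t f ↔ G.obj.map f.op t ∈ Set.range (u.hom.app (op V)) := Iff.rfl

theorem chiSieve_isClosed [Mono u] {U : C} (t : G.obj.obj (op U)) : J.IsClosed (chiSieve u t) := by
  intro V f hf
  have hF : Presieve.IsSheaf J F.obj := (isSheaf_iff_isSheaf_of_type _ _).1 F.property
  have hG : Presieve.IsSheaf J G.obj := (isSheaf_iff_isSheaf_of_type _ _).1 G.property
  have hinj := injective_app u
  let x : Presieve.FamilyOfElements F.obj ((chiSieve u t).pullback f).arrows :=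
    fun W g hg => hg.choose
  have hx : ∀ (W : C) (g : W ⟶ V) (hg : ((chiSieve u t).pullback f).arrows g),
      u.hom.app (op W) (x g hg) = G.obj.map (g ≫ f).op t := fun W g hg => hg.choose_spec
  have hnat : ∀ {A B : C} (k : A ⟶ B) (s : F.obj.obj (op B)),
      u.hom.app (op A) (F.obj.map k.op s) = G.obj.map k.op (u.hom.app (op B) s) := by
    intro A B k s
    have h1 := ConcreteCategory.congr_hom (u.hom.naturality k.op) s
    simpa only [ConcreteCategory.comp_apply] using h1
  have hcomp : x.Compatible := by
    rw [Presieve.compatible_iff_sieveCompatible]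
    intro W W' g k hg
    apply hinj
    rw [hx, hnat, hx, ← Functor.map_comp_apply, ← op_comp, Category.assoc]
  have hf' : ((chiSieve u t).pullback f) ∈ J V := hf
  refine ⟨(hF _ hf').amalgamate x hcomp, ?_⟩
  refine (hG _ hf').isSeparatedFor.ext ?_
  intro W g hg
  rw [← hnat, (hF _ hf').valid_glue hcomp g hg, hx, op_comp, Functor.map_comp_apply]

/-- The characteristic map of a subsheaf. -/
def chi [Mono u] : G ⟶ Om J where
  hom :=
    { app := fun U => TypeCat.ofHom fun t => ⟨chiSieve u t, chiSieve_isClosed u t⟩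
      naturality := by
        intro U V h
        ext t
        apply Subtype.ext
        apply Sieve.ext
        intro W f
        change chiSieve u (G.obj.map h t) f ↔ (chiSieve u t).pullback h.unop f
        rw [Sieve.pullback_apply, chiSieve_apply, chiSieve_apply, op_comp, Functor.map_comp_apply]
        rfl }

/-- The constant map `true`. -/
def tt (G : Sheaf J (Type (max v₁ u₁))) : G ⟶ Om J where
  hom :=
    { app := fun U => TypeCat.ofHom fun _ => ⟨(⊤ : Sieve U.unop), fun _ _ _ => trivial⟩
      naturality := by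
        intro U V h
        ext t
        apply Subtype.ext
        change (⊤ : Sieve V.unop) = (⊤ : Sieve U.unop).pullback h.unop
        rw [Sieve.pullback_top] }

theorem comp_chi [Mono u] : u ≫ chi u = u ≫ tt G := by
  apply Sheaf.hom_ext
  ext U s
  change (chi u).hom.app U (u.hom.app U s) = (tt G).hom.app U (u.hom.app U s)
  apply Subtype.ext
  apply Sieve.ext
  intro W f
  change chiSieve u (u.hom.app U s) f ↔ (⊤ : Sieve U.unop) f
  rw [chiSieve_apply]
  refine iff_of_true ⟨F.obj.map f.op s, ?_⟩ trivial
  have h1 := ConcreteCategory.congr_hom (u.hom.naturality f.op) s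
  simpa only [ConcreteCategory.comp_apply] using h1

theorem mem_range_of_chi_eq_tt [Mono u] {U : Cᵒᵖ} (t : G.obj.obj U)
    (h : (chi u).hom.app U t = (tt G).hom.app U t) : t ∈ Set.range (u.hom.app U) := by
  have h1 : chiSieve u (U := U.unop) t = (⊤ : Sieve U.unop) := congrArg Subtype.val h
  have h2 : chiSieve u (U := U.unop) t (𝟙 _) := by rw [h1]; trivial
  rw [chiSieve_apply] at h2
  simpa using h2

end General

section Etale

theorem ab5T' : AB5OfSize.{u, u+1} (Type (u+1)) := AB5OfSize_of_univLE.{u, u+1, u+1, u+1} _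

/-- Inverse image of sheaves of sets on small étale sites preserves finite limits. -/
theorem pullSh_preservesFiniteLimits {X Y : Scheme.{u}} (f : X ⟶ Y) :
    PreservesFiniteLimits (EtDesc.pullSh f) := by
  have hfilt : ∀ K : (X.Etale)ᵒᵖ, IsFiltered (CostructuredArrow (EtCoh.bc f).op K) := fun K =>
    IsFiltered.of_equivalence (structuredArrowOpEquivalence (EtCoh.bc f) (unop K))
  have := ab5T'.{u}
  have hex : ∀ K : (X.Etale)ᵒᵖ,
      HasExactColimitsOfShape (CostructuredArrow (EtCoh.bc f).op K) (Type (u + 1)) :=
    fun K => inferInstance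
  have : PreservesFiniteLimits ((EtCoh.bc f).op.lan :
      ((Y.Etale)ᵒᵖ ⥤ Type (u + 1)) ⥤ (X.Etale)ᵒᵖ ⥤ Type (u + 1)) :=
    Groth.Agent.H4.ExtZero.lan_preservesFiniteLimits_of_exact (Type (u + 1)) (EtCoh.bc f).op
  exact Functor.sheafPullbackConstruction.preservesFiniteLimits (EtCoh.bc f) (Type (u + 1))
    Y.smallEtaleTopology X.smallEtaleTopology

theorem pullSh_map_mono {X Y : Scheme.{u}} (f : X ⟶ Y) {F G : EtDesc.Sh Y} (φ : F ⟶ G) [Mono φ] :
    Mono ((EtDesc.pullSh f).map φ) := by
  have := pullSh_preservesFiniteLimits f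
  infer_instance

/-- `secPull` is natural in the sheaf. -/
theorem secPull_naturality {X Y : Scheme.{u}} (f : X ⟶ Y) {F G : EtDesc.Sh Y} (φ : F ⟶ G)
    (s : EtDesc.sect F (EtCoh.top Y)) :
    ((EtDesc.pullSh f).map φ).hom.app (op (EtCoh.top X)) (EtDesc.secPull f F s) =
      EtDesc.secPull f G (φ.hom.app (op (EtCoh.top Y)) s) := by
  unfold EtDesc.secPull
  have h1 := ConcreteCategory.congr_hom
    (((EtDesc.pullSh f).map φ).hom.naturality (EtCore.bcTopIso f).inv.op)
    (((EtDesc.adjSh f).unit.app F).hom.app (op (EtCoh.top Y)) s)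
  simp only [ConcreteCategory.comp_apply] at h1
  rw [h1]
  congr 1
  have h2 := (EtDesc.adjSh f).unit.naturality φ
  have h3 := congr($(h2).hom.app (op (EtCoh.top Y)))
  exact (ConcreteCategory.congr_hom h3 s).symm

end Etale

end Groth.Agent.H69.ShClassifier
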