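import Groth.Agent.H69.PushTorsion
import Groth.Agent.H69.FieldEtTorsion
import Groth.Agent.S0124

/-!
# Direct images from the spectrum of a field: torsion statements (helper69)

For `j : Spec k ⟶ X` quasi-compact (`k` a field) and any abelian sheaf `F` on `Spec k`:
* `isOfFinAddOrder_ext_ZJ`: `Ext^p((V' ×_X Spec k)_! ℤ, F)` is torsion for `V'` étale over `X`, quasi-compact, `p > 0`.
* `isTorsion_Rpush_succ`: `R^{q+1} j_* F` is a torsion sheaf.
* `isTorsion_cokernel_push`: for `0 → F → I → Q → 0` exact, `coker (j_* I → j_* Q)` is a torsion sheaf.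
* `isOfFinAddOrder_H_push`: for `X` qcqs, `H^{q+1}(X, j_* F)` is torsion.
-/

set_option autoImplicit false
set_option backward.isDefEq.respectTransparency.types false
set_option linter.style.haveILetI false
universe u
open CategoryTheory CategoryTheory.Limits AlgebraicGeometry Opposite Abelian

namespace Groth.Agent.H69.SkyPushTorsion

open EtCoh EtCore EtShriek Groth.Agent.H21.ConstSec Groth.Agent.H4.EtRestr
  Groth.Agent.H4.HpullEt Groth.Agent.H4.FlasquePush Groth.Agent.H43.LTors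
  Groth.Agent.H69.EtSecExact

variable {k : Type u} [Field k]

/-- a positive multiple of every `ℤ ⟶ H` lifts along an epimorphism `G ⟶ H` on `Spec k` -/
theorem exists_nsmul_lift_hom {G H : EtCoh.Ab (Spec (CommRingCat.of k))} (q : G ⟶ H) [Epi q]
    (ψ : EtCoh.const (Spec (CommRingCat.of k)) ℤ ⟶ H) :
    ∃ n : ℕ, 0 < n ∧ ∃ ψ' : EtCoh.const (Spec (CommRingCat.of k)) ℤ ⟶ G, ψ' ≫ q = n • ψ := by
  obtain ⟨n, hn, t, ht⟩ := EtFieldGalois.exists_nsmul_lift q (homEquivGsec _ H ψ)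
  refine ⟨n, hn, (homEquivGsec _ G).symm t, ?_⟩
  apply (homEquivGsec _ H).injective
  rw [homEquivGsec_comp, AddEquiv.apply_symm_apply, ht, map_nsmul]

variable {X : Scheme.{u}} (j : Spec (CommRingCat.of k) ⟶ X) [QuasiCompact j]

theorem isOfFinAddOrder_ext_ZJ (V' : X.Etale) [CompactSpace V'.left]
    (F : EtCoh.Ab (Spec (CommRingCat.of k))) (p : ℕ) (hp : 0 < p)
    (c : Ext (ZJ ((EtCoh.bc j).obj V').hom) F p) : IsOfFinAddOrder c := by
  let h : V'.left ⟶ X := V'.hom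
  have hc' : CompactSpace ↑(pullback h j) := inferInstance
  have hc : CompactSpace ((EtCoh.bc j).obj V').left := hc'
  let π : ((EtCoh.bc j).obj V').left ⟶ Spec (CommRingCat.of k) := ((EtCoh.bc j).obj V').hom
  haveI : Etale π := ((EtCoh.bc j).obj V').prop
  have h1 := FieldEtTorsion.isOfFinAddOrder_H_of_etale π ((EtCoh.pull π).obj F) p hp
    (phiJ ((EtCoh.bc j).obj V').hom F p c)
  obtain ⟨m, hm, hm0⟩ := isOfFinAddOrder_iff_nsmul_eq_zero.1 h1
  rw [isOfFinAddOrder_iff_nsmul_eq_zero]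
  refine ⟨m, hm, (phiJ ((EtCoh.bc j).obj V').hom F p).injective ?_⟩
  rw [map_nsmul, hm0, map_zero]

/-- a multiple of a cocycle over `W` is a coboundary if `Ext^{q+1}(W_! ℤ, G)` is torsion -/
theorem exists_bound_of_torsion {Y : Scheme.{u}} {G : EtCoh.Ab Y} (W : Y.Etale)
    (I : InjectiveResolution G) (q : ℕ)
    (hW : ∀ c : Ext (ZJ W.hom) G (q + 1), IsOfFinAddOrder c)
    (z : Sec (I.cocomplex.X (q + 1)) W)
    (hz : app (I.cocomplex.d (q + 1) (q + 2)) W z = 0) :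
    ∃ (m : ℕ) (y : Sec (I.cocomplex.X q) W), 0 < m ∧
      app (I.cocomplex.d q (q + 1)) W y = m • z := by
  obtain ⟨ζ, hζ⟩ := evW_surjective W _ z
  have hζd : ζ ≫ I.cocomplex.d (q + 1) (q + 2) = 0 := by
    apply evW_injective W
    rw [evW_comp, hζ, hz, evW_zero]
  obtain ⟨m, hm, h0⟩ := isOfFinAddOrder_iff_nsmul_eq_zero.1 (hW (I.extMk ζ (q + 2) rfl hζd))
  rw [nsmul_extMk, InjectiveResolution.extMk_eq_zero_iff _ _ _ _ _ q rfl] at h0
  obtain ⟨g, hg⟩ := h0
  refine ⟨m, evW W _ g, hm, ?_⟩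
  rw [← evW_comp, hg, evW_nsmul, hζ]

/-- `R^{q+1} j_* F` is a torsion sheaf -/
theorem isTorsion_Rpush_succ (F : EtCoh.Ab (Spec (CommRingCat.of k))) (q : ℕ) :
    EtCoh.IsTorsion ((EtCoh.Rpush j (q + 1)).obj F) := by
  let I : InjectiveResolution F := Classical.choice (HasInjectiveResolution.out (Z := F))
  let K := ((EtCoh.push j).mapHomologicalComplex (ComplexShape.up ℕ)).obj I.cocomplex
  let e := I.isoRightDerivedObj (EtCoh.push j) (q + 1)
  intro U s₀ x
  -- transport to the homology of `K`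
  let s : Sec (K.homology (q + 1)) U := app e.hom U s₀
  have hls : Sheaf.IsLocallySurjective (K.homologyπ (q + 1)) := by
    rw [Sheaf.isLocallySurjective_iff_epi']
    infer_instance
  have hS := Presheaf.imageSieve_mem X.smallEtaleTopology (K.homologyπ (q + 1)).hom s
  rw [mem_iff] at hS
  obtain ⟨W₁, g₁, w₁, ⟨z', hz'⟩, hw₁⟩ := hS x
  obtain ⟨_, ⟨V, hV, rfl⟩, hxV, -⟩ :=
    W₁.left.isBasis_affineOpens.exists_subset_of_mem_open (Set.mem_univ w₁) isOpen_univ
  let V₀ : W₁.left.Opens := V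
  let V' : X.Etale := Scheme.Etale.mk (V₀.ι ≫ W₁.hom)
  let g₂ : V' ⟶ W₁ := MorphismProperty.Over.homMk V₀.ι rfl trivial
  have : IsAffine V₀.toScheme := hV
  have hcV : CompactSpace V'.left := inferInstanceAs (CompactSpace V₀.toScheme)
  let z'' : Sec (K.cycles (q + 1)) V' := res _ g₂ z'
  let z : Sec (I.cocomplex.X (q + 1)) ((EtCoh.bc j).obj V') := app (K.iCycles (q + 1)) V' z''
  have hz : app (I.cocomplex.d (q + 1) (q + 2)) ((EtCoh.bc j).obj V') z = 0 := by
    have := congrArg (fun φ => app φ V' z'') (K.iCycles_d (q + 1) (q + 2))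
    exact this
  obtain ⟨m, y, hm, hy⟩ := exists_bound_of_torsion ((EtCoh.bc j).obj V') I q
    (fun c => isOfFinAddOrder_ext_ZJ j V' F (q + 1) (Nat.succ_pos q) c) z hz
  refine ⟨V', g₂ ≫ g₁, ⟨⟨w₁, hxV⟩, ?_⟩, ?_⟩
  · have : (g₂ ≫ g₁).left.base ⟨w₁, hxV⟩ = g₁.left.base (g₂.left.base ⟨w₁, hxV⟩) := rfl
    rw [this]
    exact hw₁
  · have h1 : res (K.homology (q + 1)) (g₂ ≫ g₁) s = app (K.homologyπ (q + 1)) V' z'' := by
      rw [app_res, ← res_res]
      exact congrArg (res _ g₂) hz'.symm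
    have h2 : m • z'' = app (K.toCycles q (q + 1)) V' y := by
      have hmono : Mono ((K.iCycles (q + 1)).hom.app (op V')) := by
        have h1 : Mono (K.iCycles (q + 1)).hom :=
          (Sheaf.Hom.mono_iff_presheaf_mono _ _ _).1 inferInstance
        exact inferInstance
      have hinj : Function.Injective (app (K.iCycles (q + 1)) V') :=
        (AddCommGrpCat.mono_iff_injective _).1 hmono
      apply hinj
      rw [map_nsmul]
      have := congrArg (fun φ => app φ V' y) (K.toCycles_i q (q + 1))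
      exact hy.symm.trans this.symm
    have h3 : m • res (K.homology (q + 1)) (g₂ ≫ g₁) s = 0 := by
      rw [h1, ← map_nsmul, h2]
      have := congrArg (fun φ => app φ V' y) (K.toCycles_comp_homologyπ q (q + 1))
      exact this
    -- back to `R^{q+1} j_* F`
    have h4 : res (K.homology (q + 1)) (g₂ ≫ g₁) s =
        app e.hom V' (res _ (g₂ ≫ g₁) s₀) := (app_res e.hom (g₂ ≫ g₁) s₀).symm
    have hinj : Function.Injective (app e.hom V') := by
      intro a b hab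
      have h5 : ∀ c, app e.inv V' (app e.hom V' c) = c := fun c => by
        rw [← app_comp, e.hom_inv_id]
        rfl
      rw [← h5 a, hab, h5 b]
    rw [isOfFinAddOrder_iff_nsmul_eq_zero]
    refine ⟨m, hm, hinj ?_⟩
    change app e.hom V' (m • res _ (g₂ ≫ g₁) s₀) = app e.hom V' 0
    rw [map_nsmul, ← h4]
    exact h3.trans (map_zero _).symm

/-- a multiple of a section of `S.X₃` over `W` lifts to `S.X₂` if `Ext¹(W_! ℤ, S.X₁)` is torsion -/
theorem exists_nsmul_lift_sec {Y : Scheme.{u}} {S : ShortComplex (EtCoh.Ab Y)} (hS : S.ShortExact)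
    (W : Y.Etale) (hW : ∀ c : Ext (ZJ W.hom) S.X₁ 1, IsOfFinAddOrder c) (s : Sec S.X₃ W) :
    ∃ (n : ℕ) (t : Sec S.X₂ W), 0 < n ∧ app S.g W t = n • s := by
  obtain ⟨σ, hσ⟩ := evW_surjective W _ s
  obtain ⟨n, hn, hn0⟩ := isOfFinAddOrder_iff_nsmul_eq_zero.1
    (hW ((Ext.mk₀ σ).comp hS.extClass (zero_add 1)))
  have h0 : (Ext.mk₀ (n • σ)).comp hS.extClass (zero_add 1) = 0 := by
    rw [ExtTorsion.mk₀_nsmul, ExtTorsion.nsmul_comp, hn0]
  obtain ⟨x₂, hx₂⟩ := Ext.covariant_sequence_exact₃ (ZJ W.hom) hS (Ext.mk₀ (n • σ)) (zero_add 1) h0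
  obtain ⟨τ, rfl⟩ := (Ext.mk₀_bijective _ _).2 x₂
  rw [Ext.mk₀_comp_mk₀] at hx₂
  have hτ : τ ≫ S.g = n • σ := (Ext.mk₀_bijective _ _).1 hx₂
  refine ⟨n, evW W _ τ, hn, ?_⟩
  rw [← evW_comp, hτ, evW_nsmul, hσ]

/-- for `0 → F → I → Q → 0` exact on `Spec k`, `coker (j_* I → j_* Q)` is a torsion sheaf -/
theorem isTorsion_cokernel_push {S : ShortComplex (EtCoh.Ab (Spec (CommRingCat.of k)))}
    (hS : S.ShortExact) : EtCoh.IsTorsion (cokernel ((EtCoh.push j).map S.g)) := by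
  let π := cokernel.π ((EtCoh.push j).map S.g)
  intro U c x
  have hls : Sheaf.IsLocallySurjective π := by
    rw [Sheaf.isLocallySurjective_iff_epi']
    infer_instance
  have hSv := Presheaf.imageSieve_mem X.smallEtaleTopology π.hom c
  rw [mem_iff] at hSv
  obtain ⟨W₁, g₁, w₁, ⟨s₁, hs₁⟩, hw₁⟩ := hSv x
  obtain ⟨_, ⟨V, hV, rfl⟩, hxV, -⟩ :=
    W₁.left.isBasis_affineOpens.exists_subset_of_mem_open (Set.mem_univ w₁) isOpen_univ
  let V₀ : W₁.left.Opens := V
  let V' : X.Etale := Scheme.Etale.mk (V₀.ι ≫ W₁.hom)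
  let g₂ : V' ⟶ W₁ := MorphismProperty.Over.homMk V₀.ι rfl trivial
  have : IsAffine V₀.toScheme := hV
  have hcV : CompactSpace V'.left := inferInstanceAs (CompactSpace V₀.toScheme)
  let s' : Sec ((EtCoh.push j).obj S.X₃) V' := res _ g₂ s₁
  let s : Sec S.X₃ ((EtCoh.bc j).obj V') := s'
  obtain ⟨n, t, hn, ht⟩ := exists_nsmul_lift_sec hS ((EtCoh.bc j).obj V')
    (fun c => isOfFinAddOrder_ext_ZJ j V' S.X₁ 1 Nat.one_pos c) s
  let t' : Sec ((EtCoh.push j).obj S.X₂) V' := t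
  have ht' : app ((EtCoh.push j).map S.g) V' t' = n • s' := ht
  refine ⟨V', g₂ ≫ g₁, ⟨⟨w₁, hxV⟩, ?_⟩, ?_⟩
  · have : (g₂ ≫ g₁).left.base ⟨w₁, hxV⟩ = g₁.left.base (g₂.left.base ⟨w₁, hxV⟩) := rfl
    rw [this]
    exact hw₁
  · have h1 : res _ (g₂ ≫ g₁) c = app π V' s' := by
      rw [app_res, ← res_res]
      exact congrArg (res _ g₂) hs₁.symm
    rw [isOfFinAddOrder_iff_nsmul_eq_zero]
    refine ⟨n, hn, ?_⟩
    change n • res _ (g₂ ≫ g₁) c = 0
    rw [h1, ← map_nsmul, ← ht', ← app_comp]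
    have : (EtCoh.push j).map S.g ≫ π = 0 := cokernel.condition _
    rw [this]
    rfl

variable [CompactSpace X] [QuasiSeparatedSpace X]

/-- **`H^{q+1}(X, j_* F)` is torsion** for `X` qcqs and `j : Spec k ⟶ X` -/
theorem isOfFinAddOrder_H_push (F : EtCoh.Ab (Spec (CommRingCat.of k))) (q : ℕ)
    (x : EtCoh.H X ((EtCoh.push j).obj F) (q + 1)) : IsOfFinAddOrder x := by
  have hlim : PreservesFiniteLimits (EtCoh.push j) := by
    have := (EtCoh.pullPushAdj j).rightAdjoint_preservesLimits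
    infer_instance
  refine PushTorsion.ext_succ_torsion (EtCoh.push j)
    (fun I hI => Groth.Agent.H4.EtRestr.injective_push j I) (EtCoh.const X ℤ) ?_ ?_ q F x
  · intro S hS _ p c
    exact Groth.Agent.S0124.result X _ (isTorsion_cokernel_push j hS) p c
  · intro S hS _ φ
    haveI := hS.epi_g
    let adj := EtCoh.pullPushAdj j
    let φ' : (EtCoh.pull j).obj (EtCoh.const X ℤ) ⟶ S.X₃ := (adj.homAddEquiv _ _).symm φ
    obtain ⟨n, hn, ψ', hψ'⟩ := exists_nsmul_lift_hom S.g ((pullConst j ℤ).inv ≫ φ')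
    refine ⟨n, hn, adj.homAddEquiv _ _ ((pullConst j ℤ).hom ≫ ψ'), ?_⟩
    have h1 : adj.homAddEquiv _ _ ((pullConst j ℤ).hom ≫ ψ') ≫ (EtCoh.push j).map S.g =
        adj.homAddEquiv _ _ (((pullConst j ℤ).hom ≫ ψ') ≫ S.g) :=
      (adj.homEquiv_naturality_right _ _).symm
    rw [h1, Category.assoc, hψ', Preadditive.comp_nsmul, Iso.hom_inv_id_assoc, map_nsmul]
    congr 1
    exact (adj.homAddEquiv _ _).apply_symm_apply φ

end Groth.Agent.H69.SkyPushTorsion
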