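import Groth.Agent.H69.IndEtPoint
import Groth.Agent.H3.HensUnion
import Groth.Prelude.Def_Hens2

/-!
# Specialization arrows between strict localizations (helper69)
-/

set_option autoImplicit false
set_option backward.isDefEq.respectTransparency.types false
universe u
open CategoryTheory CategoryTheory.Limits AlgebraicGeometry Opposite IsLocalRing

namespace Groth.Agent.H69.StrictLocSpec

variable (X : Scheme.{u}) (x x' : X)
  (R : Type u) [CommRing R] [Algebra (X.presheaf.stalk x) R]
  (R' : Type u) [CommRing R'] [IsLocalRing R'] [Algebra (X.presheaf.stalk x') R']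
  [IsLocalHom (algebraMap (X.presheaf.stalk x') R')]

/-- the closed point of `Spec R'` lies over `x'` -/
lemma specOf_closedPoint : (Hens2.specOf X x' R') (closedPoint R') = x' := by
  rw [Scheme.Hom.comp_apply]
  have h1 : (Spec.map (CommRingCat.ofHom (algebraMap (X.presheaf.stalk x') R'))) (closedPoint R') =
      closedPoint (X.presheaf.stalk x') :=
    IsLocalRing.comap_closedPoint (algebraMap (X.presheaf.stalk x') R')
  rw [h1]
  exact Scheme.fromSpecStalk_closedPoint

/-- any point through which a morphism to `X` factors both ways gives a specialization -/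
lemma specializes_of_point {Y : Scheme.{u}} (a : Y ⟶ Spec (CommRingCat.of R))
    (b : Y ⟶ Spec (CommRingCat.of R')) (y : Y) (hy : b y = closedPoint R')
    (h : a ≫ Hens2.specOf X x R = b ≫ Hens2.specOf X x' R') : x' ⤳ x := by
  have h1 : (a ≫ Hens2.specOf X x R) y = x' := by
    rw [h, Scheme.Hom.comp_apply, hy]
    exact specOf_closedPoint X x' R'
  have h2 : (a ≫ Hens2.specOf X x R) y ∈ Set.range (X.fromSpecStalk x) := by
    rw [Scheme.Hom.comp_apply, Scheme.Hom.comp_apply]
    exact ⟨_, rfl⟩
  rw [Scheme.range_fromSpecStalk, h1] at h2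
  exact h2

section Corr

variable {X x x'} (hsp : x' ⤳ x)

/-- the ring map `O_{X,x} → R'` through the specialization map -/
noncomputable def baseHom : X.presheaf.stalk x →+* R' :=
  (algebraMap (X.presheaf.stalk x') R').comp (X.presheaf.stalkSpecializes hsp).hom

omit [IsLocalRing R'] [IsLocalHom (algebraMap (X.presheaf.stalk x') R')] in
/-- morphisms over `X` correspond to ring maps over `O_{X,x}` -/
lemma comp_specOf_eq_iff {S : Type u} [CommRing S] (φ : R →+* S) (β : X.presheaf.stalk x' →+* S) :
    Spec.map (CommRingCat.ofHom φ) ≫ Hens2.specOf X x R =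
        Spec.map (CommRingCat.ofHom β) ≫ X.fromSpecStalk x' ↔
      φ.comp (algebraMap (X.presheaf.stalk x) R) =
        β.comp (X.presheaf.stalkSpecializes hsp).hom := by
  have h1 : Spec.map (CommRingCat.ofHom φ) ≫ Hens2.specOf X x R =
      Spec.map (CommRingCat.ofHom (φ.comp (algebraMap (X.presheaf.stalk x) R))) ≫
        X.fromSpecStalk x := by
    change Spec.map (CommRingCat.ofHom φ) ≫
      Spec.map (CommRingCat.ofHom (algebraMap (X.presheaf.stalk x) R)) ≫ X.fromSpecStalk x = _
    rw [← Category.assoc, ← Spec.map_comp]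
    rfl
  have h2 : Spec.map (CommRingCat.ofHom β) ≫ X.fromSpecStalk x' =
      Spec.map (CommRingCat.ofHom (β.comp (X.presheaf.stalkSpecializes hsp).hom)) ≫
        X.fromSpecStalk x := by
    rw [← Scheme.SpecMap_stalkSpecializes_fromSpecStalk hsp, ← Category.assoc, ← Spec.map_comp]
    rfl
  rw [h1, h2, cancel_mono]
  constructor
  · intro h
    have := Spec.map_injective h
    exact congrArg CommRingCat.Hom.hom this
  · intro h
    rw [h]

end Corr

section Main

open Groth.Agent.H3 Groth.Agent.H69.IndEtHom Groth.Agent.H69.IndEtPoint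

variable (X : Scheme.{u}) (x x' : X)
  (R : Type u) [CommRing R] [IsLocalRing R] [Algebra (X.presheaf.stalk x) R]
  [IsLocalHom (algebraMap (X.presheaf.stalk x) R)]
  [Hensel.IsStrictHenselization (X.presheaf.stalk x) R]
  (R' : Type u) [CommRing R'] [IsLocalRing R'] [Algebra (X.presheaf.stalk x') R']
  [IsLocalHom (algebraMap (X.presheaf.stalk x') R')]
  [Hensel.IsStrictHenselization (X.presheaf.stalk x') R']

/-- ring maps `R → R'` over the specialization map with prescribed residue map -/
theorem exists_ringHom_of_residue (hsp : x' ⤳ x) (χ₀ : R →+* ResidueField R')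
    (hχ₀ : χ₀.comp (algebraMap (X.presheaf.stalk x) R) =
      (residue R').comp (baseHom R' hsp)) :
    ∃ φ : R →+* R', φ.comp (algebraMap (X.presheaf.stalk x) R) = baseHom R' hsp ∧
      (residue R').comp φ = χ₀ := by
  have hT : HenselianLocalRing R' :=
    Hensel.IsStrictHenselization.henselian (R := X.presheaf.stalk x') (S := R')
  obtain ⟨hU, hff⟩ := HensUnion.package (R := X.presheaf.stalk x) (S := R) (Or.inr inferInstance)
  let _ : Algebra (X.presheaf.stalk x) R' := (baseHom R' hsp).toAlgebra
  let χ : R →ₐ[X.presheaf.stalk x] ResidueField R' :=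
    { χ₀ with
      commutes' := fun a => congrArg (fun f : X.presheaf.stalk x →+* ResidueField R' => f a) hχ₀ }
  refine ⟨(liftHom χ hU).toRingHom, ?_, ?_⟩
  · ext a
    exact (liftHom χ hU).commutes a
  · ext r
    exact residue_liftHom χ hU r

theorem ringHom_ext_of_residue (hsp : x' ⤳ x) (φ₁ φ₂ : R →+* R')
    (h₁ : φ₁.comp (algebraMap (X.presheaf.stalk x) R) = baseHom R' hsp)
    (h₂ : φ₂.comp (algebraMap (X.presheaf.stalk x) R) = baseHom R' hsp)
    (h : (residue R').comp φ₁ = (residue R').comp φ₂) : φ₁ = φ₂ := by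
  have hT : HenselianLocalRing R' :=
    Hensel.IsStrictHenselization.henselian (R := X.presheaf.stalk x') (S := R')
  obtain ⟨hU, hff⟩ := HensUnion.package (R := X.presheaf.stalk x) (S := R) (Or.inr inferInstance)
  let _ : Algebra (X.presheaf.stalk x) R' := (baseHom R' hsp).toAlgebra
  let ψ₁ : R →ₐ[X.presheaf.stalk x] R' :=
    { φ₁ with commutes' := fun a => congrArg (fun f : X.presheaf.stalk x →+* R' => f a) h₁ }
  let ψ₂ : R →ₐ[X.presheaf.stalk x] R' :=
    { φ₂ with commutes' := fun a => congrArg (fun f : X.presheaf.stalk x →+* R' => f a) h₂ }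
  have := algHom_ext_of_residue hU ψ₁ ψ₂
    (fun r => congrArg (fun f : R →+* ResidueField R' => f r) h)
  ext r
  exact congrArg (fun f : R →ₐ[X.presheaf.stalk x] R' => f r) this

theorem exists_ringHom (hsp : x' ⤳ x) :
    ∃ φ : R →+* R', φ.comp (algebraMap (X.presheaf.stalk x) R) = baseHom R' hsp := by
  have hsc : IsSepClosed (ResidueField R') :=
    (Hensel.IsStrictHenselization.isSepClosure (R := X.presheaf.stalk x') (S := R')).sep_closed
  obtain ⟨hU, hff⟩ := HensUnion.package (R := X.presheaf.stalk x) (S := R) (Or.inr inferInstance)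
  let _ : Algebra (X.presheaf.stalk x) (ResidueField R') :=
    ((residue R').comp (baseHom R' hsp)).toAlgebra
  obtain ⟨χ⟩ := exists_algHom_of_isSepClosed (A := X.presheaf.stalk x) (R := R) hU
    (ResidueField R')
  obtain ⟨φ, hφ, -⟩ := exists_ringHom_of_residue X x x' R R' hsp χ.toRingHom (by
    ext a
    exact χ.commutes a)
  exact ⟨φ, hφ⟩

/-- every morphism `Spec S ⟶ Spec R` is `Spec.map` of a ring map -/
lemma eq_specMap {S : Type u} [CommRing S] (g : Spec (CommRingCat.of S) ⟶ Spec (CommRingCat.of R)) :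
    g = Spec.map (CommRingCat.ofHom (Spec.preimage g).hom) := by
  have : CommRingCat.ofHom (Spec.preimage g).hom = Spec.preimage g := rfl
  rw [this, Spec.map_preimage]

omit [IsLocalRing R] [IsLocalHom (algebraMap (X.presheaf.stalk x) R)]
  [Hensel.IsStrictHenselization (X.presheaf.stalk x) R]
  [Hensel.IsStrictHenselization (X.presheaf.stalk x') R'] in
lemma specOf_eq : Hens2.specOf X x' R' =
    Spec.map (CommRingCat.ofHom (algebraMap (X.presheaf.stalk x') R')) ≫ X.fromSpecStalk x' := rfl

omit [IsLocalRing R] [IsLocalHom (algebraMap (X.presheaf.stalk x) R)]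
  [Hensel.IsStrictHenselization (X.presheaf.stalk x) R]
  [Hensel.IsStrictHenselization (X.presheaf.stalk x') R'] in
lemma geomPt_eq : Hens2.geomPt X x' R' =
    Spec.map (CommRingCat.ofHom ((residue R').comp (algebraMap (X.presheaf.stalk x') R'))) ≫
      X.fromSpecStalk x' := by
  change Spec.map (CommRingCat.ofHom (residue R')) ≫
    Spec.map (CommRingCat.ofHom (algebraMap (X.presheaf.stalk x') R')) ≫ X.fromSpecStalk x' = _
  rw [← Category.assoc, ← Spec.map_comp]
  rfl

/-- **S5593** -/
theorem exists_iff_specializes :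
    (∃ g : Spec (CommRingCat.of R') ⟶ Spec (CommRingCat.of R),
      g ≫ Hens2.specOf X x R = Hens2.specOf X x' R') ↔ x' ⤳ x := by
  constructor
  · rintro ⟨g, hg⟩
    exact specializes_of_point X x x' R R' g (𝟙 _) (closedPoint R') rfl
      (hg.trans (Category.id_comp _).symm)
  · intro hsp
    obtain ⟨φ, hφ⟩ := exists_ringHom X x x' R R' hsp
    refine ⟨Spec.map (CommRingCat.ofHom φ), ?_⟩
    rw [specOf_eq X x' R']
    exact (comp_specOf_eq_iff R hsp φ (algebraMap (X.presheaf.stalk x') R')).2 hφ

/-- **S5594**, injectivity -/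
theorem restrict_injective (g₁ g₂ : Spec (CommRingCat.of R') ⟶ Spec (CommRingCat.of R))
    (h₁ : g₁ ≫ Hens2.specOf X x R = Hens2.specOf X x' R')
    (h₂ : g₂ ≫ Hens2.specOf X x R = Hens2.specOf X x' R')
    (h : Spec.map (CommRingCat.ofHom (residue R')) ≫ g₁ =
      Spec.map (CommRingCat.ofHom (residue R')) ≫ g₂) : g₁ = g₂ := by
  have hsp : x' ⤳ x := (exists_iff_specializes X x x' R R').1 ⟨g₁, h₁⟩
  rw [eq_specMap R g₁] at h₁ h ⊢
  rw [eq_specMap R g₂] at h₂ h ⊢
  rw [specOf_eq X x' R'] at h₁ h₂
  have e₁ := (comp_specOf_eq_iff R hsp _ (algebraMap (X.presheaf.stalk x') R')).1 h₁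
  have e₂ := (comp_specOf_eq_iff R hsp _ (algebraMap (X.presheaf.stalk x') R')).1 h₂
  rw [← Spec.map_comp, ← Spec.map_comp] at h
  have h' := congrArg CommRingCat.Hom.hom (Spec.map_injective h)
  have key := ringHom_ext_of_residue X x x' R R' hsp _ _ e₁ e₂ h'
  rw [key]

/-- **S5594**, surjectivity -/
theorem restrict_surjective
    (h : Spec (CommRingCat.of (ResidueField R')) ⟶ Spec (CommRingCat.of R))
    (hh : h ≫ Hens2.specOf X x R = Hens2.geomPt X x' R') :
    ∃ g : Spec (CommRingCat.of R') ⟶ Spec (CommRingCat.of R),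
      g ≫ Hens2.specOf X x R = Hens2.specOf X x' R' ∧
      Spec.map (CommRingCat.ofHom (residue R')) ≫ g = h := by
  have hsp : x' ⤳ x := by
    refine specializes_of_point X x x' R R' h (Spec.map (CommRingCat.ofHom (residue R')))
      default ?_ hh
    exact IsLocalRing.PrimeSpectrum.comap_residue R' _
  rw [eq_specMap R h] at hh ⊢
  rw [geomPt_eq X x' R'] at hh
  have e := (comp_specOf_eq_iff R hsp _ _).1 hh
  obtain ⟨φ, hφ, hres⟩ := exists_ringHom_of_residue X x x' R R' hsp _ (by
    rw [e]; rfl)
  refine ⟨Spec.map (CommRingCat.ofHom φ), ?_, ?_⟩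
  · rw [specOf_eq X x' R']
    exact (comp_specOf_eq_iff R hsp φ (algebraMap (X.presheaf.stalk x') R')).2 hφ
  · rw [← Spec.map_comp]
    congr 1
    exact congrArg CommRingCat.ofHom hres

end Main

end Groth.Agent.H69.StrictLocSpec
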