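import Groth.Agent.H69.UnibranchStalk
import Groth.Agent.H21.ConstUnitGeom
import Groth.Agent.H69.FieldConstH1

/-!
# Étale schemes over an irreducible geometrically unibranch scheme (helper69)

* `exists_nhd_finite_inter_fibre`: finiteness of the generic fibre locally (irreducible base).
* `eq_of_specializes_of_generic`: two points of the generic fibre specializing to a point with irreducible
  local spectrum coincide.
* `exists_nhd_unique_generic`: every point has an open neighbourhood with at most one point over the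
  generic point.
* `isIso_unit_cst`: `M_X → f_* f^* M_X` is an isomorphism for `f : Spec κ(η) ⟶ X`.
* `H1_cst_subsingleton`: `H¹(X, M_X) = 0` for `M` torsion-free.
-/

set_option autoImplicit false
set_option backward.isDefEq.respectTransparency.types false
set_option linter.style.haveILetI false
universe u
open CategoryTheory CategoryTheory.Limits AlgebraicGeometry IsLocalRing

namespace Groth.Agent.H69.UnibranchNbhd

variable {V X : Scheme.{u}} (g : V ⟶ X) [Etale g]

/-- Every point has a neighbourhood meeting the generic fibre in a finite set. -/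
theorem exists_nhd_finite_inter_fibre [IrreducibleSpace X] (v : V) :
    ∃ N : V.Opens, v ∈ N ∧ ((N : Set V) ∩ g ⁻¹' {genericPoint X}).Finite := by
  obtain ⟨_, ⟨U₀, hU₀, rfl⟩, hsV, -⟩ :=
    X.isBasis_affineOpens.exists_subset_of_mem_open (Set.mem_univ (g v)) isOpen_univ
  obtain ⟨_, ⟨N, hN0, rfl⟩, hxN, hNV⟩ :=
    V.isBasis_affineOpens.exists_subset_of_mem_open (show v ∈ (g ⁻¹ᵁ U₀ : Set V) from hsV)
      (g ⁻¹ᵁ U₀).isOpen
  have hV : IsAffineOpen U₀ := hU₀
  have hN : IsAffineOpen N := hN0
  have e : N ≤ g ⁻¹ᵁ U₀ := hNV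
  refine ⟨N, hxN, ?_⟩
  have : IsAffine (N : Scheme.{u}) := hN
  have : IsAffine (U₀ : Scheme.{u}) := hV
  have hEt : Etale (g.resLE U₀ N e) := by
    refine MorphismProperty.of_postcomp (W := @Etale) (W' := @Etale) (g.resLE U₀ N e)
      (Scheme.Opens.ι U₀) inferInstance ?_
    rw [Scheme.Hom.resLE_comp_ι]
    infer_instance
  have hqf : LocallyQuasiFinite (g.resLE U₀ N e) :=
    Groth.Agent.H21.EtNbhd.locallyQuasiFinite_of_unramified' _
  have hηV : genericPoint X ∈ U₀ :=
    ((genericPoint_spec X).mem_open_set_iff U₀.isOpen).mpr ⟨g v, ⟨Set.mem_univ _, hsV⟩⟩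
  have hfin := (g.resLE U₀ N e).finite_preimage_singleton ⟨genericPoint X, hηV⟩
  refine (hfin.image (Scheme.Opens.ι N)).subset ?_
  rintro t ⟨htN, htη⟩
  have htr : t ∈ Set.range (Scheme.Opens.ι N) := by
    rw [Scheme.Opens.range_ι]; exact htN
  obtain ⟨y, rfl⟩ := htr
  refine ⟨y, ?_, rfl⟩
  simp only [Set.mem_preimage, Set.mem_singleton_iff]
  apply (Scheme.Opens.ι U₀).injective
  rw [← Scheme.Hom.comp_apply, Scheme.Hom.resLE_comp_ι, Scheme.Hom.comp_apply]
  exact htη

/-- two points of the generic fibre specializing to a point with irreducible local spectrum coincide -/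
theorem eq_of_specializes_of_generic [IrreducibleSpace X] (v : V)
    (hirr : IrreducibleSpace (PrimeSpectrum (V.presheaf.stalk v))) {w₁ w₂ : V}
    (h₁ : g w₁ = genericPoint X) (h₂ : g w₂ = genericPoint X) (s₁ : w₁ ⤳ v) (s₂ : w₂ ⤳ v) :
    w₁ = w₂ := by
  have hqf : LocallyQuasiFinite g := Groth.Agent.H21.EtNbhd.locallyQuasiFinite_of_unramified' _
  haveI : IrreducibleSpace ↥(Spec (V.presheaf.stalk v)) := hirr
  let q₀ : ↥(Spec (V.presheaf.stalk v)) := genericPoint _
  let w₀ : V := V.fromSpecStalk v q₀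
  have key : ∀ w : V, g w = genericPoint X → w ⤳ v → w₀ = w := by
    intro w hw hs
    have hmem : w ∈ Set.range (V.fromSpecStalk v) := by
      rw [Scheme.range_fromSpecStalk]
      exact hs
    obtain ⟨p, rfl⟩ := hmem
    have hsp : q₀ ⤳ p := genericPoint_specializes p
    have hsp' : w₀ ⤳ V.fromSpecStalk v p := hsp.map (V.fromSpecStalk v).continuous
    have hg : g w₀ ⤳ g (V.fromSpecStalk v p) := hsp'.map g.continuous
    rw [hw] at hg
    have hg0 : g w₀ = genericPoint X :=
      (hg.antisymm (genericPoint_specializes _)).eq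
    exact Groth.Agent.H21.FEtNormal.eq_of_specializes_of_mem_fibre g _ hg0 hw hsp'
  exact (key w₁ h₁ s₁).symm.trans (key w₂ h₂ s₂)

/-- every point has an open neighbourhood with at most one point over the generic point -/
theorem exists_nhd_unique_generic [IrreducibleSpace X] (v : V)
    (hirr : IrreducibleSpace (PrimeSpectrum (V.presheaf.stalk v))) :
    ∃ (W : V.Opens) (t : V), v ∈ W ∧ ∀ w ∈ W, g w = genericPoint X → w = t := by
  classical
  obtain ⟨N, hvN, hfin⟩ := exists_nhd_finite_inter_fibre g v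
  let F' : Set V := {w | w ∈ (N : Set V) ∩ g ⁻¹' {genericPoint X} ∧ ¬ w ⤳ v}
  have hF' : F'.Finite := hfin.subset (fun w hw => hw.1)
  have hcl : IsClosed (⋃ w ∈ F', closure ({w} : Set V)) :=
    hF'.isClosed_biUnion (fun _ _ => isClosed_closure)
  let W : V.Opens := N ⊓ ⟨(⋃ w ∈ F', closure ({w} : Set V))ᶜ, hcl.isOpen_compl⟩
  have hvW : v ∈ W := by
    refine ⟨hvN, ?_⟩
    change v ∈ (⋃ w ∈ F', closure ({w} : Set V))ᶜ
    simp only [Set.mem_compl_iff, Set.mem_iUnion, exists_prop, not_exists, not_and]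
    intro w hw hv
    exact hw.2 (specializes_iff_mem_closure.mpr hv)
  have hsp : ∀ w ∈ W, g w = genericPoint X → w ⤳ v := by
    intro w hw hgw
    by_contra hns
    have hwF : w ∈ F' := ⟨⟨hw.1, hgw⟩, hns⟩
    have h2 : w ∈ (⋃ w ∈ F', closure ({w} : Set V))ᶜ := hw.2
    apply h2
    simp only [Set.mem_iUnion, exists_prop]
    exact ⟨w, hwF, subset_closure rfl⟩
  by_cases hex : ∃ t : V, g t = genericPoint X ∧ t ⤳ v
  · obtain ⟨t, ht, hts⟩ := hex
    refine ⟨W, t, hvW, fun w hw hgw => ?_⟩
    exact eq_of_specializes_of_generic g v hirr hgw ht (hsp w hw hgw) hts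
  · refine ⟨W, v, hvW, fun w hw hgw => ?_⟩
    exact (hex ⟨w, hgw, hsp w hw hgw⟩).elim

section Coh

open Groth.Agent.H21.ConstSec Groth.Agent.H21.ConstUnit

/-- `M_X → f_* f^* M_X` is an isomorphism for the inclusion `f` of the generic point of an irreducible
geometrically unibranch scheme -/
theorem isIso_unit_cst (X : Scheme.{u}) [IrreducibleSpace X]
    (hX : ∀ (x : X) (R : Type u) [CommRing R] [IsLocalRing R] [Algebra (X.presheaf.stalk x) R]
      [IsLocalHom (algebraMap (X.presheaf.stalk x) R)]
      [Hensel.IsStrictHenselization (X.presheaf.stalk x) R],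
      IrreducibleSpace (PrimeSpectrum R)) (M : AddCommGrpCat.{u + 1}) :
    IsIso ((EtCoh.pullPushAdj (X.fromSpecResidueField (genericPoint X))).unit.app (cst X M)) := by
  apply isIso_unit_of_geom
  · show Dense (Set.range (X.fromSpecResidueField (genericPoint X)))
    rw [Scheme.range_fromSpecResidueField]
    exact dense_iff_closure_eq.2 (genericPoint_spec X)
  · intro V v
    let gV : V.left ⟶ X := V.hom
    haveI : Etale gV := V.prop
    obtain ⟨W, t, hvW, hW⟩ := exists_nhd_unique_generic gV v
      (UnibranchStalk.irreducibleSpace_stalk gV v (hX _))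
    refine ⟨W, hvW, Groth.Agent.H21.ConstUnitGeom.preconnected_pullback_of_isPreimmersion gV _ W t ?_⟩
    intro w hw hwf
    rw [Scheme.range_fromSpecResidueField] at hwf
    exact hW w hw hwf

/-- `H¹(X, M_X) = 0` for `X` irreducible geometrically unibranch and `M` torsion-free -/
theorem H1_cst_subsingleton (X : Scheme.{u}) [IrreducibleSpace X]
    (hX : ∀ (x : X) (R : Type u) [CommRing R] [IsLocalRing R] [Algebra (X.presheaf.stalk x) R]
      [IsLocalHom (algebraMap (X.presheaf.stalk x) R)]
      [Hensel.IsStrictHenselization (X.presheaf.stalk x) R],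
      IrreducibleSpace (PrimeSpectrum R)) (M : AddCommGrpCat.{u + 1}) [IsAddTorsionFree M] :
    Subsingleton (EtCoh.H X (cst X M) 1) := by
  let f := X.fromSpecResidueField (genericPoint X)
  haveI := isIso_unit_cst X hX M
  let i1 : cst X M ≅ (EtCoh.push f).obj ((EtCoh.pull f).obj (cst X M)) :=
    asIso ((EtCoh.pullPushAdj f).unit.app (cst X M))
  let i2 : (EtCoh.pull f).obj (cst X M) ≅ cst _ M := (e f).app M
  have h1 := Groth.Agent.H69.FieldConstH1.H1_cst_subsingleton_of_field
    (X.residueField (genericPoint X)) M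
  have h2 := Groth.Agent.H69.FieldConstH1.H1_push_subsingleton f _ h1
  exact Groth.Agent.H21.SepClosedCoh.subsingleton_ext_of_iso_right
    (i1 ≪≫ (EtCoh.push f).mapIso i2) 1 h2

end Coh

end Groth.Agent.H69.UnibranchNbhd
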