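import Groth.Agent.H14.HensProp.EtStalk
import Groth.Agent.H14.HensProp.EssEtSH
import Groth.Agent.H3.StrictHensUnique
import Groth.Agent.H69.IndEtPoint
import Groth.Agent.H69.IndEtHom

/-!
# Local rings of étale schemes over a geometrically unibranch point (helper69)

* `stalk_props`: for an étale morphism `g : V ⟶ X` and `v : V`, the local ring `O_{V,v}` is a flat union of
  étale images, essentially of finite type and formally unramified over `O_{X,g v}`.
* `irreducibleSpace_stalk`: if the strict henselizations of `O_{X,g v}` have irreducible spectrum, then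
  `Spec O_{V,v}` is irreducible.
-/

set_option autoImplicit false
set_option backward.isDefEq.respectTransparency.types false
set_option linter.style.haveILetI false
universe u
open CategoryTheory AlgebraicGeometry IsLocalRing

namespace Groth.Agent.H69.UnibranchStalk

open Groth.Agent.H3.UnionEtale

variable {V X : Scheme.{u}} (g : V ⟶ X) [Etale g]

theorem stalk_props (v : V) :
    letI := (g.stalkMap v).hom.toAlgebra
    Module.Flat (X.presheaf.stalk (g v)) (V.presheaf.stalk v) ∧
    IsUnion (X.presheaf.stalk (g v)) (V.presheaf.stalk v) ∧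
    Algebra.EssFiniteType (X.presheaf.stalk (g v)) (V.presheaf.stalk v) ∧
    Algebra.FormallyUnramified (X.presheaf.stalk (g v)) (V.presheaf.stalk v) := by
  letI := (g.stalkMap v).hom.toAlgebra
  have hfl : (g.stalkMap v).hom.Flat := Flat.stalkMap g v
  obtain ⟨_, ⟨U₀, hU₀, rfl⟩, hyU, -⟩ :=
    X.isBasis_affineOpens.exists_subset_of_mem_open (Set.mem_univ (g v)) isOpen_univ
  obtain ⟨_, ⟨W, hW, rfl⟩, hvW, hWU⟩ :=
    V.isBasis_affineOpens.exists_subset_of_mem_open hyU (U₀.2.preimage g.continuous)
  have hQ : (g.appLE U₀ W hWU).hom.Etale :=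
    HasRingHomProperty.appLE @Etale g inferInstance ⟨U₀, hU₀⟩ ⟨W, hW⟩ hWU
  have hyU' : g v ∈ U₀ := hyU
  letI algRC : Algebra Γ(X, U₀) Γ(V, W) := (g.appLE U₀ W hWU).hom.toAlgebra
  haveI : Algebra.Etale Γ(X, U₀) Γ(V, W) := hQ
  letI algRA : Algebra Γ(X, U₀) (X.presheaf.stalk (g v)) :=
    (X.presheaf.germ U₀ (g v) hyU').hom.toAlgebra
  letI algCS : Algebra Γ(V, W) (V.presheaf.stalk v) :=
    TopCat.Presheaf.algebra_section_stalk V.presheaf (⟨v, hvW⟩ : W)
  letI algRS : Algebra Γ(X, U₀) (V.presheaf.stalk v) :=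
    ((g.stalkMap v).hom.comp (X.presheaf.germ U₀ (g v) hyU').hom).toAlgebra
  haveI : IsScalarTower Γ(X, U₀) (X.presheaf.stalk (g v)) (V.presheaf.stalk v) :=
    IsScalarTower.of_algebraMap_eq' rfl
  have heq : X.presheaf.germ U₀ (g v) hyU' ≫ g.stalkMap v =
      g.appLE U₀ W hWU ≫ V.presheaf.germ W v hvW := by
    refine (Scheme.Hom.germ_stalkMap g U₀ v hyU).trans ?_
    rw [Scheme.Hom.appLE, Category.assoc, TopCat.Presheaf.germ_res]
  haveI : IsScalarTower Γ(X, U₀) Γ(V, W) (V.presheaf.stalk v) :=
    IsScalarTower.of_algebraMap_eq' (by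
      have := congrArg CommRingCat.Hom.hom heq
      exact this)
  haveI hloc : IsLocalization (hW.primeIdealOf ⟨v, hvW⟩).asIdeal.primeCompl
      (V.presheaf.stalk v) := IsAffineOpen.isLocalization_stalk hW ⟨v, hvW⟩
  refine ⟨hfl, ?_, ?_, ?_⟩
  · exact Groth.Agent.H14.HensProp.EtLoc.isUnion_of_isLocalization Γ(X, U₀)
      (X.presheaf.stalk (g v)) Γ(V, W) (V.presheaf.stalk v)
      (hW.primeIdealOf ⟨v, hvW⟩).asIdeal.primeCompl
  · haveI : Algebra.EssFiniteType Γ(V, W) (V.presheaf.stalk v) :=
      Algebra.EssFiniteType.of_isLocalization _ (hW.primeIdealOf ⟨v, hvW⟩).asIdeal.primeCompl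
    haveI : Algebra.EssFiniteType Γ(X, U₀) (V.presheaf.stalk v) :=
      Algebra.EssFiniteType.comp Γ(X, U₀) Γ(V, W) _
    exact Algebra.EssFiniteType.of_comp Γ(X, U₀) (X.presheaf.stalk (g v)) _
  · haveI : Algebra.FormallyUnramified Γ(V, W) (V.presheaf.stalk v) :=
      Algebra.FormallyUnramified.of_isLocalization (hW.primeIdealOf ⟨v, hvW⟩).asIdeal.primeCompl
    haveI : Algebra.FormallyUnramified Γ(X, U₀) (V.presheaf.stalk v) :=
      Algebra.FormallyUnramified.comp Γ(X, U₀) Γ(V, W) _
    exact Algebra.FormallyUnramified.of_restrictScalars Γ(X, U₀) (X.presheaf.stalk (g v)) _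

/-- an algebra map from a local `A`-algebra to a field integral over `A` kills the maximal ideal -/
lemma ker_eq_maximalIdeal {A B Ω : Type u} [CommRing A] [CommRing B] [IsLocalRing B] [Field Ω]
    [Algebra A B] [Algebra A Ω] [Algebra.IsIntegral A Ω] (χ : B →ₐ[A] Ω) :
    RingHom.ker χ.toRingHom = maximalIdeal B := by
  let ψ : B ⧸ RingHom.ker χ.toRingHom →+* Ω := RingHom.kerLift χ.toRingHom
  have hψ : Function.Injective ψ := RingHom.kerLift_injective χ.toRingHom
  letI : Algebra (B ⧸ RingHom.ker χ.toRingHom) Ω := ψ.toAlgebra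
  haveI : IsScalarTower A (B ⧸ RingHom.ker χ.toRingHom) Ω :=
    IsScalarTower.of_algebraMap_eq (fun a => by
      change algebraMap A Ω a = ψ (Ideal.Quotient.mk _ (algebraMap A B a))
      rw [RingHom.kerLift_mk]
      exact (χ.commutes a).symm)
  haveI : Algebra.IsIntegral (B ⧸ RingHom.ker χ.toRingHom) Ω :=
    Algebra.IsIntegral.tower_top (R := A)
  have hK : IsField (B ⧸ RingHom.ker χ.toRingHom) :=
    isField_of_isIntegral_of_isField hψ (Field.toIsField Ω)
  have hmax : (RingHom.ker χ.toRingHom).IsMaximal := Ideal.Quotient.maximal_of_isField _ hK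
  exact IsLocalRing.eq_maximalIdeal hmax

/-- **Irreducibility of the local rings of étale schemes over a geometrically unibranch point.** -/
theorem irreducibleSpace_stalk (v : V)
    (hX : ∀ (R : Type u) [CommRing R] [IsLocalRing R] [Algebra (X.presheaf.stalk (g v)) R]
      [IsLocalHom (algebraMap (X.presheaf.stalk (g v)) R)]
      [Hensel.IsStrictHenselization (X.presheaf.stalk (g v)) R],
      IrreducibleSpace (PrimeSpectrum R)) :
    IrreducibleSpace (PrimeSpectrum (V.presheaf.stalk v)) := by
  letI algAB : Algebra (X.presheaf.stalk (g v)) (V.presheaf.stalk v) :=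
    (g.stalkMap v).hom.toAlgebra
  have hloc : IsLocalHom (algebraMap (X.presheaf.stalk (g v)) (V.presheaf.stalk v)) :=
    inferInstanceAs (IsLocalHom (g.stalkMap v).hom)
  obtain ⟨hfl, hU, hEss, hUnr⟩ := stalk_props g v
  -- the strict henselization of the base
  let S := Groth.Agent.H3.SH.S (X.presheaf.stalk (g v))
  have hS : Hensel.IsStrictHenselization (X.presheaf.stalk (g v)) S :=
    Groth.Agent.H3.SH.isStrictHenselization (X.presheaf.stalk (g v))
  have hSirr : IrreducibleSpace (PrimeSpectrum S) := hX S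
  haveI hhens : HenselianLocalRing S := hS.henselian
  haveI hsc : IsSepClosed (ResidueField S) :=
    (hS.isSepClosure).sep_closed
  haveI hff : Module.FaithfullyFlat (X.presheaf.stalk (g v)) (V.presheaf.stalk v) :=
    Module.FaithfullyFlat.of_flat_of_isLocalHom
  obtain ⟨χ⟩ := Groth.Agent.H69.IndEtPoint.exists_algHom_of_isSepClosed hU (ResidueField S)
  -- integrality of the residue field of `S` over the base
  haveI hsep : Algebra.IsSeparable (ResidueField (X.presheaf.stalk (g v))) (ResidueField S) :=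
    (hS.isSepClosure).separable
  haveI hint1 : Algebra.IsIntegral (ResidueField (X.presheaf.stalk (g v))) (ResidueField S) :=
    Algebra.IsAlgebraic.isIntegral
  haveI hint0 : Algebra.IsIntegral (X.presheaf.stalk (g v))
      (ResidueField (X.presheaf.stalk (g v))) :=
    ⟨fun y => by
      obtain ⟨a, rfl⟩ := IsLocalRing.residue_surjective y
      exact isIntegral_algebraMap⟩
  haveI hint : Algebra.IsIntegral (X.presheaf.stalk (g v)) (ResidueField S) :=
    Algebra.IsIntegral.trans (ResidueField (X.presheaf.stalk (g v)))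
  have hker := ker_eq_maximalIdeal χ
  -- the lift
  let φ : V.presheaf.stalk v →ₐ[X.presheaf.stalk (g v)] S :=
    Groth.Agent.H69.IndEtHom.liftHom χ hU
  have hφ : ∀ b, residue S (φ b) = χ b := Groth.Agent.H69.IndEtHom.residue_liftHom χ hU
  letI algBS : Algebra (V.presheaf.stalk v) S := φ.toRingHom.toAlgebra
  haveI : IsScalarTower (X.presheaf.stalk (g v)) (V.presheaf.stalk v) S :=
    IsScalarTower.of_algebraMap_eq (fun a => (φ.commutes a).symm)
  haveI : IsLocalHom (algebraMap (V.presheaf.stalk v) S) := by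
    constructor
    intro b hb
    change IsUnit (φ b) at hb
    by_contra hnb
    have h1 : b ∈ maximalIdeal (V.presheaf.stalk v) := (IsLocalRing.mem_maximalIdeal b).2 hnb
    rw [← hker] at h1
    have h2 : χ b = 0 := h1
    have h3 : residue S (φ b) = 0 := (hφ b).trans h2
    rw [residue_eq_zero_iff] at h3
    exact ((IsLocalRing.mem_maximalIdeal _).1 h3) hb
  have hBS : Hensel.IsStrictHenselization (V.presheaf.stalk v) S :=
    Groth.Agent.H14.HensProp.EssEtSH.isStrictHenselization_of_tower
      (X.presheaf.stalk (g v)) S (V.presheaf.stalk v) hS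
  haveI : Module.FaithfullyFlat (V.presheaf.stalk v) S :=
    Groth.Agent.H3.SH.faithfullyFlat (V.presheaf.stalk v) hBS
  have hsurj : Function.Surjective (PrimeSpectrum.comap (algebraMap (V.presheaf.stalk v) S)) :=
    PrimeSpectrum.comap_surjective_of_faithfullyFlat
  rw [irreducibleSpace_def]
  have h1 : IsIrreducible (Set.univ : Set (PrimeSpectrum S)) :=
    (irreducibleSpace_def _).1 hSirr
  have h2 := h1.image (PrimeSpectrum.comap (algebraMap (V.presheaf.stalk v) S))
    (PrimeSpectrum.continuous_comap (algebraMap (V.presheaf.stalk v) S)).continuousOn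
  rwa [Set.image_univ, hsurj.range_eq] at h2

end Groth.Agent.H69.UnibranchStalk
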