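import Groth.Agent.H69.CharPConductor
import Groth.Agent.H69.ChowSN

/-!
# Universal homeomorphisms in characteristic `p` (helper69)

`Spec B → Spec A` with `p = 0` in `B` is a universal homeomorphism iff the kernel is nil and every
element of `B` has a `p`-power in the image.
-/

set_option autoImplicit false
universe u

namespace Groth.Agent.H69.UnivHomeoCharP

open Groth.Agent.H69 CategoryTheory AlgebraicGeometry

variable {A B : Type u} [CommRing A] [CommRing B]

/-- The conductor lemma with the hypothesis `p = 0` (allowing the zero ring). -/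
theorem exists_pow_mem_range' {C D : Type u} [CommRing C] [CommRing D] (g : C →+* D) (p : ℕ)
    [hp : Fact p.Prime] (hp0 : (p : D) = 0) (hfin : g.Finite)
    (hspec : Function.Injective (PrimeSpectrum.comap g))
    (hres : ∀ (P : PrimeSpectrum D) (x : D),
      ∃ (n : ℕ) (c s : C), g s ∉ P.asIdeal ∧ g s * x ^ p ^ n - g c ∈ P.asIdeal) :
    ∀ x : D, ∃ n : ℕ, x ^ p ^ n ∈ g.range := by
  rcases subsingleton_or_nontrivial D with hD | hD
  · intro x
    exact ⟨0, 0, Subsingleton.elim _ _⟩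
  · haveI : CharP D p := (CharP.charP_iff_prime_eq_zero hp.out).2 hp0
    exact CharPConductor.exists_pow_mem_range g p hfin hspec hres

/-- The pointwise `p`-power statement in residue fields. -/
theorem exists_pow_sub_mem (φ : A →+* B) (p : ℕ) [hp : Fact p.Prime] (hp0 : (p : B) = 0)
    (hext : ∀ (L : Type u) [Field L] (α β : B →+* L), α.comp φ = β.comp φ → α = β)
    (P' : PrimeSpectrum B) (x : B) :
    ∃ (n : ℕ) (c s : A), φ s ∉ P'.asIdeal ∧ φ s * x ^ p ^ n - φ c ∈ P'.asIdeal := by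
  obtain ⟨𝔭, h𝔭⟩ : ∃ 𝔭, 𝔭 = PrimeSpectrum.comap φ P' := ⟨_, rfl⟩
  have h𝔭c : 𝔭.asIdeal = P'.asIdeal.comap φ := by rw [h𝔭]; rfl
  let _ : Algebra 𝔭.asIdeal.ResidueField P'.asIdeal.ResidueField :=
    (Ideal.ResidueField.map 𝔭.asIdeal P'.asIdeal φ h𝔭c).toAlgebra
  have hpi : IsPurelyInseparable 𝔭.asIdeal.ResidueField P'.asIdeal.ResidueField := by
    subst h𝔭
    exact isPurelyInseparable_of_ringHom_ext φ hext P'
  have hmap : ∀ c : A, algebraMap 𝔭.asIdeal.ResidueField P'.asIdeal.ResidueField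
      (algebraMap A 𝔭.asIdeal.ResidueField c) = algebraMap B P'.asIdeal.ResidueField (φ c) := fun c =>
    Ideal.ResidueField.map_algebraMap 𝔭.asIdeal P'.asIdeal φ h𝔭c c
  -- the residue field has characteristic `p`
  have hpκ : ((p : ℕ) : 𝔭.asIdeal.ResidueField) = 0 := by
    have h1 : (p : A) ∈ 𝔭.asIdeal := by
      rw [h𝔭c, Ideal.mem_comap, map_natCast, hp0]
      exact zero_mem _
    have h2 := (Ideal.algebraMap_residueField_eq_zero (I := 𝔭.asIdeal)).2 h1
    rwa [map_natCast] at h2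
  haveI : CharP 𝔭.asIdeal.ResidueField p := (CharP.charP_iff_prime_eq_zero hp.out).2 hpκ
  haveI : ExpChar 𝔭.asIdeal.ResidueField p := ExpChar.prime hp.out
  obtain ⟨n, w, hw⟩ := IsPurelyInseparable.pow_mem 𝔭.asIdeal.ResidueField p
    (algebraMap B P'.asIdeal.ResidueField x)
  obtain ⟨c, s, hs, hcs⟩ := exists_mul_eq_of_residueField 𝔭.asIdeal w
  refine ⟨n, c, s, ?_, ?_⟩
  · intro hgs
    apply hs
    rw [h𝔭c]
    exact hgs
  · rw [← Ideal.algebraMap_residueField_eq_zero, map_sub, map_mul, map_pow, sub_eq_zero, ← hw,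
      ← hmap, ← hmap, ← map_mul, hcs]

/-- If `Spec B → Spec A` is integral, injective and induces purely inseparable residue field
extensions, and `p = 0` in `B`, then every element of `B` has a `p`-power in the image of `A`. -/
theorem exists_pow_mem_range (φ : A →+* B) (p : ℕ) [hp : Fact p.Prime] (hp0 : (p : B) = 0)
    (hint : φ.IsIntegral) (hspec : Function.Injective (PrimeSpectrum.comap φ))
    (hext : ∀ (L : Type u) [Field L] (α β : B →+* L), α.comp φ = β.comp φ → α = β) (b : B) :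
    ∃ n : ℕ, b ^ p ^ n ∈ φ.range := by
  classical
  algebraize [φ]
  haveI : Algebra.IsIntegral A B := ⟨hint⟩
  let B₀ : Subalgebra A B := Algebra.adjoin A {b}
  have hbB₀ : b ∈ B₀ := Algebra.subset_adjoin (Set.mem_singleton b)
  haveI : Module.Finite A B₀ :=
    Module.Finite.iff_fg.2 (IsIntegral.fg_adjoin_singleton (Algebra.IsIntegral.isIntegral (R := A) b))
  haveI : Algebra.IsIntegral B₀ B := Algebra.IsIntegral.tower_top (R := A)
  let g : A →+* B₀ := algebraMap A B₀
  have hgφ : ∀ a, ((g a : B₀) : B) = φ a := fun a => rfl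
  have hinjB₀ : Function.Injective (algebraMap B₀ B) := Subtype.val_injective
  -- lying over for `B₀ ⊆ B`
  have hlo : ∀ Q : Ideal B₀, Q.IsPrime →
      ∃ Q' : Ideal B, Q'.IsPrime ∧ Q'.comap (algebraMap B₀ B) = Q := by
    intro Q hQ
    obtain ⟨Q', -, hQ', hQQ'⟩ := Ideal.exists_ideal_over_prime_of_isIntegral Q (⊥ : Ideal B) (by
      rw [Ideal.comap_bot_of_injective _ hinjB₀]
      exact bot_le)
    exact ⟨Q', hQ', hQQ'⟩
  have key := exists_pow_mem_range' g p (Subtype.ext (by simpa using hp0)) (by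
      show (algebraMap A B₀).Finite
      exact RingHom.finite_algebraMap.2 inferInstance)
    (by
      intro Q₁ Q₂ h
      obtain ⟨Q₁', hQ₁', h₁⟩ := hlo Q₁.asIdeal Q₁.2
      obtain ⟨Q₂', hQ₂', h₂⟩ := hlo Q₂.asIdeal Q₂.2
      have h3 : (⟨Q₁', hQ₁'⟩ : PrimeSpectrum B) = ⟨Q₂', hQ₂'⟩ := by
        apply hspec
        apply PrimeSpectrum.ext
        show Q₁'.comap φ = Q₂'.comap φ
        have e1 : Q₁'.comap φ = (Q₁'.comap (algebraMap B₀ B)).comap g := rfl
        have e2 : Q₂'.comap φ = (Q₂'.comap (algebraMap B₀ B)).comap g := rfl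
        rw [e1, e2, h₁, h₂]
        exact congrArg PrimeSpectrum.asIdeal h
      have h4 : Q₁' = Q₂' := congrArg PrimeSpectrum.asIdeal h3
      apply PrimeSpectrum.ext
      rw [← h₁, ← h₂, h4])
    (by
      intro P x
      obtain ⟨P', hP', hPP'⟩ := hlo P.asIdeal P.2
      obtain ⟨n, c, s, hs, hcs⟩ := exists_pow_sub_mem φ p hp0 hext ⟨P', hP'⟩ (x : B)
      refine ⟨n, c, s, ?_, ?_⟩
      · intro h
        apply hs
        have : g s ∈ P'.comap (algebraMap B₀ B) := by rw [hPP']; exact h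
        exact this
      · have : g s * x ^ p ^ n - g c ∈ P'.comap (algebraMap B₀ B) := by
          show ((g s * x ^ p ^ n - g c : B₀) : B) ∈ P'
          exact hcs
        rw [hPP'] at this
        exact this)
    ⟨b, hbB₀⟩
  obtain ⟨n, a, ha⟩ := key
  refine ⟨n, a, ?_⟩
  have := congrArg (Subtype.val) ha
  exact this

/-- **Universal homeomorphisms in characteristic `p`.** -/
theorem isUnivHomeo_iff (φ : A →+* B) (p : ℕ) [hp : Fact p.Prime] (hp0 : (p : B) = 0) :
    FlatMor.IsUnivHomeo (Spec.map (CommRingCat.ofHom φ)) ↔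
      (∀ a ∈ RingHom.ker φ, IsNilpotent a) ∧ ∀ b : B, ∃ n : ℕ, b ^ p ^ n ∈ φ.range := by
  constructor
  · intro h
    have hhomeo := isHomeomorph_of_isUnivHomeo φ h
    refine ⟨fun a ha => ?_, fun b => ?_⟩
    · rw [← mem_nilradical, nilradical_eq_sInf, Ideal.mem_sInf]
      intro 𝔭 h𝔭
      obtain ⟨Q, hQ⟩ := hhomeo.surjective ⟨𝔭, h𝔭⟩
      have : 𝔭 = Q.asIdeal.comap φ := congrArg PrimeSpectrum.asIdeal hQ.symm
      rw [this, Ideal.mem_comap, (RingHom.mem_ker).1 ha]
      exact zero_mem _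
    · exact exists_pow_mem_range φ p hp0 (isIntegral_of_isUnivHomeo φ h) hhomeo.injective
        (fun L _ α β hαβ => ringHom_ext_of_isUnivHomeo φ h α β hαβ) b
  · rintro ⟨hker, hpow⟩
    apply isUnivHomeo_of
    · intro b
      obtain ⟨n, a, ha⟩ := hpow b
      refine ⟨Polynomial.X ^ p ^ n - Polynomial.C a,
        Polynomial.monic_X_pow_sub_C a (pow_pos hp.out.pos n).ne', ?_⟩
      simp [ha]
    · intro 𝔭
      have hint : φ.IsIntegral := by
        intro b
        obtain ⟨n, a, ha⟩ := hpow b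
        refine ⟨Polynomial.X ^ p ^ n - Polynomial.C a,
          Polynomial.monic_X_pow_sub_C a (pow_pos hp.out.pos n).ne', ?_⟩
        simp [ha]
      algebraize [φ]
      haveI : Algebra.IsIntegral A B := ⟨hint⟩
      obtain ⟨Q, -, hQ, hQ𝔭⟩ := Ideal.exists_ideal_over_prime_of_isIntegral 𝔭.asIdeal (⊥ : Ideal B) (by
        intro a ha
        have ha' : a ∈ RingHom.ker φ := ha
        obtain ⟨n, hn⟩ := hker a ha'
        exact 𝔭.2.mem_of_pow_mem n (hn ▸ zero_mem _))
      exact ⟨⟨Q, hQ⟩, PrimeSpectrum.ext hQ𝔭⟩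
    · intro L _ α β hαβ
      ext b
      obtain ⟨n, a, ha⟩ := hpow b
      have h1 : α b ^ p ^ n = β b ^ p ^ n := by
        rw [← map_pow, ← map_pow, ← ha]
        exact RingHom.congr_fun hαβ a
      have hpL : ((p : ℕ) : L) = 0 := by
        rw [← map_natCast α, hp0, map_zero]
      haveI : CharP L p := (CharP.charP_iff_prime_eq_zero hp.out).2 hpL
      exact (frobenius_inj L p).iterate n (by simpa [iterate_frobenius] using h1)

end Groth.Agent.H69.UnivHomeoCharP
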