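import Groth.Agent.H69.ChowSN
import Mathlib.RingTheory.Algebraic.Basic
import Mathlib.LinearAlgebra.Dimension.Constructions
import Mathlib.AlgebraicGeometry.Morphisms.Finite
import Mathlib.AlgebraicGeometry.PullbackCarrier
import Mathlib.AlgebraicGeometry.Noetherian

set_option autoImplicit false
universe u

namespace Groth.Agent.H69

open CategoryTheory AlgebraicGeometry

section RingLevel

variable {A B : Type u} [CommRing A] [CommRing B] (φ : A →+* B)

/-- For a finite ring map whose field-valued points are determined by their restrictions, the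
residue field extensions are purely inseparable of uniformly bounded degree. -/
theorem exists_bound_finrank_residueField (hfin : φ.Finite)
    (hext : ∀ (L : Type u) [Field L] (α β : B →+* L), α.comp φ = β.comp φ → α = β) :
    ∃ N : ℕ, ∀ Q : PrimeSpectrum B, ∃ e : ℕ,
      @Module.finrank (PrimeSpectrum.comap φ Q).asIdeal.ResidueField Q.asIdeal.ResidueField _ _
        (Ideal.ResidueField.map (PrimeSpectrum.comap φ Q).asIdeal Q.asIdeal φ rfl).toAlgebra.toModule =
        ringExpChar (PrimeSpectrum.comap φ Q).asIdeal.ResidueField ^ e ∧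
      ringExpChar (PrimeSpectrum.comap φ Q).asIdeal.ResidueField ^ e ≤ N := by
  classical
  algebraize [φ]
  obtain ⟨S, hS⟩ := (Module.Finite.fg_top : (⊤ : Submodule A B).FG)
  refine ⟨S.card, fun Q => ?_⟩
  obtain ⟨p, hp⟩ : ∃ p, p = PrimeSpectrum.comap φ Q := ⟨_, rfl⟩
  have hpc : p.asIdeal = Q.asIdeal.comap φ := by rw [hp]; rfl
  suffices h : ∃ e : ℕ,
      @Module.finrank p.asIdeal.ResidueField Q.asIdeal.ResidueField _ _
        (Ideal.ResidueField.map p.asIdeal Q.asIdeal φ hpc).toAlgebra.toModule =
        ringExpChar p.asIdeal.ResidueField ^ e ∧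
      ringExpChar p.asIdeal.ResidueField ^ e ≤ S.card by
    subst hp; exact h
  let _ : Algebra p.asIdeal.ResidueField Q.asIdeal.ResidueField :=
    (Ideal.ResidueField.map p.asIdeal Q.asIdeal φ hpc).toAlgebra
  have hpi : IsPurelyInseparable p.asIdeal.ResidueField Q.asIdeal.ResidueField := by
    subst hp
    exact isPurelyInseparable_of_ringHom_ext φ hext Q
  have hmap : ∀ c : A, algebraMap p.asIdeal.ResidueField Q.asIdeal.ResidueField
      (algebraMap A p.asIdeal.ResidueField c) = algebraMap B Q.asIdeal.ResidueField (φ c) := fun c =>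
    Ideal.ResidueField.map_algebraMap p.asIdeal Q.asIdeal φ hpc c
  -- the span of the images of the generators
  let v : {x // x ∈ S} → Q.asIdeal.ResidueField := fun s => algebraMap B Q.asIdeal.ResidueField s.1
  have hV : ∀ x : B, algebraMap B Q.asIdeal.ResidueField x ∈
      Submodule.span p.asIdeal.ResidueField (Set.range v) := by
    intro x
    have hx : x ∈ Submodule.span A (S : Set B) := by rw [hS]; trivial
    induction hx using Submodule.span_induction with
    | mem y hy => exact Submodule.subset_span ⟨⟨y, hy⟩, rfl⟩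
    | zero => rw [map_zero]; exact zero_mem _
    | add a b _ _ ha hb => rw [map_add]; exact add_mem ha hb
    | smul c y _ hy =>
      have : algebraMap B Q.asIdeal.ResidueField (c • y) =
          (algebraMap A p.asIdeal.ResidueField c) • algebraMap B Q.asIdeal.ResidueField y := by
        rw [Algebra.smul_def, map_mul, Algebra.smul_def, hmap]
        rfl
      rw [this]
      exact Submodule.smul_mem _ _ hy
  have htop : Submodule.span p.asIdeal.ResidueField (Set.range v) = ⊤ := by
    rw [eq_top_iff]
    rintro z -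
    -- the subalgebra generated by the image of `B`
    let W : Subalgebra p.asIdeal.ResidueField Q.asIdeal.ResidueField :=
      Algebra.adjoin p.asIdeal.ResidueField (Set.range (algebraMap B Q.asIdeal.ResidueField))
    have hWle : Subalgebra.toSubmodule W ≤ Submodule.span p.asIdeal.ResidueField (Set.range v) := by
      rw [Algebra.adjoin_eq_span]
      have : Submonoid.closure (Set.range (algebraMap B Q.asIdeal.ResidueField)) =
          MonoidHom.mrange ((algebraMap B Q.asIdeal.ResidueField : B →+* _) : B →* _) := by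
        rw [← MonoidHom.coe_mrange, Submonoid.closure_eq]
        rfl
      rw [this, Submodule.span_le]
      rintro _ ⟨x, rfl⟩
      exact hV x
    apply hWle
    obtain ⟨c, s, hs, hcs⟩ := exists_mul_eq_of_residueField Q.asIdeal z
    have hsW : algebraMap B Q.asIdeal.ResidueField s ∈ W := Algebra.subset_adjoin ⟨s, rfl⟩
    have hcW : algebraMap B Q.asIdeal.ResidueField c ∈ W := Algebra.subset_adjoin ⟨c, rfl⟩
    have hne : algebraMap B Q.asIdeal.ResidueField s ≠ 0 := by
      rw [Ne, Ideal.algebraMap_residueField_eq_zero]; exact hs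
    have halg : IsAlgebraic p.asIdeal.ResidueField (algebraMap B Q.asIdeal.ResidueField s) :=
      Algebra.IsAlgebraic.isAlgebraic _
    have hinv : (algebraMap B Q.asIdeal.ResidueField s)⁻¹ ∈ W :=
      W.inv_mem_of_algebraic (x := ⟨_, hsW⟩) halg
    have hz : z = (algebraMap B Q.asIdeal.ResidueField s)⁻¹ * algebraMap B Q.asIdeal.ResidueField c := by
      rw [← hcs, ← mul_assoc, inv_mul_cancel₀ hne, one_mul]
    rw [hz]
    exact W.mul_mem hinv hcW
  have hle : Module.finrank p.asIdeal.ResidueField Q.asIdeal.ResidueField ≤ S.card := by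
    have := finrank_le_of_span_eq_top (R := p.asIdeal.ResidueField) htop
    simpa using this
  have hfd : FiniteDimensional p.asIdeal.ResidueField Q.asIdeal.ResidueField := by
    rw [FiniteDimensional, Module.finite_def, ← htop]
    exact Submodule.fg_span (Set.finite_range v)
  have hq : ExpChar p.asIdeal.ResidueField (ringExpChar p.asIdeal.ResidueField) :=
    ringExpChar.expChar _
  obtain ⟨e, he⟩ := IsPurelyInseparable.finrank_eq_pow (F := p.asIdeal.ResidueField)
    Q.asIdeal.ResidueField (ringExpChar p.asIdeal.ResidueField)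
  exact ⟨e, he, he ▸ hle⟩

end RingLevel

section Fields

/-- The degree condition for a ring map between fields. -/
def FieldDegBound {k K : Type u} [Field k] [Field K] (j : k →+* K) (N : ℕ) : Prop :=
  ∃ e : ℕ, @Module.finrank k K _ _ j.toAlgebra.toModule = ringExpChar k ^ e ∧ ringExpChar k ^ e ≤ N

theorem FieldDegBound.transfer {k K k' K' : Type u} [Field k] [Field K] [Field k'] [Field K']
    {j : k →+* K} {j' : k' →+* K'} (σ : k ≃+* k') (τ : K ≃+* K')
    (h : (τ : K →+* K').comp j = j'.comp (σ : k →+* k')) {N : ℕ} (hj : FieldDegBound j N) :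
    FieldDegBound j' N := by
  obtain ⟨e, he1, he2⟩ := hj
  have hq : ExpChar k (ringExpChar k) := ringExpChar.expChar k
  have hq' : ExpChar k' (ringExpChar k) := expChar_of_injective_ringHom (f := (σ : k →+* k')) σ.injective _
  have hqq : ringExpChar k' = ringExpChar k := ringExpChar.eq k' (ringExpChar k)
  refine ⟨e, ?_, by rw [hqq]; exact he2⟩
  rw [hqq, ← he1]
  letI := j.toAlgebra
  letI := j'.toAlgebra
  have := Algebra.rank_eq_of_equiv_equiv σ τ (by exact h.symm)
  exact (congrArg Cardinal.toNat this).symm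

end Fields

section Schemes

/-- The degree condition for a morphism of schemes at a point. -/
def DegBound {X Y : Scheme.{u}} (f : X ⟶ Y) (x : X) (N : ℕ) : Prop :=
  FieldDegBound (f.residueFieldMap x).hom N

theorem DegBound.of_square {X Y X' Y' : Scheme.{u}} {f : X ⟶ Y} {f' : X' ⟶ Y'} (a : X' ⟶ X)
    (b : Y' ⟶ Y) (comm : a ≫ f = f' ≫ b) (x' : X') [IsIso (a.residueFieldMap x')]
    [IsIso (b.residueFieldMap (f' x'))] {N : ℕ} (h : DegBound f' x' N) : DegBound f (a x') N := by
  have h1 : (a ≫ f).residueFieldMap x' = f.residueFieldMap (a x') ≫ a.residueFieldMap x' :=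
    Scheme.residueFieldMap_comp a f x'
  have h2 : (f' ≫ b).residueFieldMap x' = b.residueFieldMap (f' x') ≫ f'.residueFieldMap x' :=
    Scheme.residueFieldMap_comp f' b x'
  have h3 := Scheme.Hom.residueFieldMap_congr comm x'
  rw [h1, h2] at h3
  -- isomorphisms
  let τ : X.residueField (a x') ≅ X'.residueField x' := asIso (a.residueFieldMap x')
  let σ : Y.residueField (f (a x')) ≅ Y'.residueField (f' x') :=
    (Y.residueFieldCongr (by rw [← Scheme.Hom.comp_apply, comm]; rfl)) ≪≫
      asIso (b.residueFieldMap (f' x'))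
  refine FieldDegBound.transfer σ.symm.commRingCatIsoToRingEquiv τ.symm.commRingCatIsoToRingEquiv ?_ h
  show τ.inv.hom.comp (f'.residueFieldMap x').hom = (f.residueFieldMap (a x')).hom.comp σ.inv.hom
  rw [← CommRingCat.hom_comp, ← CommRingCat.hom_comp]
  congr 1
  rw [Iso.comp_inv_eq, Category.assoc, Iso.eq_inv_comp]
  exact h3.symm

set_option backward.isDefEq.respectTransparency.types false in
theorem degBound_SpecMap {R S : CommRingCat.{u}} (φ : R ⟶ S) (hfin : φ.hom.Finite)
    (hext : ∀ (L : Type u) [Field L] (α β : S →+* L), α.comp φ.hom = β.comp φ.hom → α = β) :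
    ∃ N : ℕ, ∀ y : Spec S, DegBound (Spec.map φ) y N := by
  obtain ⟨N, hN⟩ := exists_bound_finrank_residueField φ.hom hfin hext
  refine ⟨N, fun y => ?_⟩
  have hy : FieldDegBound (Ideal.ResidueField.map ((Spec.map φ) y).asIdeal y.asIdeal φ.hom rfl) N :=
    hN y
  have hsq := residueFieldMap_square φ y
  refine FieldDegBound.transfer
    (Scheme.Spec.residueFieldIso R ((Spec.map φ) y)).symm.commRingCatIsoToRingEquiv
    (Scheme.Spec.residueFieldIso S y).symm.commRingCatIsoToRingEquiv ?_ hy
  show (Scheme.Spec.residueFieldIso S y).inv.hom.comp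
      (Ideal.ResidueField.map ((Spec.map φ) y).asIdeal y.asIdeal φ.hom rfl) =
    ((Spec.map φ).residueFieldMap y).hom.comp (Scheme.Spec.residueFieldIso R ((Spec.map φ) y)).inv.hom
  have h2 : CommRingCat.ofHom (Ideal.ResidueField.map ((Spec.map φ) y).asIdeal y.asIdeal φ.hom rfl) ≫
      (Scheme.Spec.residueFieldIso S y).inv =
      (Scheme.Spec.residueFieldIso R ((Spec.map φ) y)).inv ≫ (Spec.map φ).residueFieldMap y := by
    rw [← hsq]
    simp
  exact congrArg CommRingCat.Hom.hom h2

instance isUnivHomeo_respectsIso : (FlatMor.IsUnivHomeo.{u}).RespectsIso := by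
  unfold FlatMor.IsUnivHomeo; infer_instance

instance isUnivHomeo_isStableUnderBaseChange : (FlatMor.IsUnivHomeo.{u}).IsStableUnderBaseChange := by
  unfold FlatMor.IsUnivHomeo; infer_instance

theorem degBound_of_isAffine {X Y : Scheme.{u}} (f : X ⟶ Y) [IsAffine X] [IsAffine Y] [IsFinite f]
    (hf : FlatMor.IsUnivHomeo f) : ∃ N : ℕ, ∀ x : X, DegBound f x N := by
  have hfin : f.appTop.hom.Finite := f.finite_appTop
  have hnat := Scheme.isoSpec_inv_naturality f
  have hSpec : Spec.map f.appTop = X.isoSpec.inv ≫ f ≫ Y.isoSpec.hom := by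
    rw [← Category.assoc, ← hnat, Category.assoc, Iso.inv_hom_id, Category.comp_id]
  have hUH : FlatMor.IsUnivHomeo (Spec.map (CommRingCat.ofHom f.appTop.hom)) := by
    show FlatMor.IsUnivHomeo (Spec.map f.appTop)
    rw [hSpec]
    exact (MorphismProperty.cancel_left_of_respectsIso _ _ _).2
      ((MorphismProperty.cancel_right_of_respectsIso _ _ _).2 hf)
  obtain ⟨N, hN⟩ := degBound_SpecMap f.appTop hfin
    (fun L _ α β h => ringHom_ext_of_isUnivHomeo f.appTop.hom hUH α β h)
  refine ⟨N, fun x => ?_⟩
  have h1 := DegBound.of_square (f := f) X.isoSpec.inv Y.isoSpec.inv hnat.symm (X.isoSpec.hom x)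
    (hN (X.isoSpec.hom x))
  have hx : X.isoSpec.inv (X.isoSpec.hom x) = x := by
    rw [← Scheme.Hom.comp_apply, Iso.hom_inv_id]
    rfl
  rw [hx] at h1
  exact h1

theorem DegBound.mono {X Y : Scheme.{u}} {f : X ⟶ Y} {x : X} {N M : ℕ} (h : DegBound f x N)
    (hNM : N ≤ M) : DegBound f x M := by
  obtain ⟨e, he1, he2⟩ := h
  exact ⟨e, he1, he2.trans hNM⟩

theorem exists_degBound {T' T : Scheme.{u}} (p : T' ⟶ T) [IsFinite p] (hp : FlatMor.IsUnivHomeo p)
    [CompactSpace T] : ∃ N : ℕ, ∀ t' : T', DegBound p t' N := by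
  classical
  let 𝒰 := T.affineCover.finiteSubcover
  have key : ∀ i : 𝒰.I₀, ∃ N : ℕ, ∀ w : ↑(Limits.pullback p (𝒰.f i)),
      DegBound (Limits.pullback.snd p (𝒰.f i)) w N := by
    intro i
    haveI : IsAffine (𝒰.X i) := by
      show IsAffine (T.affineCover.X _)
      infer_instance
    haveI : IsAffine (Limits.pullback p (𝒰.f i)) :=
      isAffine_of_isAffineHom (Limits.pullback.snd p (𝒰.f i))
    exact degBound_of_isAffine _ (MorphismProperty.pullback_snd _ _ hp)
  choose N hN using key
  refine ⟨∑ i, N i, fun t' => ?_⟩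
  obtain ⟨i, y, hy⟩ := 𝒰.exists_eq (p t')
  obtain ⟨w, hw1, hw2⟩ := Scheme.Pullback.exists_preimage_pullback (f := p) (g := 𝒰.f i) t' y hy.symm
  have h1 := DegBound.of_square (f := p) (Limits.pullback.fst p (𝒰.f i)) (𝒰.f i)
    Limits.pullback.condition w (hN i w)
  rw [hw1] at h1
  exact h1.mono (Finset.single_le_sum (f := N) (fun _ _ => Nat.zero_le _) (Finset.mem_univ i))

/-- The residue field degrees of a finite universal homeomorphism to a quasi-compact scheme are
powers of the exponential characteristic dividing a common integer. -/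
theorem exists_dvd_degree {T' T : Scheme.{u}} (p : T' ⟶ T) [IsFinite p]
    (hp : FlatMor.IsUnivHomeo p) [CompactSpace T] :
    ∃ d : ℕ, 0 < d ∧ ∀ t' : T', ∃ e : ℕ,
      @Module.finrank (T.residueField (p t')) (T'.residueField t') _ _
          (p.residueFieldMap t').hom.toAlgebra.toModule =
        ringExpChar (T.residueField (p t')) ^ e ∧
      ringExpChar (T.residueField (p t')) ^ e ∣ d := by
  obtain ⟨N, hN⟩ := exists_degBound p hp
  refine ⟨N.factorial, N.factorial_pos, fun t' => ?_⟩
  obtain ⟨e, he1, he2⟩ := hN t'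
  refine ⟨e, he1, Nat.dvd_factorial ?_ he2⟩
  have hq : ExpChar (T.residueField (p t')) (ringExpChar (T.residueField (p t'))) :=
    ringExpChar.expChar _
  exact pow_pos (expChar_pos (T.residueField (p t')) _) e

end Schemes

end Groth.Agent.H69
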