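import Groth.Agent.H69.UnivHomeoCharP
import Mathlib.NumberTheory.Basic
import Mathlib.RingTheory.Localization.Away.Basic

/-!
# Universal homeomorphisms which are isomorphisms away from `p` (helper69)
-/

set_option autoImplicit false
universe u

namespace Groth.Agent.H69.UnivHomeoP

open Groth.Agent.H69 CategoryTheory AlgebraicGeometry

variable {A B : Type u} [CommRing A] [CommRing B]

/-- The easy direction: `p`-power conditions give a universal homeomorphism. -/
theorem isUnivHomeo_of_pow (φ : A →+* B) (p : ℕ) (hp : p.Prime)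
    (hker : ∀ a ∈ RingHom.ker φ, IsNilpotent a)
    (hpow : ∀ b : B, ∃ n : ℕ, (p ^ n : B) * b ∈ φ.range ∧ b ^ (p ^ n) ∈ φ.range) :
    FlatMor.IsUnivHomeo (Spec.map (CommRingCat.ofHom φ)) := by
  have hint : φ.IsIntegral := by
    intro b
    obtain ⟨n, -, a, ha⟩ := hpow b
    refine ⟨Polynomial.X ^ p ^ n - Polynomial.C a,
      Polynomial.monic_X_pow_sub_C a (pow_pos hp.pos n).ne', ?_⟩
    simp [ha]
  apply isUnivHomeo_of φ hint
  · intro 𝔭
    algebraize [φ]
    haveI : Algebra.IsIntegral A B := ⟨hint⟩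
    obtain ⟨Q, -, hQ, hQ𝔭⟩ := Ideal.exists_ideal_over_prime_of_isIntegral 𝔭.asIdeal (⊥ : Ideal B) (by
      intro a ha
      have ha' : a ∈ RingHom.ker φ := ha
      obtain ⟨n, hn⟩ := hker a ha'
      exact 𝔭.2.mem_of_pow_mem n (hn ▸ zero_mem _))
    exact ⟨⟨Q, hQ⟩, PrimeSpectrum.ext hQ𝔭⟩
  · intro L _ α β hαβ
    ext b
    obtain ⟨n, ⟨a₁, ha₁⟩, ⟨a₂, ha₂⟩⟩ := hpow b
    have h1 : α b ^ p ^ n = β b ^ p ^ n := by
      rw [← map_pow, ← map_pow, ← ha₂]
      exact RingHom.congr_fun hαβ a₂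
    have h2 : (p ^ n : L) * α b = (p ^ n : L) * β b := by
      have e1 : α ((p ^ n : B) * b) = β ((p ^ n : B) * b) := by
        rw [← ha₁]; exact RingHom.congr_fun hαβ a₁
      simpa [map_mul, map_pow, map_natCast] using e1
    by_cases hpL : ((p : ℕ) : L) = 0
    · haveI : Fact p.Prime := ⟨hp⟩
      haveI : CharP L p := (CharP.charP_iff_prime_eq_zero hp).2 hpL
      exact (frobenius_inj L p).iterate n (by simpa [iterate_frobenius] using h1)
    · exact mul_left_cancel₀ (pow_ne_zero n hpL) h2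

/-- The hard direction. -/
theorem pow_of_isUnivHomeo (φ : A →+* B) (p : ℕ) (hp : p.Prime)
    (hsurj : Function.Surjective (Localization.awayMap φ (p : A)))
    (h : FlatMor.IsUnivHomeo (Spec.map (CommRingCat.ofHom φ))) :
    (∀ a ∈ RingHom.ker φ, IsNilpotent a) ∧
      ∀ b : B, ∃ n : ℕ, (p ^ n : B) * b ∈ φ.range ∧ b ^ (p ^ n) ∈ φ.range := by
  classical
  haveI : Fact p.Prime := ⟨hp⟩
  have hhomeo := isHomeomorph_of_isUnivHomeo φ h
  have hint : φ.IsIntegral := isIntegral_of_isUnivHomeo φ h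
  have hext : ∀ (L : Type u) [Field L] (α β : B →+* L), α.comp φ = β.comp φ → α = β :=
    fun L _ α β hαβ => ringHom_ext_of_isUnivHomeo φ h α β hαβ
  -- kernel
  have hker : ∀ a ∈ RingHom.ker φ, IsNilpotent a := by
    intro a ha
    rw [← mem_nilradical, nilradical_eq_sInf, Ideal.mem_sInf]
    intro 𝔭 h𝔭
    obtain ⟨Q, hQ⟩ := hhomeo.surjective ⟨𝔭, h𝔭⟩
    have : 𝔭 = Q.asIdeal.comap φ := congrArg PrimeSpectrum.asIdeal hQ.symm
    rw [this, Ideal.mem_comap, (RingHom.mem_ker).1 ha]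
    exact zero_mem _
  refine ⟨hker, ?_⟩
  -- `p`-power multiples
  have hmul : ∀ b : B, ∃ n : ℕ, (p ^ n : B) * b ∈ φ.range := by
    intro b
    obtain ⟨a, m, ha⟩ := Localization.awayMap_surjective_iff.1 hsurj b
    exact ⟨m, a, by rw [ha, map_natCast]⟩
  have hmul_mono : ∀ (b : B) (n m : ℕ), n ≤ m → (p ^ n : B) * b ∈ φ.range → (p ^ m : B) * b ∈ φ.range := by
    intro b n m hnm hn
    obtain ⟨d, rfl⟩ := Nat.exists_eq_add_of_le hnm
    rw [pow_add, mul_comm ((p : B) ^ n), mul_assoc]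
    obtain ⟨a, ha⟩ := hn
    exact ⟨(p : A) ^ d * a, by rw [map_mul, map_pow, map_natCast, ha]⟩
  -- `p`-powers
  have hpow : ∀ b : B, ∃ n : ℕ, b ^ p ^ n ∈ φ.range := by
    intro b
    algebraize [φ]
    haveI : Algebra.IsIntegral A B := ⟨hint⟩
    -- reduce modulo `p`
    let I : Ideal A := Ideal.span {(p : A)}
    let J : Ideal B := Ideal.span {(p : B)}
    have hIJ : I ≤ J.comap φ := by
      rw [Ideal.span_le]
      rintro _ rfl
      show φ (p : A) ∈ J
      rw [map_natCast]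
      exact Ideal.subset_span rfl
    let φ' : A ⧸ I →+* B ⧸ J := Ideal.quotientMap J φ hIJ
    have hφ' : ∀ a, φ' (Ideal.Quotient.mk I a) = Ideal.Quotient.mk J (φ a) := fun a => rfl
    have hp0 : ((p : ℕ) : B ⧸ J) = 0 := by
      rw [← map_natCast (Ideal.Quotient.mk J)]
      exact Ideal.Quotient.eq_zero_iff_mem.2 (Ideal.subset_span rfl)
    have hint' : φ'.IsIntegral := by
      intro y
      obtain ⟨y, rfl⟩ := Ideal.Quotient.mk_surjective y
      obtain ⟨P, hP, hPy⟩ := hint y
      refine ⟨P.map (Ideal.Quotient.mk I), hP.map _, ?_⟩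
      rw [Polynomial.eval₂_map]
      have : (φ'.comp (Ideal.Quotient.mk I)) = (Ideal.Quotient.mk J).comp φ := RingHom.ext hφ'
      rw [this, ← Polynomial.hom_eval₂, hPy, map_zero]
    have hspec' : Function.Injective (PrimeSpectrum.comap φ') := by
      intro Q₁ Q₂ hQ
      have h3 : PrimeSpectrum.comap (Ideal.Quotient.mk J) Q₁ = PrimeSpectrum.comap (Ideal.Quotient.mk J) Q₂ := by
        apply hhomeo.injective
        apply PrimeSpectrum.ext
        have e := congrArg (fun Q => (PrimeSpectrum.comap (Ideal.Quotient.mk I) Q).asIdeal) hQ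
        exact e
      exact PrimeSpectrum.comap_injective_of_surjective _ Ideal.Quotient.mk_surjective h3
    have hext' : ∀ (L : Type u) [Field L] (α β : B ⧸ J →+* L), α.comp φ' = β.comp φ' → α = β := by
      intro L _ α β hαβ
      have h4 : α.comp (Ideal.Quotient.mk J) = β.comp (Ideal.Quotient.mk J) := by
        apply hext
        ext a
        exact RingHom.congr_fun hαβ (Ideal.Quotient.mk I a)
      apply RingHom.ext
      intro y
      obtain ⟨y, rfl⟩ := Ideal.Quotient.mk_surjective y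
      exact RingHom.congr_fun h4 y
    obtain ⟨m, a', ha'⟩ := UnivHomeoCharP.exists_pow_mem_range φ' p hp0 hint' hspec' hext'
      (Ideal.Quotient.mk J b)
    obtain ⟨a, rfl⟩ := Ideal.Quotient.mk_surjective a'
    rw [hφ', ← map_pow, eq_comm, Ideal.Quotient.eq, Ideal.mem_span_singleton] at ha'
    obtain ⟨b₁, hb₁⟩ := ha'
    -- the subalgebra generated by `b` and `b₁`
    let B₂ : Subalgebra A B := Algebra.adjoin A {b, b₁}
    have hbB₂ : b ∈ B₂ := Algebra.subset_adjoin (by simp)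
    have hb₁B₂ : b₁ ∈ B₂ := Algebra.subset_adjoin (by simp)
    haveI : Module.Finite A B₂ :=
      Module.Finite.iff_fg.2 (fg_adjoin_of_finite (Set.toFinite _)
        (fun x _ => Algebra.IsIntegral.isIntegral x))
    obtain ⟨S, hS⟩ := (Module.Finite.fg_top : (⊤ : Submodule A B₂).FG)
    -- a uniform exponent
    choose nS hnS using fun s : B₂ => hmul (s : B)
    let N : ℕ := ∑ s ∈ S, nS s
    have hN : ∀ y : B₂, (p ^ N : B) * (y : B) ∈ φ.range := by
      intro y
      have hy : y ∈ Submodule.span A (S : Set B₂) := by rw [hS]; trivial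
      induction hy using Submodule.span_induction with
      | mem s hs =>
        exact hmul_mono _ _ _ (Finset.single_le_sum (fun _ _ => Nat.zero_le _) hs) (hnS s)
      | zero => simp
      | add x y _ _ hx hy =>
        rw [Subalgebra.coe_add, mul_add]
        exact add_mem hx hy
      | smul c x _ hx =>
        rw [Subalgebra.coe_smul, Algebra.smul_def, mul_left_comm]
        exact mul_mem ⟨c, rfl⟩ hx
    -- the binomial estimate inside `B₂`
    have hdvd : ((p : ℕ) : B₂) ∣ (⟨b, hbB₂⟩ : B₂) ^ p ^ m - algebraMap A B₂ a := by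
      refine ⟨⟨b₁, hb₁B₂⟩, ?_⟩
      apply Subtype.ext
      show b ^ p ^ m - φ a = ((p : ℕ) : B₂) * b₁
      rw [hb₁]
      congr 1
    have hdvd2 := dvd_sub_pow_of_dvd_sub hdvd N
    obtain ⟨c, hc⟩ := hdvd2
    refine ⟨m + N, ?_⟩
    have hc' : b ^ p ^ (m + N) = φ (a ^ p ^ N) + (p ^ (N + 1) : B) * (c : B) := by
      have := congrArg (Subtype.val) hc
      simp only [Subalgebra.coe_sub, Subalgebra.coe_pow, Subalgebra.coe_mul] at this
      have e0 : (((p : ℕ) : B₂) : B) = (p : B) := rfl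
      rw [e0] at this
      rw [pow_add, pow_mul, map_pow]
      have e : ((algebraMap A B₂ a : B₂) : B) = φ a := rfl
      rw [e] at this
      linear_combination this
    rw [hc']
    refine add_mem ⟨_, rfl⟩ ?_
    exact hmul_mono _ N (N + 1) (Nat.le_succ _) (hN c)
  intro b
  obtain ⟨n₁, hn₁⟩ := hmul b
  obtain ⟨n₂, hn₂⟩ := hpow b
  refine ⟨n₁ + n₂, hmul_mono b n₁ _ (Nat.le_add_right _ _) hn₁, ?_⟩
  rw [add_comm, pow_add, pow_mul]
  exact pow_mem hn₂ _

end Groth.Agent.H69.UnivHomeoP
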